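import Mathlib
import Cfsg.Agent.Lib.Helper58.PFNineDefs
import Cfsg.Agent.Lib.Helper47.PFNineN5
import Cfsg.Agent.Lib.Helper62.PFNineN6

/-!
# Peterfalvi (9.7): module [DI] `galois_or_axis` (helper16)

The dichotomy Galois / non-Galois in the abstract setting `Ctx` of `PFNineDefs`, under the
extra hypothesis (not recorded in `Ctx`) that `H/H₀` is a chief factor of `L`.

We pass to `L ⧸ H₀`.  If `P = H/H₀` is an irreducible `U`-module then `U` acts abelianly on it
(module N6, helper62), the fixed points of any `x ∈ U` form a `U`-invariant subgroup, so they are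
trivial unless `x ∈ C`: the Galois case.  Otherwise Clifford's theorem for `U ⊲ UW₁`
(`exists_isMinInv_card_eq` of module N5, helper47) gives a `U`-invariant `P₁` of order `p` whose
`W₁`-conjugates generate `P`; its preimage is an axis.
-/

set_option autoImplicit false

namespace Cfsg.Agent.Lib.Helper16.PFNineDI

open Cfsg Cfsg.Agent.Lib.Helper58.PF9
open scoped Pointwise

universe u

variable {L : Type u} [Group L] {K H U W₁ W₂ H₀ : Subgroup L} {p q : ℕ}

/-- **Peterfalvi (9.7)**, dichotomy, module [DI] of board #2851 (with the chief factor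
hypothesis made explicit). -/
theorem galois_or_axis [Finite L] (c : Ctx K H U W₁ W₂ H₀ p q)
    (hchief : ∀ N : Subgroup L, N.Normal → H₀ ≤ N → N ≤ H → N = H₀ ∨ N = H) :
    IsGaloisLike H U H₀ ∨ ∃ H₁ : Subgroup L, IsAxis H U W₁ H₀ H₁ p := by
  classical
  have hHn : H.Normal := c.H_normal
  have hH₀n : H₀.Normal := c.H₀_normal
  have hKn : K.Normal := c.K_normal
  haveI : Fact p.Prime := ⟨c.p_prime⟩
  set π : L →* L ⧸ H₀ := QuotientGroup.mk' H₀ with hπ
  have hπs : Function.Surjective π := QuotientGroup.mk'_surjective H₀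
  have hker : π.ker = H₀ := QuotientGroup.ker_mk' H₀
  have hπ1 : ∀ x : L, π x = 1 ↔ x ∈ H₀ := fun x => by
    rw [← MonoidHom.mem_ker, hker]
  set P : Subgroup (L ⧸ H₀) := H.map π with hP
  set Ub : Subgroup (L ⧸ H₀) := U.map π with hUb
  set Wb : Subgroup (L ⧸ H₀) := W₁.map π with hWb
  have hPn : P.Normal := hHn.map π hπs
  have hnormP : ∀ X : Subgroup (L ⧸ H₀), X ≤ Subgroup.normalizer (P : Set (L ⧸ H₀)) := by
    intro X
    rw [Subgroup.normalizer_eq_top]
    exact le_top
  -- `P` is elementary abelian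
  have hPcomm : ∀ a ∈ P, ∀ b ∈ P, a * b = b * a := by
    rintro _ ⟨h, hh, rfl⟩ _ ⟨h', hh', rfl⟩
    rw [← map_mul, ← map_mul]
    apply eq_of_mul_inv_eq_one
    rw [← map_inv, ← map_mul, hπ1]
    apply c.comm_le
    have : h * h' * (h' * h)⁻¹ = h * h' * h⁻¹ * h'⁻¹ := by group
    rw [this]
    exact Subgroup.commutator_mem_commutator hh hh'
  have hPel : Cfsg.IsElementaryAbelian p P := by
    refine ⟨⟨⟨fun a b => Subtype.ext (hPcomm a a.2 b b.2)⟩⟩, ?_⟩
    rintro _ ⟨h, hh, rfl⟩
    rw [← map_pow, hπ1]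
    exact c.pow_mem h hh
  have hcard : Nat.card P = p ^ q := by
    rw [hP, ← Subgroup.relIndex_ker, hker, c.relIndex_H₀]
  have hH₀W : H₀ ⊓ W₁ = ⊥ := by
    apply le_antisymm _ bot_le
    rw [← c.KW_inf]
    refine inf_le_inf_right _ (c.H₀_le.trans ?_)
    rw [← c.HU_sup]; exact le_sup_left
  have hWcard : Nat.card Wb = q := by
    rw [hWb, ← Subgroup.relIndex_ker, hker, ← Subgroup.inf_relIndex_right, hH₀W,
      Subgroup.relIndex_bot_left, c.card_W₁]
  have hWU : Wb ≤ Subgroup.normalizer (Ub : Set (L ⧸ H₀)) :=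
    (Subgroup.map_mono c.W₁_norm_U).trans (Subgroup.le_normalizer_map π)
  have hHU₀ : H₀ ⊓ U = ⊥ := by
    apply le_antisymm _ bot_le
    rw [← c.HU_inf]
    exact inf_le_inf_right _ c.H₀_le
  have hUK : U ≤ K := by rw [← c.HU_sup]; exact le_sup_right
  have hfpf : ∀ x ∈ Wb, x ≠ 1 → ∀ u ∈ Ub, x * u = u * x → u = 1 := by
    rintro _ ⟨x, hx, rfl⟩ hx1 _ ⟨u, hu, rfl⟩ hcomm
    have hx1' : x ≠ 1 := by
      rintro rfl
      exact hx1 (map_one π)
    have h1 : x * u * x⁻¹ * u⁻¹ ∈ H₀ := by
      rw [← hπ1]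
      simp only [map_mul, map_inv]
      rw [hcomm]
      group
    have h2 : x * u * x⁻¹ ∈ U := (Subgroup.mem_normalizer_iff.mp (c.W₁_norm_U hx) u).mp hu
    have h3 : x * u * x⁻¹ * u⁻¹ ∈ H₀ ⊓ U := ⟨h1, U.mul_mem h2 (U.inv_mem hu)⟩
    rw [hHU₀, Subgroup.mem_bot] at h3
    have h4 : x * u = u * x := by
      have : x * u = (x * u * x⁻¹ * u⁻¹) * (u * x) := by group
      rw [this, h3, one_mul]
    have h5 : u ∈ K ⊓ Subgroup.centralizer ({x} : Set L) := by
      refine ⟨hUK hu, ?_⟩
      show u ∈ Subgroup.centralizer ({x} : Set L)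
      rw [Subgroup.mem_centralizer_iff]
      intro y hy
      rw [Set.mem_singleton_iff] at hy
      rw [hy, h4]
    rw [c.cent x hx hx1'] at h5
    have h6 : u ∈ H ⊓ U := ⟨c.W₂_le h5, hu⟩
    rw [c.HU_inf, Subgroup.mem_bot] at h6
    rw [h6, map_one]
  have hUnil : Group.IsNilpotent ↥Ub := by
    haveI := c.U_nilpotent
    exact Group.nilpotent_of_surjective (π.subgroupMap U) (π.subgroupMap_surjective U)
  -- the chief factor property in the quotient
  have hchief' : ∀ Q : Subgroup (L ⧸ H₀), Q ≤ P →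
      Ub ⊔ Wb ≤ Subgroup.normalizer (Q : Set (L ⧸ H₀)) → Q = ⊥ ∨ Q = P := by
    intro Q hQP hQn
    set N : Subgroup L := Q.comap π with hN
    have hle : ∀ X : Subgroup L, X.map π ≤ Subgroup.normalizer (Q : Set (L ⧸ H₀)) →
        X ≤ Subgroup.normalizer (N : Set L) := fun X hX =>
      (Subgroup.map_le_iff_le_comap.mp hX).trans (Subgroup.le_normalizer_comap π)
    have hUN : U ≤ Subgroup.normalizer (N : Set L) := hle U (le_sup_left.trans hQn)
    have hWN : W₁ ≤ Subgroup.normalizer (N : Set L) := hle W₁ (le_sup_right.trans hQn)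
    have hHN : H ≤ Subgroup.normalizer (N : Set L) := by
      apply hle H
      intro a ha
      rw [Subgroup.mem_normalizer_iff]
      intro y
      constructor
      · intro hy
        have : a * y * a⁻¹ = y := by
          rw [hPcomm a ha y (hQP hy), mul_inv_cancel_right]
        rwa [this]
      · intro hy
        have hy' : a * y * a⁻¹ ∈ P := hQP hy
        have hyP : y ∈ P := by
          have := hPn.conj_mem _ hy' a⁻¹
          simpa [mul_assoc] using this
        have : a * y * a⁻¹ = y := by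
          rw [hPcomm a ha y hyP, mul_inv_cancel_right]
        rwa [this] at hy
    have hNn : N.Normal := by
      rw [← Subgroup.normalizer_eq_top_iff, eq_top_iff, ← c.KW_sup, ← c.HU_sup]
      exact sup_le (sup_le hHN hUN) hWN
    have hH₀N : H₀ ≤ N := by
      rw [← hker]
      exact Subgroup.ker_le_comap π Q
    have hNH : N ≤ H := by
      have h1 : N ≤ P.comap π := Subgroup.comap_mono hQP
      rw [hP, Subgroup.comap_map_eq, hker, sup_eq_left.mpr c.H₀_le] at h1
      exact h1
    have hQN : Q = N.map π := (Subgroup.map_comap_eq_self_of_surjective hπs Q).symm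
    rcases hchief N hNn hH₀N hNH with h | h
    · left
      rw [hQN, h, Subgroup.map_eq_bot_iff, hker]
    · right
      rw [hQN, h]
  by_cases hirr : ∀ Q : Subgroup (L ⧸ H₀), Q ≤ P →
      Ub ≤ Subgroup.normalizer (Q : Set (L ⧸ H₀)) → Q = ⊥ ∨ Q = P
  · -- Galois case
    left
    have hab := Cfsg.Agent.Lib.Helper62.PF9.abelian_action_of_irreducible p q c.q_prime P Ub Wb
      hPel hcard hWcard (hnormP Ub) (hnormP Wb) hWU hfpf hUnil hirr
    intro x hxU hxC h hh hcomm
    set Q : Subgroup (L ⧸ H₀) := P ⊓ Subgroup.centralizer ({π x} : Set (L ⧸ H₀)) with hQ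
    have hmemQ : ∀ y : L ⧸ H₀, y ∈ Q ↔ y ∈ P ∧ π x * y = y * π x := by
      intro y
      rw [hQ, Subgroup.mem_inf, Subgroup.mem_centralizer_iff]
      constructor
      · rintro ⟨h1, h2⟩
        exact ⟨h1, h2 _ rfl⟩
      · rintro ⟨h1, h2⟩
        refine ⟨h1, ?_⟩
        intro z hz
        rw [Set.mem_singleton_iff] at hz
        rw [hz, h2]
    have hxb : π x ∈ Ub := ⟨x, hxU, rfl⟩
    have hQU : Ub ≤ Subgroup.normalizer (Q : Set (L ⧸ H₀)) := by
      have key : ∀ a ∈ Ub, ∀ y ∈ Q, a * y * a⁻¹ ∈ Q := by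
        intro a ha y hy
        rw [hmemQ] at hy ⊢
        obtain ⟨hyP, hyx⟩ := hy
        refine ⟨hPn.conj_mem y hyP a, ?_⟩
        have e := hab (π x) hxb a ha y hyP
        -- `(x a) y (x a)⁻¹ = (a x) y (a x)⁻¹`
        have e1 : π x * (a * y * a⁻¹) * (π x)⁻¹ = a * y * a⁻¹ := by
          have h1 : π x * (a * y * a⁻¹) * (π x)⁻¹ = π x * a * y * (π x * a)⁻¹ := by group
          have h2 : a * π x * y * (a * π x)⁻¹ = a * (π x * y * (π x)⁻¹) * a⁻¹ := by group
          rw [h1, e, h2, hyx, mul_inv_cancel_right]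
        calc π x * (a * y * a⁻¹) = π x * (a * y * a⁻¹) * (π x)⁻¹ * π x := by group
          _ = a * y * a⁻¹ * π x := by rw [e1]
      intro a ha
      rw [Subgroup.mem_normalizer_iff]
      intro y
      constructor
      · exact key a ha y
      · intro hy
        have := key a⁻¹ (Ub.inv_mem ha) _ hy
        have e : a⁻¹ * (a * y * a⁻¹) * a⁻¹⁻¹ = y := by group
        rwa [e] at this
    have hhQ : π h ∈ Q := by
      rw [hmemQ]
      refine ⟨⟨h, hh, rfl⟩, ?_⟩
      have : π (x * h * x⁻¹ * h⁻¹) = 1 := (hπ1 _).mpr hcomm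
      simp only [map_mul, map_inv] at this
      have e : π x * π h = (π x * π h * (π x)⁻¹ * (π h)⁻¹) * (π h * π x) := by group
      rw [e, this, one_mul]
    rcases hirr Q inf_le_left hQU with h0 | h0
    · rw [h0, Subgroup.mem_bot] at hhQ
      exact (hπ1 h).mp hhQ
    · exfalso
      apply hxC
      rw [mem_coreC_of_normal]
      refine ⟨hxU, ?_⟩
      intro h' hh'
      have h1 : π h' ∈ Q := by
        rw [h0]
        exact ⟨h', hh', rfl⟩
      rw [hmemQ] at h1
      rw [← hπ1]
      simp only [map_mul, map_inv]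
      rw [h1.2]
      group
  · -- non-Galois case
    right
    push Not at hirr
    obtain ⟨Q, hQP, hQU, hQ0, hQP'⟩ := hirr
    obtain ⟨P₁, hP₁P, hmin, hP₁card, hsup⟩ :=
      Cfsg.Agent.Lib.Helper47.PF9N5.exists_isMinInv_card_eq p q c.q_prime P Ub Wb hPel hcard
        (hnormP Wb) hWU hchief' ⟨Q, hQP, hQU, hQ0, hQP'⟩
    set H₁ : Subgroup L := P₁.comap π with hH₁
    have hH₀H₁ : H₀ ≤ H₁ := by
      rw [← hker]
      exact Subgroup.ker_le_comap π P₁
    have hH₁H : H₁ ≤ H := by
      have h1 : H₁ ≤ P.comap π := Subgroup.comap_mono hP₁P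
      rw [hP, Subgroup.comap_map_eq, hker, sup_eq_left.mpr c.H₀_le] at h1
      exact h1
    refine ⟨H₁, ⟨hH₀H₁, hH₁H, ?_, ?_, ?_⟩⟩
    · -- index
      have h1 : H₀ = (⊥ : Subgroup (L ⧸ H₀)).comap π := by
        rw [MonoidHom.comap_bot, hker]
      rw [h1, hH₁, Subgroup.relIndex_comap, Subgroup.map_comap_eq_self_of_surjective hπs,
        Subgroup.relIndex_bot_left, hP₁card]
    · -- `U` normalizes `H₁`
      exact (Subgroup.map_le_iff_le_comap.mp hmin.2.1).trans (Subgroup.le_normalizer_comap π)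
    · -- the conjugates generate `H`
      set T : Subgroup L := ⨆ w : ↥W₁, H₁.map (MulAut.conj (w : L)).toMonoidHom with hT
      apply le_antisymm
      · refine iSup_le fun w => ?_
        rintro _ ⟨x, hx, rfl⟩
        exact hHn.conj_mem x (hH₁H hx) w
      · have hH₁T : H₁ ≤ T := by
          have h1 := le_iSup (fun w : ↥W₁ => H₁.map (MulAut.conj (w : L)).toMonoidHom) 1
          have h2 : H₁.map (MulAut.conj ((1 : ↥W₁) : L)).toMonoidHom = H₁ := by
            ext x
            simp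
          rwa [h2] at h1
        have hPT : P ≤ T.map π := by
          rw [← hsup]
          refine iSup_le fun w => ?_
          obtain ⟨w₀, hw₀, hw₀w⟩ := w.2
          intro y hy
          rw [Cfsg.Agent.Lib.Helper54.mem_conj_smul_iff] at hy
          obtain ⟨t, ht⟩ := hπs ((w : L ⧸ H₀)⁻¹ * y * (w : L ⧸ H₀))
          have htH₁ : t ∈ H₁ := by
            rw [hH₁, Subgroup.mem_comap, ht]
            exact hy
          refine ⟨w₀ * t * w₀⁻¹, ?_, ?_⟩
          · have h1 := le_iSup (fun w : ↥W₁ => H₁.map (MulAut.conj (w : L)).toMonoidHom)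
              ⟨w₀, hw₀⟩
            apply h1
            exact ⟨t, htH₁, rfl⟩
          · simp only [map_mul, map_inv]
            rw [ht, hw₀w]
            group
        intro h hh
        obtain ⟨t, htT, hth⟩ := hPT ⟨h, hh, rfl⟩
        have h1 : t⁻¹ * h ∈ H₀ := by
          rw [← hπ1, map_mul, map_inv, hth, inv_mul_cancel]
        have h2 : h = t * (t⁻¹ * h) := by group
        rw [h2]
        exact T.mul_mem htT (hH₁T (hH₀H₁ h1))

end Cfsg.Agent.Lib.Helper16.PFNineDI
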