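import Mathlib
import Cfsg.Agent.Lib.Helper58.PFNineDefs
import Cfsg.Agent.Lib.Helper54.Coprime
import Cfsg.Agent.Lib.Helper75.Clifford2
import Cfsg.Agent.Lib.Helper75.Clifford3
import Cfsg.Agent.Lib.Helper75.AbelianQuot
import Cfsg.Agent.Lib.Helper75.BGChar
import Cfsg.Agent.Lib.Helper81.CoprimeLinAlg
import Cfsg.Agent.Lib.Helper81.IrrTwist
import Cfsg.Agent.Lib.Helper77.Linear
import Cfsg.Agent.Lib.Helper77.Deflation
import Cfsg.Agent.S4768

/-!
# Peterfalvi (9.8)(b): module [NB] `axis_reducible_member` (helper16)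

In the non-Galois case of Peterfalvi section 9, a `W₁`-invariant member `θ` of `X(H₀C)` has degree
`u = |U : C|` and `Ind_K^L θ` is induced from a linear character of `HC`.
-/

set_option autoImplicit false

namespace Cfsg.Agent.Lib.Helper16.PFNineNB

open Cfsg Cfsg.Agent.Lib.Helper58.PF9

universe u

section GroupTheory

variable {L : Type u} [Group L] {K H U W₁ W₂ H₀ : Subgroup L} {p q : ℕ}

/-- `C_U(H/H₀)` is normalized by everything normalizing `U` (when `H`, `H₀` are normal) -/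
theorem conj_mem_coreC [hH : H.Normal] [hH₀ : H₀.Normal] {g x : L}
    (hg : g ∈ Subgroup.normalizer (U : Set L)) (hx : x ∈ coreC U H H₀) :
    g * x * g⁻¹ ∈ coreC U H H₀ := by
  rw [mem_coreC_of_normal] at hx ⊢
  refine ⟨(Subgroup.mem_normalizer_iff.mp hg x).mp hx.1, ?_⟩
  intro h hh
  have h1 : g⁻¹ * h * g ∈ H := by simpa using hH.conj_mem h hh g⁻¹
  have h2 := hx.2 _ h1
  have h3 := hH₀.conj_mem _ h2 g
  have h4 : g * x * g⁻¹ * h * (g * x * g⁻¹)⁻¹ * h⁻¹ =
      g * (x * (g⁻¹ * h * g) * x⁻¹ * (g⁻¹ * h * g)⁻¹) * g⁻¹ := by group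
  rw [h4]
  exact h3

/-- every element of `L` is a product `h x w` -/
theorem exists_decomp (c : Ctx K H U W₁ W₂ H₀ p q) (g : L) :
    ∃ h ∈ H, ∃ x ∈ U, ∃ w ∈ W₁, g = h * x * w := by
  have hK := c.K_normal
  have hH := c.H_normal
  have h1 : g ∈ K ⊔ W₁ := by rw [c.KW_sup]; exact Subgroup.mem_top g
  rw [← SetLike.mem_coe, Subgroup.normal_mul] at h1
  obtain ⟨k, hk, w, hw, rfl⟩ := Set.mem_mul.mp h1
  have h2 : k ∈ H ⊔ U := by rw [c.HU_sup]; exact hk
  rw [← SetLike.mem_coe, Subgroup.normal_mul] at h2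
  obtain ⟨h, hh, x, hx, rfl⟩ := Set.mem_mul.mp h2
  exact ⟨h, hh, x, hx, w, hw, rfl⟩

/-- every element of `K` is a product `h x` -/
theorem exists_decomp_K (c : Ctx K H U W₁ W₂ H₀ p q) {k : L} (hk : k ∈ K) :
    ∃ h ∈ H, ∃ x ∈ U, k = h * x := by
  have hH := c.H_normal
  have h2 : k ∈ H ⊔ U := by rw [c.HU_sup]; exact hk
  rw [← SetLike.mem_coe, Subgroup.normal_mul] at h2
  obtain ⟨h, hh, x, hx, rfl⟩ := Set.mem_mul.mp h2
  exact ⟨h, hh, x, hx, rfl⟩

/-- `HC` is normal in `L` -/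
theorem sup_coreC_normal (c : Ctx K H U W₁ W₂ H₀ p q) : (H ⊔ coreC U H H₀).Normal := by
  have hH := c.H_normal
  have hH₀ := c.H₀_normal
  constructor
  intro n hn g
  rw [← SetLike.mem_coe, Subgroup.normal_mul] at hn
  obtain ⟨h, hh, x, hx, rfl⟩ := Set.mem_mul.mp hn
  obtain ⟨h', hh', y, hy, w, hw, rfl⟩ := exists_decomp c g
  have h1 : h' * y * w * (h * x) * (h' * y * w)⁻¹ =
      (h' * y * w * h * (h' * y * w)⁻¹) * (h' * ((y * w) * x * (y * w)⁻¹) * h'⁻¹) := by group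
  rw [h1]
  apply Subgroup.mul_mem
  · exact Subgroup.mem_sup_left (hH.conj_mem h hh _)
  · have hyw : y * w ∈ Subgroup.normalizer (U : Set L) :=
      Subgroup.mul_mem _ (Subgroup.le_normalizer hy) (c.W₁_norm_U hw)
    have h2 := conj_mem_coreC hyw hx
    exact Subgroup.mul_mem _ (Subgroup.mul_mem _ (Subgroup.mem_sup_left hh')
      (Subgroup.mem_sup_right h2)) (Subgroup.mem_sup_left (H.inv_mem hh'))

theorem sup_coreC_le (c : Ctx K H U W₁ W₂ H₀ p q) : H ⊔ coreC U H H₀ ≤ K := by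
  rw [← c.HU_sup]
  exact sup_le_sup_left (coreC_le U H H₀) H

/-- `|K : HC| = |U : C|` -/
theorem relIndex_sup_coreC [Finite L] (c : Ctx K H U W₁ W₂ H₀ p q) :
    (H ⊔ coreC U H H₀).relIndex K = (coreC U H H₀).relIndex U := by
  have hH := c.H_normal
  have hnorm : ∀ X : Subgroup L, X ≤ Subgroup.normalizer (H : Set L) := by
    intro X
    rw [Subgroup.normalizer_eq_top]
    exact le_top
  have h1 : Nat.card (H ⊔ U : Subgroup L) = Nat.card H * Nat.card U :=
    Cfsg.Agent.Lib.Helper54.card_sup_of_le_normalizer (hnorm U) c.HU_inf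
  have hdisj : H ⊓ coreC U H H₀ = ⊥ := by
    apply le_antisymm _ bot_le
    rw [← c.HU_inf]
    exact inf_le_inf_left H (coreC_le U H H₀)
  have h2 : Nat.card (H ⊔ coreC U H H₀ : Subgroup L) = Nat.card H * Nat.card (coreC U H H₀) :=
    Cfsg.Agent.Lib.Helper54.card_sup_of_le_normalizer (hnorm _) hdisj
  have h3 := Cfsg.Agent.Lib.Helper54.card_mul_relIndex (sup_coreC_le c)
  have h4 := Cfsg.Agent.Lib.Helper54.card_mul_relIndex (coreC_le U H H₀)
  have hK : Nat.card K = Nat.card H * Nat.card U := by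
    have := h1
    rwa [c.HU_sup] at this
  have hpos : 0 < Nat.card H * Nat.card (coreC U H H₀) :=
    Nat.mul_pos Nat.card_pos Nat.card_pos
  have h5 : Nat.card H * Nat.card (coreC U H H₀) * (H ⊔ coreC U H H₀).relIndex K =
      Nat.card H * Nat.card (coreC U H H₀) * (coreC U H H₀).relIndex U := by
    rw [← h2, h3, hK, h2, mul_assoc, h4]
  exact Nat.eq_of_mul_eq_mul_left hpos h5

/-- the elements centralized by `x` modulo the normal subgroup `H₀` -/
def centMod (H₀ : Subgroup L) [hH₀ : H₀.Normal] (x : L) : Subgroup L where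
  carrier := {h | x * h * x⁻¹ * h⁻¹ ∈ H₀}
  one_mem' := by
    show x * 1 * x⁻¹ * 1⁻¹ ∈ H₀
    simp
  mul_mem' := by
    intro a b ha hb
    have h1 : x * (a * b) * x⁻¹ * (a * b)⁻¹ =
        (x * a * x⁻¹ * a⁻¹) * (a * (x * b * x⁻¹ * b⁻¹) * a⁻¹) := by group
    show x * (a * b) * x⁻¹ * (a * b)⁻¹ ∈ H₀
    rw [h1]
    exact H₀.mul_mem ha (hH₀.conj_mem _ hb a)
  inv_mem' := by
    intro a ha
    have h1 : x * a⁻¹ * x⁻¹ * a⁻¹⁻¹ = a⁻¹ * (x * a * x⁻¹ * a⁻¹)⁻¹ * a⁻¹⁻¹ := by group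
    show x * a⁻¹ * x⁻¹ * a⁻¹⁻¹ ∈ H₀
    rw [h1]
    exact hH₀.conj_mem _ (H₀.inv_mem ha) a⁻¹

theorem mem_centMod {H₀ : Subgroup L} [hH₀ : H₀.Normal] {x h : L} :
    h ∈ centMod H₀ x ↔ x * h * x⁻¹ * h⁻¹ ∈ H₀ := Iff.rfl

/-- **key group-theoretic step**: an element of `U` acting trivially on `H/Λ`, for a proper
`W₁`-invariant `Λ ≥ H₀`, centralizes `H/H₀`. -/
theorem mem_coreC_of_comm_mem (c : Ctx K H U W₁ W₂ H₀ p q) {H₁ : Subgroup L}
    (hA : IsAxis H U W₁ H₀ H₁ p) (Λ : Subgroup L) (hΛ₀ : H₀ ≤ Λ)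
    (hΛW : ∀ w ∈ W₁, ∀ h ∈ Λ, w * h * w⁻¹ ∈ Λ) (hΛH : ¬ H ≤ Λ) {x : L} (hx : x ∈ U)
    (hxΛ : ∀ h ∈ H, x * h * x⁻¹ * h⁻¹ ∈ Λ) : x ∈ coreC U H H₀ := by
  have hH := c.H_normal
  have hH₀ := c.H₀_normal
  have hp : p.Prime := c.p_prime
  -- Step 1
  have hB : H₁ ⊓ Λ ≤ H₀ := by
    have h1 : H₀ ≤ H₁ ⊓ Λ := le_inf hA.H₀_le hΛ₀
    have h2 : H₁ ⊓ Λ ≤ H₁ := inf_le_left
    have h3 := Subgroup.relIndex_mul_relIndex H₀ (H₁ ⊓ Λ) H₁ h1 h2
    rw [hA.relIndex] at h3
    rcases (Nat.dvd_prime hp).mp (Dvd.intro _ h3) with h4 | h4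
    · exact Subgroup.relIndex_eq_one.mp h4
    · exfalso
      rw [h4] at h3
      have h5 : (H₁ ⊓ Λ).relIndex H₁ = 1 := by
        have hp0 : 0 < p := hp.pos
        have : p * (H₁ ⊓ Λ).relIndex H₁ = p * 1 := by rw [h3, mul_one]
        exact Nat.eq_of_mul_eq_mul_left hp0 this
      have h6 : H₁ ≤ Λ := le_trans (Subgroup.relIndex_eq_one.mp h5) inf_le_right
      apply hΛH
      rw [← hA.iSup_eq]
      apply iSup_le
      rintro w g ⟨h, hh, rfl⟩
      exact hΛW w w.2 h (h6 hh)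
  -- Step 2
  have hax : ∀ w : W₁, H₁.map (MulAut.conj (w : L)).toMonoidHom ≤ centMod H₀ x := by
    rintro w g ⟨h₁, hh₁, rfl⟩
    rw [mem_centMod]
    set x' := (w : L)⁻¹ * x * (w : L) with hx'
    have hx'U : x' ∈ U := by
      have := (Subgroup.mem_normalizer_iff.mp (c.W₁_norm_U (W₁.inv_mem w.2)) x).mp hx
      simpa using this
    have hd1 : x' * h₁ * x'⁻¹ ∈ H₁ :=
      (Subgroup.mem_normalizer_iff.mp (hA.U_norm hx'U) h₁).mp hh₁
    have hd : x' * h₁ * x'⁻¹ * h₁⁻¹ ∈ H₁ := H₁.mul_mem hd1 (H₁.inv_mem hh₁)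
    have hconj : (MulAut.conj (w : L)).toMonoidHom h₁ = (w : L) * h₁ * (w : L)⁻¹ := rfl
    rw [hconj]
    have hgH : (w : L) * h₁ * (w : L)⁻¹ ∈ H := hH.conj_mem _ (hA.le_H hh₁) _
    have h7 := hxΛ _ hgH
    have h8 := hΛW _ (W₁.inv_mem w.2) _ h7
    have h9 : (w : L)⁻¹ * (x * ((w : L) * h₁ * (w : L)⁻¹) * x⁻¹ * ((w : L) * h₁ * (w : L)⁻¹)⁻¹) *
        (w : L)⁻¹⁻¹ = x' * h₁ * x'⁻¹ * h₁⁻¹ := by
      rw [hx']; group
    rw [h9] at h8
    have h10 : x' * h₁ * x'⁻¹ * h₁⁻¹ ∈ H₀ := hB ⟨hd, h8⟩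
    have h11 := hH₀.conj_mem _ h10 (w : L)
    have h12 : (w : L) * (x' * h₁ * x'⁻¹ * h₁⁻¹) * (w : L)⁻¹ =
        x * ((w : L) * h₁ * (w : L)⁻¹) * x⁻¹ * ((w : L) * h₁ * (w : L)⁻¹)⁻¹ := by
      rw [hx']; group
    rw [h12] at h11
    exact h11
  -- Step 3
  have hall : H ≤ centMod H₀ x := by
    rw [← hA.iSup_eq]
    exact iSup_le hax
  rw [mem_coreC_of_normal]
  exact ⟨hx, fun h hh => mem_centMod.mp (hall hh)⟩

end GroupTheory

section Transport

open Cfsg.Agent.Lib.Helper75 Cfsg.Agent.Lib.Helper78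

variable {L : Type u} [Group L] (A K : Subgroup L) [hA : A.Normal]

/-- compatibility of conjugation with `liftNT` -/
theorem conjFun_liftNT_eq (k : K) (φ : A → ℂ) :
    Helper75.conjFun (A.subgroupOf K) k (liftNT A K φ) =
      liftNT A K (Helper75.conjFun A (k : L) φ) := rfl

omit hA in
theorem liftNT_injective (hAK : A ≤ K) :
    Function.Injective (liftNT A K : (A → ℂ) → (A.subgroupOf K → ℂ)) := by
  intro φ ψ h
  rw [liftNT_eq_comp A K hAK, liftNT_eq_comp A K hAK] at h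
  exact (Subgroup.subgroupOfEquivOfLe hAK).toEquiv.surjective.injective_comp_right h

omit hA in
theorem classInner_res_liftNT [Fintype A] [Fintype (A.subgroupOf K)] (hAK : A ≤ K)
    (θ : K → ℂ) (φ : A → ℂ) :
    classInner (fun n : A.subgroupOf K => θ n) (liftNT A K φ) =
      classInner (resNT A K hAK θ) φ := by
  rw [res_eq_comp A K hAK, liftNT_eq_comp A K hAK, classInner_comp_equiv]

/-- Clifford's theorem for `θ ∈ Irr(K)` and the constituents of its restriction to `A ≤ K`,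
`A` normal in `L`, with characters of `A` as functions on `↥A`. -/
theorem clifford_conj_lift [Fintype L] [Fintype A] [Fintype K] (hAK : A ≤ K) {θ : K → ℂ}
    (hθ : IsIrrCharacter K θ) {φ ψ : A → ℂ} (hφ : IsIrrCharacter A φ) (hψ : IsIrrCharacter A ψ)
    (h1 : classInner (resNT A K hAK θ) φ ≠ 0) (h2 : classInner (resNT A K hAK θ) ψ ≠ 0) :
    ∃ k : K, Helper75.conjFun A (k : L) φ = ψ := by
  classical
  haveI : Fintype (A.subgroupOf K) := Fintype.ofFinite _
  have hφ' := isIrrCharacter_liftNT A K hAK hφ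
  have hψ' := isIrrCharacter_liftNT A K hAK hψ
  obtain ⟨k, hk⟩ := clifford_conj (A.subgroupOf K) hθ hφ' hψ'
    (by rw [classInner_res_liftNT]; exact h1) (by rw [classInner_res_liftNT]; exact h2)
  exact ⟨k, liftNT_injective A K hAK hk⟩

end Transport

section Main

open Cfsg.Agent.Lib.Helper75 Cfsg.Agent.Lib.Helper78
open scoped commutatorElement

variable {L : Type u} [Group L] [Fintype L] {K H U W₁ W₂ H₀ : Subgroup L} {p q : ℕ}

/-- a `W₁`-invariant irreducible constituent of the restriction to `A` (normal in `L`, inside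
`K`) of a `W₁`-invariant irreducible character of `K` -/
theorem exists_W1_fixed_constituent (c : Ctx K H U W₁ W₂ H₀ p q) (A : Subgroup L)
    [hAn : A.Normal] [Fintype A] [Fintype K] (hAK : A ≤ K) {θ : ↥K → ℂ}
    (hθirr : IsIrrCharacter ↥K θ) (hinv : IsW1Inv K W₁ c.K_normal θ) :
    ∃ lam : IrrCharacter A, classInner (resNT A K hAK θ) (lam : A → ℂ) ≠ 0 ∧
      ∀ w ∈ W₁, Helper75.conjFun A w (lam : A → ℂ) = (lam : A → ℂ) := by
  classical
  have hθch : IsCharacter K θ := IsIrrCharacter.isCharacter hθirr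
  have hθcl : IsClassFunction K θ := IsCharacter.isClassFunction hθch
  set θA : A → ℂ := resNT A K hAK θ with hθA
  have hθAch : IsCharacter A θA := isCharacter_resNT A K hAK hθch
  have hθAK : ∀ k : K, Helper75.conjFun A (k : L) θA = θA := by
    intro k
    funext a
    exact hθcl ⟨a, hAK a.2⟩ k
  have hθAW : ∀ w ∈ W₁, Helper75.conjFun A w θA = θA := by
    intro w hw
    funext a
    exact congrFun (hinv w hw) ⟨a, hAK a.2⟩
  have hmult : ∀ g : L, Helper75.conjFun A g θA = θA → ∀ φ : A → ℂ,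
      classInner θA (Helper75.conjFun A g φ) = classInner θA φ := by
    intro g hg φ
    have := classInner_conjFun_conjFun A g θA φ
    rw [hg] at this
    exact this
  have h1 : θA 1 ≠ 0 := by
    have := IsIrrCharacter.apply_one_ne_zero hθirr
    exact this
  obtain ⟨lam₀, hlam₀⟩ := Helper75.exists_constituent hθAch h1
  letI actL : MulAction L (IrrCharacter A) := Cfsg.Agent.Lib.Helper81.conjIrrMulAction A
  have hsmul : ∀ (g : L) (φ : IrrCharacter A), ((g • φ : IrrCharacter A) : A → ℂ) =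
      Helper75.conjFun A g⁻¹ (φ : A → ℂ) := by
    intro g φ
    funext n
    rfl
  set S : Set (IrrCharacter A) := {φ | classInner θA (φ : A → ℂ) ≠ 0} with hS
  have hSinv : ∀ (w : W₁) (φ : IrrCharacter A), φ ∈ S → w • φ ∈ S := by
    intro w φ hφ
    change classInner θA (((w : L) • φ : IrrCharacter A) : A → ℂ) ≠ 0
    rw [hsmul, hmult _ (hθAW _ (W₁.inv_mem w.2))]
    exact hφ
  have hSorb : S = MulAction.orbit K lam₀ := by
    ext φ
    simp only [hS, Set.mem_ofPred_eq, MulAction.mem_orbit_iff]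
    constructor
    · intro hφ
      obtain ⟨k, hk⟩ := clifford_conj_lift A K hAK hθirr lam₀.2 φ.2 hlam₀ hφ
      refine ⟨k⁻¹, Subtype.ext ?_⟩
      change (((k⁻¹ : K) : L) • lam₀ : IrrCharacter A).1 = φ.1
      rw [hsmul]
      simpa using hk
    · rintro ⟨k, rfl⟩
      change classInner θA (((k : L) • lam₀ : IrrCharacter A) : A → ℂ) ≠ 0
      rw [hsmul]
      have h2 := hmult _ (hθAK k⁻¹) (lam₀ : A → ℂ)
      rw [Subgroup.coe_inv] at h2
      rw [h2]
      exact hlam₀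
  have hcardS : Nat.card S ∣ Nat.card K := by
    have h2 : Nat.card S = (MulAction.stabilizer K lam₀).index := by
      rw [MulAction.index_stabilizer, ← Nat.card_coe_set_eq, ← hSorb]
    rw [h2]
    exact Subgroup.index_dvd_card _
  have hq : q.Prime := c.q_prime
  haveI : Fact q.Prime := ⟨hq⟩
  have hP : IsPGroup q W₁ := IsPGroup.of_card (n := 1) (by rw [c.card_W₁, pow_one])
  have hmod := Cfsg.Agent.Lib.Helper81.card_invariant_modEq_card_fixed q hP S hSinv
  have hne : (S ∩ MulAction.fixedPoints W₁ (IrrCharacter A) : Set (IrrCharacter A)).Nonempty := by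
    by_contra hemp
    rw [Set.not_nonempty_iff_eq_empty] at hemp
    rw [hemp] at hmod
    have h2 : Nat.card (∅ : Set (IrrCharacter A)) = 0 := by simp
    rw [h2] at hmod
    have h3 : q ∣ Nat.card S := (Nat.modEq_zero_iff_dvd).mp hmod
    have h4 : q ∣ Nat.card K := dvd_trans h3 hcardS
    have h5 := Nat.Coprime.eq_one_of_dvd c.coprime_q.symm h4
    exact hq.one_lt.ne' h5
  obtain ⟨lam, hlamS, hlamfix⟩ := hne
  refine ⟨lam, hlamS, ?_⟩
  intro w hw
  have h4 := hlamfix ⟨w⁻¹, W₁.inv_mem hw⟩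
  have h5 := congrArg Subtype.val h4
  change (((w⁻¹ : L)) • lam : IrrCharacter A).1 = lam.1 at h5
  rw [hsmul, inv_inv] at h5
  exact h5

/-- **Peterfalvi (9.8)(b)**, module [NB]: in the non-Galois (axis) case, a `W₁`-invariant member
of `X(H₀C)` has degree `u = |U : C|`, and the character of `L` it induces is induced from a linear
character of `HC`. -/
theorem axis_reducible_member (c : Ctx K H U W₁ W₂ H₀ p q) {H₁ : Subgroup L}
    (hA : IsAxis H U W₁ H₀ H₁ p) {θ : ↥K → ℂ} (hθ : θ ∈ Xset K H (H₀ ⊔ coreC U H H₀))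
    (hinv : IsW1Inv K W₁ c.K_normal θ) :
    θ 1 = (((coreC U H H₀).relIndex U : ℕ) : ℂ) ∧
      IsIndLinear (H ⊔ coreC U H H₀) (indFun K θ) := by
  classical
  obtain ⟨hθirr, hθker, h₀, hh₀H, hh₀⟩ := hθ
  have hAn : (H ⊔ coreC U H H₀).Normal := sup_coreC_normal c
  have hAK : H ⊔ coreC U H H₀ ≤ K := sup_coreC_le c
  have hKn : K.Normal := c.K_normal
  have hHn : H.Normal := c.H_normal
  have hH₀n : H₀.Normal := c.H₀_normal
  have hrel := relIndex_sup_coreC c
  set A := H ⊔ coreC U H H₀ with hAdef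
  letI : Fintype A := Fintype.ofFinite _
  letI : Fintype K := Fintype.ofFinite _
  letI : Fintype (A.subgroupOf K) := Fintype.ofFinite _
  have hθch : IsCharacter K θ := IsIrrCharacter.isCharacter hθirr
  obtain ⟨lam, hlamS, hlamW⟩ := exists_W1_fixed_constituent c A hAK hθirr hinv
  set θA : A → ℂ := resNT A K hAK θ with hθA
  have hθAch : IsCharacter A θA := isCharacter_resNT A K hAK hθch
  have hlamch : IsCharacter A (lam : A → ℂ) := IsIrrCharacter.isCharacter lam.2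
  -- the kernel of `lam` contains `H₀C`
  have hkerA : ∀ a : A, (a : L) ∈ H₀ ⊔ coreC U H H₀ →
      (lam : A → ℂ) a = (lam : A → ℂ) 1 := by
    intro a ha
    apply Helper75.constituent_ker hθAch lam hlamS a
    exact hθker ⟨a, hAK a.2⟩ ha
  -- `lam` is linear
  obtain ⟨Kl, hKln, hKlmem, -, -⟩ := Cfsg.Agent.Lib.Helper77.exists_kernel hlamch
  have hKlH₀ : ∀ a : A, (a : L) ∈ H₀ → a ∈ Kl :=
    fun a ha => (hKlmem a).mpr (hkerA a (Subgroup.mem_sup_left ha))
  have hKlC : ∀ a : A, (a : L) ∈ coreC U H H₀ → a ∈ Kl :=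
    fun a ha => (hKlmem a).mpr (hkerA a (Subgroup.mem_sup_right ha))
  have hdecA : ∀ a : A, ∃ h₁ ∈ H, ∃ c₁ ∈ coreC U H H₀, (a : L) = h₁ * c₁ := by
    intro a
    have h1 : (a : L) ∈ H ⊔ coreC U H H₀ := a.2
    rw [← SetLike.mem_coe, Subgroup.normal_mul] at h1
    obtain ⟨h, hh, x, hx, e⟩ := Set.mem_mul.mp h1
    exact ⟨h, hh, x, hx, e.symm⟩
  have hmkH : ∀ a : A, ∃ h₁ : A, (h₁ : L) ∈ H ∧
      (QuotientGroup.mk a : A ⧸ Kl) = QuotientGroup.mk h₁ := by
    intro a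
    obtain ⟨h₁, hh₁, c₁, hc₁, ha⟩ := hdecA a
    refine ⟨⟨h₁, Subgroup.mem_sup_left hh₁⟩, hh₁, ?_⟩
    have ha' : a = ⟨h₁, Subgroup.mem_sup_left hh₁⟩ * ⟨c₁, Subgroup.mem_sup_right hc₁⟩ :=
      Subtype.ext ha
    rw [ha', QuotientGroup.mk_mul,
      (QuotientGroup.eq_one_iff _).mpr (hKlC ⟨c₁, Subgroup.mem_sup_right hc₁⟩ hc₁), mul_one]
  have hcomm : ∀ a b : A ⧸ Kl, a * b = b * a := by
    intro a b
    induction a using QuotientGroup.induction_on with | H a => ?_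
    induction b using QuotientGroup.induction_on with | H b => ?_
    obtain ⟨h₁, hh₁, e1⟩ := hmkH a
    obtain ⟨h₂, hh₂, e2⟩ := hmkH b
    rw [e1, e2, ← QuotientGroup.mk_mul, ← QuotientGroup.mk_mul]
    apply QuotientGroup.eq.mpr
    apply hKlH₀
    apply c.comm_le
    have h3 : (((h₁ * h₂)⁻¹ * (h₂ * h₁) : A) : L) = ⁅(h₂ : L)⁻¹, (h₁ : L)⁻¹⁆ := by
      rw [commutatorElement_def]
      push_cast
      group
    rw [h3]
    exact Subgroup.commutator_mem_commutator (H.inv_mem hh₂) (H.inv_mem hh₁)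
  have hdeg : charDegree (lam : A → ℂ) = 1 :=
    Cfsg.Agent.S4768.degree_eq_one_of_comm_image (QuotientGroup.mk' Kl)
      (QuotientGroup.mk'_surjective Kl) hcomm lam.2
      (fun k hk => (hKlmem k).mp ((QuotientGroup.eq_one_iff k).mp hk))
  have hlam1 : (lam : A → ℂ) 1 = 1 := by
    rw [IsCharacter.apply_one_eq_charDegree hlamch, hdeg]
    simp
  obtain ⟨ψ, hψ⟩ := Cfsg.Agent.Lib.Helper77.exists_monoidHom_of_degree_one hlamch hlam1
  -- the kernel `Λ` of `lam`, as a subgroup of `L`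
  set Λ : Subgroup L := ψ.ker.map A.subtype with hΛ
  have hΛmem : ∀ a : A, (a : L) ∈ Λ ↔ (lam : A → ℂ) a = 1 := by
    intro a
    rw [hΛ, Subgroup.mem_map]
    constructor
    · rintro ⟨b, hb, hba⟩
      have hba' : b = a := Subtype.ext hba
      rw [← hba', hψ b, MonoidHom.mem_ker.mp hb]
      rfl
    · intro h
      refine ⟨a, ?_, rfl⟩
      rw [MonoidHom.mem_ker]
      apply Units.ext
      rw [← hψ a, h]
      rfl
  have hΛA : Λ ≤ A := by
    rintro _ ⟨b, -, rfl⟩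
    exact b.2
  have hΛ₀ : H₀ ≤ Λ := by
    intro x hx
    have hxA : x ∈ A := Subgroup.mem_sup_left (c.H₀_le hx)
    exact (hΛmem ⟨x, hxA⟩).mpr (by rw [hkerA ⟨x, hxA⟩ (Subgroup.mem_sup_left hx), hlam1])
  have hΛW : ∀ w ∈ W₁, ∀ h ∈ Λ, w * h * w⁻¹ ∈ Λ := by
    intro w hw h hh
    have hhA := hΛA hh
    have h1 := (hΛmem ⟨h, hhA⟩).mp hh
    have h2 := congrFun (hlamW w hw) ⟨h, hhA⟩
    rw [conjFun_apply] at h2
    exact (hΛmem ⟨w * h * w⁻¹, hAn.conj_mem h hhA w⟩).mpr (by rw [← h1, ← h2])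
  have hΛH : ¬ H ≤ Λ := by
    intro hle
    apply hh₀
    have hsum := IsCharacter.eq_sum_irr hθAch
    have hval : ∀ φ : IrrCharacter A, classInner θA (φ : A → ℂ) ≠ 0 → ∀ h : A, (h : L) ∈ H →
        (φ : A → ℂ) h = (φ : A → ℂ) 1 := by
      intro φ hφ h hh
      obtain ⟨k, hk⟩ := clifford_conj_lift A K hAK hθirr lam.2 φ.2 hlamS hφ
      rw [← hk, conjFun_apply, conjFun_apply]
      have e1 := (hΛmem ⟨(k : L) * h * (k : L)⁻¹, hAn.conj_mem h h.2 k⟩).mp
        (hle (hHn.conj_mem _ hh k))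
      have e2 := (hΛmem ⟨(k : L) * ((1 : A) : L) * (k : L)⁻¹, hAn.conj_mem _ (1 : A).2 k⟩).mp
        (hle (hHn.conj_mem _ H.one_mem k))
      rw [e1, e2]
    have hh₀A : (h₀ : L) ∈ A := Subgroup.mem_sup_left hh₀H
    have hA0 : θA ⟨h₀, hh₀A⟩ = θA 1 := by
      have e := congrFun hsum ⟨h₀, hh₀A⟩
      have e' := congrFun hsum 1
      calc θA ⟨h₀, hh₀A⟩
          = (∑ φ : IrrCharacter A, classInner θA (φ : A → ℂ) • (φ : A → ℂ)) ⟨h₀, hh₀A⟩ := e
        _ = (∑ φ : IrrCharacter A, classInner θA (φ : A → ℂ) • (φ : A → ℂ)) 1 := by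
            simp only [Finset.sum_apply, Pi.smul_apply]
            apply Finset.sum_congr rfl
            intro φ _
            by_cases hφ : classInner θA (φ : A → ℂ) = 0
            · rw [hφ]; simp
            · rw [hval φ hφ ⟨h₀, hh₀A⟩ hh₀H]
        _ = θA 1 := e'.symm
    exact hA0
  -- the inertia group of `lam` in `K` is `A`
  have hstab : ∀ g : L, g ∈ K → Helper75.conjFun A g (lam : A → ℂ) = (lam : A → ℂ) → g ∈ A := by
    intro g hgK hg
    obtain ⟨h, hh, y, hy, rfl⟩ := exists_decomp_K c hgK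
    have hhA : h ∈ A := Subgroup.mem_sup_left hh
    have e0 := conjFun_of_mem A (isClassFunction_irr lam) ⟨h, hhA⟩
    change Helper75.conjFun A h (lam : A → ℂ) = (lam : A → ℂ) at e0
    rw [conjFun_mul, e0] at hg
    have hyC : y ∈ coreC U H H₀ := by
      apply mem_coreC_of_comm_mem c hA Λ hΛ₀ hΛW hΛH hy
      intro x hx
      have hxA : x ∈ A := Subgroup.mem_sup_left hx
      have hyx : y * x * y⁻¹ ∈ A := hAn.conj_mem x hxA y
      have e1 := congrFun hg ⟨x, hxA⟩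
      rw [conjFun_apply] at e1
      have hmemA : y * x * y⁻¹ * x⁻¹ ∈ A := A.mul_mem hyx (A.inv_mem hxA)
      apply (hΛmem ⟨_, hmemA⟩).mpr
      have e2 : (⟨y * x * y⁻¹ * x⁻¹, hmemA⟩ : A) = ⟨y * x * y⁻¹, hyx⟩ * ⟨x, hxA⟩⁻¹ := rfl
      have e3 : ψ ⟨y * x * y⁻¹, hyx⟩ = ψ ⟨x, hxA⟩ := by
        apply Units.ext
        rw [← hψ, ← hψ]
        exact e1
      rw [e2, hψ, map_mul, map_inv, e3, mul_inv_cancel]
      rfl
    exact A.mul_mem hhA (Subgroup.mem_sup_right hyC)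
  -- Clifford correspondence in `K`
  set N' : Subgroup K := A.subgroupOf K with hN'
  set lam' : N' → ℂ := liftNT A K (lam : A → ℂ) with hlam'
  have hlam'irr : IsIrrCharacter N' lam' := isIrrCharacter_liftNT A K hAK lam.2
  have hT : ∀ g : K, g ∈ N' ↔ Helper75.conjFun N' g lam' = lam' := by
    intro g
    constructor
    · intro hg
      exact conjFun_of_mem N'
        (IsCharacter.isClassFunction (IsIrrCharacter.isCharacter hlam'irr)) ⟨g, hg⟩
    · intro hg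
      rw [hN', Subgroup.mem_subgroupOf]
      apply hstab g g.2
      exact liftNT_injective A K hAK hg
  have hover : classInner (fun n : N' => θ n) lam' ≠ 0 := by
    rw [hlam', classInner_res_liftNT]
    exact hlamS
  obtain ⟨ψ', hψ'irr, hψ'ind, hψ'mult⟩ :=
    exists_indFun_eq_of_over N' N' le_rfl hlam'irr hT hθirr hover
  have hψ'eq : ψ' = lam' := by
    by_contra hne
    have h0 : classInner (resNT N' N' le_rfl ψ') lam' = 0 := by
      have : resNT N' N' le_rfl ψ' = ψ' := by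
        funext n
        rfl
      rw [this]
      exact classInner_irr_ne hψ'irr hlam'irr hne
    rw [hψ'mult] at h0
    exact hover h0
  rw [hψ'eq] at hψ'ind
  constructor
  · rw [← hψ'ind, indFun_one]
    have e1 : N'.index = A.relIndex K := rfl
    have e2 : lam' 1 = 1 := hlam1
    rw [e1, e2, mul_one, hrel]
  · refine ⟨lam, lam.2, hlam1, ?_⟩
    rw [indFun_eq_indFun_indFun_liftNT A K hAK (lam : A → ℂ), hψ'ind]

end Main

end Cfsg.Agent.Lib.Helper16.PFNineNB
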