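import Mathlib.GroupTheory.Sylow
import Mathlib.GroupTheory.Subgroup.Centralizer

/-!
# Sylow subgroups of subgroups, phrased for subgroups of the ambient group (helper16)
-/

set_option autoImplicit false

namespace Cfsg.Agent.Lib.Helper16

variable {G : Type*} [Group G]

theorem mem_map_conj_iff (H : Subgroup G) (x y : G) :
    y ∈ H.map (MulAut.conj x).toMonoidHom ↔ x⁻¹ * y * x ∈ H := by
  rw [Subgroup.mem_map_equiv]
  simp [MulAut.conj_symm_apply]

theorem map_conj_le_iff (H K : Subgroup G) (x : G) :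
    H.map (MulAut.conj x).toMonoidHom ≤ K ↔ ∀ h ∈ H, x * h * x⁻¹ ∈ K := by
  constructor
  · intro hle h hh
    exact hle ⟨h, hh, rfl⟩
  · rintro hall _ ⟨h, hh, rfl⟩
    exact hall h hh

/-- A `p`-subgroup `T` of `G` contained in `K` lies in (the image of) a Sylow `p`-subgroup
of `K`. -/
theorem exists_sylow_map_ge [Finite G] {p : ℕ} [Fact p.Prime] (K T : Subgroup G)
    (hT : IsPGroup p T) (hTK : T ≤ K) :
    ∃ Q : Sylow p K, T ≤ (Q : Subgroup K).map K.subtype := by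
  have hT' : IsPGroup p (T.subgroupOf K) := hT.comap_subtype
  obtain ⟨Q, hQ⟩ := hT'.exists_le_sylow
  refine ⟨Q, fun t ht => ⟨⟨t, hTK ht⟩, hQ ?_, rfl⟩⟩
  rw [Subgroup.mem_subgroupOf]
  exact ht

open scoped Pointwise in
/-- A `p`-subgroup `T` of `G` contained in `K` lies in a `K`-conjugate of any given Sylow
`p`-subgroup `D` of `K`. -/
theorem exists_conj_sylow_map_ge [Finite G] {p : ℕ} [Fact p.Prime] (K : Subgroup G)
    (D : Sylow p K) (T : Subgroup G) (hT : IsPGroup p T) (hTK : T ≤ K) :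
    ∃ z ∈ K, T ≤ ((D : Subgroup K).map K.subtype).map (MulAut.conj z).toMonoidHom := by
  obtain ⟨Q, hQ⟩ := exists_sylow_map_ge K T hT hTK
  obtain ⟨z, hz⟩ := MulAction.exists_smul_eq K D Q
  refine ⟨z, z.2, fun t ht => ?_⟩
  obtain ⟨q, hq, rfl⟩ := hQ ht
  rw [mem_map_conj_iff]
  -- `q ∈ Q = z • D`
  rw [← hz, Sylow.coe_subgroup_smul] at hq
  have hq' : (MulAut.conj z)⁻¹ • q ∈ (D : Subgroup K) :=
    Subgroup.mem_pointwise_smul_iff_inv_smul_mem.mp hq
  refine ⟨(MulAut.conj z)⁻¹ • q, hq', ?_⟩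
  simp [MulAut.smul_def]

end Cfsg.Agent.Lib.Helper16
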