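import Cfsg.Agent.Lib.Helper16.DefectClass
import Cfsg.Agent.Lib.Helper16.SylowAux

/-!
# Restriction of the group algebra to a subgroup and induced central characters (helper16)

For `H ≤ G` the linear map `resAlg H : ℂG → ℂH` keeps the coefficients at the elements of `H`.
It maps the centre into the centre, and `omega ξ (resAlg H (classSum g))` is the induced central
character `Cfsg.inducedCentralChar H ξ g`.
-/

set_option autoImplicit false

namespace Cfsg.Agent.Lib.Helper16

open Cfsg MonoidAlgebra
open scoped ComplexConjugate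

variable {G : Type*} [Group G] [Fintype G]

/-- Keep the coefficients at the elements of the subgroup `H`. -/
noncomputable def resAlg (H : Subgroup G) [Fintype H] (z : MonoidAlgebra ℂ G) :
    MonoidAlgebra ℂ H :=
  ∑ h : H, single h (z.coeff (h : G))

omit [Fintype G] in
theorem coeff_resAlg (H : Subgroup G) [Fintype H] (z : MonoidAlgebra ℂ G) (h : H) :
    (resAlg H z).coeff h = z.coeff (h : G) := by
  classical
  unfold resAlg
  rw [coeff_sum, Finsupp.finsetSum_apply]
  simp only [coeff_single, Finsupp.single_apply]
  rw [Finset.sum_ite_eq' Finset.univ h]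
  simp

omit [Fintype G] in
theorem resAlg_mem_center (H : Subgroup G) [Fintype H] {z : MonoidAlgebra ℂ G}
    (hz : z ∈ Subalgebra.center ℂ (MonoidAlgebra ℂ G)) :
    resAlg H z ∈ Subalgebra.center ℂ (MonoidAlgebra ℂ H) := by
  apply mem_center_of_coeff_conj
  intro h k
  rw [coeff_resAlg, coeff_resAlg]
  push_cast
  exact coeff_conj_of_mem_center hz _ _

/-- The restriction of a central element, as an element of the centre. -/
noncomputable def resAlgC (H : Subgroup G) [Fintype H]
    (z : Subalgebra.center ℂ (MonoidAlgebra ℂ G)) : Subalgebra.center ℂ (MonoidAlgebra ℂ H) :=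
  ⟨resAlg H z, resAlg_mem_center H z.2⟩

theorem resAlgC_mem_centerOrder {M : Ideal AlgInt} [M.IsPrime] (H : Subgroup G) [Fintype H]
    {z : Subalgebra.center ℂ (MonoidAlgebra ℂ G)} (hz : z ∈ centerOrder G M) :
    resAlgC H z ∈ centerOrder H M := by
  intro h
  show MemLocalRing M ((resAlg H z).coeff h)
  rw [coeff_resAlg]
  exact hz _

open scoped Classical in
/-- The induced central character is the central character on the restricted class sum. -/
theorem omega_resAlg_classSum (H : Subgroup G) [Fintype H] (ξ : H → ℂ) (g : G) :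
    omega ξ (resAlg H (classSum g)) = inducedCentralChar H ξ g := by
  unfold omega inducedCentralChar
  rw [finsum_mem_eq_sum_of_subset (t := Finset.univ.filter (fun h : H => IsConj g (h : G)))
      _ (by intro x hx; simpa using hx.1) (by intro x hx; simpa using hx)]
  rw [Finset.sum_div, Finset.sum_filter]
  refine Finset.sum_congr rfl fun h _ => ?_
  rw [coeff_resAlg, coeff_classSum]
  split_ifs <;> simp

open scoped Classical in
/-- The induced central character of `ξ` at a general central element. -/
theorem omega_resAlg_eq_sum_classes (H : Subgroup G) [Fintype H] (ξ : H → ℂ)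
    {z : MonoidAlgebra ℂ G} (hz : z ∈ Subalgebra.center ℂ (MonoidAlgebra ℂ G)) :
    omega ξ (resAlg H z) =
      ∑ c : ConjClasses G, z.coeff (classRep c) * inducedCentralChar H ξ (classRep c) := by
  have hz' : z = ∑ c : ConjClasses G, z.coeff (classRep c) • classSum (classRep c) := by
    ext x
    rw [coeff_sum, Finsupp.finsetSum_apply]
    simp only [coeff_smul, Finsupp.smul_apply, coeff_classSum, smul_eq_mul, mul_ite, mul_one,
      mul_zero]
    rw [Finset.sum_eq_single (ConjClasses.mk x)]
    · rw [if_pos (isConj_classRep_mk x)]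
      obtain ⟨d, hd⟩ := isConj_iff.mp (isConj_classRep_mk x)
      conv_lhs => rw [← hd, coeff_conj_of_mem_center hz]
    · intro c _ hc
      rw [if_neg]
      intro hcon
      apply hc
      rw [← mk_classRep c]
      exact ConjClasses.mk_eq_mk_iff_isConj.mpr hcon
    · intro h
      exact absurd (Finset.mem_univ _) h
  have hlin : ∀ (s : Finset (ConjClasses G)),
      resAlg H (∑ c ∈ s, z.coeff (classRep c) • classSum (classRep c)) =
        ∑ c ∈ s, z.coeff (classRep c) • resAlg H (classSum (classRep c)) := by
    intro s
    ext h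
    rw [coeff_resAlg, coeff_sum, Finsupp.finsetSum_apply, coeff_sum, Finsupp.finsetSum_apply]
    refine Finset.sum_congr rfl fun c _ => ?_
    rw [coeff_smul, Finsupp.smul_apply, coeff_smul, Finsupp.smul_apply, coeff_resAlg]
  conv_lhs => rw [hz']
  rw [hlin, omega_sum]
  refine Finset.sum_congr rfl fun c _ => ?_
  rw [omega_smul, omega_resAlg_classSum]

section

variable {M : Ideal AlgInt} [hMp : M.IsPrime]

/-- Characters of `H` in the same block have congruent induced central characters. -/
theorem inducedCentralChar_congr (H : Subgroup G) [Fintype H] {ξ ξ' : IrrCharacter H}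
    (h : SameBlock M (ξ : H → ℂ) (ξ' : H → ℂ)) (g : G) :
    MemLocalIdeal M (inducedCentralChar H (ξ : H → ℂ) g - inducedCentralChar H (ξ' : H → ℂ) g) := by
  have := sameBlock_omegaHom_congr h
    (resAlgC_mem_centerOrder (M := M) H (classSumC_mem_centerOrder (M := M) g))
  rw [omegaHom_apply, omegaHom_apply] at this
  change MemLocalIdeal M (omega (ξ : H → ℂ) (resAlg H (classSum g)) -
    omega (ξ' : H → ℂ) (resAlg H (classSum g))) at this
  rwa [omega_resAlg_classSum, omega_resAlg_classSum] at this

open scoped Classical in
/-- If `b` induces `B`, the induced central character of `ξ ∈ b` agrees with the central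
character of `χ ∈ B` modulo the ideal on the whole order of the centre. -/
theorem isInducedBlock_congr (H : Subgroup G) [Fintype H] {b : Set (IrrCharacter H)}
    {B : Set (IrrCharacter G)} (hind : IsInducedBlock M H b B) {ξ : IrrCharacter H} (hξ : ξ ∈ b)
    {χ : IrrCharacter G} (hχ : χ ∈ B)
    {z : Subalgebra.center ℂ (MonoidAlgebra ℂ G)} (hz : z ∈ centerOrder G M) :
    MemLocalIdeal M (omega (ξ : H → ℂ) (resAlg H z) - omegaHom χ z) := by
  rw [omegaHom_apply, omega_resAlg_eq_sum_classes H _ z.2,
    omega_eq_sum_classes _ (irr_conj χ) z.2, ← Finset.sum_sub_distrib]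
  apply memLocalIdeal_sum
  intro c _
  rw [← mul_sub]
  exact memLocalIdeal_mul_left (hz _) (hind.2.2 ξ hξ χ hχ _)

open scoped Classical in
/-- If the induced central character of `ξ` at `g` is not in the ideal, then some element of `H`
conjugate to `g` in `G` has central character (for `ξ`) outside the ideal. -/
theorem exists_of_inducedCentralChar_not_mem (H : Subgroup G) [Fintype H] (ξ : IrrCharacter H)
    (g : G) (hg : ¬ MemLocalIdeal M (inducedCentralChar H (ξ : H → ℂ) g)) :
    ∃ h : H, IsConj g (h : G) ∧ ¬ MemLocalIdeal M (centralChar (ξ : H → ℂ) h) := by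
  by_contra hcon
  push Not at hcon
  apply hg
  rw [← omega_resAlg_classSum, omega_eq_sum_classes _ (irr_conj ξ)
    (resAlg_mem_center H (classSum_mem_center g))]
  apply memLocalIdeal_sum
  intro c _
  rw [coeff_resAlg, coeff_classSum]
  split_ifs with hc
  · rw [one_mul]
    exact hcon _ hc
  · rw [zero_mul]
    exact memLocalIdeal_zero hMp.ne_top

end

/-! ### Defect classes are invariant under conjugation -/

omit [Fintype G] in
theorem centralChar_conj (χ : IrrCharacter G) (g x : G) :
    centralChar (χ : G → ℂ) (x * g * x⁻¹) = centralChar (χ : G → ℂ) g := by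
  unfold centralChar
  rw [irr_conj]
  congr 3
  -- the centralizers are conjugate
  have : Subgroup.centralizer ({x * g * x⁻¹} : Set G) =
      (Subgroup.centralizer ({g} : Set G)).map (MulAut.conj x).toMonoidHom := by
    ext y
    rw [mem_map_conj_iff, Subgroup.mem_centralizer_singleton_iff,
      Subgroup.mem_centralizer_singleton_iff]
    constructor
    · intro h
      calc x⁻¹ * y * x * g = x⁻¹ * (y * (x * g * x⁻¹)) * x := by group
        _ = x⁻¹ * ((x * g * x⁻¹) * y) * x := by rw [h]
        _ = g * (x⁻¹ * y * x) := by group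
    · intro h
      calc y * (x * g * x⁻¹) = x * ((x⁻¹ * y * x) * g) * x⁻¹ := by group
        _ = x * (g * (x⁻¹ * y * x)) * x⁻¹ := by rw [h]
        _ = x * g * x⁻¹ * y := by group
  rw [this]
  exact Subgroup.index_map_equiv _ (MulAut.conj x)

theorem isDefectClass_conj {M : Ideal AlgInt} {B : Set (IrrCharacter G)} {g : G}
    (hg : IsDefectClass M B g) (x : G) : IsDefectClass M B (x * g * x⁻¹) := by
  obtain ⟨h1, h2, h3⟩ := hg
  refine ⟨?_, ?_, ?_⟩
  · rwa [blockCoeff_conj]
  · rwa [blockCoeff_conj]
  · intro χ hχ
    rw [centralChar_conj]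
    exact h3 χ hχ

theorem isDefectClass_of_isConj {M : Ideal AlgInt} {B : Set (IrrCharacter G)} {g g' : G}
    (hg : IsDefectClass M B g) (hc : IsConj g g') : IsDefectClass M B g' := by
  obtain ⟨x, rfl⟩ := isConj_iff.mp hc
  exact isDefectClass_conj hg x

end Cfsg.Agent.Lib.Helper16
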