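import Cfsg.Agent.Lib.Helper16.DefectClass

/-!
# Nilpotency modulo the local ideal and the min–max lemma for defect classes (helper16)
-/

set_option autoImplicit false

namespace Cfsg.Agent.Lib.Helper16

open Cfsg MonoidAlgebra
open scoped ComplexConjugate

variable {G : Type*} [Group G] [Fintype G] {M : Ideal AlgInt} [hMp : M.IsPrime]

/-- All coefficients lie in the local ideal. -/
def CoeffsInIdeal (M : Ideal AlgInt) (z : MonoidAlgebra ℂ G) : Prop :=
  ∀ g : G, MemLocalIdeal M (z.coeff g)

/-- All coefficients lie in the local ring. -/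
def CoeffsInRing (M : Ideal AlgInt) (z : MonoidAlgebra ℂ G) : Prop :=
  ∀ g : G, MemLocalRing M (z.coeff g)

omit [Fintype G] in
theorem CoeffsInIdeal.add {z w : MonoidAlgebra ℂ G} (hz : CoeffsInIdeal M z)
    (hw : CoeffsInIdeal M w) : CoeffsInIdeal M (z + w) := by
  intro g
  rw [coeff_add, Finsupp.add_apply]
  exact memLocalIdeal_add (hz g) (hw g)

omit [Group G] [Fintype G] hMp in
theorem CoeffsInIdeal.neg {z : MonoidAlgebra ℂ G} (hz : CoeffsInIdeal M z) :
    CoeffsInIdeal M (-z) := by
  intro g
  rw [coeff_neg, Finsupp.neg_apply]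
  exact memLocalIdeal_neg (hz g)

omit [Fintype G] in
theorem CoeffsInIdeal.sub {z w : MonoidAlgebra ℂ G} (hz : CoeffsInIdeal M z)
    (hw : CoeffsInIdeal M w) : CoeffsInIdeal M (z - w) := by
  rw [sub_eq_add_neg]
  exact hz.add hw.neg

omit [Fintype G] in
theorem CoeffsInIdeal.zero : CoeffsInIdeal M (0 : MonoidAlgebra ℂ G) := by
  intro g
  simpa using memLocalIdeal_zero hMp.ne_top

theorem CoeffsInIdeal.mul_left {z w : MonoidAlgebra ℂ G} (hw : CoeffsInRing M w)
    (hz : CoeffsInIdeal M z) : CoeffsInIdeal M (w * z) := by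
  classical
  intro g
  rw [coeff_mul_eq_sum]
  exact memLocalIdeal_sum _ _ fun p _ => memLocalIdeal_mul_left (hw _) (hz _)

theorem CoeffsInIdeal.mul_right {z w : MonoidAlgebra ℂ G} (hz : CoeffsInIdeal M z)
    (hw : CoeffsInRing M w) : CoeffsInIdeal M (z * w) := by
  classical
  intro g
  rw [coeff_mul_eq_sum]
  exact memLocalIdeal_sum _ _ fun p _ => memLocalIdeal_mul_right (hz _) (hw _)

omit [Fintype G] in
theorem coeffsInIdeal_algebraMap {c : ℂ} (hc : MemLocalIdeal M c) :
    CoeffsInIdeal M (algebraMap ℂ (MonoidAlgebra ℂ G) c) := by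
  classical
  intro g
  rw [coeff_algebraMap_apply]
  split_ifs
  · exact hc
  · exact memLocalIdeal_zero hMp.ne_top

omit [Group G] [Fintype G] hMp in
theorem CoeffsInIdeal.coeffsInRing {z : MonoidAlgebra ℂ G} (hz : CoeffsInIdeal M z) :
    CoeffsInRing M z := fun g => memLocalRing_of_memLocalIdeal (hz g)

/-- Key nilpotency lemma: an element of the order all of whose central characters lie in the
local ideal has a power with all coefficients in the local ideal. -/
theorem exists_pow_coeffsInIdeal {z : Subalgebra.center ℂ (MonoidAlgebra ℂ G)}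
    (hz : z ∈ centerOrder G M) (hω : ∀ ψ : IrrCharacter G, MemLocalIdeal M (omegaHom ψ z)) :
    CoeffsInIdeal M ((z ^ Nat.card (IrrCharacter G) :
      Subalgebra.center ℂ (MonoidAlgebra ℂ G)) : MonoidAlgebra ℂ G) := by
  classical
  -- induction over finite sets of irreducible characters
  have key : ∀ S : Finset (IrrCharacter G),
      (∏ ψ ∈ S, (z - algebraMap ℂ _ (omegaHom ψ z)) ∈ centerOrder G M) ∧
      CoeffsInIdeal M (((∏ ψ ∈ S, (z - algebraMap ℂ _ (omegaHom ψ z)) - z ^ S.card :
        Subalgebra.center ℂ (MonoidAlgebra ℂ G)) : MonoidAlgebra ℂ G)) := by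
    intro S
    induction S using Finset.induction_on with
    | empty =>
      refine ⟨by simp, ?_⟩
      simp only [Finset.prod_empty, Finset.card_empty, pow_zero, sub_self]
      exact CoeffsInIdeal.zero
    | insert a S ha ih =>
      obtain ⟨ih1, ih2⟩ := ih
      have hfac : z - algebraMap ℂ _ (omegaHom a z) ∈ centerOrder G M :=
        (centerOrder G M).sub_mem hz
          (algebraMap_mem_centerOrder (memLocalRing_of_memLocalIdeal (hω a)))
      rw [Finset.prod_insert ha, Finset.card_insert_of_notMem ha]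
      refine ⟨(centerOrder G M).mul_mem hfac ih1, ?_⟩
      set P := ∏ ψ ∈ S, (z - algebraMap ℂ _ (omegaHom ψ z)) with hP
      have e : (((z - algebraMap ℂ _ (omegaHom a z)) * P - z ^ (S.card + 1) :
          Subalgebra.center ℂ (MonoidAlgebra ℂ G)) : MonoidAlgebra ℂ G) =
          (z : MonoidAlgebra ℂ G) * ((P - z ^ S.card : Subalgebra.center ℂ (MonoidAlgebra ℂ G)) :
            MonoidAlgebra ℂ G) -
          algebraMap ℂ (MonoidAlgebra ℂ G) (omegaHom a z) * (P : MonoidAlgebra ℂ G) := by
        push_cast
        rw [pow_succ']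
        noncomm_ring
      rw [e]
      apply CoeffsInIdeal.sub
      · exact CoeffsInIdeal.mul_left (fun g => hz g) ih2
      · exact CoeffsInIdeal.mul_right (coeffsInIdeal_algebraMap (hω a)) (fun g => ih1 g)
  have := (key Finset.univ).2
  have hzero : ∏ ψ ∈ (Finset.univ : Finset (IrrCharacter G)),
      (z - algebraMap ℂ _ (omegaHom ψ z)) = 0 := by
    apply eq_zero_of_forall_omegaHom_eq_zero
    intro θ
    rw [map_prod]
    apply Finset.prod_eq_zero (Finset.mem_univ θ)
    rw [map_sub, AlgHom.commutes]
    simp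
  rw [hzero, zero_sub, Finset.card_univ, ← Nat.card_eq_fintype_card] at this
  have h2 := this.neg
  simpa using h2

/-! ### Inverting a class sum on a block -/

/-- A purely ring-theoretic identity behind the inversion of `L` on the block of `E`. -/
theorem geom_identity {R' : Type*} [CommRing R'] (L E cl cm : R') (hE : E * E = E)
    (hm : cm * cl = 1) (N : ℕ) :
    L * (cm * E * ∑ j ∈ Finset.range N, (-cm * ((L - cl) * E)) ^ j) =
      E - E * (-cm * ((L - cl) * E)) ^ N := by
  have hS := mul_neg_geom_sum (-cm * ((L - cl) * E)) N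
  set S := ∑ j ∈ Finset.range N, (-cm * ((L - cl) * E)) ^ j with hSdef
  have hm' : cm * cl - 1 = 0 := by rw [hm, sub_self]
  have hE' : E * E - E = 0 := by rw [hE, sub_self]
  linear_combination E * hS + S * E * hm' - S * cm * (L - cl) * hE'

/-- If the central character of the block of `χ₀` does not vanish modulo the ideal at `l`,
the class sum of `l` can be inverted on the block modulo the local ideal: there is an element
`y` of the order with `classSum l * y = e_B - r`, where `r` has coefficients in the ideal. -/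
theorem exists_classSum_mul_eq (χ₀ : IrrCharacter G) (l : G)
    (hl : ¬ MemLocalIdeal M (centralChar (χ₀ : G → ℂ) l)) :
    ∃ y ∈ centerOrder G M, ∃ r : MonoidAlgebra ℂ G, CoeffsInIdeal M r ∧
      classSum l * (y : MonoidAlgebra ℂ G) = (blockIdem M χ₀ : MonoidAlgebra ℂ G) - r := by
  classical
  set B := blockOf M (χ₀ : G → ℂ) with hB
  set E := blockIdem M χ₀ with hE
  set lam := centralChar (χ₀ : G → ℂ) l with hlam
  have hR : ∀ θ : IrrCharacter G, MemLocalRing M (centralChar (θ : G → ℂ) l) := fun θ =>
    memLocalRing_of_isIntegral hMp.ne_top (Cfsg.Agent.Lib.Helper79.isIntegral_centralChar θ l)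
  have hlamR : MemLocalRing M lam := hR χ₀
  have hlaminv : MemLocalRing M lam⁻¹ := memLocalRing_inv hlamR hl
  have hlam0 : lam ≠ 0 := ne_zero_of_not_memLocalIdeal hl
  set N := Nat.card (IrrCharacter G) with hN
  -- the element `t` with all central characters in the ideal
  set t : Subalgebra.center ℂ (MonoidAlgebra ℂ G) :=
    algebraMap ℂ _ (-lam⁻¹) * ((classSumC l - algebraMap ℂ _ lam) * E) with ht
  have hEmem : E ∈ centerOrder G M := blockIdem_mem χ₀
  have htmem : t ∈ centerOrder G M :=
    (centerOrder G M).mul_mem (algebraMap_mem_centerOrder (memLocalRing_neg hlaminv))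
      ((centerOrder G M).mul_mem ((centerOrder G M).sub_mem (classSumC_mem_centerOrder l)
        (algebraMap_mem_centerOrder hlamR)) hEmem)
  have htω : ∀ ψ : IrrCharacter G, MemLocalIdeal M (omegaHom ψ t) := by
    intro ψ
    rw [ht, map_mul, map_mul, map_sub, AlgHom.commutes, AlgHom.commutes, omegaHom_classSumC]
    simp only [Algebra.algebraMap_self, RingHom.id_apply]
    apply memLocalIdeal_mul_left (memLocalRing_neg hlaminv)
    by_cases hψ : ψ ∈ B
    · rw [omegaHom_blockIdem_of_mem χ₀ hψ, mul_one]
      have : MemLocalIdeal M (centralChar (χ₀ : G → ℂ) l - centralChar (ψ : G → ℂ) l) := hψ l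
      rw [memLocalIdeal_sub_comm]
      exact this
    · rw [omegaHom_blockIdem_of_not_mem χ₀ hψ, mul_zero]
      exact memLocalIdeal_zero hMp.ne_top
  have htN := exists_pow_coeffsInIdeal htmem htω
  -- the element `y`
  set y : Subalgebra.center ℂ (MonoidAlgebra ℂ G) :=
    algebraMap ℂ _ lam⁻¹ * E * ∑ j ∈ Finset.range N, t ^ j with hy
  have hymem : y ∈ centerOrder G M :=
    (centerOrder G M).mul_mem
      ((centerOrder G M).mul_mem (algebraMap_mem_centerOrder hlaminv) hEmem)
      ((centerOrder G M).sum_mem fun j _ => (centerOrder G M).pow_mem htmem j)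
  refine ⟨y, hymem, ((E * t ^ N : Subalgebra.center ℂ (MonoidAlgebra ℂ G)) : MonoidAlgebra ℂ G),
    ?_, ?_⟩
  · push_cast
    exact CoeffsInIdeal.mul_left (fun g => hEmem g) (by rw [← Subalgebra.coe_pow]; exact htN)
  · -- transfer the commutative identity from `Subring.center`
    have hcen : ∀ x : Subalgebra.center ℂ (MonoidAlgebra ℂ G),
        (x : MonoidAlgebra ℂ G) ∈ Subring.center (MonoidAlgebra ℂ G) := fun x =>
      Subring.mem_center_iff.mpr (Subalgebra.mem_center_iff.mp x.2)
    have hid := geom_identity (R' := Subring.center (MonoidAlgebra ℂ G))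
      ⟨classSum l, hcen (classSumC l)⟩ ⟨E, hcen E⟩
      ⟨algebraMap ℂ _ lam, hcen (algebraMap ℂ _ lam)⟩
      ⟨algebraMap ℂ _ lam⁻¹, hcen (algebraMap ℂ _ lam⁻¹)⟩
      (by
        apply Subtype.ext
        have := congrArg (Subtype.val) (blockIdem_mul_self (M := M) χ₀)
        simpa using this)
      (by
        apply Subtype.ext
        show algebraMap ℂ (MonoidAlgebra ℂ G) lam⁻¹ * algebraMap ℂ (MonoidAlgebra ℂ G) lam = 1
        rw [← map_mul, inv_mul_cancel₀ hlam0, map_one]) N
    have hid' := congrArg (Subring.center (MonoidAlgebra ℂ G)).subtype hid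
    simp only [map_mul, map_sub, map_sum, map_pow, map_neg, Subring.subtype_apply] at hid'
    rw [hy, ht]
    push_cast
    simp only [neg_mul] at hid' ⊢
    exact hid'

/-! ### Class multiplication constants -/

open scoped Classical in
/-- The number of `w` conjugate to `v` such that `n * w⁻¹` is conjugate to `l`; this is the
coefficient of the class sum of `n` in the product of the class sums of `l` and `v`. -/
noncomputable def classMulCount (l v n : G) : ℕ :=
  (Finset.univ.filter fun w : G => IsConj v w ∧ IsConj l (n * w⁻¹)).card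

open scoped Classical in
/-- The coefficients of the product of a class sum with a central element. -/
theorem coeff_classSum_mul (l n : G) {y : MonoidAlgebra ℂ G}
    (hy : y ∈ Subalgebra.center ℂ (MonoidAlgebra ℂ G)) :
    (classSum l * y).coeff n =
      ∑ c : ConjClasses G, y.coeff (classRep c) * (classMulCount l (classRep c) n : ℂ) := by
  rw [coeff_mul_apply_right, Finsupp.sum_fintype _ _ (by simp)]
  rw [← Finset.sum_fiberwise Finset.univ (ConjClasses.mk : G → ConjClasses G)]
  refine Finset.sum_congr rfl fun c _ => ?_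
  have hfil : (Finset.univ.filter fun g : G => ConjClasses.mk g = c) =
      Finset.univ.filter (fun w : G => IsConj (classRep c) w) := by
    ext g
    simp only [Finset.mem_filter, Finset.mem_univ, true_and]
    conv_lhs => rw [← mk_classRep c]
    rw [ConjClasses.mk_eq_mk_iff_isConj, isConj_comm]
  rw [hfil]
  have hterm : ∀ w ∈ Finset.univ.filter (fun w : G => IsConj (classRep c) w),
      (classSum l).coeff (n * w⁻¹) * y.coeff w =
        if IsConj l (n * w⁻¹) then y.coeff (classRep c) else 0 := by
    intro w hw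
    simp only [Finset.mem_filter, Finset.mem_univ, true_and] at hw
    obtain ⟨d, rfl⟩ := isConj_iff.mp hw
    rw [coeff_classSum, coeff_conj_of_mem_center hy]
    split_ifs <;> simp
  rw [Finset.sum_congr rfl hterm, ← Finset.sum_filter, Finset.sum_const, Finset.filter_filter,
    nsmul_eq_mul, mul_comm]
  rfl

/-- **Min–max lemma**, counting form.  If the central character of the block of `χ₀` at `l`
and the block idempotent coefficient at `n` are both outside the local ideal, then some class
multiplication constant `a_{l,v,n}` is prime to `p`. -/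
theorem exists_not_dvd_classMulCount {p : ℕ} (hM : IsPModular p M) (χ₀ : IrrCharacter G)
    (l n : G) (hl : ¬ MemLocalIdeal M (centralChar (χ₀ : G → ℂ) l))
    (hn : ¬ MemLocalIdeal M (blockCoeff (blockOf M (χ₀ : G → ℂ)) n)) :
    ∃ v : G, ¬ p ∣ classMulCount l v n := by
  classical
  obtain ⟨y, hy, r, hr, hyr⟩ := exists_classSum_mul_eq χ₀ l hl
  by_contra hcon
  push Not at hcon
  have h1 : (classSum l * (y : MonoidAlgebra ℂ G)).coeff n =
      blockCoeff (blockOf M (χ₀ : G → ℂ)) n - r.coeff n := by
    rw [hyr, coeff_sub, Finsupp.sub_apply, coeff_blockIdem]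
  have h2 : MemLocalIdeal M ((classSum l * (y : MonoidAlgebra ℂ G)).coeff n) := by
    rw [coeff_classSum_mul l n y.2]
    apply memLocalIdeal_sum
    intro c _
    exact memLocalIdeal_mul_left (hy _) ((memLocalIdeal_natCast_iff hM _).mpr (hcon _))
  rw [h1] at h2
  apply hn
  have := memLocalIdeal_add h2 (hr n)
  rwa [sub_add_cancel] at this

/-! ### The fixed point argument -/

omit [Fintype G] in
/-- Conjugation action of a subgroup of the centralizer of `n` on the set counted by
`classMulCount l v n`. -/
@[reducible] def classMulAction (l v n : G) (S : Subgroup G)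
    (hSn : S ≤ Subgroup.centralizer ({n} : Set G)) :
    MulAction S {w : G // IsConj v w ∧ IsConj l (n * w⁻¹)} where
  smul s w := ⟨(s : G) * w.1 * (s : G)⁻¹, w.2.1.trans (isConj_iff.mpr ⟨s, rfl⟩), by
    have hs : (s : G) * n = n * (s : G) := Subgroup.mem_centralizer_singleton_iff.mp (hSn s.2)
    have : n * ((s : G) * w.1 * (s : G)⁻¹)⁻¹ = (s : G) * (n * w.1⁻¹) * (s : G)⁻¹ := by
      calc n * ((s : G) * w.1 * (s : G)⁻¹)⁻¹ = (n * (s : G)) * w.1⁻¹ * (s : G)⁻¹ := by group
        _ = ((s : G) * n) * w.1⁻¹ * (s : G)⁻¹ := by rw [hs]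
        _ = (s : G) * (n * w.1⁻¹) * (s : G)⁻¹ := by group
    rw [this]
    exact w.2.2.trans (isConj_iff.mpr ⟨s, rfl⟩)⟩
  one_smul w := by
    apply Subtype.ext
    show ((1 : S) : G) * w.1 * ((1 : S) : G)⁻¹ = w.1
    simp
  mul_smul s s' w := by
    apply Subtype.ext
    show ((s * s' : S) : G) * w.1 * ((s * s' : S) : G)⁻¹ =
      (s : G) * ((s' : G) * w.1 * (s' : G)⁻¹) * (s : G)⁻¹
    simp only [Subgroup.coe_mul, mul_inv_rev]
    group

/-- If a class multiplication constant `a_{l,v,n}` is prime to `p`, every `p`-subgroup of the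
centralizer of `n` centralizes some conjugate of `l`. -/
theorem exists_isConj_le_centralizer {p : ℕ} [Fact p.Prime] (l v n : G)
    (h : ¬ p ∣ classMulCount l v n) (S : Subgroup G) (hS : IsPGroup p S)
    (hSn : S ≤ Subgroup.centralizer ({n} : Set G)) :
    ∃ u : G, IsConj l u ∧ S ≤ Subgroup.centralizer ({u} : Set G) := by
  classical
  let _ := classMulAction l v n S hSn
  have hcard : Nat.card {w : G // IsConj v w ∧ IsConj l (n * w⁻¹)} = classMulCount l v n := by
    rw [Nat.card_eq_fintype_card, Fintype.card_subtype]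
    rfl
  obtain ⟨w, hw⟩ := hS.nonempty_fixed_point_of_prime_not_dvd_card
    {w : G // IsConj v w ∧ IsConj l (n * w⁻¹)} (by rw [hcard]; exact h)
  refine ⟨n * w.1⁻¹, w.2.2, ?_⟩
  intro s hs
  rw [Subgroup.mem_centralizer_singleton_iff]
  have hfix : (⟨s, hs⟩ : S) • w = w := hw ⟨s, hs⟩
  have hfix' : s * w.1 * s⁻¹ = w.1 := congrArg Subtype.val hfix
  have hsn : s * n = n * s := Subgroup.mem_centralizer_singleton_iff.mp (hSn hs)
  have hc : Commute s w.1 := mul_inv_eq_iff_eq_mul.mp hfix'
  have hsw : s * w.1⁻¹ = w.1⁻¹ * s := hc.inv_right.eq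
  calc s * (n * w.1⁻¹) = (s * n) * w.1⁻¹ := by group
    _ = n * (s * w.1⁻¹) := by rw [hsn]; group
    _ = n * w.1⁻¹ * s := by rw [hsw]; group

end Cfsg.Agent.Lib.Helper16
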