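import Cfsg.Agent.Lib.Helper16.ClassAlgebra
import Cfsg.Agent.Lib.Helper78.CharOrtho

/-!
# Block idempotents in the order `Z(R G)` (Osima), helper16

For a block `B` (relative to a prime ideal `M` of the algebraic integers) there is a central
element `E` of the group algebra with coefficients in the local ring at `M` such that
`ω_ψ(E) = 1` for `ψ ∈ B` and `ω_ψ(E) = 0` for `ψ ∉ B`.
-/

set_option autoImplicit false

namespace Cfsg.Agent.Lib.Helper16

open Cfsg MonoidAlgebra
open scoped ComplexConjugate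

variable {G : Type*} [Group G]

/-- The set of irreducible characters of a finite group is finite. -/
theorem finite_irrCharacter [Finite G] : Finite (IrrCharacter G) := by
  classical
  have := Fintype.ofFinite G
  by_contra h
  rw [not_finite_iff_infinite] at h
  obtain ⟨S, hS⟩ := Infinite.exists_subset_card_eq (IrrCharacter G) (Nat.card (ConjClasses G) + 1)
  have := Cfsg.Agent.S4969.card_le_card_conjClasses S
  omega

section

variable {M : Ideal AlgInt} [hMp : M.IsPrime]

theorem not_memLocalIdeal_prod {ι : Type*} (s : Finset ι) (f : ι → ℂ)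
    (h : ∀ i ∈ s, MemLocalRing M (f i) ∧ ¬ MemLocalIdeal M (f i)) :
    MemLocalRing M (∏ i ∈ s, f i) ∧ ¬ MemLocalIdeal M (∏ i ∈ s, f i) := by
  classical
  induction s using Finset.induction_on with
  | empty =>
    simp only [Finset.prod_empty]
    exact ⟨memLocalRing_one hMp.ne_top, one_not_memLocalIdeal⟩
  | insert a s ha ih =>
    rw [Finset.prod_insert ha]
    have h1 := h a (Finset.mem_insert_self a s)
    have h2 := ih fun i hi => h i (Finset.mem_insert_of_mem hi)
    refine ⟨memLocalRing_mul h1.1 h2.1, ?_⟩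
    rw [memLocalIdeal_mul_iff h1.1 h2.1]
    push Not
    exact ⟨h1.2, h2.2⟩

variable [Fintype G]

/-- Separating element: for `ψ` outside the block of `χ₀` there is an element of the order
whose central character vanishes at `ψ` and is a unit at every member of the block. -/
theorem exists_separating (χ₀ ψ : IrrCharacter G) (hψ : ψ ∉ blockOf M (χ₀ : G → ℂ)) :
    ∃ F ∈ centerOrder G M, omegaHom ψ F = 0 ∧
      ∀ θ ∈ blockOf M (χ₀ : G → ℂ), ¬ MemLocalIdeal M (omegaHom θ F) := by
  have hne : ¬ SameBlock M (χ₀ : G → ℂ) (ψ : G → ℂ) := hψ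
  unfold SameBlock at hne
  push Not at hne
  obtain ⟨g, hg⟩ := hne
  set d := centralChar (χ₀ : G → ℂ) g - centralChar (ψ : G → ℂ) g with hd
  have hR : ∀ θ : IrrCharacter G, MemLocalRing M (centralChar (θ : G → ℂ) g) := fun θ =>
    memLocalRing_of_isIntegral hMp.ne_top (Cfsg.Agent.Lib.Helper79.isIntegral_centralChar θ g)
  have hdR : MemLocalRing M d := memLocalRing_sub (hR χ₀) (hR ψ)
  have hdinv : MemLocalRing M d⁻¹ := memLocalRing_inv hdR hg
  refine ⟨algebraMap ℂ _ d⁻¹ * (classSumC g - algebraMap ℂ _ (centralChar (ψ : G → ℂ) g)),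
    ?_, ?_, ?_⟩
  · exact (centerOrder G M).mul_mem (algebraMap_mem_centerOrder hdinv)
      ((centerOrder G M).sub_mem (classSumC_mem_centerOrder g) (algebraMap_mem_centerOrder (hR ψ)))
  · rw [map_mul, map_sub, AlgHom.commutes, AlgHom.commutes, omegaHom_classSumC]
    simp
  · intro θ hθ
    rw [map_mul, map_sub, AlgHom.commutes, AlgHom.commutes, omegaHom_classSumC]
    simp only [Algebra.algebraMap_self, RingHom.id_apply]
    have hθ' : MemLocalIdeal M (centralChar (χ₀ : G → ℂ) g - centralChar (θ : G → ℂ) g) := hθ g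
    -- `ω_θ(g) - ω_ψ(g) ≡ d`, which is a unit
    have h1 : ¬ MemLocalIdeal M (centralChar (θ : G → ℂ) g - centralChar (ψ : G → ℂ) g) := by
      intro h
      apply hg
      have := memLocalIdeal_add hθ' h
      rwa [sub_add_sub_cancel] at this
    rw [memLocalIdeal_mul_iff hdinv (memLocalRing_sub (hR θ) (hR ψ))]
    push Not
    exact ⟨inv_not_memLocalIdeal hdR hg, h1⟩

/-- **Osima's theorem**, abstract form: for the block `B` of `χ₀` there is a central element `E`
of the group algebra with coefficients in the local ring whose central character is `1` on `B`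
and `0` outside `B`. -/
theorem exists_block_idempotent (χ₀ : IrrCharacter G) :
    ∃ E ∈ centerOrder G M, (∀ ψ ∈ blockOf M (χ₀ : G → ℂ), omegaHom ψ E = 1) ∧
      (∀ ψ : IrrCharacter G, ψ ∉ blockOf M (χ₀ : G → ℂ) → omegaHom ψ E = 0) := by
  classical
  have hfin : Finite (IrrCharacter G) := finite_irrCharacter
  have := Fintype.ofFinite (IrrCharacter G)
  set B := blockOf M (χ₀ : G → ℂ) with hB
  -- choose separating elements
  have hsep : ∀ ψ : IrrCharacter G, ∃ F ∈ centerOrder G M, ψ ∉ B → (omegaHom ψ F = 0 ∧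
      ∀ θ ∈ B, ¬ MemLocalIdeal M (omegaHom θ F)) := by
    intro ψ
    by_cases hψ : ψ ∈ B
    · exact ⟨1, (centerOrder G M).one_mem, fun h => absurd hψ h⟩
    · obtain ⟨F, hF, h1, h2⟩ := exists_separating χ₀ ψ hψ
      exact ⟨F, hF, fun _ => ⟨h1, h2⟩⟩
  choose Fs hFs hFs' using hsep
  set Bc : Finset (IrrCharacter G) := Finset.univ.filter (fun ψ => ψ ∉ B) with hBc
  set Bf : Finset (IrrCharacter G) := Finset.univ.filter (fun ψ => ψ ∈ B) with hBf
  set F := ∏ ψ ∈ Bc, Fs ψ with hF
  have hFmem : F ∈ centerOrder G M := (centerOrder G M).prod_mem fun ψ _ => hFs ψ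
  have hF0 : ∀ ψ, ψ ∉ B → omegaHom ψ F = 0 := by
    intro ψ hψ
    rw [hF, map_prod]
    exact Finset.prod_eq_zero (Finset.mem_filter.mpr ⟨Finset.mem_univ _, hψ⟩) (hFs' ψ hψ).1
  have hFu : ∀ θ ∈ B, MemLocalRing M (omegaHom θ F) ∧ ¬ MemLocalIdeal M (omegaHom θ F) := by
    intro θ hθ
    rw [hF, map_prod]
    apply not_memLocalIdeal_prod
    intro ψ hψ
    have hψ' : ψ ∉ B := (Finset.mem_filter.mp hψ).2
    exact ⟨omegaHom_memLocalRing θ (hFs ψ), (hFs' ψ hψ').2 θ hθ⟩
  -- the polynomial killing the values on `B`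
  set P := ∏ θ ∈ Bf, (F - algebraMap ℂ _ (omegaHom θ F)) with hP
  have hPmem : P ∈ centerOrder G M := (centerOrder G M).prod_mem fun θ hθ =>
    (centerOrder G M).sub_mem hFmem
      (algebraMap_mem_centerOrder (hFu θ (Finset.mem_filter.mp hθ).2).1)
  set d := ∏ θ ∈ Bf, (0 - omegaHom θ F) with hd
  have hdu : MemLocalRing M d ∧ ¬ MemLocalIdeal M d := by
    apply not_memLocalIdeal_prod
    intro θ hθ
    have := hFu θ (Finset.mem_filter.mp hθ).2
    rw [zero_sub]
    exact ⟨memLocalRing_neg this.1, fun h => this.2 (by simpa using memLocalIdeal_neg h)⟩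
  have hd0 : d ≠ 0 := ne_zero_of_not_memLocalIdeal hdu.2
  have hPval : ∀ ψ : IrrCharacter G, omegaHom ψ P = ∏ θ ∈ Bf, (omegaHom ψ F - omegaHom θ F) := by
    intro ψ
    rw [hP, map_prod]
    refine Finset.prod_congr rfl fun θ _ => ?_
    rw [map_sub, AlgHom.commutes]
    rfl
  refine ⟨1 - algebraMap ℂ _ d⁻¹ * P, ?_, ?_, ?_⟩
  · exact (centerOrder G M).sub_mem (centerOrder G M).one_mem
      ((centerOrder G M).mul_mem (algebraMap_mem_centerOrder (memLocalRing_inv hdu.1 hdu.2)) hPmem)
  · intro ψ hψ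
    rw [map_sub, map_one, map_mul, AlgHom.commutes, hPval]
    simp only [Algebra.algebraMap_self, RingHom.id_apply]
    have : ∏ θ ∈ Bf, (omegaHom ψ F - omegaHom θ F) = 0 :=
      Finset.prod_eq_zero (Finset.mem_filter.mpr ⟨Finset.mem_univ _, hψ⟩) (sub_self _)
    rw [this, mul_zero, sub_zero]
  · intro ψ hψ
    rw [map_sub, map_one, map_mul, AlgHom.commutes, hPval]
    simp only [Algebra.algebraMap_self, RingHom.id_apply]
    rw [hF0 ψ hψ, ← hd, inv_mul_cancel₀ hd0, sub_self]

/-! ### Identification with the sum of the central idempotents -/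

omit hMp in
open scoped Classical in
/-- `blockCoeff` as a finite sum. -/
theorem blockCoeff_eq_sum (B : Set (IrrCharacter G)) (g : G) :
    blockCoeff B g = (Nat.card G : ℂ)⁻¹ *
      ∑ χ ∈ Finset.univ.filter (fun χ : IrrCharacter G => χ ∈ B),
        (χ : G → ℂ) 1 * conj ((χ : G → ℂ) g) := by
  unfold blockCoeff
  rw [finsum_mem_eq_sum_of_subset (t := Finset.univ.filter (fun χ : IrrCharacter G => χ ∈ B))
    _ (by intro x hx; simpa using hx.1) (by intro x hx; simpa using hx)]

omit hMp in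
open scoped Classical in
/-- First orthogonality for the coefficients of the sum of the central idempotents of `B`. -/
theorem sum_blockCoeff_mul (B : Set (IrrCharacter G)) (ψ : IrrCharacter G) :
    ∑ g : G, blockCoeff B g * (ψ : G → ℂ) g = if ψ ∈ B then (ψ : G → ℂ) 1 else 0 := by
  have hG : (Nat.card G : ℂ) ≠ 0 := by exact_mod_cast Nat.card_pos.ne'
  simp only [blockCoeff_eq_sum, Finset.mul_sum, Finset.sum_mul]
  rw [Finset.sum_comm]
  have h1 : ∀ χ ∈ Finset.univ.filter (fun χ : IrrCharacter G => χ ∈ B),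
      ∑ g : G, (Nat.card G : ℂ)⁻¹ * ((χ : G → ℂ) 1 * conj ((χ : G → ℂ) g)) * (ψ : G → ℂ) g =
        if ψ = χ then (χ : G → ℂ) 1 else 0 := by
    intro χ _
    have h2 := Cfsg.Agent.S4969.irr_orthogonality ψ χ
    have h3 : ∑ g : G, (Nat.card G : ℂ)⁻¹ * ((χ : G → ℂ) 1 * conj ((χ : G → ℂ) g)) *
        (ψ : G → ℂ) g = (Nat.card G : ℂ)⁻¹ * (χ : G → ℂ) 1 *
          ∑ g : G, (ψ : G → ℂ) g * conj ((χ : G → ℂ) g) := by
      rw [Finset.mul_sum]
      refine Finset.sum_congr rfl fun g _ => ?_
      ring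
    rw [h3, h2, ← Nat.card_eq_fintype_card]
    split_ifs
    · field_simp
    · simp
  rw [Finset.sum_congr rfl h1, Finset.sum_ite_eq]
  simp only [Finset.mem_filter, Finset.mem_univ, true_and]

omit hMp in
theorem blockCoeff_conj (B : Set (IrrCharacter G)) (g h : G) :
    blockCoeff B (h * g * h⁻¹) = blockCoeff B g := by
  classical
  simp only [blockCoeff_eq_sum, irr_conj]

omit hMp in
/-- The element of the order constructed in `exists_block_idempotent` has the block idempotent
coefficients `blockCoeff B g` as its coefficients. -/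
theorem coeff_eq_blockCoeff (χ₀ : IrrCharacter G)
    {E : Subalgebra.center ℂ (MonoidAlgebra ℂ G)}
    (h1 : ∀ ψ ∈ blockOf M (χ₀ : G → ℂ), omegaHom ψ E = 1)
    (h0 : ∀ ψ : IrrCharacter G, ψ ∉ blockOf M (χ₀ : G → ℂ) → omegaHom ψ E = 0) (g : G) :
    (E : MonoidAlgebra ℂ G).coeff g = blockCoeff (blockOf M (χ₀ : G → ℂ)) g := by
  classical
  set B := blockOf M (χ₀ : G → ℂ)
  have hf : IsClassFunction G
      (fun g => (E : MonoidAlgebra ℂ G).coeff g - blockCoeff B g) := by
    intro g h
    simp only [coeff_conj_of_mem_center E.2, blockCoeff_conj]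
  have key := Cfsg.Agent.Lib.Helper78.eq_zero_of_forall_sum_mul_irr_eq_zero hf (by
    intro ψ
    simp only [sub_mul, Finset.sum_sub_distrib, sum_blockCoeff_mul]
    have hψ1 : (ψ : G → ℂ) 1 ≠ 0 := Cfsg.Agent.Lib.Helper79.irr_apply_one_ne_zero ψ
    have hom : ∑ g : G, (E : MonoidAlgebra ℂ G).coeff g * (ψ : G → ℂ) g =
        omegaHom ψ E * (ψ : G → ℂ) 1 := by
      rw [omegaHom_apply]
      unfold omega
      field_simp
    rw [hom]
    by_cases hψ : ψ ∈ B
    · rw [if_pos hψ, h1 ψ hψ, one_mul, sub_self]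
    · rw [if_neg hψ, h0 ψ hψ, zero_mul, sub_zero])
  have := congrFun key g
  simpa [sub_eq_zero] using this

/-- **Osima's theorem**: the coefficients of a block idempotent lie in the local ring. -/
theorem blockCoeff_memLocalRing_blockOf (χ₀ : IrrCharacter G) (g : G) :
    MemLocalRing M (blockCoeff (blockOf M (χ₀ : G → ℂ)) g) := by
  obtain ⟨E, hE, h1, h0⟩ := exists_block_idempotent (M := M) χ₀
  rw [← coeff_eq_blockCoeff χ₀ h1 h0 g]
  exact hE g

theorem blockCoeff_memLocalRing {B : Set (IrrCharacter G)} (hB : IsPBlock M B) (g : G) :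
    MemLocalRing M (blockCoeff B g) := by
  obtain ⟨χ₀, rfl⟩ := hB
  exact blockCoeff_memLocalRing_blockOf χ₀ g

end

end Cfsg.Agent.Lib.Helper16
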