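import Cfsg.Agent.Lib.Helper16.Induced
import Cfsg.Agent.Lib.Helper75.Clifford

/-!
# Blocks and normal subgroups (helper16)

For a normal subgroup `N` of `G` and a `G`-stable set `U` of irreducible characters of `N`, the
sum of the central idempotents of the members of `U` is a central element `stableElt N U` of the
group algebra of `G`.  Its central character at `χ ∈ Irr(G)` is `1` or `0` according to whether the
constituents of `χ` restricted to `N` lie in `U` or not.  When its coefficients are local integers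
(for instance when `p ∤ |N|`, or when `U` is a union of blocks), characters in the same block of
`G` lie over `U` simultaneously.
-/

set_option autoImplicit false

namespace Cfsg.Agent.Lib.Helper16

open Cfsg MonoidAlgebra
open Cfsg.Agent.Lib.Helper75
open scoped ComplexConjugate

universe u

variable {G : Type u} [Group G] [Fintype G] (N : Subgroup G) [hN : N.Normal] [Fintype N]

omit [Fintype G] [Fintype N] in
/-- The conjugate of an irreducible character of the normal subgroup `N`. -/
noncomputable def conjIrrN (g : G) (θ : IrrCharacter N) : IrrCharacter N :=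
  ⟨conjFun N g (θ : N → ℂ), isIrrCharacter_conjFun N θ.2 g⟩

omit [Fintype G] [Fintype N] in
theorem conjIrrN_apply (g : G) (θ : IrrCharacter N) (n : N) :
    (conjIrrN N g θ : N → ℂ) n = (θ : N → ℂ) ⟨g * n * g⁻¹, hN.conj_mem n n.2 g⟩ := rfl

omit [Fintype G] [Fintype N] in
theorem conjIrrN_apply_one (g : G) (θ : IrrCharacter N) :
    (conjIrrN N g θ : N → ℂ) 1 = (θ : N → ℂ) 1 := by
  rw [conjIrrN_apply]
  exact congrArg _ (Subtype.ext (by simp))

omit [Fintype G] [Fintype N] in
theorem conjIrrN_inv_conjIrrN (g : G) (θ : IrrCharacter N) :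
    conjIrrN N g⁻¹ (conjIrrN N g θ) = θ :=
  Subtype.ext (conjFun_inv_conjFun N g (θ : N → ℂ))

omit [Fintype G] [Fintype N] in
theorem conjIrrN_conjIrrN_inv (g : G) (θ : IrrCharacter N) :
    conjIrrN N g (conjIrrN N g⁻¹ θ) = θ :=
  Subtype.ext (conjFun_conjFun_inv N g (θ : N → ℂ))

/-- A set of irreducible characters of `N` is stable under conjugation by `G`. -/
def IsGStable (U : Set (IrrCharacter N)) : Prop :=
  ∀ θ ∈ U, ∀ g : G, conjIrrN N g θ ∈ U

omit [Fintype G] [Fintype N] in
theorem IsGStable.mem_iff {N : Subgroup G} [hN : N.Normal] {U : Set (IrrCharacter N)}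
    (hU : IsGStable N U) (g : G) (θ : IrrCharacter N) : conjIrrN N g θ ∈ U ↔ θ ∈ U := by
  constructor
  · intro h
    have := hU _ h g⁻¹
    rwa [conjIrrN_inv_conjIrrN] at this
  · intro h
    exact hU θ h g

/-- The conjugation permutation of the irreducible characters of `N`. -/
noncomputable def conjIrrNEquiv (g : G) : IrrCharacter N ≃ IrrCharacter N where
  toFun := conjIrrN N g
  invFun := conjIrrN N g⁻¹
  left_inv := conjIrrN_inv_conjIrrN N g
  right_inv := conjIrrN_conjIrrN_inv N g

omit [Fintype G] in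
open scoped Classical in
/-- The idempotent coefficients of a `G`-stable set are invariant under conjugation by `G`. -/
theorem blockCoeff_conjN {U : Set (IrrCharacter N)} (hU : IsGStable N U) (g : G) (n : N) :
    blockCoeff U (⟨g * n * g⁻¹, hN.conj_mem n n.2 g⟩ : N) = blockCoeff U n := by
  rw [blockCoeff_eq_sum, blockCoeff_eq_sum]
  congr 1
  symm
  refine Finset.sum_equiv (conjIrrNEquiv N g⁻¹) ?_ ?_
  · intro θ
    simp only [Finset.mem_filter, Finset.mem_univ, true_and]
    exact (hU.mem_iff g⁻¹ θ).symm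
  · intro θ _
    show _ = (conjIrrN N g⁻¹ θ : N → ℂ) 1 * conj ((conjIrrN N g⁻¹ θ : N → ℂ) _)
    rw [conjIrrN_apply_one, conjIrrN_apply]
    refine congrArg _ (congrArg _ (congrArg _ (Subtype.ext ?_)))
    simp only [inv_inv]
    group

/-- The sum of the central idempotents of the members of `U`, in the group algebra of `G`. -/
noncomputable def stableElt (U : Set (IrrCharacter N)) : MonoidAlgebra ℂ G :=
  ∑ n : N, single (n : G) (blockCoeff U n)

omit [Fintype G] hN in
theorem coeff_stableElt_coe (U : Set (IrrCharacter N)) (n : N) :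
    (stableElt N U).coeff (n : G) = blockCoeff U n := by
  classical
  unfold stableElt
  rw [coeff_sum, Finsupp.finsetSum_apply]
  simp only [coeff_single, Finsupp.single_apply]
  rw [Finset.sum_eq_single n]
  · simp
  · intro m _ hm
    rw [if_neg]
    intro h
    exact hm (Subtype.ext h)
  · intro h
    exact absurd (Finset.mem_univ _) h

omit [Fintype G] hN in
theorem coeff_stableElt_of_not_mem (U : Set (IrrCharacter N)) {g : G} (hg : g ∉ N) :
    (stableElt N U).coeff g = 0 := by
  classical
  unfold stableElt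
  rw [coeff_sum, Finsupp.finsetSum_apply]
  simp only [coeff_single, Finsupp.single_apply]
  apply Finset.sum_eq_zero
  intro m _
  rw [if_neg]
  intro h
  exact hg (h ▸ m.2)

omit [Fintype G] in
theorem stableElt_mem_center {U : Set (IrrCharacter N)} (hU : IsGStable N U) :
    stableElt N U ∈ Subalgebra.center ℂ (MonoidAlgebra ℂ G) := by
  apply mem_center_of_coeff_conj
  intro g h
  by_cases hg : g ∈ N
  · have h1 : h * g * h⁻¹ = ((⟨h * (⟨g, hg⟩ : N) * h⁻¹, hN.conj_mem g hg h⟩ : N) : G) := rfl
    have h2 : g = ((⟨g, hg⟩ : N) : G) := rfl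
    rw [h1, coeff_stableElt_coe]
    conv_rhs => rw [h2, coeff_stableElt_coe]
    exact blockCoeff_conjN N hU h ⟨g, hg⟩
  · rw [coeff_stableElt_of_not_mem N U hg, coeff_stableElt_of_not_mem]
    intro hc
    apply hg
    have := hN.conj_mem _ hc h⁻¹
    simpa [mul_assoc] using this

/-! ### Central characters of `G` on central elements supported on `N` -/

omit [Fintype G] hN in
/-- The restriction of an irreducible character to a subgroup has an irreducible constituent. -/
theorem exists_constituent (χ : IrrCharacter G) :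
    ∃ θ : IrrCharacter N, classInner (fun n : N => (χ : G → ℂ) n) (θ : N → ℂ) ≠ 0 := by
  by_contra h
  push Not at h
  have hres : IsCharacter N (fun n : N => (χ : G → ℂ) n) :=
    isCharacter_res N (Cfsg.Agent.Lib.Helper78.IsIrrCharacter.isCharacter χ.2)
  have h0 := Cfsg.Agent.Lib.Helper78.eq_zero_of_forall_classInner_irr_eq_zero
    (Cfsg.Agent.Lib.Helper78.IsCharacter.isClassFunction hres) h
  have h1 := congrFun h0 1
  exact Cfsg.Agent.Lib.Helper79.irr_apply_one_ne_zero χ h1

omit hN in
open scoped Classical in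
theorem sum_eq_sum_subgroup_of_support (F : G → ℂ) (hF : ∀ g : G, g ∉ N → F g = 0) :
    ∑ g : G, F g = ∑ n : N, F (n : G) := by
  have h1 : ∑ g : G, F g = ∑ g ∈ Finset.univ.filter (· ∈ N), F g := by
    symm
    apply Finset.sum_filter_of_ne
    intro g _ hne
    by_contra hg
    exact hne (hF g hg)
  rw [h1, Finset.sum_subtype (Finset.univ.filter (· ∈ N)) (p := (· ∈ N)) (by simp)]

omit [Fintype G] in
/-- Pairing a `G`-invariant coefficient function with a conjugate of `θ`. -/
theorem sum_coeff_mul_conjFun {z : MonoidAlgebra ℂ G}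
    (hz : z ∈ Subalgebra.center ℂ (MonoidAlgebra ℂ G)) (θ : N → ℂ) (g : G) :
    ∑ n : N, z.coeff (n : G) * conjFun N g θ n = ∑ n : N, z.coeff (n : G) * θ n := by
  refine Fintype.sum_equiv (MulAut.conjNormal (H := N) g).toEquiv _ _ ?_
  intro n
  have h1 : ((MulAut.conjNormal (H := N) g).toEquiv n : G) = g * n * g⁻¹ := by
    simp [MulAut.conjNormal_apply]
  rw [h1, coeff_conj_of_mem_center hz, conjFun_apply]
  refine congrArg _ (congrArg _ (Subtype.ext ?_))
  simp [MulAut.conjNormal_apply]

open scoped Classical in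
/-- For a central element of the group algebra of `G` supported on the normal subgroup `N`, the
central character of `χ ∈ Irr(G)` agrees with that of any constituent `θ` of `χ` restricted to
`N`. -/
theorem omega_eq_omega_resAlg_of_support {z : MonoidAlgebra ℂ G}
    (hz : z ∈ Subalgebra.center ℂ (MonoidAlgebra ℂ G)) (hsupp : ∀ g : G, g ∉ N → z.coeff g = 0)
    (χ : IrrCharacter G) (θ : IrrCharacter N)
    (hθ : classInner (fun n : N => (χ : G → ℂ) n) (θ : N → ℂ) ≠ 0) :
    omega (χ : G → ℂ) z = omega (θ : N → ℂ) (resAlg N z) := by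
  set e := classInner (fun n : N => (χ : G → ℂ) n) (θ : N → ℂ) with he
  have hcl := clifford_finset N χ.2 θ.2 hθ
  have hχn : ∀ n : N, (χ : G → ℂ) n = e * ∑ φ ∈ conjOrbit N (θ : N → ℂ), (φ : N → ℂ) n := by
    intro n
    have := congrFun hcl n
    simp only [Pi.smul_apply, Finset.sum_apply, smul_eq_mul] at this
    exact this
  set A := ∑ n : N, z.coeff (n : G) * (θ : N → ℂ) n with hA
  have hφ : ∀ φ ∈ conjOrbit N (θ : N → ℂ),
      ∑ n : N, z.coeff (n : G) * (φ : N → ℂ) n = A ∧ (φ : N → ℂ) 1 = (θ : N → ℂ) 1 := by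
    intro φ hφ
    obtain ⟨g, hg⟩ := (mem_conjOrbit N).mp hφ
    rw [← hg]
    refine ⟨sum_coeff_mul_conjFun N hz _ g, ?_⟩
    rw [conjFun_apply]
    exact congrArg _ (Subtype.ext (by simp))
  have hθO : θ ∈ conjOrbit N (θ : N → ℂ) := (mem_conjOrbit N).mpr ⟨1, conjFun_one N _⟩
  have hcard : ((conjOrbit N (θ : N → ℂ)).card : ℂ) ≠ 0 := by
    exact_mod_cast (Finset.card_pos.mpr ⟨θ, hθO⟩).ne'
  have h1 : ∑ g : G, z.coeff g * (χ : G → ℂ) g =
      e * ((conjOrbit N (θ : N → ℂ)).card : ℂ) * A := by
    rw [sum_eq_sum_subgroup_of_support N (fun g => z.coeff g * (χ : G → ℂ) g)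
      (fun g hg => by simp [hsupp g hg])]
    simp only [hχn, Finset.mul_sum]
    rw [Finset.sum_comm]
    have : ∀ φ ∈ conjOrbit N (θ : N → ℂ),
        ∑ n : N, z.coeff (n : G) * (e * (φ : N → ℂ) n) = e * A := by
      intro φ hφ'
      rw [← (hφ φ hφ').1, Finset.mul_sum]
      refine Finset.sum_congr rfl fun n _ => ?_
      ring
    rw [Finset.sum_congr rfl this, Finset.sum_const, nsmul_eq_mul]
    ring
  have h2 : (χ : G → ℂ) 1 = e * ((conjOrbit N (θ : N → ℂ)).card : ℂ) * (θ : N → ℂ) 1 := by
    have := hχn 1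
    rw [Subgroup.coe_one] at this
    rw [this, Finset.sum_congr rfl (fun φ hφ' => (hφ φ hφ').2), Finset.sum_const, nsmul_eq_mul]
    ring
  unfold omega
  rw [h1, h2]
  simp only [coeff_resAlg]
  rw [mul_div_mul_left _ _ (mul_ne_zero hθ hcard)]

open scoped Classical in
/-- The central character of `χ` on the idempotent of a `G`-stable set `U`. -/
theorem omega_stableElt {U : Set (IrrCharacter N)} (hU : IsGStable N U) (χ : IrrCharacter G)
    (θ : IrrCharacter N) (hθ : classInner (fun n : N => (χ : G → ℂ) n) (θ : N → ℂ) ≠ 0) :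
    omega (χ : G → ℂ) (stableElt N U) = if θ ∈ U then 1 else 0 := by
  rw [omega_eq_omega_resAlg_of_support N (stableElt_mem_center N hU)
    (fun g hg => coeff_stableElt_of_not_mem N U hg) χ θ hθ]
  unfold omega
  simp only [coeff_resAlg, coeff_stableElt_coe]
  rw [sum_blockCoeff_mul]
  have h1 : (θ : N → ℂ) 1 ≠ 0 := Cfsg.Agent.Lib.Helper79.irr_apply_one_ne_zero θ
  split_ifs
  · exact div_self h1
  · exact zero_div _

section

variable {M : Ideal AlgInt} [hMp : M.IsPrime]

/-- The idempotent of a `G`-stable set with locally integral coefficients lies in the order of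
the centre. -/
theorem stableElt_mem_centerOrder {U : Set (IrrCharacter N)} (hU : IsGStable N U)
    (hR : ∀ n : N, MemLocalRing M (blockCoeff U n)) :
    (⟨stableElt N U, stableElt_mem_center N hU⟩ :
      Subalgebra.center ℂ (MonoidAlgebra ℂ G)) ∈ centerOrder G M := by
  intro g
  show MemLocalRing M ((stableElt N U).coeff g)
  by_cases hg : g ∈ N
  · have h2 : g = ((⟨g, hg⟩ : N) : G) := rfl
    rw [h2, coeff_stableElt_coe]
    exact hR _
  · rw [coeff_stableElt_of_not_mem N U hg]
    exact memLocalRing_zero hMp.ne_top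

open scoped Classical in
/-- Characters of `G` in the same block lie over a `G`-stable set `U` of characters of `N` with
locally integral idempotent simultaneously. -/
theorem constituent_mem_iff_of_sameBlock {U : Set (IrrCharacter N)} (hU : IsGStable N U)
    (hR : ∀ n : N, MemLocalRing M (blockCoeff U n)) {χ ψ : IrrCharacter G}
    (h : SameBlock M (χ : G → ℂ) (ψ : G → ℂ)) {θ φ : IrrCharacter N}
    (hθ : classInner (fun n : N => (χ : G → ℂ) n) (θ : N → ℂ) ≠ 0)
    (hφ : classInner (fun n : N => (ψ : G → ℂ) n) (φ : N → ℂ) ≠ 0) : θ ∈ U ↔ φ ∈ U := by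
  have h1 := sameBlock_omegaHom_congr h (stableElt_mem_centerOrder (M := M) N hU hR)
  rw [omegaHom_apply, omegaHom_apply] at h1
  change MemLocalIdeal M (omega (χ : G → ℂ) (stableElt N U) - omega (ψ : G → ℂ) (stableElt N U))
    at h1
  rw [omega_stableElt N hU χ θ hθ, omega_stableElt N hU ψ φ hφ] at h1
  by_cases h2 : θ ∈ U <;> by_cases h3 : φ ∈ U
  · exact ⟨fun _ => h3, fun _ => h2⟩
  · rw [if_pos h2, if_neg h3, sub_zero] at h1
    exact absurd h1 one_not_memLocalIdeal
  · rw [if_neg h2, if_pos h3, zero_sub, memLocalIdeal_neg_iff] at h1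
    exact absurd h1 one_not_memLocalIdeal
  · exact ⟨fun h => absurd h h2, fun h => absurd h h3⟩

end

/-! ### Normal subgroups of order prime to `p` -/

open scoped Classical in
omit [Fintype G] hN in
/-- If `p ∤ |N|`, every sum of central idempotents of `N` has locally integral coefficients. -/
theorem blockCoeff_memLocalRing_of_not_dvd {p : ℕ} {M : Ideal AlgInt} (hM : IsPModular p M)
    (hp : ¬ p ∣ Nat.card N) (U : Set (IrrCharacter N)) (n : N) :
    MemLocalRing M (blockCoeff U n) := by
  have hMp := isPModular_isPrime hM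
  rw [blockCoeff_eq_sum]
  apply memLocalRing_mul (memLocalRing_inv_natCast hM hp)
  apply memLocalRing_sum
  intro θ _
  apply memLocalRing_mul
  · exact memLocalRing_of_isIntegral hMp.ne_top (Cfsg.Agent.Lib.Helper79.isIntegral_irr θ 1)
  · apply memLocalRing_of_isIntegral hMp.ne_top
    have := Cfsg.Agent.Lib.Helper79.isIntegral_irr θ n
    exact this.map (starRingEnd ℂ : ℂ →+* ℂ).toIntAlgHom

/-- The set of `G`-conjugates of an irreducible character of `N`. -/
def conjSet (θ : IrrCharacter N) : Set (IrrCharacter N) :=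
  {φ | ∃ g : G, conjIrrN N g θ = φ}

omit [Fintype G] [Fintype N] in
theorem self_mem_conjSet (θ : IrrCharacter N) : θ ∈ conjSet N θ :=
  ⟨1, Subtype.ext (conjFun_one N _)⟩

omit [Fintype G] [Fintype N] in
theorem isGStable_conjSet (θ : IrrCharacter N) : IsGStable N (conjSet N θ) := by
  rintro _ ⟨g, rfl⟩ g'
  exact ⟨g * g', Subtype.ext (conjFun_mul N g g' _)⟩

omit [Fintype G] in
/-- Conjugate characters of `N` occur together in the restriction of a character of `G`. -/
theorem classInner_res_conjIrrN (χ : IrrCharacter G) (g : G) (θ : IrrCharacter N) :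
    classInner (fun n : N => (χ : G → ℂ) n) (conjIrrN N g θ : N → ℂ) =
      classInner (fun n : N => (χ : G → ℂ) n) (θ : N → ℂ) :=
  classInner_res_conjFun N (fun a b => irr_conj χ a b) g _

/-- If `N` is a normal subgroup of order prime to `p`, two irreducible characters of `G` in the
same `p`-block have the same irreducible constituents on `N`. -/
theorem constituent_iff_of_sameBlock_of_not_dvd {p : ℕ} {M : Ideal AlgInt} (hM : IsPModular p M)
    (hp : ¬ p ∣ Nat.card N) {χ ψ : IrrCharacter G}
    (h : SameBlock M (χ : G → ℂ) (ψ : G → ℂ)) (θ : IrrCharacter N) :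
    classInner (fun n : N => (χ : G → ℂ) n) (θ : N → ℂ) ≠ 0 ↔
      classInner (fun n : N => (ψ : G → ℂ) n) (θ : N → ℂ) ≠ 0 := by
  have hMp := isPModular_isPrime hM
  have key : ∀ {χ ψ : IrrCharacter G}, SameBlock M (χ : G → ℂ) (ψ : G → ℂ) →
      classInner (fun n : N => (χ : G → ℂ) n) (θ : N → ℂ) ≠ 0 →
      classInner (fun n : N => (ψ : G → ℂ) n) (θ : N → ℂ) ≠ 0 := by
    intro χ ψ h hθ
    obtain ⟨φ, hφ⟩ := exists_constituent N ψ
    have := (constituent_mem_iff_of_sameBlock (M := M) N (isGStable_conjSet N θ)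
      (blockCoeff_memLocalRing_of_not_dvd N hM hp _) h hθ hφ).mp (self_mem_conjSet N θ)
    obtain ⟨g, rfl⟩ := this
    rwa [classInner_res_conjIrrN] at hφ
  exact ⟨key h, key (sameBlock_symm h)⟩

/-! ### Characters trivial on a normal subgroup of order prime to `p` -/

omit [Fintype G] [Fintype N] hN in
/-- The principal character of `N` as an irreducible character. -/
noncomputable def oneIrr : IrrCharacter N :=
  ⟨fun _ => 1, Cfsg.Agent.Lib.Helper78.isIrrCharacter_one⟩

omit [Fintype G] [Fintype N] in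
theorem isGStable_singleton_oneIrr : IsGStable N ({oneIrr N} : Set (IrrCharacter N)) := by
  intro θ hθ g
  rw [Set.mem_singleton_iff] at hθ ⊢
  subst hθ
  exact Subtype.ext rfl

omit [Fintype G] hN in
/-- If `χ` is constant on `N`, the principal character of `N` is a constituent. -/
theorem classInner_res_oneIrr_ne_zero (χ : IrrCharacter G)
    (hχ : ∀ n ∈ N, (χ : G → ℂ) n = (χ : G → ℂ) 1) :
    classInner (fun n : N => (χ : G → ℂ) n) (oneIrr N : N → ℂ) ≠ 0 := by
  unfold classInner
  have h1 : ∑ n : N, (χ : G → ℂ) n * conj ((oneIrr N : N → ℂ) n) =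
      (Nat.card N : ℂ) * (χ : G → ℂ) 1 := by
    have : ∀ n : N, (χ : G → ℂ) n * conj ((oneIrr N : N → ℂ) n) = (χ : G → ℂ) 1 := by
      intro n
      show (χ : G → ℂ) n * conj (1 : ℂ) = _
      rw [map_one, mul_one, hχ n n.2]
    rw [Finset.sum_congr rfl (fun n _ => this n), Finset.sum_const, Finset.card_univ,
      nsmul_eq_mul, Nat.card_eq_fintype_card]
  rw [h1]
  have hN0 : (Nat.card N : ℂ) ≠ 0 := by exact_mod_cast Nat.card_pos.ne'
  rw [← mul_assoc, inv_mul_cancel₀ hN0, one_mul]
  exact Cfsg.Agent.Lib.Helper79.irr_apply_one_ne_zero χ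

/-- If the principal character of `N` is a constituent of `ψ` restricted to `N`, then `ψ` is
constant on `N`. -/
theorem eq_apply_one_of_classInner_res_oneIrr_ne_zero (ψ : IrrCharacter G)
    (hψ : classInner (fun n : N => (ψ : G → ℂ) n) (oneIrr N : N → ℂ) ≠ 0) (n : N) :
    (ψ : G → ℂ) n = (ψ : G → ℂ) 1 := by
  have hcl := clifford_finset N ψ.2 (oneIrr N).2 hψ
  have h1 := congrFun hcl n
  have h2 := congrFun hcl 1
  simp only [Pi.smul_apply, Finset.sum_apply, smul_eq_mul] at h1 h2
  rw [Subgroup.coe_one] at h2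
  rw [h1, h2]
  congr 1
  refine Finset.sum_congr rfl fun φ hφ => ?_
  obtain ⟨g, hg⟩ := (mem_conjOrbit N).mp hφ
  rw [← hg]
  rfl

/-- If `N` is a normal subgroup of order prime to `p` and `χ` is constant on `N`, every
character in the block of `χ` is constant on `N`. -/
theorem eq_apply_one_of_sameBlock_of_not_dvd {p : ℕ} {M : Ideal AlgInt} (hM : IsPModular p M)
    (hp : ¬ p ∣ Nat.card N) {χ ψ : IrrCharacter G}
    (h : SameBlock M (χ : G → ℂ) (ψ : G → ℂ))
    (hχ : ∀ n ∈ N, (χ : G → ℂ) n = (χ : G → ℂ) 1) (n : G) (hn : n ∈ N) :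
    (ψ : G → ℂ) n = (ψ : G → ℂ) 1 :=
  eq_apply_one_of_classInner_res_oneIrr_ne_zero N ψ
    ((constituent_iff_of_sameBlock_of_not_dvd N hM hp h (oneIrr N)).mp
      (classInner_res_oneIrr_ne_zero N χ hχ)) ⟨n, hn⟩

end Cfsg.Agent.Lib.Helper16
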