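import Cfsg.Agent.Lib.Helper16.BrauerCC
import Cfsg.Agent.Lib.Helper16.NormalSub

/-!
# The Brauer map (helper16)

For a `p`-subgroup `P` of `G` and `C_G(P) ≤ H ≤ N_G(P)`, the linear map `brP P H : ℂG → ℂH`
keeps the coefficients at the elements of `C_G(P)`.  It maps the centre into the centre and is
multiplicative modulo the local ideal on central elements with locally integral coefficients.
-/

set_option autoImplicit false

namespace Cfsg.Agent.Lib.Helper16

open Cfsg MonoidAlgebra
open scoped ComplexConjugate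

universe u

variable {G : Type u} [Group G] [Fintype G]

open scoped Classical in
/-- The Brauer map: keep the coefficients at the elements of `C_G(P)` (viewed in `H`). -/
noncomputable def brP (P H : Subgroup G) [Fintype H] (z : MonoidAlgebra ℂ G) :
    MonoidAlgebra ℂ H :=
  ofFun (fun h : H => if (h : G) ∈ Subgroup.centralizer (P : Set G) then z.coeff (h : G) else 0)

open scoped Classical in
omit [Fintype G] in
theorem coeff_brP (P H : Subgroup G) [Fintype H] (z : MonoidAlgebra ℂ G) (h : H) :
    (brP P H z).coeff h =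
      if (h : G) ∈ Subgroup.centralizer (P : Set G) then z.coeff (h : G) else 0 := by
  unfold brP
  rw [coeff_ofFun]

omit [Fintype G] in
theorem brP_add (P H : Subgroup G) [Fintype H] (z w : MonoidAlgebra ℂ G) :
    brP P H (z + w) = brP P H z + brP P H w := by
  classical
  ext h
  rw [coeff_add, Finsupp.add_apply, coeff_brP, coeff_brP, coeff_brP, coeff_add, Finsupp.add_apply]
  split_ifs <;> simp

omit [Fintype G] in
theorem brP_smul (P H : Subgroup G) [Fintype H] (a : ℂ) (z : MonoidAlgebra ℂ G) :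
    brP P H (a • z) = a • brP P H z := by
  classical
  ext h
  rw [coeff_smul, Finsupp.smul_apply, coeff_brP, coeff_brP, coeff_smul, Finsupp.smul_apply]
  split_ifs <;> simp

omit [Fintype G] in
theorem brP_sub (P H : Subgroup G) [Fintype H] (z w : MonoidAlgebra ℂ G) :
    brP P H (z - w) = brP P H z - brP P H w := by
  classical
  ext h
  rw [coeff_sub, Finsupp.sub_apply, coeff_brP, coeff_brP, coeff_brP, coeff_sub, Finsupp.sub_apply]
  split_ifs <;> simp

omit [Fintype G] in
theorem brP_one (P H : Subgroup G) [Fintype H] : brP P H (1 : MonoidAlgebra ℂ G) = 1 := by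
  classical
  ext h
  rw [coeff_brP, coeff_one_apply, coeff_one_apply]
  by_cases h1 : h = 1
  · subst h1
    simp
  · have h2 : (h : G) ≠ 1 := fun hc => h1 (Subtype.ext hc)
    rw [if_neg h2, if_neg h1]
    simp

omit [Fintype G] in
theorem brP_mem_center (P H : Subgroup G) [Fintype H]
    (hHN : H ≤ Subgroup.normalizer (P : Set G)) {z : MonoidAlgebra ℂ G}
    (hz : z ∈ Subalgebra.center ℂ (MonoidAlgebra ℂ G)) :
    brP P H z ∈ Subalgebra.center ℂ (MonoidAlgebra ℂ H) := by
  classical
  apply mem_center_of_coeff_conj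
  intro h k
  rw [coeff_brP, coeff_brP]
  have h2 := conj_mem_centralizer_iff P H hHN h k
  have h3 : z.coeff ((k * h * k⁻¹ : H) : G) = z.coeff (h : G) := by
    push_cast
    exact coeff_conj_of_mem_center hz _ _
  simp only [h2, h3]

open scoped Classical in
/-- The Brauer central character is the central character on the Brauer image of the class
sum. -/
theorem omega_brP_classSum (P H : Subgroup G) [Fintype H] (ξ : H → ℂ) (g : G) :
    omega ξ (brP P H (classSum g)) = brauerCentralChar P H ξ g := by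
  unfold omega brauerCentralChar
  rw [finsum_mem_eq_sum_of_subset (t := Finset.univ.filter (fun h : H => IsConj g (h : G) ∧
      (h : G) ∈ Subgroup.centralizer (P : Set G)))
      _ (by intro x hx; simpa using hx.1) (by intro x hx; simpa using hx)]
  rw [Finset.sum_div, Finset.sum_filter]
  refine Finset.sum_congr rfl fun h _ => ?_
  rw [coeff_brP, coeff_classSum]
  by_cases h1 : IsConj g (h : G) <;> by_cases h2 : (h : G) ∈ Subgroup.centralizer (P : Set G)
  · rw [if_pos h2, if_pos h1, if_pos ⟨h1, h2⟩, one_mul]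
  · rw [if_neg h2, if_neg (fun hc => h2 hc.2), zero_mul, zero_div]
  · rw [if_pos h2, if_neg h1, if_neg (fun hc => h1 hc.1), zero_mul, zero_div]
  · rw [if_neg h2, if_neg (fun hc => h2 hc.2), zero_mul, zero_div]

section

variable {M : Ideal AlgInt}

omit [Fintype G] in
theorem brP_coeffsInRing [hMp : M.IsPrime] (P H : Subgroup G) [Fintype H]
    {z : MonoidAlgebra ℂ G} (hz : CoeffsInRing M z) : CoeffsInRing M (brP P H z) := by
  classical
  intro h
  rw [coeff_brP]
  split_ifs
  · exact hz _
  · exact memLocalRing_zero hMp.ne_top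

omit [Fintype G] in
theorem brP_coeffsInIdeal [hMp : M.IsPrime] (P H : Subgroup G) [Fintype H]
    {z : MonoidAlgebra ℂ G} (hz : CoeffsInIdeal M z) : CoeffsInIdeal M (brP P H z) := by
  classical
  intro h
  rw [coeff_brP]
  split_ifs
  · exact hz _
  · exact memLocalIdeal_zero hMp.ne_top

end

/-! ### Multiplicativity modulo the ideal -/

omit [Fintype G] in
/-- Conjugation action of `P` on the pairs `(x, x⁻¹ c)` in given classes with `x` not
centralizing `P`, for `c` centralizing `P`. -/
@[reducible] def brauerFibreAction (P : Subgroup G) (c : G)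
    (hc : c ∈ Subgroup.centralizer (P : Set G)) (c₁ c₂ : ConjClasses G) :
    MulAction P {x : G // x ∉ Subgroup.centralizer (P : Set G) ∧ ConjClasses.mk x = c₁ ∧
      ConjClasses.mk (x⁻¹ * c) = c₂} where
  smul u x := ⟨(u : G) * x.1 * (u : G)⁻¹, by
    intro hy
    apply x.2.1
    have hu := (Subgroup.mem_centralizer_iff.mp hy) (u : G) u.2
    have : x.1 = (u : G)⁻¹ * ((u : G) * x.1 * (u : G)⁻¹) * (u : G) := by group
    rw [this, mul_assoc, ← hu, ← mul_assoc, inv_mul_cancel, one_mul]
    exact hy, by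
    refine Eq.trans ?_ x.2.2.1
    rw [ConjClasses.mk_eq_mk_iff_isConj]
    exact isConj_iff.mpr ⟨(u : G)⁻¹, by group⟩, by
    refine Eq.trans ?_ x.2.2.2
    rw [ConjClasses.mk_eq_mk_iff_isConj]
    have hu := (Subgroup.mem_centralizer_iff.mp hc) (u : G) u.2
    refine isConj_iff.mpr ⟨(u : G)⁻¹, ?_⟩
    calc (u : G)⁻¹ * (((u : G) * x.1 * (u : G)⁻¹)⁻¹ * c) * (u : G)⁻¹⁻¹
        = x.1⁻¹ * ((u : G)⁻¹ * (c * (u : G))) := by group
      _ = x.1⁻¹ * ((u : G)⁻¹ * ((u : G) * c)) := by rw [hu]
      _ = x.1⁻¹ * c := by group⟩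
  one_smul x := by
    apply Subtype.ext
    show ((1 : P) : G) * x.1 * ((1 : P) : G)⁻¹ = x.1
    simp
  mul_smul s s' x := by
    apply Subtype.ext
    show ((s * s' : P) : G) * x.1 * ((s * s' : P) : G)⁻¹ =
      (s : G) * ((s' : G) * x.1 * (s' : G)⁻¹) * (s : G)⁻¹
    simp only [Subgroup.coe_mul, mul_inv_rev]
    group

omit [Fintype G] in
/-- The fibres of `x ↦ (class of x, class of x⁻¹ c)` outside the centralizer of the `p`-group `P`
have cardinality divisible by `p`. -/
theorem dvd_card_brauerFibre {p : ℕ} [Fact p.Prime] (P : Subgroup G) (hP : IsPGroup p P) (c : G)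
    (hc : c ∈ Subgroup.centralizer (P : Set G)) (c₁ c₂ : ConjClasses G) :
    p ∣ Nat.card {x : G // x ∉ Subgroup.centralizer (P : Set G) ∧ ConjClasses.mk x = c₁ ∧
      ConjClasses.mk (x⁻¹ * c) = c₂} := by
  classical
  let _ := brauerFibreAction P c hc c₁ c₂
  by_contra hnd
  obtain ⟨x, hx⟩ := hP.nonempty_fixed_point_of_prime_not_dvd_card
    {x : G // x ∉ Subgroup.centralizer (P : Set G) ∧ ConjClasses.mk x = c₁ ∧
      ConjClasses.mk (x⁻¹ * c) = c₂} hnd
  apply x.2.1
  rw [Subgroup.mem_centralizer_iff]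
  intro u hu
  have hfix : (⟨u, hu⟩ : P) • x = x := hx ⟨u, hu⟩
  have hfix' : u * x.1 * u⁻¹ = x.1 := congrArg Subtype.val hfix
  exact (mul_inv_eq_iff_eq_mul.mp hfix')

section

variable {M : Ideal AlgInt}

omit [Fintype G] in
theorem coeff_eq_coeff_classRep {z : MonoidAlgebra ℂ G}
    (hz : z ∈ Subalgebra.center ℂ (MonoidAlgebra ℂ G)) (x : G) :
    z.coeff x = z.coeff (classRep (ConjClasses.mk x)) := by
  obtain ⟨d, hd⟩ := isConj_iff.mp (isConj_classRep_mk x)
  conv_lhs => rw [← hd, coeff_conj_of_mem_center hz]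

open scoped Classical in
/-- The part of a convolution at `c ∈ C_G(P)` coming from the elements outside `C_G(P)` lies in
the local ideal. -/
theorem sum_not_mem_centralizer_memLocalIdeal {p : ℕ} [Fact p.Prime] (hM : IsPModular p M)
    (P : Subgroup G) (hP : IsPGroup p P) (c : G) (hc : c ∈ Subgroup.centralizer (P : Set G))
    {z w : MonoidAlgebra ℂ G} (hz : z ∈ Subalgebra.center ℂ (MonoidAlgebra ℂ G))
    (hw : w ∈ Subalgebra.center ℂ (MonoidAlgebra ℂ G)) (hzR : CoeffsInRing M z)
    (hwR : CoeffsInRing M w) :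
    MemLocalIdeal M (∑ x ∈ Finset.univ.filter (fun x : G => x ∉ Subgroup.centralizer (P : Set G)),
      z.coeff x * w.coeff (x⁻¹ * c)) := by
  have hMp := isPModular_isPrime hM
  rw [← Finset.sum_fiberwise_of_maps_to
    (s := Finset.univ.filter (fun x : G => x ∉ Subgroup.centralizer (P : Set G)))
    (t := (Finset.univ : Finset (ConjClasses G × ConjClasses G)))
    (g := fun x : G => (ConjClasses.mk x, ConjClasses.mk (x⁻¹ * c)))
    (fun _ _ => Finset.mem_univ _)]
  apply memLocalIdeal_sum
  rintro ⟨c₁, c₂⟩ _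
  have hconst : ∀ x ∈ (Finset.univ.filter
      (fun x : G => x ∉ Subgroup.centralizer (P : Set G))).filter
      (fun x : G => (ConjClasses.mk x, ConjClasses.mk (x⁻¹ * c)) = (c₁, c₂)),
      z.coeff x * w.coeff (x⁻¹ * c) = z.coeff (classRep c₁) * w.coeff (classRep c₂) := by
    intro x hx
    have h2 := (Finset.mem_filter.mp hx).2
    rw [Prod.mk.injEq] at h2
    rw [coeff_eq_coeff_classRep hz x, coeff_eq_coeff_classRep hw (x⁻¹ * c), h2.1, h2.2]
  rw [Finset.sum_congr rfl hconst, Finset.sum_const, nsmul_eq_mul]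
  apply memLocalIdeal_mul_right _ (memLocalRing_mul (hzR _) (hwR _))
  rw [memLocalIdeal_natCast_iff hM]
  have hcard : ((Finset.univ.filter
      (fun x : G => x ∉ Subgroup.centralizer (P : Set G))).filter
      (fun x : G => (ConjClasses.mk x, ConjClasses.mk (x⁻¹ * c)) = (c₁, c₂))).card =
      Nat.card {x : G // x ∉ Subgroup.centralizer (P : Set G) ∧ ConjClasses.mk x = c₁ ∧
        ConjClasses.mk (x⁻¹ * c) = c₂} := by
    rw [Nat.card_eq_fintype_card, Fintype.card_subtype, Finset.filter_filter]
    congr 1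
    ext x
    simp only [Finset.mem_filter, Finset.mem_univ, true_and, Prod.mk.injEq]
  rw [hcard]
  exact dvd_card_brauerFibre P hP c hc c₁ c₂

open scoped Classical in
/-- **The Brauer map is multiplicative modulo the ideal** on central elements with locally
integral coefficients. -/
theorem brP_mul_coeffsInIdeal {p : ℕ} [Fact p.Prime] (hM : IsPModular p M)
    (P H : Subgroup G) [Fintype H] (hP : IsPGroup p P)
    (hCH : Subgroup.centralizer (P : Set G) ≤ H)
    {z w : MonoidAlgebra ℂ G} (hz : z ∈ Subalgebra.center ℂ (MonoidAlgebra ℂ G))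
    (hw : w ∈ Subalgebra.center ℂ (MonoidAlgebra ℂ G)) (hzR : CoeffsInRing M z)
    (hwR : CoeffsInRing M w) :
    CoeffsInIdeal M (brP P H (z * w) - brP P H z * brP P H w) := by
  have hMp := isPModular_isPrime hM
  intro c
  have hR : (brP P H z * brP P H w).coeff c =
      ∑ x : H, (if (x : G) ∈ Subgroup.centralizer (P : Set G) then z.coeff (x : G) else 0) *
        (if ((x⁻¹ * c : H) : G) ∈ Subgroup.centralizer (P : Set G)
          then w.coeff ((x⁻¹ * c : H) : G) else 0) := by
    rw [coeff_mul_apply_left, Finsupp.sum_fintype _ _ (by simp)]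
    simp only [coeff_brP]
  have hL : (z * w).coeff (c : G) = ∑ x : G, z.coeff x * w.coeff (x⁻¹ * c) := by
    rw [coeff_mul_apply_left, Finsupp.sum_fintype _ _ (by simp)]
  rw [coeff_sub, Finsupp.sub_apply, hR, coeff_brP, hL]
  by_cases hc : (c : G) ∈ Subgroup.centralizer (P : Set G)
  · rw [if_pos hc]
    -- the sum over `H` is the part of the sum over `G` inside the centralizer
    have h1 : ∑ x : H, (if (x : G) ∈ Subgroup.centralizer (P : Set G) then z.coeff (x : G) else 0) *
        (if ((x⁻¹ * c : H) : G) ∈ Subgroup.centralizer (P : Set G)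
          then w.coeff ((x⁻¹ * c : H) : G) else 0) =
        ∑ x ∈ Finset.univ.filter (fun x : G => x ∈ Subgroup.centralizer (P : Set G)),
          z.coeff x * w.coeff (x⁻¹ * c) := by
      rw [Finset.sum_filter]
      rw [sum_eq_sum_subgroup_of_support H
        (fun x : G => if x ∈ Subgroup.centralizer (P : Set G) then z.coeff x * w.coeff (x⁻¹ * c)
          else 0) (fun g hg => if_neg (fun hgc => hg (hCH hgc)))]
      refine Finset.sum_congr rfl fun x _ => ?_
      by_cases hx : (x : G) ∈ Subgroup.centralizer (P : Set G)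
      · have hxc : ((x⁻¹ * c : H) : G) ∈ Subgroup.centralizer (P : Set G) := by
          push_cast
          exact Subgroup.mul_mem _ (Subgroup.inv_mem _ hx) hc
        rw [if_pos hx, if_pos hxc, if_pos hx]
        push_cast
        rfl
      · rw [if_neg hx, if_neg hx, zero_mul]
    rw [h1, ← Finset.sum_filter_add_sum_filter_not Finset.univ
      (fun x : G => x ∈ Subgroup.centralizer (P : Set G)), add_sub_cancel_left]
    exact sum_not_mem_centralizer_memLocalIdeal hM P hP c hc hz hw hzR hwR
  · rw [if_neg hc, zero_sub, memLocalIdeal_neg_iff]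
    apply memLocalIdeal_sum
    intro x _
    by_cases hx : (x : G) ∈ Subgroup.centralizer (P : Set G)
    · have hxc : ((x⁻¹ * c : H) : G) ∉ Subgroup.centralizer (P : Set G) := by
        intro hxc
        apply hc
        have := Subgroup.mul_mem _ hx hxc
        push_cast at this
        simpa using this
      rw [if_neg hxc, mul_zero]
      exact memLocalIdeal_zero hMp.ne_top
    · rw [if_neg hx, zero_mul]
      exact memLocalIdeal_zero hMp.ne_top

end

/-! ### Functionals that are multiplicative modulo the ideal -/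

section

variable {M : Ideal AlgInt} [hMp : M.IsPrime]

/-- A linear functional on the group algebra which, on the order of the centre, takes values in
the local ring, is multiplicative modulo the local ideal and maps elements with coefficients in the
local ideal into the local ideal, is congruent on that order to the central character of some
irreducible character. -/
theorem exists_irr_of_hom_mod_ideal (Λ : MonoidAlgebra ℂ G →ₗ[ℂ] ℂ) (h1 : Λ 1 = 1)
    (hR : ∀ z : Subalgebra.center ℂ (MonoidAlgebra ℂ G), z ∈ centerOrder G M →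
      MemLocalRing M (Λ (z : MonoidAlgebra ℂ G)))
    (hI : ∀ z : Subalgebra.center ℂ (MonoidAlgebra ℂ G),
      CoeffsInIdeal M (z : MonoidAlgebra ℂ G) → MemLocalIdeal M (Λ (z : MonoidAlgebra ℂ G)))
    (hmul : ∀ z w : Subalgebra.center ℂ (MonoidAlgebra ℂ G), z ∈ centerOrder G M →
      w ∈ centerOrder G M →
      MemLocalIdeal M (Λ ((z * w : Subalgebra.center ℂ (MonoidAlgebra ℂ G)) : MonoidAlgebra ℂ G) -
        Λ (z : MonoidAlgebra ℂ G) * Λ (w : MonoidAlgebra ℂ G))) :
    ∃ χ₀ : IrrCharacter G, ∀ z : Subalgebra.center ℂ (MonoidAlgebra ℂ G), z ∈ centerOrder G M →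
      MemLocalIdeal M (Λ (z : MonoidAlgebra ℂ G) - omegaHom χ₀ z) := by
  classical
  -- Step 1: some block idempotent is not mapped into the ideal
  have step1 : ∃ χ₀ : IrrCharacter G,
      ¬ MemLocalIdeal M (Λ ((blockIdem M χ₀ : Subalgebra.center ℂ (MonoidAlgebra ℂ G)) :
        MonoidAlgebra ℂ G)) := by
    by_contra hall
    push Not at hall
    have key : ∀ S : Finset (IrrCharacter G),
        (∏ χ ∈ S, (1 - blockIdem M χ) ∈ centerOrder G M) ∧
        MemLocalIdeal M (Λ ((∏ χ ∈ S, (1 - blockIdem M χ) :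
          Subalgebra.center ℂ (MonoidAlgebra ℂ G)) : MonoidAlgebra ℂ G) - 1) := by
      intro S
      induction S using Finset.induction_on with
      | empty =>
        refine ⟨by simp, ?_⟩
        simp only [Finset.prod_empty, OneMemClass.coe_one, h1, sub_self]
        exact memLocalIdeal_zero hMp.ne_top
      | insert a S ha ih =>
        obtain ⟨ih1, ih2⟩ := ih
        have hfac : (1 - blockIdem M a) ∈ centerOrder G M :=
          (centerOrder G M).sub_mem (centerOrder G M).one_mem (blockIdem_mem a)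
        rw [Finset.prod_insert ha]
        refine ⟨(centerOrder G M).mul_mem hfac ih1, ?_⟩
        have h2 := hmul _ _ hfac ih1
        have h3 : Λ ((1 - blockIdem M a : Subalgebra.center ℂ (MonoidAlgebra ℂ G)) :
            MonoidAlgebra ℂ G) = 1 - Λ ((blockIdem M a : Subalgebra.center ℂ (MonoidAlgebra ℂ G)) :
              MonoidAlgebra ℂ G) := by
          push_cast
          rw [map_sub, h1]
        rw [h3] at h2
        refine memLocalIdeal_sub_trans h2 ?_
        have hPR := hR _ ih1
        set x := Λ ((∏ χ ∈ S, (1 - blockIdem M χ) :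
          Subalgebra.center ℂ (MonoidAlgebra ℂ G)) : MonoidAlgebra ℂ G) with hx
        have e : (1 - Λ ((blockIdem M a : Subalgebra.center ℂ (MonoidAlgebra ℂ G)) :
            MonoidAlgebra ℂ G)) * x - 1 = (x - 1) -
            Λ ((blockIdem M a : Subalgebra.center ℂ (MonoidAlgebra ℂ G)) :
              MonoidAlgebra ℂ G) * x := by ring
        rw [e]
        exact memLocalIdeal_sub ih2 (memLocalIdeal_mul_right (hall a) hPR)
    have hzero : ∏ χ ∈ (Finset.univ : Finset (IrrCharacter G)), (1 - blockIdem M χ) = 0 := by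
      apply eq_zero_of_forall_omegaHom_eq_zero
      intro θ
      rw [map_prod]
      apply Finset.prod_eq_zero (Finset.mem_univ θ)
      rw [map_sub, map_one, omegaHom_blockIdem_of_mem θ (self_mem_blockOf hMp.ne_top θ), sub_self]
    have h4 := (key Finset.univ).2
    rw [hzero] at h4
    simp only [ZeroMemClass.coe_zero, map_zero, zero_sub] at h4
    exact one_not_memLocalIdeal (memLocalIdeal_neg_iff.mp h4)
  obtain ⟨χ₀, hχ₀⟩ := step1
  refine ⟨χ₀, fun z hz => ?_⟩
  set e := blockIdem M χ₀ with he
  have heO : e ∈ centerOrder G M := blockIdem_mem χ₀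
  set a := omegaHom χ₀ z with ha
  have haR : MemLocalRing M a := omegaHom_memLocalRing χ₀ hz
  set u : Subalgebra.center ℂ (MonoidAlgebra ℂ G) := z - algebraMap ℂ _ a with hu
  have huO : u ∈ centerOrder G M := (centerOrder G M).sub_mem hz (algebraMap_mem_centerOrder haR)
  set y := u * e with hy
  have hyO : y ∈ centerOrder G M := (centerOrder G M).mul_mem huO heO
  have hω : ∀ ψ : IrrCharacter G, MemLocalIdeal M (omegaHom ψ y) := by
    intro ψ
    rw [hy, hu, map_mul, map_sub, AlgHom.commutes]
    by_cases hψ : ψ ∈ blockOf M (χ₀ : G → ℂ)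
    · rw [omegaHom_blockIdem_of_mem χ₀ hψ, mul_one]
      simp only [Algebra.algebraMap_self, RingHom.id_apply]
      exact memLocalIdeal_sub_comm.mp (sameBlock_omegaHom_congr hψ hz)
    · rw [omegaHom_blockIdem_of_not_mem χ₀ hψ, mul_zero]
      exact memLocalIdeal_zero hMp.ne_top
  have hpow := exists_pow_coeffsInIdeal hyO hω
  have hΛpow := hI _ hpow
  have hyR : MemLocalRing M (Λ (y : MonoidAlgebra ℂ G)) := hR _ hyO
  have hpowmul : ∀ n : ℕ, (y ^ n ∈ centerOrder G M) ∧
      MemLocalIdeal M (Λ ((y ^ n : Subalgebra.center ℂ (MonoidAlgebra ℂ G)) : MonoidAlgebra ℂ G) -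
        (Λ (y : MonoidAlgebra ℂ G)) ^ n) := by
    intro n
    induction n with
    | zero =>
      refine ⟨by simp, ?_⟩
      simp only [pow_zero, OneMemClass.coe_one, h1, sub_self]
      exact memLocalIdeal_zero hMp.ne_top
    | succ n ih =>
      obtain ⟨ih1, ih2⟩ := ih
      rw [pow_succ, pow_succ]
      refine ⟨(centerOrder G M).mul_mem ih1 hyO, ?_⟩
      refine memLocalIdeal_sub_trans (hmul _ _ ih1 hyO) ?_
      rw [← sub_mul]
      exact memLocalIdeal_mul_right ih2 hyR
  have hN : Nat.card (IrrCharacter G) ≠ 0 := by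
    have : Nonempty (IrrCharacter G) := ⟨χ₀⟩
    have := finite_irrCharacter (G := G)
    exact Nat.card_pos.ne'
  have hy0 : MemLocalIdeal M (Λ (y : MonoidAlgebra ℂ G)) := by
    rw [← memLocalIdeal_pow_iff hyR hN]
    exact (memLocalIdeal_congr (hpowmul _).2).mp hΛpow
  have h5 := hmul _ _ huO heO
  have h6 : MemLocalIdeal M (Λ (u : MonoidAlgebra ℂ G) * Λ (e : MonoidAlgebra ℂ G)) :=
    (memLocalIdeal_congr h5).mp hy0
  rw [memLocalIdeal_mul_iff (hR _ huO) (hR _ heO)] at h6
  have h7 := h6.resolve_right hχ₀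
  have h8 : Λ (u : MonoidAlgebra ℂ G) = Λ (z : MonoidAlgebra ℂ G) - a := by
    rw [hu]
    push_cast
    rw [map_sub, Algebra.algebraMap_eq_smul_one, map_smul, h1, smul_eq_mul, mul_one]
  rw [h8] at h7
  exact h7

end

/-! ### The functional `z ↦ ω_ξ(Br_P z)` -/

/-- The linear functional `z ↦ ω_ξ(Br_P z)` on the group algebra of `G`. -/
noncomputable def brauerLam (P H : Subgroup G) [Fintype H] (ξ : H → ℂ) :
    MonoidAlgebra ℂ G →ₗ[ℂ] ℂ where
  toFun z := omega ξ (brP P H z)
  map_add' z w := by rw [brP_add, omega_add]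
  map_smul' a z := by rw [brP_smul, omega_smul]; rfl

theorem brauerLam_apply (P H : Subgroup G) [Fintype H] (ξ : H → ℂ) (z : MonoidAlgebra ℂ G) :
    brauerLam P H ξ z = omega ξ (brP P H z) := rfl

theorem brauerLam_classSum (P H : Subgroup G) [Fintype H] (ξ : H → ℂ) (g : G) :
    brauerLam P H ξ (classSum g) = brauerCentralChar P H ξ g :=
  omega_brP_classSum P H ξ g

theorem brauerLam_one (P H : Subgroup G) [Fintype H] (ξ : IrrCharacter H) :
    brauerLam P H (ξ : H → ℂ) 1 = 1 := by
  rw [brauerLam_apply, brP_one, omega_one_irr]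

section

variable {M : Ideal AlgInt}

theorem brauerLam_memLocalRing [hMp : M.IsPrime] (P H : Subgroup G) [Fintype H]
    (hHN : H ≤ Subgroup.normalizer (P : Set G)) (ξ : IrrCharacter H) {z : MonoidAlgebra ℂ G}
    (hz : z ∈ Subalgebra.center ℂ (MonoidAlgebra ℂ G)) (hzR : CoeffsInRing M z) :
    MemLocalRing M (brauerLam P H (ξ : H → ℂ) z) :=
  omega_memLocalRing ξ (brP_mem_center P H hHN hz) (brP_coeffsInRing P H hzR)

theorem brauerLam_memLocalIdeal [hMp : M.IsPrime] (P H : Subgroup G) [Fintype H]
    (hHN : H ≤ Subgroup.normalizer (P : Set G)) (ξ : IrrCharacter H) {z : MonoidAlgebra ℂ G}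
    (hz : z ∈ Subalgebra.center ℂ (MonoidAlgebra ℂ G)) (hzI : CoeffsInIdeal M z) :
    MemLocalIdeal M (brauerLam P H (ξ : H → ℂ) z) :=
  omega_memLocalIdeal_of_coeffsInIdeal ξ (brP_mem_center P H hHN hz) (brP_coeffsInIdeal P H hzI)

theorem brauerLam_mul {p : ℕ} [Fact p.Prime] (hM : IsPModular p M) (P H : Subgroup G) [Fintype H]
    (hP : IsPGroup p P) (hCH : Subgroup.centralizer (P : Set G) ≤ H)
    (hHN : H ≤ Subgroup.normalizer (P : Set G)) (ξ : IrrCharacter H)
    {z w : MonoidAlgebra ℂ G} (hz : z ∈ Subalgebra.center ℂ (MonoidAlgebra ℂ G))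
    (hw : w ∈ Subalgebra.center ℂ (MonoidAlgebra ℂ G)) (hzR : CoeffsInRing M z)
    (hwR : CoeffsInRing M w) :
    MemLocalIdeal M (brauerLam P H (ξ : H → ℂ) (z * w) -
      brauerLam P H (ξ : H → ℂ) z * brauerLam P H (ξ : H → ℂ) w) := by
  have hMp := isPModular_isPrime hM
  rw [brauerLam_apply, brauerLam_apply, brauerLam_apply,
    ← omega_mul ξ (brP_mem_center P H hHN hz), ← omega_sub]
  apply omega_memLocalIdeal_of_coeffsInIdeal ξ
  · exact Subalgebra.sub_mem _ (brP_mem_center P H hHN (Subalgebra.mul_mem _ hz hw))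
      (Subalgebra.mul_mem _ (brP_mem_center P H hHN hz) (brP_mem_center P H hHN hw))
  · exact brP_mul_coeffsInIdeal hM P H hP hCH hz hw hzR hwR

/-- **Existence of the Brauer correspondent**: for `C_G(P) ≤ H ≤ N_G(P)` and `ξ ∈ Irr(H)` there is
`χ₀ ∈ Irr(G)` whose central character is congruent, on the whole order, to `z ↦ ω_ξ(Br_P z)`. -/
theorem exists_irr_brauerLam [hMp : M.IsPrime] {p : ℕ} [Fact p.Prime] (hM : IsPModular p M)
    (P H : Subgroup G)
    [Fintype H] (hP : IsPGroup p P) (hCH : Subgroup.centralizer (P : Set G) ≤ H)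
    (hHN : H ≤ Subgroup.normalizer (P : Set G)) (ξ : IrrCharacter H) :
    ∃ χ₀ : IrrCharacter G, ∀ z : Subalgebra.center ℂ (MonoidAlgebra ℂ G), z ∈ centerOrder G M →
      MemLocalIdeal M (brauerLam P H (ξ : H → ℂ) (z : MonoidAlgebra ℂ G) - omegaHom χ₀ z) := by
  apply exists_irr_of_hom_mod_ideal (brauerLam P H (ξ : H → ℂ)) (brauerLam_one P H ξ)
  · intro z hz
    exact brauerLam_memLocalRing P H hHN ξ z.2 hz
  · intro z hz
    exact brauerLam_memLocalIdeal P H hHN ξ z.2 hz
  · intro z w hz hw
    exact brauerLam_mul hM P H hP hCH hHN ξ z.2 w.2 hz hw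

end


/-! ### The Brauer functional and induced blocks -/

open scoped Classical in
/-- A central element is the combination of the class sums with its coefficients. -/
theorem eq_sum_classSum {z : MonoidAlgebra ℂ G}
    (hz : z ∈ Subalgebra.center ℂ (MonoidAlgebra ℂ G)) :
    z = ∑ c : ConjClasses G, z.coeff (classRep c) • classSum (classRep c) := by
  ext x
  rw [coeff_sum, Finsupp.finsetSum_apply]
  simp only [coeff_smul, Finsupp.smul_apply, coeff_classSum, smul_eq_mul, mul_ite, mul_one,
    mul_zero]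
  rw [Finset.sum_eq_single (ConjClasses.mk x)]
  · rw [if_pos (isConj_classRep_mk x)]
    exact coeff_eq_coeff_classRep hz x
  · intro c _ hc
    rw [if_neg]
    intro hcon
    apply hc
    rw [← mk_classRep c]
    exact ConjClasses.mk_eq_mk_iff_isConj.mpr hcon
  · intro h
    exact absurd (Finset.mem_univ _) h

open scoped Classical in
theorem brauerLam_eq_sum_classes (P H : Subgroup G) [Fintype H] (ξ : H → ℂ)
    {z : MonoidAlgebra ℂ G} (hz : z ∈ Subalgebra.center ℂ (MonoidAlgebra ℂ G)) :
    brauerLam P H ξ z =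
      ∑ c : ConjClasses G, z.coeff (classRep c) * brauerCentralChar P H ξ (classRep c) := by
  conv_lhs => rw [eq_sum_classSum hz]
  rw [map_sum]
  refine Finset.sum_congr rfl fun c _ => ?_
  rw [map_smul, brauerLam_classSum, smul_eq_mul]

section

variable {M : Ideal AlgInt}

open scoped Classical in
/-- The Brauer central characters of characters in the same block of `H` are congruent. -/
theorem brauerCentralChar_congr_of_sameBlock [hMp : M.IsPrime] (P H : Subgroup G) [Fintype H]
    (hHN : H ≤ Subgroup.normalizer (P : Set G)) {ξ ξ' : IrrCharacter H}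
    (h : SameBlock M (ξ : H → ℂ) (ξ' : H → ℂ)) (g : G) :
    MemLocalIdeal M (brauerCentralChar P H (ξ : H → ℂ) g -
      brauerCentralChar P H (ξ' : H → ℂ) g) := by
  have hc : brP P H (classSum g) ∈ Subalgebra.center ℂ (MonoidAlgebra ℂ H) :=
    brP_mem_center P H hHN (classSum_mem_center g)
  have hO : (⟨brP P H (classSum g), hc⟩ : Subalgebra.center ℂ (MonoidAlgebra ℂ H)) ∈
      centerOrder H M := by
    intro x
    exact brP_coeffsInRing P H (fun y => classSumC_mem_centerOrder (M := M) g y) x
  have := sameBlock_omegaHom_congr h hO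
  rw [omegaHom_apply, omegaHom_apply] at this
  change MemLocalIdeal M (omega (ξ : H → ℂ) (brP P H (classSum g)) -
    omega (ξ' : H → ℂ) (brP P H (classSum g))) at this
  rwa [omega_brP_classSum, omega_brP_classSum] at this

/-- If the Brauer central character of `ξ₀ ∈ Irr(H)` is congruent to the central character of
`χ₀ ∈ Irr(G)`, then the block of `ξ₀` induces the block of `χ₀`. -/
theorem isInducedBlock_of_brauerCentralChar {p : ℕ} [Fact p.Prime] (hM : IsPModular p M)
    (P H : Subgroup G) [Fintype H] (hP : IsPGroup p P) (hPH : P ≤ H)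
    (hHN : H ≤ Subgroup.normalizer (P : Set G)) (ξ₀ : IrrCharacter H) (χ₀ : IrrCharacter G)
    (h : ∀ g : G, MemLocalIdeal M (brauerCentralChar P H (ξ₀ : H → ℂ) g -
      centralChar (χ₀ : G → ℂ) g)) :
    IsInducedBlock M H (blockOf M (ξ₀ : H → ℂ)) (blockOf M (χ₀ : G → ℂ)) := by
  have hMp := isPModular_isPrime hM
  refine ⟨isPBlock_blockOf ξ₀, isPBlock_blockOf χ₀, fun ξ hξ χ hχ g => ?_⟩
  have h1 := inducedCentralChar_sub_brauerCentralChar_memLocalIdeal hM P H hP hPH hHN ξ g
  have h2 := brauerCentralChar_congr_of_sameBlock (M := M) P H hHN (sameBlock_symm hξ) g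
  have h3 : MemLocalIdeal M (centralChar (χ₀ : G → ℂ) g - centralChar (χ : G → ℂ) g) := hχ g
  exact memLocalIdeal_sub_trans (memLocalIdeal_sub_trans (memLocalIdeal_sub_trans h1 h2) (h g)) h3

/-- If `b` induces `B`, then the Brauer functional of `ξ ∈ b` is congruent to the central
character of `χ ∈ B` on the order of the centre. -/
theorem brauerLam_sub_omegaHom_of_isInducedBlock {p : ℕ} [Fact p.Prime] [hMp : M.IsPrime]
    (hM : IsPModular p M)
    (P H : Subgroup G) [Fintype H] (hP : IsPGroup p P) (hPH : P ≤ H)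
    (hHN : H ≤ Subgroup.normalizer (P : Set G)) {b : Set (IrrCharacter H)}
    {B : Set (IrrCharacter G)} (hind : IsInducedBlock M H b B) {ξ : IrrCharacter H} (hξ : ξ ∈ b)
    {χ : IrrCharacter G} (hχ : χ ∈ B)
    {z : Subalgebra.center ℂ (MonoidAlgebra ℂ G)} (hz : z ∈ centerOrder G M) :
    MemLocalIdeal M (brauerLam P H (ξ : H → ℂ) (z : MonoidAlgebra ℂ G) - omegaHom χ z) := by
  classical
  rw [omegaHom_apply, brauerLam_eq_sum_classes P H _ z.2,
    omega_eq_sum_classes _ (irr_conj χ) z.2, ← Finset.sum_sub_distrib]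
  apply memLocalIdeal_sum
  intro c _
  rw [← mul_sub]
  apply memLocalIdeal_mul_left (hz _)
  have h1 := inducedCentralChar_sub_brauerCentralChar_memLocalIdeal hM P H hP hPH hHN ξ (classRep c)
  exact memLocalIdeal_sub_trans (memLocalIdeal_sub_comm.mp h1) (hind.2.2 ξ hξ χ hχ _)

/-- Every block has a defect group. -/
theorem exists_isDefectGroup [hMp : M.IsPrime] (p : ℕ) [Fact p.Prime] {B : Set (IrrCharacter G)}
    (hB : IsPBlock M B) : ∃ D : Subgroup G, IsDefectGroup p M B D := by
  obtain ⟨g, hg⟩ := exists_isDefectClass hB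
  have Q : Sylow p (Subgroup.centralizer ({g} : Set G)) := default
  exact ⟨_, g, hg, Q, rfl⟩

end


end Cfsg.Agent.Lib.Helper16
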