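import Cfsg.Agent.Lib.Helper16.LocalRing

/-!
# `SameBlock` is an equivalence relation; blocks partition the irreducible characters (helper16)
-/

set_option autoImplicit false

namespace Cfsg.Agent.Lib.Helper16

open Cfsg

variable {G : Type*} [Group G] {M : Ideal AlgInt}

theorem sameBlock_refl (hM : M ≠ ⊤) (χ : G → ℂ) : SameBlock M χ χ := by
  intro g
  rw [sub_self]
  exact memLocalIdeal_zero hM

theorem sameBlock_symm {χ ψ : G → ℂ} (h : SameBlock M χ ψ) : SameBlock M ψ χ := by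
  intro g
  rw [memLocalIdeal_sub_comm]
  exact h g

theorem sameBlock_comm {χ ψ : G → ℂ} : SameBlock M χ ψ ↔ SameBlock M ψ χ :=
  ⟨sameBlock_symm, sameBlock_symm⟩

theorem sameBlock_trans [M.IsPrime] {χ ψ θ : G → ℂ} (h₁ : SameBlock M χ ψ)
    (h₂ : SameBlock M ψ θ) : SameBlock M χ θ := by
  intro g
  exact memLocalIdeal_sub_trans (h₁ g) (h₂ g)

theorem mem_blockOf_iff {χ : G → ℂ} {ψ : IrrCharacter G} :
    ψ ∈ blockOf M χ ↔ SameBlock M χ (ψ : G → ℂ) := Iff.rfl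

theorem self_mem_blockOf (hM : M ≠ ⊤) (χ : IrrCharacter G) : χ ∈ blockOf M (χ : G → ℂ) :=
  sameBlock_refl hM _

theorem blockOf_eq_of_sameBlock [M.IsPrime] {χ ψ : G → ℂ} (h : SameBlock M χ ψ) :
    blockOf M χ = blockOf M ψ := by
  ext θ
  exact ⟨fun hθ => sameBlock_trans (sameBlock_symm h) hθ, fun hθ => sameBlock_trans h hθ⟩

theorem blockOf_eq_of_mem [M.IsPrime] {χ : G → ℂ} {ψ : IrrCharacter G} (h : ψ ∈ blockOf M χ) :
    blockOf M (ψ : G → ℂ) = blockOf M χ :=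
  (blockOf_eq_of_sameBlock h).symm

theorem isPBlock_blockOf (χ : IrrCharacter G) : IsPBlock M (blockOf M (χ : G → ℂ)) :=
  ⟨χ, rfl⟩

/-- A block is the block of each of its members. -/
theorem IsPBlock_eq_blockOf [M.IsPrime] {B : Set (IrrCharacter G)} (hB : IsPBlock M B)
    {χ : IrrCharacter G} (hχ : χ ∈ B) : B = blockOf M (χ : G → ℂ) := by
  obtain ⟨θ, rfl⟩ := hB
  exact (blockOf_eq_of_mem hχ).symm

theorem IsPBlock_nonempty (hM : M ≠ ⊤) {B : Set (IrrCharacter G)} (hB : IsPBlock M B) :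
    B.Nonempty := by
  obtain ⟨θ, rfl⟩ := hB
  exact ⟨θ, self_mem_blockOf hM θ⟩

/-- Members of one block are in the same block. -/
theorem sameBlock_of_mem [M.IsPrime] {B : Set (IrrCharacter G)} (hB : IsPBlock M B)
    {χ ψ : IrrCharacter G} (hχ : χ ∈ B) (hψ : ψ ∈ B) :
    SameBlock M (χ : G → ℂ) (ψ : G → ℂ) := by
  rw [IsPBlock_eq_blockOf hB hχ] at hψ
  exact hψ

/-- Two blocks with a common member are equal. -/
theorem IsPBlock_eq_of_mem [M.IsPrime] {B B' : Set (IrrCharacter G)} (hB : IsPBlock M B)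
    (hB' : IsPBlock M B') {χ : IrrCharacter G} (hχ : χ ∈ B) (hχ' : χ ∈ B') : B = B' := by
  rw [IsPBlock_eq_blockOf hB hχ, IsPBlock_eq_blockOf hB' hχ']

/-- Distinct blocks are disjoint. -/
theorem IsPBlock_disjoint [M.IsPrime] {B B' : Set (IrrCharacter G)} (hB : IsPBlock M B)
    (hB' : IsPBlock M B') (hne : B ≠ B') : Disjoint B B' := by
  rw [Set.disjoint_left]
  intro χ hχ hχ'
  exact hne (IsPBlock_eq_of_mem hB hB' hχ hχ')

theorem mem_principalBlock_iff {χ : IrrCharacter G} :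
    χ ∈ principalBlock M G ↔ SameBlock M (fun _ : G => (1 : ℂ)) (χ : G → ℂ) := Iff.rfl

end Cfsg.Agent.Lib.Helper16
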