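import Cfsg.Prelude.Def_Blocks
import Mathlib.RingTheory.LocalRing.MaximalIdeal.Basic
import Mathlib.Data.Nat.Prime.Int

/-!
# The local ring at a maximal ideal of the algebraic integers (helper16)

`Cfsg.MemLocalRing M` and `Cfsg.MemLocalIdeal M` (Def_Blocks) describe the localization of the
ring `Cfsg.AlgInt` of all algebraic integers at the ideal `M`, as a subset of `ℂ`.  For `M`
prime (in particular for `Cfsg.IsPModular p M`) this file proves that the first is a subring of
`ℂ`, the second an ideal of it, that the ring is local with that maximal ideal, and the usual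
membership facts (algebraic integers, rational integers, the prime `p`).

Everything is stated for the predicates themselves (for direct use in statements) and then
packaged as `localSubring M : Subring ℂ` and `localIdeal M : Ideal (localSubring M)`.
-/

set_option autoImplicit false

namespace Cfsg.Agent.Lib.Helper16

open Cfsg

variable {M : Ideal AlgInt}

/-! ### Elementary facts -/

theorem isPModular_isMaximal {p : ℕ} (hM : IsPModular p M) : M.IsMaximal := hM.2.1

theorem isPModular_isPrime {p : ℕ} (hM : IsPModular p M) : M.IsPrime := hM.2.1.isPrime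

theorem isPModular_prime {p : ℕ} (hM : IsPModular p M) : p.Prime := hM.1

theorem isPModular_mem {p : ℕ} (hM : IsPModular p M) : (p : AlgInt) ∈ M := hM.2.2

theorem coe_ne_zero_of_not_mem {b : AlgInt} (hb : b ∉ M) : (b : ℂ) ≠ 0 := by
  intro h
  apply hb
  have : b = 0 := Subtype.ext h
  rw [this]
  exact M.zero_mem

theorem memLocalRing_of_memLocalIdeal {z : ℂ} (h : MemLocalIdeal M z) : MemLocalRing M z := by
  obtain ⟨a, b, _, hb, rfl⟩ := h
  exact ⟨a, b, hb, rfl⟩

theorem one_not_mem_of_ne_top (hM : M ≠ ⊤) : (1 : AlgInt) ∉ M :=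
  fun h => hM ((Ideal.eq_top_iff_one M).mpr h)

theorem memLocalRing_algInt (hM : M ≠ ⊤) (a : AlgInt) : MemLocalRing M (a : ℂ) :=
  ⟨a, 1, one_not_mem_of_ne_top hM, by simp⟩

theorem memLocalRing_of_isIntegral (hM : M ≠ ⊤) {z : ℂ} (hz : IsIntegral ℤ z) :
    MemLocalRing M z :=
  memLocalRing_algInt hM ⟨z, hz⟩

theorem memLocalRing_zero (hM : M ≠ ⊤) : MemLocalRing M 0 := by
  simpa using memLocalRing_algInt hM 0

theorem memLocalRing_one (hM : M ≠ ⊤) : MemLocalRing M 1 := by
  simpa using memLocalRing_algInt hM 1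

theorem memLocalRing_intCast (hM : M ≠ ⊤) (n : ℤ) : MemLocalRing M (n : ℂ) := by
  simpa using memLocalRing_algInt hM (n : AlgInt)

theorem memLocalRing_natCast (hM : M ≠ ⊤) (n : ℕ) : MemLocalRing M (n : ℂ) := by
  simpa using memLocalRing_algInt hM (n : AlgInt)

theorem memLocalIdeal_of_mem (hM : M ≠ ⊤) {a : AlgInt} (ha : a ∈ M) : MemLocalIdeal M (a : ℂ) :=
  ⟨a, 1, ha, one_not_mem_of_ne_top hM, by simp⟩

theorem memLocalIdeal_zero (hM : M ≠ ⊤) : MemLocalIdeal M 0 := by
  simpa using memLocalIdeal_of_mem hM M.zero_mem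

/-! ### Ring operations (need `M` prime) -/

section Prime

variable [hMp : M.IsPrime]

theorem memLocalRing_add {x y : ℂ} (hx : MemLocalRing M x) (hy : MemLocalRing M y) :
    MemLocalRing M (x + y) := by
  obtain ⟨a, b, hb, rfl⟩ := hx
  obtain ⟨c, d, hd, rfl⟩ := hy
  refine ⟨a * d + c * b, b * d, fun h => (hMp.mem_or_mem h).elim hb hd, ?_⟩
  have hb0 := coe_ne_zero_of_not_mem hb
  have hd0 := coe_ne_zero_of_not_mem hd
  push_cast
  field_simp

theorem memLocalRing_mul {x y : ℂ} (hx : MemLocalRing M x) (hy : MemLocalRing M y) :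
    MemLocalRing M (x * y) := by
  obtain ⟨a, b, hb, rfl⟩ := hx
  obtain ⟨c, d, hd, rfl⟩ := hy
  refine ⟨a * c, b * d, fun h => (hMp.mem_or_mem h).elim hb hd, ?_⟩
  have hb0 := coe_ne_zero_of_not_mem hb
  have hd0 := coe_ne_zero_of_not_mem hd
  push_cast
  field_simp

omit hMp in
theorem memLocalRing_neg {x : ℂ} (hx : MemLocalRing M x) : MemLocalRing M (-x) := by
  obtain ⟨a, b, hb, rfl⟩ := hx
  exact ⟨-a, b, hb, by push_cast; ring⟩

theorem memLocalRing_sub {x y : ℂ} (hx : MemLocalRing M x) (hy : MemLocalRing M y) :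
    MemLocalRing M (x - y) := by
  rw [sub_eq_add_neg]
  exact memLocalRing_add hx (memLocalRing_neg hy)

theorem memLocalIdeal_add {x y : ℂ} (hx : MemLocalIdeal M x) (hy : MemLocalIdeal M y) :
    MemLocalIdeal M (x + y) := by
  obtain ⟨a, b, ha, hb, rfl⟩ := hx
  obtain ⟨c, d, hc, hd, rfl⟩ := hy
  refine ⟨a * d + c * b, b * d, M.add_mem (M.mul_mem_right _ ha) (M.mul_mem_right _ hc),
    fun h => (hMp.mem_or_mem h).elim hb hd, ?_⟩
  have hb0 := coe_ne_zero_of_not_mem hb
  have hd0 := coe_ne_zero_of_not_mem hd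
  push_cast
  field_simp

omit hMp in
theorem memLocalIdeal_neg {x : ℂ} (hx : MemLocalIdeal M x) : MemLocalIdeal M (-x) := by
  obtain ⟨a, b, ha, hb, rfl⟩ := hx
  exact ⟨-a, b, M.neg_mem ha, hb, by push_cast; ring⟩

theorem memLocalIdeal_sub {x y : ℂ} (hx : MemLocalIdeal M x) (hy : MemLocalIdeal M y) :
    MemLocalIdeal M (x - y) := by
  rw [sub_eq_add_neg]
  exact memLocalIdeal_add hx (memLocalIdeal_neg hy)

theorem memLocalIdeal_mul_left {x y : ℂ} (hx : MemLocalRing M x) (hy : MemLocalIdeal M y) :
    MemLocalIdeal M (x * y) := by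
  obtain ⟨a, b, hb, rfl⟩ := hx
  obtain ⟨c, d, hc, hd, rfl⟩ := hy
  refine ⟨a * c, b * d, M.mul_mem_left _ hc, fun h => (hMp.mem_or_mem h).elim hb hd, ?_⟩
  have hb0 := coe_ne_zero_of_not_mem hb
  have hd0 := coe_ne_zero_of_not_mem hd
  push_cast
  field_simp

theorem memLocalIdeal_mul_right {x y : ℂ} (hx : MemLocalIdeal M x) (hy : MemLocalRing M y) :
    MemLocalIdeal M (x * y) := by
  rw [mul_comm]
  exact memLocalIdeal_mul_left hy hx

omit hMp in
theorem memLocalIdeal_neg_iff {x : ℂ} : MemLocalIdeal M (-x) ↔ MemLocalIdeal M x :=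
  ⟨fun h => by simpa using memLocalIdeal_neg h, memLocalIdeal_neg⟩

omit hMp in
theorem memLocalIdeal_sub_comm {x y : ℂ} : MemLocalIdeal M (x - y) ↔ MemLocalIdeal M (y - x) := by
  rw [← memLocalIdeal_neg_iff, neg_sub]

/-- For an algebraic integer, lying in the local ideal is the same as lying in `M`. -/
theorem memLocalIdeal_coe_iff {z : AlgInt} : MemLocalIdeal M (z : ℂ) ↔ z ∈ M := by
  constructor
  · rintro ⟨a, b, ha, hb, h⟩
    have hb0 := coe_ne_zero_of_not_mem hb
    have h1 : (z * b : AlgInt) = a := by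
      apply Subtype.ext
      push_cast
      rw [← h]
      field_simp
    have h2 : z * b ∈ M := h1 ▸ ha
    exact (hMp.mem_or_mem h2).resolve_right hb
  · intro hz
    exact memLocalIdeal_of_mem hMp.ne_top hz

theorem memLocalIdeal_iff_of_isIntegral {z : ℂ} (hz : IsIntegral ℤ z) :
    MemLocalIdeal M z ↔ (⟨z, hz⟩ : AlgInt) ∈ M :=
  memLocalIdeal_coe_iff (z := ⟨z, hz⟩)

theorem one_not_memLocalIdeal : ¬ MemLocalIdeal M 1 := by
  intro h
  have : MemLocalIdeal M ((1 : AlgInt) : ℂ) := by simpa using h
  exact one_not_mem_of_ne_top hMp.ne_top (memLocalIdeal_coe_iff.mp this)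

omit hMp in
/-- The local ring is local: an element outside the ideal is a unit. -/
theorem memLocalRing_inv {x : ℂ} (hx : MemLocalRing M x) (hx' : ¬ MemLocalIdeal M x) :
    MemLocalRing M x⁻¹ := by
  obtain ⟨a, b, hb, rfl⟩ := hx
  have ha : a ∉ M := fun ha => hx' ⟨a, b, ha, hb, rfl⟩
  exact ⟨b, a, ha, by rw [inv_div]⟩

theorem inv_not_memLocalIdeal {x : ℂ} (hx : MemLocalRing M x) (hx' : ¬ MemLocalIdeal M x) :
    ¬ MemLocalIdeal M x⁻¹ := by
  intro h
  have hx0 : x ≠ 0 := by
    rintro rfl
    exact hx' (memLocalIdeal_zero hMp.ne_top)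
  have := memLocalIdeal_mul_left hx h
  rw [mul_inv_cancel₀ hx0] at this
  exact one_not_memLocalIdeal this

theorem ne_zero_of_not_memLocalIdeal {x : ℂ} (hx' : ¬ MemLocalIdeal M x) : x ≠ 0 := by
  rintro rfl
  exact hx' (memLocalIdeal_zero hMp.ne_top)

/-- The local ideal is prime. -/
theorem memLocalIdeal_mul_iff {x y : ℂ} (hx : MemLocalRing M x) (hy : MemLocalRing M y) :
    MemLocalIdeal M (x * y) ↔ MemLocalIdeal M x ∨ MemLocalIdeal M y := by
  constructor
  · intro h
    by_contra hcon
    push Not at hcon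
    have hxi := memLocalRing_inv hx hcon.1
    have hx0 := ne_zero_of_not_memLocalIdeal hcon.1
    have := memLocalIdeal_mul_left hxi h
    rw [← mul_assoc, inv_mul_cancel₀ hx0, one_mul] at this
    exact hcon.2 this
  · rintro (h | h)
    · exact memLocalIdeal_mul_right h hy
    · exact memLocalIdeal_mul_left hx h

theorem memLocalRing_div {x y : ℂ} (hx : MemLocalRing M x) (hy : MemLocalRing M y)
    (hy' : ¬ MemLocalIdeal M y) : MemLocalRing M (x / y) := by
  rw [div_eq_mul_inv]
  exact memLocalRing_mul hx (memLocalRing_inv hy hy')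

theorem memLocalIdeal_div {x y : ℂ} (hx : MemLocalIdeal M x) (hy : MemLocalRing M y)
    (hy' : ¬ MemLocalIdeal M y) : MemLocalIdeal M (x / y) := by
  rw [div_eq_mul_inv]
  exact memLocalIdeal_mul_right hx (memLocalRing_inv hy hy')

theorem memLocalRing_pow {x : ℂ} (hx : MemLocalRing M x) (n : ℕ) : MemLocalRing M (x ^ n) := by
  induction n with
  | zero => simpa using memLocalRing_one hMp.ne_top
  | succ n ih => rw [pow_succ]; exact memLocalRing_mul ih hx

theorem memLocalIdeal_pow_iff {x : ℂ} (hx : MemLocalRing M x) {n : ℕ} (hn : n ≠ 0) :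
    MemLocalIdeal M (x ^ n) ↔ MemLocalIdeal M x := by
  induction n with
  | zero => exact absurd rfl hn
  | succ n ih =>
    by_cases h0 : n = 0
    · subst h0; simp
    · rw [pow_succ, memLocalIdeal_mul_iff (memLocalRing_pow hx n) hx, ih h0, or_self]

theorem memLocalRing_sum {ι : Type*} (s : Finset ι) (f : ι → ℂ)
    (h : ∀ i ∈ s, MemLocalRing M (f i)) : MemLocalRing M (∑ i ∈ s, f i) := by
  classical
  induction s using Finset.induction_on with
  | empty => simpa using memLocalRing_zero hMp.ne_top
  | insert a s ha ih =>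
    rw [Finset.sum_insert ha]
    exact memLocalRing_add (h a (Finset.mem_insert_self a s))
      (ih fun i hi => h i (Finset.mem_insert_of_mem hi))

theorem memLocalIdeal_sum {ι : Type*} (s : Finset ι) (f : ι → ℂ)
    (h : ∀ i ∈ s, MemLocalIdeal M (f i)) : MemLocalIdeal M (∑ i ∈ s, f i) := by
  classical
  induction s using Finset.induction_on with
  | empty => simpa using memLocalIdeal_zero hMp.ne_top
  | insert a s ha ih =>
    rw [Finset.sum_insert ha]
    exact memLocalIdeal_add (h a (Finset.mem_insert_self a s))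
      (ih fun i hi => h i (Finset.mem_insert_of_mem hi))

theorem memLocalRing_prod {ι : Type*} (s : Finset ι) (f : ι → ℂ)
    (h : ∀ i ∈ s, MemLocalRing M (f i)) : MemLocalRing M (∏ i ∈ s, f i) := by
  classical
  induction s using Finset.induction_on with
  | empty => simpa using memLocalRing_one hMp.ne_top
  | insert a s ha ih =>
    rw [Finset.prod_insert ha]
    exact memLocalRing_mul (h a (Finset.mem_insert_self a s))
      (ih fun i hi => h i (Finset.mem_insert_of_mem hi))

/-- Congruence modulo the local ideal is transitive. -/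
theorem memLocalIdeal_sub_trans {x y z : ℂ} (h₁ : MemLocalIdeal M (x - y))
    (h₂ : MemLocalIdeal M (y - z)) : MemLocalIdeal M (x - z) := by
  have := memLocalIdeal_add h₁ h₂
  rwa [sub_add_sub_cancel] at this

/-- If `x ≡ y` modulo the local ideal and `y` is in the local ring, so is `x`. -/
theorem memLocalRing_of_sub {x y : ℂ} (h : MemLocalIdeal M (x - y)) (hy : MemLocalRing M y) :
    MemLocalRing M x := by
  have := memLocalRing_add (memLocalRing_of_memLocalIdeal h) hy
  rwa [sub_add_cancel] at this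

/-- Congruent elements are simultaneously in the local ideal. -/
theorem memLocalIdeal_congr {x y : ℂ} (h : MemLocalIdeal M (x - y)) :
    MemLocalIdeal M x ↔ MemLocalIdeal M y := by
  constructor
  · intro hx
    have := memLocalIdeal_sub hx h
    rwa [sub_sub_cancel] at this
  · intro hy
    have := memLocalIdeal_add h hy
    rwa [sub_add_cancel] at this

/-- Congruences can be multiplied. -/
theorem memLocalIdeal_mul_sub_mul {x y x' y' : ℂ} (hx : MemLocalRing M x)
    (hy' : MemLocalRing M y') (h₁ : MemLocalIdeal M (x - x')) (h₂ : MemLocalIdeal M (y - y')) :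
    MemLocalIdeal M (x * y - x' * y') := by
  have e : x * y - x' * y' = x * (y - y') + (x - x') * y' := by ring
  rw [e]
  exact memLocalIdeal_add (memLocalIdeal_mul_left hx h₂) (memLocalIdeal_mul_right h₁ hy')

end Prime

/-! ### Rational integers -/

section Modular

variable {p : ℕ}

theorem memLocalIdeal_p (hM : IsPModular p M) : MemLocalIdeal M (p : ℂ) := by
  have := memLocalIdeal_of_mem (isPModular_isPrime hM).ne_top (isPModular_mem hM)
  simpa using this

theorem memLocalIdeal_natCast_iff (hM : IsPModular p M) (n : ℕ) :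
    MemLocalIdeal M (n : ℂ) ↔ p ∣ n := by
  have := isPModular_isPrime hM
  constructor
  · intro h
    by_contra hpn
    have hcop : Nat.Coprime p n := (Nat.Prime.coprime_iff_not_dvd (isPModular_prime hM)).mpr hpn
    -- `u * p + v * n = 1` over the integers
    have hb := Nat.gcd_eq_gcd_ab p n
    rw [hcop] at hb
    have h1 : (1 : ℂ) = (p : ℂ) * ((Nat.gcdA p n : ℤ) : ℂ) + (n : ℂ) * ((Nat.gcdB p n : ℤ) : ℂ) := by
      have := congrArg (fun z : ℤ => (z : ℂ)) hb
      simpa using this
    apply one_not_memLocalIdeal (M := M)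
    rw [h1]
    exact memLocalIdeal_add
      (memLocalIdeal_mul_right (memLocalIdeal_p hM) (memLocalRing_intCast this.ne_top _))
      (memLocalIdeal_mul_right h (memLocalRing_intCast this.ne_top _))
  · rintro ⟨k, rfl⟩
    push_cast
    exact memLocalIdeal_mul_right (memLocalIdeal_p hM) (memLocalRing_natCast this.ne_top k)

theorem memLocalIdeal_intCast_iff (hM : IsPModular p M) (n : ℤ) :
    MemLocalIdeal M (n : ℂ) ↔ (p : ℤ) ∣ n := by
  have := isPModular_isPrime hM
  constructor
  · intro h
    by_contra hpn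
    have hp : Prime (p : ℤ) := Nat.prime_iff_prime_int.mp (isPModular_prime hM)
    obtain ⟨u, v, huv⟩ := (hp.irreducible.coprime_iff_not_dvd).mpr hpn
    have h1 : (1 : ℂ) = (u : ℂ) * (p : ℂ) + (v : ℂ) * (n : ℂ) := by
      have := congrArg (fun z : ℤ => (z : ℂ)) huv
      simpa using this.symm
    apply one_not_memLocalIdeal (M := M)
    rw [h1]
    exact memLocalIdeal_add
      (memLocalIdeal_mul_left (memLocalRing_intCast this.ne_top _) (memLocalIdeal_p hM))
      (memLocalIdeal_mul_left (memLocalRing_intCast this.ne_top _) h)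
  · rintro ⟨k, rfl⟩
    push_cast
    exact memLocalIdeal_mul_right (memLocalIdeal_p hM) (memLocalRing_intCast this.ne_top k)

/-- A natural number prime to `p` is a unit of the local ring. -/
theorem memLocalRing_inv_natCast (hM : IsPModular p M) {n : ℕ} (hn : ¬ p ∣ n) :
    MemLocalRing M ((n : ℂ)⁻¹) := by
  have := isPModular_isPrime hM
  exact memLocalRing_inv (memLocalRing_natCast this.ne_top n)
    (fun h => hn ((memLocalIdeal_natCast_iff hM n).mp h))

end Modular

/-! ### Packaging as a subring and an ideal -/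

/-- The local ring at a prime ideal `M` of the algebraic integers, as a subring of `ℂ`. -/
def localSubring (M : Ideal AlgInt) [hMp : M.IsPrime] : Subring ℂ where
  carrier := {z | MemLocalRing M z}
  mul_mem' := memLocalRing_mul
  one_mem' := memLocalRing_one hMp.ne_top
  add_mem' := memLocalRing_add
  zero_mem' := memLocalRing_zero hMp.ne_top
  neg_mem' := memLocalRing_neg

theorem mem_localSubring [M.IsPrime] {z : ℂ} : z ∈ localSubring M ↔ MemLocalRing M z := Iff.rfl

/-- The maximal ideal of the local ring at `M`. -/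
def localIdeal (M : Ideal AlgInt) [hMp : M.IsPrime] : Ideal (localSubring M) where
  carrier := {z | MemLocalIdeal M (z : ℂ)}
  add_mem' := memLocalIdeal_add
  zero_mem' := memLocalIdeal_zero hMp.ne_top
  smul_mem' c _ hx := memLocalIdeal_mul_left c.2 hx

theorem mem_localIdeal [M.IsPrime] {z : localSubring M} :
    z ∈ localIdeal M ↔ MemLocalIdeal M (z : ℂ) := Iff.rfl

theorem localIdeal_ne_top [M.IsPrime] : localIdeal M ≠ ⊤ := by
  intro h
  have : (1 : localSubring M) ∈ localIdeal M := h ▸ Submodule.mem_top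
  exact one_not_memLocalIdeal (M := M) (by simpa [mem_localIdeal] using this)

theorem isUnit_of_not_mem_localIdeal [M.IsPrime] {z : localSubring M} (hz : z ∉ localIdeal M) :
    IsUnit z := by
  have hz' : ¬ MemLocalIdeal M (z : ℂ) := hz
  have hz0 : (z : ℂ) ≠ 0 := ne_zero_of_not_memLocalIdeal hz'
  refine ⟨⟨z, ⟨(z : ℂ)⁻¹, memLocalRing_inv z.2 hz'⟩, ?_, ?_⟩, rfl⟩
  · apply Subtype.ext
    show (z : ℂ) * (z : ℂ)⁻¹ = 1
    exact mul_inv_cancel₀ hz0
  · apply Subtype.ext
    show (z : ℂ)⁻¹ * (z : ℂ) = 1
    exact inv_mul_cancel₀ hz0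

instance localIdeal_isMaximal [M.IsPrime] : (localIdeal M).IsMaximal := by
  rw [Ideal.isMaximal_iff]
  refine ⟨fun h => one_not_memLocalIdeal (M := M) (by simpa [mem_localIdeal] using h), ?_⟩
  intro J x hJ hx hxJ
  obtain ⟨u, hu⟩ := isUnit_of_not_mem_localIdeal hx
  have : (↑u⁻¹ : localSubring M) * x ∈ J := J.mul_mem_left _ hxJ
  rwa [← hu, Units.inv_mul] at this

instance localSubring_isLocalRing [M.IsPrime] : IsLocalRing (localSubring M) :=
  IsLocalRing.of_nonunits_add (by
    intro a b ha hb
    have ha' : a ∈ localIdeal M := by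
      by_contra h
      exact ha (isUnit_of_not_mem_localIdeal h)
    have hb' : b ∈ localIdeal M := by
      by_contra h
      exact hb (isUnit_of_not_mem_localIdeal h)
    intro hab
    have hmem : a + b ∈ localIdeal M := (localIdeal M).add_mem ha' hb'
    exact localIdeal_ne_top ((localIdeal M).eq_top_of_isUnit_mem hmem hab))

theorem maximalIdeal_localSubring [M.IsPrime] :
    IsLocalRing.maximalIdeal (localSubring M) = localIdeal M :=
  (IsLocalRing.eq_maximalIdeal inferInstance).symm

end Cfsg.Agent.Lib.Helper16
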