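import Cfsg.Agent.Lib.Helper16.Covering
import Cfsg.Agent.Lib.Helper78.WBO

/-!
# Normal subgroups of `p`-power index (helper16)

If `N` is normal of `p`-power index in `G`, the block idempotents of `G` are supported on `N`
(they are supported on `p`-regular elements), so the block of `χ ∈ Irr(G)` is determined by the
block of any irreducible constituent of `χ` restricted to `N`.
-/

set_option autoImplicit false

namespace Cfsg.Agent.Lib.Helper16

open Cfsg MonoidAlgebra
open Cfsg.Agent.Lib.Helper75 Cfsg.Agent.Lib.Helper78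
open scoped ComplexConjugate

universe u

variable {G : Type u} [Group G] [Fintype G] (N : Subgroup G) [hN : N.Normal] [Fintype N]

/-- The idempotent coefficients of a block vanish at `p`-singular elements. -/
theorem blockCoeff_eq_zero_of_singular {p : ℕ} [Fact p.Prime] {M : Ideal AlgInt}
    (hM : IsPModular p M) {B : Set (IrrCharacter G)} (hB : IsPBlock M B) (y : G)
    (hy : p ∣ orderOf y) : blockCoeff B y = 0 := by
  have h1 := weak_block_orthogonality hM hB 1 y
    (by rw [orderOf_one]; exact (Fact.out : p.Prime).one_lt.ne' ∘ Nat.dvd_one.mp) hy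
  unfold blockCoeff
  rw [h1, mul_zero]

omit [Fintype G] [Fintype N] in
/-- Elements of order prime to `p` lie in every normal subgroup of `p`-power index. -/
theorem mem_of_not_dvd_orderOf_of_index [Finite G] {p : ℕ} [Fact p.Prime] {k : ℕ}
    (hidx : N.index = p ^ k) {g : G} (hg : ¬ p ∣ orderOf g) : g ∈ N := by
  rw [← QuotientGroup.eq_one_iff]
  have h1 : orderOf (g : G ⧸ N) ∣ orderOf g := orderOf_map_dvd (QuotientGroup.mk' N) g
  have h2 : orderOf (g : G ⧸ N) ∣ p ^ k := by
    rw [← hidx, Subgroup.index_eq_card]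
    exact orderOf_dvd_natCard _
  have hcop : (orderOf g).Coprime (p ^ k) :=
    Nat.Coprime.pow_right k ((Nat.Prime.coprime_iff_not_dvd Fact.out).mpr hg).symm
  have h3 : orderOf (g : G ⧸ N) = 1 :=
    Nat.eq_one_of_dvd_coprimes hcop h1 h2
  exact orderOf_eq_one_iff.mp h3

omit [Fintype N] in
/-- The block idempotents of `G` are supported on a normal subgroup of `p`-power index. -/
theorem coeff_blockElt_of_not_mem {p : ℕ} [Fact p.Prime] {M : Ideal AlgInt}
    (hM : IsPModular p M) {k : ℕ} (hidx : N.index = p ^ k) {B : Set (IrrCharacter G)}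
    (hB : IsPBlock M B) {g : G} (hg : g ∉ N) : (blockElt B).coeff g = 0 := by
  rw [coeff_blockElt]
  apply blockCoeff_eq_zero_of_singular hM hB
  by_contra hcon
  exact hg (mem_of_not_dvd_orderOf_of_index N hidx hcon)

/-- If `N` is normal of `p`-power index, irreducible characters of `G` having constituents on `N`
in the same block lie in the same block. -/
theorem sameBlock_of_constituents_sameBlock {p : ℕ} [Fact p.Prime] {M : Ideal AlgInt}
    (hM : IsPModular p M) {k : ℕ} (hidx : N.index = p ^ k) {χ ψ : IrrCharacter G}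
    {θ θ' : IrrCharacter N}
    (hθ : classInner (fun n : N => (χ : G → ℂ) n) (θ : N → ℂ) ≠ 0)
    (hθ' : classInner (fun n : N => (ψ : G → ℂ) n) (θ' : N → ℂ) ≠ 0)
    (h : SameBlock M (θ : N → ℂ) (θ' : N → ℂ)) : SameBlock M (χ : G → ℂ) (ψ : G → ℂ) := by
  classical
  have hMp := isPModular_isPrime hM
  set B := blockOf M (χ : G → ℂ) with hBdef
  have hB : IsPBlock M B := ⟨χ, rfl⟩
  have hc := blockElt_mem_center B
  have hsupp : ∀ g : G, g ∉ N → (blockElt B).coeff g = 0 :=
    fun g hg => coeff_blockElt_of_not_mem N hM hidx hB hg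
  have h1 := omega_eq_omega_resAlg_of_support N hc hsupp χ θ hθ
  have h2 := omega_eq_omega_resAlg_of_support N hc hsupp ψ θ' hθ'
  rw [omega_blockElt, if_pos (self_mem_blockOf hMp.ne_top χ)] at h1
  -- the restriction of the block idempotent lies in the order of `N`
  have hz : resAlgC N ⟨blockElt B, hc⟩ ∈ centerOrder N M := by
    apply resAlgC_mem_centerOrder
    intro g
    show MemLocalRing M ((blockElt B).coeff g)
    rw [coeff_blockElt]
    exact blockCoeff_memLocalRing hB g
  have h3 := sameBlock_omegaHom_congr h hz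
  rw [omegaHom_apply, omegaHom_apply] at h3
  change MemLocalIdeal M (omega (θ : N → ℂ) (resAlg N (blockElt B)) -
    omega (θ' : N → ℂ) (resAlg N (blockElt B))) at h3
  rw [← h1, ← h2, omega_blockElt] at h3
  by_contra hcon
  have hψ : ψ ∉ B := hcon
  rw [if_neg hψ, sub_zero] at h3
  exact one_not_memLocalIdeal h3

/-- If `N` is normal of `p`-power index, irreducible characters of `G` with a common constituent on
`N` lie in the same block. -/
theorem sameBlock_of_common_constituent {p : ℕ} [Fact p.Prime] {M : Ideal AlgInt}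
    (hM : IsPModular p M) {k : ℕ} (hidx : N.index = p ^ k) {χ ψ : IrrCharacter G}
    {θ : IrrCharacter N}
    (hθ : classInner (fun n : N => (χ : G → ℂ) n) (θ : N → ℂ) ≠ 0)
    (hθ' : classInner (fun n : N => (ψ : G → ℂ) n) (θ : N → ℂ) ≠ 0) :
    SameBlock M (χ : G → ℂ) (ψ : G → ℂ) :=
  sameBlock_of_constituents_sameBlock N hM hidx hθ hθ'
    (sameBlock_refl (isPModular_isPrime hM).ne_top _)

omit hN in
/-- Every irreducible character of a subgroup lies under some irreducible character of `G`. -/
theorem exists_irr_over (θ : IrrCharacter N) :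
    ∃ χ : IrrCharacter G, classInner (fun n : N => (χ : G → ℂ) n) (θ : N → ℂ) ≠ 0 := by
  by_contra hcon
  push Not at hcon
  have h0 : indFun N (θ : N → ℂ) = 0 := by
    apply eq_zero_of_forall_classInner_irr_eq_zero (isClassFunction_indFun N _)
    intro χ
    rw [frobenius_reciprocity N _ (fun a b => irr_conj χ a b), ← classInner_conj_symm, hcon χ,
      map_zero]
  have h1 := congrFun h0 1
  rw [indFun_one] at h1
  have h2 : (N.index : ℂ) ≠ 0 := by
    have : N.index ≠ 0 := Subgroup.index_ne_zero_of_finite
    exact_mod_cast this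
  exact mul_ne_zero h2 (Cfsg.Agent.Lib.Helper79.irr_apply_one_ne_zero θ) h1

end Cfsg.Agent.Lib.Helper16
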