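import Mathlib

/-!
PF sec.13/14, analytic core, modules [AR], [LB], [LC] (helper10 #3548 (i)-(iii), helper52 #3714):
pure arithmetic.  `X` stands for `p^(q-1)`, `Y` for `q^(p-1)`.
-/

set_option autoImplicit false

namespace Cfsg.Agent.Lib.Helper16.PF13

/-- `(u+1)/(c X) ≤ a / c` when `u + 1 ≤ a X`. -/
theorem div_bound {u c X a : ℝ} (hX : 0 < X) (hc : 0 < c) (h : u + 1 ≤ a * X) :
    (u + 1) / (c * X) ≤ a / c := by
  rw [div_le_div_iff₀ (mul_pos hc hX) hc]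
  nlinarith

/-- from `u (p-1) ≤ p X - 1`, `p ≥ 3`, `X ≥ 9`: `u + 1 ≤ (29/18) X`. -/
theorem succ_le_of_geom {p u X : ℝ} (hp : 3 ≤ p) (hX : 9 ≤ X) (hu : u * (p - 1) ≤ p * X - 1) :
    u + 1 ≤ 29 / 18 * X := by
  have h1 : u * (p - 1) ≤ 3 / 2 * X * (p - 1) := by nlinarith
  have h2 : u ≤ 3 / 2 * X := le_of_mul_le_mul_right h1 (by linarith)
  linarith

/-- **(\*\*)** from the three terms of [N0] (helper10 #3548 Step 3).  `xS, xT, xW` are the three
pieces `(1/|S|) ∑_A ...`, `(1/|T|) ∑_A' ...`, `(1/|W|) ∑_What ...`; `kS = |S'| = p^q u c`. -/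
theorem star_of_pieces {p q u v c c' X Y xS xT xW : ℝ}
    (hp : 0 < p) (hq : 0 < q) (hu : 0 < u) (hv : 0 < v) (hc : 0 < c) (hc' : 0 < c')
    (hX : 0 < X) (hY : 0 < Y)
    (hsum : xS + xT + xW ≤ 1)
    (hW : xW = ((p - 1) * (q - 1) + 1) / (p * q))
    (hS : (p * X * u * c) - u ^ 2 - u ≤ xS * (q * (p * X * u * c)))
    (hT : (q * Y * v * c') - v ^ 2 - v ≤ xT * (p * (q * Y * v * c'))) :
    2 ≤ (u + 1) / (c * X) + (v + 1) / (c' * Y) := by
  have hS' : 1 / q - (u + 1) / (c * X) / (p * q) ≤ xS := by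
    have hpos : 0 < q * (p * X * u * c) := by positivity
    have : 1 / q - (u + 1) / (c * X) / (p * q) = ((p * X * u * c) - u ^ 2 - u) / (q * (p * X * u * c)) := by
      field_simp
      ring
    rw [this, div_le_iff₀ hpos]
    exact hS
  have hT' : 1 / p - (v + 1) / (c' * Y) / (p * q) ≤ xT := by
    have hpos : 0 < p * (q * Y * v * c') := by positivity
    have : 1 / p - (v + 1) / (c' * Y) / (p * q) = ((q * Y * v * c') - v ^ 2 - v) / (p * (q * Y * v * c')) := by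
      field_simp
      ring
    rw [this, div_le_iff₀ hpos]
    exact hT
  have hW' : xW = 1 - 1 / q - 1 / p + 2 / (p * q) := by
    rw [hW]; field_simp; ring
  have hpq : 0 < p * q := mul_pos hp hq
  have key : 2 / (p * q) ≤ ((u + 1) / (c * X) + (v + 1) / (c' * Y)) / (p * q) := by
    rw [add_div]; linarith
  rw [div_le_div_iff_of_pos_right hpq] at key
  exact key

/-- **[AR](i)**: `c ≡ 1 (mod 2q)`, `c ≠ 1` (so `c ≥ 7`) contradicts (\*\*). -/
theorem star_lt_two_of_seven_le {p q u v c c' X Y : ℝ}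
    (hp : 3 ≤ p) (hq : 3 ≤ q) (hX : 9 ≤ X) (hY : 9 ≤ Y)
    (hu : u * (p - 1) ≤ p * X - 1) (hv : v * (q - 1) ≤ q * Y - 1)
    (hc : 7 ≤ c) (hc' : 1 ≤ c') :
    (u + 1) / (c * X) + (v + 1) / (c' * Y) < 2 := by
  have h1 := div_bound (u := u) (c := c) (X := X) (a := 29 / 18) (by linarith) (by linarith)
    (succ_le_of_geom hp hX hu)
  have h2 := div_bound (u := v) (c := c') (X := Y) (a := 29 / 18) (by linarith) (by linarith)
    (succ_le_of_geom hq hY hv)
  have h3 : (29 / 18 : ℝ) / c ≤ 29 / 18 / 7 := by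
    apply div_le_div_of_nonneg_left (by norm_num) (by norm_num) hc
  have h4 : (29 / 18 : ℝ) / c' ≤ 29 / 18 / 1 := by
    apply div_le_div_of_nonneg_left (by norm_num) (by norm_num) hc'
  norm_num at h3 h4
  linarith

/-- **[AR](ii)** (Galois case): `u` a proper divisor of `n_U` (so `3 u ≤ n_U`, everything is odd)
contradicts (\*\*). -/
theorem star_lt_two_of_three_mul_le {p q u v c c' X Y : ℝ}
    (hcase : (q = 3 ∧ 5 ≤ p ∧ 25 ≤ X ∧ 81 ≤ Y) ∨ (5 ≤ q ∧ 3 ≤ p ∧ 81 ≤ X ∧ 25 ≤ Y))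
    (hu : 3 * u * (p - 1) ≤ p * X - 1) (hv : v * (q - 1) ≤ q * Y - 1)
    (hc : 1 ≤ c) (hc' : 1 ≤ c') :
    (u + 1) / (c * X) + (v + 1) / (c' * Y) < 2 := by
  rcases hcase with ⟨rfl, hp, hX, hY⟩ | ⟨hq, hp, hX, hY⟩
  · -- q = 3, p ≥ 5
    have hu1 : u ≤ 5 / 12 * X := by
      have h1 : 3 * u * (p - 1) ≤ 5 / 4 * X * (p - 1) := by nlinarith
      have h2 : 3 * u ≤ 5 / 4 * X := le_of_mul_le_mul_right h1 (by linarith)
      linarith
    have hu2 : u + 1 ≤ (5 / 12 + 1 / 25) * X := by linarith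
    have hv1 : v ≤ 3 / 2 * Y := by linarith
    have hv2 : v + 1 ≤ (3 / 2 + 1 / 81) * Y := by linarith
    have h1 := div_bound (u := u) (c := c) (X := X) (a := 5 / 12 + 1 / 25) (by linarith) (by linarith) hu2
    have h2 := div_bound (u := v) (c := c') (X := Y) (a := 3 / 2 + 1 / 81) (by linarith) (by linarith) hv2
    have h3 : (5 / 12 + 1 / 25 : ℝ) / c ≤ (5 / 12 + 1 / 25) / 1 :=
      div_le_div_of_nonneg_left (by norm_num) (by norm_num) hc
    have h4 : (3 / 2 + 1 / 81 : ℝ) / c' ≤ (3 / 2 + 1 / 81) / 1 :=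
      div_le_div_of_nonneg_left (by norm_num) (by norm_num) hc'
    norm_num at h3 h4
    linarith
  · -- q ≥ 5, p ≥ 3
    have hu1 : u ≤ 1 / 2 * X := by
      have h1 : 3 * u * (p - 1) ≤ 3 / 2 * X * (p - 1) := by nlinarith
      have h2 : 3 * u ≤ 3 / 2 * X := le_of_mul_le_mul_right h1 (by linarith)
      linarith
    have hu2 : u + 1 ≤ (1 / 2 + 1 / 81) * X := by linarith
    have hv1 : v ≤ 5 / 4 * Y := by
      have h1 : v * (q - 1) ≤ 5 / 4 * Y * (q - 1) := by nlinarith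
      exact le_of_mul_le_mul_right h1 (by linarith)
    have hv2 : v + 1 ≤ (5 / 4 + 1 / 25) * Y := by linarith
    have h1 := div_bound (u := u) (c := c) (X := X) (a := 1 / 2 + 1 / 81) (by linarith) (by linarith) hu2
    have h2 := div_bound (u := v) (c := c') (X := Y) (a := 5 / 4 + 1 / 25) (by linarith) (by linarith) hv2
    have h3 : (1 / 2 + 1 / 81 : ℝ) / c ≤ (1 / 2 + 1 / 81) / 1 :=
      div_le_div_of_nonneg_left (by norm_num) (by norm_num) hc
    have h4 : (5 / 4 + 1 / 25 : ℝ) / c' ≤ (5 / 4 + 1 / 25) / 1 :=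
      div_le_div_of_nonneg_left (by norm_num) (by norm_num) hc'
    norm_num at h3 h4
    linarith

/-- **[AR](iii)** (axis case): `4 u ≤ (p-1)^2` contradicts (\*\*) (`X = p^(q-1) ≥ p^2`). -/
theorem star_lt_two_of_axis {p q u v c c' X Y : ℝ}
    (hp : 3 ≤ p) (hq : 3 ≤ q) (hX : p ^ 2 ≤ X) (hY : 9 ≤ Y)
    (hu : 4 * u ≤ (p - 1) ^ 2) (hv : v * (q - 1) ≤ q * Y - 1)
    (hc : 1 ≤ c) (hc' : 1 ≤ c') :
    (u + 1) / (c * X) + (v + 1) / (c' * Y) < 2 := by
  have hX9 : 9 ≤ X := by nlinarith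
  have hu2 : u + 1 ≤ (1 / 4 + 1 / 9) * X := by nlinarith
  have h1 := div_bound (u := u) (c := c) (X := X) (a := 1 / 4 + 1 / 9) (by linarith) (by linarith) hu2
  have h2 := div_bound (u := v) (c := c') (X := Y) (a := 29 / 18) (by linarith) (by linarith)
    (succ_le_of_geom hq hY hv)
  have h3 : (1 / 4 + 1 / 9 : ℝ) / c ≤ (1 / 4 + 1 / 9) / 1 :=
    div_le_div_of_nonneg_left (by norm_num) (by norm_num) hc
  have h4 : (29 / 18 : ℝ) / c' ≤ 29 / 18 / 1 :=
    div_le_div_of_nonneg_left (by norm_num) (by norm_num) hc'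
  norm_num at h3 h4
  linarith

/-- **[LB]** integer part of the bridge argument (helper52 #3714 Step B): `p > q` odd primes. -/
theorem bridge_solution {p q : ℕ} (hq : 2 ≤ q) (hpq : q + 2 ≤ p) {e e' : ℤ}
    (h : 1 + ((q : ℤ) - 1) * e ^ 2 + ((p : ℤ) - 1) * e' ^ 2
      + ((p : ℤ) - 1) * ((q : ℤ) - 1) * (e + e' - 1) ^ 2 ≤ (q : ℤ) + 1) :
    e = 1 ∧ e' = 0 := by
  have hq' : (2 : ℤ) ≤ (q : ℤ) := by exact_mod_cast hq
  have hp' : (q : ℤ) + 2 ≤ (p : ℤ) := by exact_mod_cast hpq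
  have he' : e' = 0 := by
    by_contra hne
    have h1 : 1 ≤ e' ^ 2 := by
      have : e' ≠ 0 := hne
      have := sq_nonneg e'
      rcases lt_trichotomy e' 0 with h0 | h0 | h0
      · nlinarith
      · exact absurd h0 hne
      · nlinarith
    have h2 : 0 ≤ ((q : ℤ) - 1) * e ^ 2 := mul_nonneg (by linarith) (sq_nonneg _)
    have h3 : 0 ≤ ((p : ℤ) - 1) * ((q : ℤ) - 1) * (e + e' - 1) ^ 2 :=
      mul_nonneg (mul_nonneg (by linarith) (by linarith)) (sq_nonneg _)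
    have h4 : ((p : ℤ) - 1) * 1 ≤ ((p : ℤ) - 1) * e' ^ 2 :=
      mul_le_mul_of_nonneg_left h1 (by linarith)
    linarith
  subst he'
  refine ⟨?_, rfl⟩
  simp only [add_zero, ne_eq, OfNat.ofNat_ne_zero, not_false_eq_true, zero_pow, mul_zero] at h
  -- (q-1) (e^2 + (p-1)(e-1)^2) ≤ q
  by_contra hne
  have h1 : 1 ≤ (e - 1) ^ 2 := by
    rcases lt_trichotomy e 1 with h0 | h0 | h0
    · nlinarith
    · exact absurd h0 hne
    · nlinarith
  have h2 : 0 ≤ ((q : ℤ) - 1) * e ^ 2 := mul_nonneg (by linarith) (sq_nonneg _)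
  have h3 : ((p : ℤ) - 1) * ((q : ℤ) - 1) * 1 ≤ ((p : ℤ) - 1) * ((q : ℤ) - 1) * (e - 1) ^ 2 :=
    mul_le_mul_of_nonneg_left h1 (mul_nonneg (by linarith) (by linarith))
  nlinarith

/-- **[LC]** (helper52 #3714 Step C): the final numerical contradiction of case (a).
`h = |H|`, `Y = q^(p-1)`. -/
theorem case_a_numerics {p q v h Y : ℝ}
    (hcase : (q = 3 ∧ 5 ≤ p ∧ 81 ≤ Y) ∨ (5 ≤ q ∧ 7 ≤ p ∧ 25 ≤ Y))
    (hv : v * (q - 1) ≤ q * Y - 1) (hh : p ^ 2 + p + 1 ≤ h)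
    (hle : 2 / (p * q) - (v + 1) / (p * (q * Y)) ≤ 2 / (q * h)) : False := by
  rcases hcase with ⟨rfl, hp, hY⟩ | ⟨hq, hp, hY⟩
  · have hv2 : v + 1 ≤ (3 / 2 + 1 / 81) * Y := by linarith
    have hh0 : 0 < h := by nlinarith
    have h1 : (v + 1) / (p * (3 * Y)) ≤ (3 / 2 + 1 / 81) / (p * 3) := by
      rw [div_le_div_iff₀ (by positivity) (by positivity)]
      nlinarith [mul_pos (show (0:ℝ) < p by linarith) (show (0:ℝ) < Y by linarith)]
    have h2 : 2 / (3 * h) ≤ 2 / (3 * (p ^ 2 + p + 1)) := by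
      apply div_le_div_of_nonneg_left (by norm_num) (by positivity)
      linarith
    have h3 : 2 / (p * 3) - (3 / 2 + 1 / 81) / (p * 3) ≤ 2 / (3 * (p ^ 2 + p + 1)) := by linarith
    have hp0 : 0 < p := by linarith
    have h4 : 2 / (p * 3) - (3 / 2 + 1 / 81) / (p * 3) = (79 / 162) / (p * 3) := by
      field_simp; ring
    rw [h4, div_le_div_iff₀ (by positivity) (by positivity)] at h3
    nlinarith
  · have hv1 : v ≤ 5 / 4 * Y := by
      have h1 : v * (q - 1) ≤ 5 / 4 * Y * (q - 1) := by nlinarith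
      exact le_of_mul_le_mul_right h1 (by linarith)
    have hv2 : v + 1 ≤ (5 / 4 + 1 / 25) * Y := by linarith
    have hh0 : 0 < h := by nlinarith
    have hq0 : 0 < q := by linarith
    have hp0 : 0 < p := by linarith
    have h1 : (v + 1) / (p * (q * Y)) ≤ (5 / 4 + 1 / 25) / (p * q) := by
      rw [div_le_div_iff₀ (by positivity) (by positivity)]
      nlinarith [mul_pos (mul_pos hp0 hq0) (show (0:ℝ) < Y by linarith)]
    have h2 : 2 / (q * h) ≤ 2 / (q * (p ^ 2 + p + 1)) := by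
      apply div_le_div_of_nonneg_left (by norm_num) (by positivity)
      exact mul_le_mul_of_nonneg_left hh hq0.le
    have h3 : 2 / (p * q) - (5 / 4 + 1 / 25) / (p * q) ≤ 2 / (q * (p ^ 2 + p + 1)) := by linarith
    have h4 : 2 / (p * q) - (5 / 4 + 1 / 25) / (p * q) = (71 / 100) / (p * q) := by
      field_simp; ring
    rw [h4, div_le_div_iff₀ (by positivity) (by positivity)] at h3
    nlinarith [mul_pos hp0 hq0]

end Cfsg.Agent.Lib.Helper16.PF13
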