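import Mathlib
import Cfsg.Agent.Lib.Helper16.PF13Arith

/-!
PF sec.13/14, analytic core: natural-number wrappers of [AR] / [LC].
`star p q u v c c'` is helper10's inequality (\*\*) of #3548.
-/

set_option autoImplicit false

namespace Cfsg.Agent.Lib.Helper16.PF13

/-- helper10's inequality (\*\*): `(u+1)/(c p^(q-1)) + (v+1)/(c' q^(p-1)) ≥ 2`. -/
def star (p q u v c c' : ℕ) : Prop :=
  (2 : ℝ) ≤ ((u : ℝ) + 1) / ((c : ℝ) * (p : ℝ) ^ (q - 1)) + ((v : ℝ) + 1) / ((c' : ℝ) * (q : ℝ) ^ (p - 1))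

theorem star_symm {p q u v c c' : ℕ} (h : star p q u v c c') : star q p v u c' c := by
  unfold star at h ⊢; linarith

theorem cast_geom {p q u : ℕ} (hp : 1 ≤ p) (hq : 1 ≤ q) (hu : u * (p - 1) ≤ p ^ q - 1) :
    (u : ℝ) * ((p : ℝ) - 1) ≤ (p : ℝ) * (p : ℝ) ^ (q - 1) - 1 := by
  have h1 : 1 ≤ p ^ q := Nat.one_le_pow _ _ hp
  have h2 : ((u * (p - 1) : ℕ) : ℝ) ≤ ((p ^ q - 1 : ℕ) : ℝ) := by exact_mod_cast hu
  rw [Nat.cast_mul, Nat.cast_sub hp, Nat.cast_sub h1, Nat.cast_pow, Nat.cast_one] at h2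
  have h3 : (p : ℝ) * (p : ℝ) ^ (q - 1) = (p : ℝ) ^ q := by
    rw [← pow_succ']; congr 1; omega
  rw [h3]; exact h2

theorem nine_le_pow {p q : ℕ} (hp : 3 ≤ p) (hq : 3 ≤ q) : (9 : ℝ) ≤ (p : ℝ) ^ (q - 1) := by
  have h1 : 3 ^ 2 ≤ p ^ (q - 1) :=
    le_trans (Nat.pow_le_pow_left hp 2) (Nat.pow_le_pow_right (by omega) (by omega))
  have : ((3 ^ 2 : ℕ) : ℝ) ≤ ((p ^ (q - 1) : ℕ) : ℝ) := by exact_mod_cast h1
  push_cast at this; linarith

theorem pow_le_pow_nat {a p : ℕ} {m n : ℕ} (hp : a ≤ p) (ha : 1 ≤ a) (hmn : m ≤ n) :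
    ((a ^ m : ℕ) : ℝ) ≤ (p : ℝ) ^ n := by
  have h1 : a ^ m ≤ p ^ n :=
    le_trans (Nat.pow_le_pow_left hp m) (Nat.pow_le_pow_right (by omega) hmn)
  have : ((a ^ m : ℕ) : ℝ) ≤ ((p ^ n : ℕ) : ℝ) := by exact_mod_cast h1
  simpa using this

/-- **[AR](i)**: (\*\*) and `c ≡ 1 (mod 2q)` force `c = 1`. -/
theorem c_eq_one_of_star {p q u v c c' : ℕ} (hp : 3 ≤ p) (hq : 3 ≤ q)
    (hu : u * (p - 1) ≤ p ^ q - 1) (hv : v * (q - 1) ≤ q ^ p - 1)
    (hc : c % (2 * q) = 1) (hc' : 1 ≤ c') (h : star p q u v c c') : c = 1 := by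
  by_contra hne
  have h7 : 7 ≤ c := by
    have h1 := Nat.div_add_mod c (2 * q)
    rw [hc] at h1
    generalize c / (2 * q) = d at h1
    rcases Nat.eq_zero_or_pos d with hd | hd
    · subst hd; omega
    · have h3 : 2 * q * 1 ≤ 2 * q * d := Nat.mul_le_mul_left _ hd
      omega
  have := star_lt_two_of_seven_le (p := (p : ℝ)) (q := (q : ℝ)) (u := (u : ℝ)) (v := (v : ℝ))
    (c := (c : ℝ)) (c' := (c' : ℝ)) (X := (p : ℝ) ^ (q - 1)) (Y := (q : ℝ) ^ (p - 1))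
    (by exact_mod_cast hp) (by exact_mod_cast hq) (nine_le_pow hp hq) (nine_le_pow hq hp)
    (cast_geom (by omega) (by omega) hu) (cast_geom (by omega) (by omega) hv)
    (by exact_mod_cast h7) (by exact_mod_cast hc')
  unfold star at h
  linarith

/-- `n_U = (p^q-1)/(p-1)` is odd for odd `p`, `q`. -/
theorem odd_of_geom {p q nU : ℕ} (hp : Odd p) (hq : Odd q) (hp2 : 2 ≤ p)
    (hn : nU * (p - 1) = p ^ q - 1) : Odd nU := by
  have h1 : nU = (p ^ q - 1) / (p - 1) := by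
    rw [← hn, Nat.mul_div_cancel _ (by omega)]
  rw [h1, ← Nat.geomSum_eq hp2 q, Finset.odd_sum_iff_odd_card_odd]
  have : (Finset.range q).filter (fun x => Odd (p ^ x)) = Finset.range q := by
    apply Finset.filter_true_of_mem
    intro x _
    exact hp.pow
  rw [this, Finset.card_range]
  exact hq

/-- **[AR](ii)** (Galois case): (\*\*) with `c = c' = 1` (or any `c, c' ≥ 1`) and `u ∣ n_U` force
`u = n_U`. -/
theorem u_eq_of_star {p q u v c c' nU : ℕ} (hp : 3 ≤ p) (hq : 3 ≤ q) (hpo : Odd p) (hqo : Odd q)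
    (hpq : p ≠ q) (hn : nU * (p - 1) = p ^ q - 1) (hu : u ∣ nU)
    (hv : v * (q - 1) ≤ q ^ p - 1) (hc : 1 ≤ c) (hc' : 1 ≤ c') (h : star p q u v c c') : u = nU := by
  by_contra hne
  obtain ⟨k, hk⟩ := hu
  have hodd : Odd nU := odd_of_geom hpo hqo (by omega) hn
  have hnpos : 0 < nU := hodd.pos
  have hk3 : 3 ≤ k := by
    have hko : Odd k := by
      rw [hk] at hodd; exact (Nat.odd_mul.mp hodd).2
    have hk1 : k ≠ 1 := by
      rintro rfl; apply hne; simp [hk]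
    rcases hko with ⟨m, rfl⟩
    omega
  have h3u : 3 * u * (p - 1) ≤ p ^ q - 1 := by
    rw [← hn, hk]
    have : 3 * u ≤ u * k := by nlinarith
    exact Nat.mul_le_mul_right _ this
  have h3u' : 3 * (u : ℝ) * ((p : ℝ) - 1) ≤ (p : ℝ) * (p : ℝ) ^ (q - 1) - 1 := by
    have := cast_geom (p := p) (q := q) (u := 3 * u) (by omega) (by omega) h3u
    push_cast at this; linarith
  have hcase : ((q : ℝ) = 3 ∧ (5 : ℝ) ≤ (p : ℝ) ∧ (25 : ℝ) ≤ (p : ℝ) ^ (q - 1) ∧ (81 : ℝ) ≤ (q : ℝ) ^ (p - 1)) ∨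
      ((5 : ℝ) ≤ (q : ℝ) ∧ (3 : ℝ) ≤ (p : ℝ) ∧ (81 : ℝ) ≤ (p : ℝ) ^ (q - 1) ∧ (25 : ℝ) ≤ (q : ℝ) ^ (p - 1)) := by
    rcases Nat.lt_or_ge q 4 with hq4 | hq4
    · have hq3 : q = 3 := by omega
      have hp5 : 5 ≤ p := by
        rcases hpo with ⟨m, rfl⟩; omega
      left
      refine ⟨by exact_mod_cast hq3, by exact_mod_cast hp5, ?_, ?_⟩
      · have := pow_le_pow_nat (a := 5) (p := p) (m := 2) (n := q - 1) hp5 (by omega) (by omega)
        norm_num at this; exact this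
      · have := pow_le_pow_nat (a := 3) (p := q) (m := 4) (n := p - 1) hq (by omega) (by omega)
        norm_num at this; exact this
    · have hq5 : 5 ≤ q := by
        rcases hqo with ⟨m, rfl⟩; omega
      right
      refine ⟨by exact_mod_cast hq5, by exact_mod_cast hp, ?_, ?_⟩
      · have := pow_le_pow_nat (a := 3) (p := p) (m := 4) (n := q - 1) hp (by omega) (by omega)
        norm_num at this; exact this
      · have := pow_le_pow_nat (a := 5) (p := q) (m := 2) (n := p - 1) hq5 (by omega) (by omega)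
        norm_num at this; exact this
  have := star_lt_two_of_three_mul_le (p := (p : ℝ)) (q := (q : ℝ)) (u := (u : ℝ)) (v := (v : ℝ))
    (c := (c : ℝ)) (c' := (c' : ℝ)) (X := (p : ℝ) ^ (q - 1)) (Y := (q : ℝ) ^ (p - 1))
    hcase h3u' (cast_geom (by omega) (by omega) hv) (by exact_mod_cast hc) (by exact_mod_cast hc')
  unfold star at h
  linarith

/-- **[AR](iii)** (axis case): (\*\*) excludes `4 u ≤ (p-1)^2`. -/
theorem not_star_of_axis {p q u v c c' : ℕ} (hp : 3 ≤ p) (hq : 3 ≤ q)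
    (hu : 4 * u ≤ (p - 1) ^ 2) (hv : v * (q - 1) ≤ q ^ p - 1) (hc : 1 ≤ c) (hc' : 1 ≤ c') :
    ¬ star p q u v c c' := by
  intro h
  have hu' : 4 * (u : ℝ) ≤ ((p : ℝ) - 1) ^ 2 := by
    have : ((4 * u : ℕ) : ℝ) ≤ (((p - 1) ^ 2 : ℕ) : ℝ) := by exact_mod_cast hu
    rw [Nat.cast_mul, Nat.cast_pow, Nat.cast_sub (by omega)] at this
    simpa using this
  have hX : (p : ℝ) ^ 2 ≤ (p : ℝ) ^ (q - 1) := by
    apply pow_le_pow_right₀
    · have : (1 : ℝ) ≤ (p : ℝ) := by exact_mod_cast (by omega : 1 ≤ p)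
      exact this
    · omega
  have := star_lt_two_of_axis (p := (p : ℝ)) (q := (q : ℝ)) (u := (u : ℝ)) (v := (v : ℝ))
    (c := (c : ℝ)) (c' := (c' : ℝ)) (X := (p : ℝ) ^ (q - 1)) (Y := (q : ℝ) ^ (p - 1))
    (by exact_mod_cast hp) (by exact_mod_cast hq) hX (nine_le_pow hq hp) hu'
    (cast_geom (by omega) (by omega) hv) (by exact_mod_cast hc) (by exact_mod_cast hc')
  unfold star at h
  linarith

/-- **[LC]** (helper52 #3714 Step C), natural-number form: `q < p` odd, `h = |H| ≥ p^2+p+1`,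
and the inequality `2/(pq) - (v+1)/(p q^p) ≤ 2/(q h)` coming from [N0] are contradictory. -/
theorem case_a_false {p q v h : ℕ} (hq : 3 ≤ q) (hqo : Odd q) (hpo : Odd p) (hqp : q < p)
    (hv : v * (q - 1) ≤ q ^ p - 1) (hh : p ^ 2 + p + 1 ≤ h)
    (hle : 2 / ((p : ℝ) * (q : ℝ)) - ((v : ℝ) + 1) / ((p : ℝ) * ((q : ℝ) * (q : ℝ) ^ (p - 1)))
      ≤ 2 / ((q : ℝ) * (h : ℝ))) : False := by
  have hcase : ((q : ℝ) = 3 ∧ (5 : ℝ) ≤ (p : ℝ) ∧ (81 : ℝ) ≤ (q : ℝ) ^ (p - 1)) ∨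
      ((5 : ℝ) ≤ (q : ℝ) ∧ (7 : ℝ) ≤ (p : ℝ) ∧ (25 : ℝ) ≤ (q : ℝ) ^ (p - 1)) := by
    rcases Nat.lt_or_ge q 4 with hq4 | hq4
    · have hq3 : q = 3 := by omega
      have hp5 : 5 ≤ p := by
        rcases hpo with ⟨m, rfl⟩; omega
      left
      refine ⟨by exact_mod_cast hq3, by exact_mod_cast hp5, ?_⟩
      have := pow_le_pow_nat (a := 3) (p := q) (m := 4) (n := p - 1) hq (by omega) (by omega)
      norm_num at this; exact this
    · have hq5 : 5 ≤ q := by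
        rcases hqo with ⟨m, rfl⟩; omega
      have hp7 : 7 ≤ p := by
        rcases hpo with ⟨m, rfl⟩; omega
      right
      refine ⟨by exact_mod_cast hq5, by exact_mod_cast hp7, ?_⟩
      have := pow_le_pow_nat (a := 5) (p := q) (m := 2) (n := p - 1) hq5 (by omega) (by omega)
      norm_num at this; exact this
  have hh' : (p : ℝ) ^ 2 + (p : ℝ) + 1 ≤ (h : ℝ) := by
    have : ((p ^ 2 + p + 1 : ℕ) : ℝ) ≤ (h : ℝ) := by exact_mod_cast hh
    push_cast at this; exact this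
  exact case_a_numerics hcase (cast_geom (by omega) (by omega) hv) hh' hle

end Cfsg.Agent.Lib.Helper16.PF13
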