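import Mathlib

/-!
PF sec.13/14, analytic core, module [N0] (helper10 #3548 Step 3, helper52 #3714 Step C):
the "n² + n ≥ 0" inequality over a family of TI pieces.  Carrier-free: finite group, class function
`η : G → ℂ`, finite sums.
-/

set_option autoImplicit false

namespace Cfsg.Agent.Lib.Helper16.PF13

open Finset

variable {G : Type*} [Group G] [Fintype G]

/-- the set of `G`-conjugates of the elements of `A` -/
def conjClosure (A : Finset G) : Set G := {g | ∃ x : G, ∃ a ∈ A, g = x * a * x⁻¹}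

/-- Sum of a class function over the `G`-closure of a TI piece `A ⊆ S` with normalizer `S`:
`|S| * ∑_{g ∈ A^G} f g = |G| * ∑_{a ∈ A} f a`. -/
theorem card_mul_sum_conjClosure (S : Subgroup G) (A : Finset G)
    (hinv : ∀ s ∈ S, ∀ a ∈ A, s * a * s⁻¹ ∈ A)
    (hTI : ∀ g : G, ∀ a ∈ A, g * a * g⁻¹ ∈ A → g ∈ S)
    (f : G → ℝ) (hf : ∀ x g, f (x * g * x⁻¹) = f g) :
    (Nat.card S : ℝ) * ∑ᶠ g ∈ conjClosure A, f g = (Nat.card G : ℝ) * ∑ a ∈ A, f a := by
  classical
  have hfin : (conjClosure A).Finite := Set.toFinite _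
  rw [finsum_mem_eq_finite_toFinset_sum _ hfin]
  set C := hfin.toFinset with hC
  have hmemC : ∀ g, g ∈ C ↔ ∃ x : G, ∃ a ∈ A, g = x * a * x⁻¹ := by
    intro g; rw [hC, Set.Finite.mem_toFinset]; rfl
  -- double counting over pairs (x, a)
  have h1 : ∑ p ∈ (Finset.univ : Finset G) ×ˢ A, f (p.1 * p.2 * p.1⁻¹) = (Nat.card G : ℝ) * ∑ a ∈ A, f a := by
    rw [Finset.sum_product]
    simp only [hf]
    rw [Finset.sum_const, Finset.card_univ, nsmul_eq_mul, Nat.card_eq_fintype_card]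
  have hmaps : ∀ p ∈ (Finset.univ : Finset G) ×ˢ A, p.1 * p.2 * p.1⁻¹ ∈ C := by
    intro p hp
    rw [hmemC]
    exact ⟨p.1, p.2, (Finset.mem_product.mp hp).2, rfl⟩
  have h2 := Finset.sum_fiberwise_of_maps_to (s := (Finset.univ : Finset G) ×ˢ A) (t := C)
    (g := fun p => p.1 * p.2 * p.1⁻¹) hmaps (fun p => f (p.1 * p.2 * p.1⁻¹))
  rw [← h1, ← h2, Finset.mul_sum]
  refine Finset.sum_congr rfl (fun g hg => ?_)
  obtain ⟨x0, a0, ha0, rfl⟩ := (hmemC g).mp hg
  have hcongr : ∀ p ∈ ((Finset.univ : Finset G) ×ˢ A).filter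
      (fun p => p.1 * p.2 * p.1⁻¹ = x0 * a0 * x0⁻¹), f (p.1 * p.2 * p.1⁻¹) = f (x0 * a0 * x0⁻¹) := by
    intro p hp
    rw [(Finset.mem_filter.mp hp).2]
  rw [Finset.sum_congr rfl hcongr, Finset.sum_const, nsmul_eq_mul]
  congr 1
  -- the fibre is in bijection with S
  have hcard : (((Finset.univ : Finset G) ×ˢ A).filter
      (fun p => p.1 * p.2 * p.1⁻¹ = x0 * a0 * x0⁻¹)).card = Nat.card S := by
    rw [Nat.card_eq_fintype_card, ← Finset.card_univ]
    symm
    refine Finset.card_bij (fun (s : S) _ => ((x0 * (s : G)), ((s : G)⁻¹ * a0 * (s : G)))) ?_ ?_ ?_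
    · intro s _
      rw [Finset.mem_filter, Finset.mem_product]
      refine ⟨⟨Finset.mem_univ _, ?_⟩, ?_⟩
      · have := hinv (s : G)⁻¹ (S.inv_mem s.2) a0 ha0
        simpa using this
      · simp only [mul_inv_rev]
        group
    · intro s _ s' _ h
      have := congrArg Prod.fst h
      simp only [mul_right_inj] at this
      exact Subtype.ext this
    · intro p hp
      rw [Finset.mem_filter, Finset.mem_product] at hp
      obtain ⟨⟨_, hp2⟩, hp3⟩ := hp
      have hs : x0⁻¹ * p.1 ∈ S := by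
        apply hTI (x0⁻¹ * p.1) p.2 hp2
        have : (x0⁻¹ * p.1) * p.2 * (x0⁻¹ * p.1)⁻¹ = x0⁻¹ * (p.1 * p.2 * p.1⁻¹) * x0 := by group
        rw [this, hp3]
        have : x0⁻¹ * (x0 * a0 * x0⁻¹) * x0 = a0 := by group
        rw [this]; exact ha0
      refine ⟨⟨x0⁻¹ * p.1, hs⟩, Finset.mem_univ _, ?_⟩
      apply Prod.ext
      · simp
      · simp only
        have : p.2 = p.1⁻¹ * (p.1 * p.2 * p.1⁻¹) * p.1 := by group
        rw [this, hp3]; group
  rw [hcard]


/-- **[N0]** the `n² + n ≥ 0` inequality.  `η` is a class function of norm one orthogonal to the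
trivial character, the `A i ⊆ S i` are TI pieces with normalizers `S i` whose `G`-closures are pairwise
disjoint, and `η` takes rational integer values off these closures.  Then
`∑ i, (1/|S i|) ∑_{a ∈ A i} (|η a|² + Re η a) ≤ 1`. -/
theorem sum_pieces_le_one {ι : Type*} [Fintype ι] (S : ι → Subgroup G) (A : ι → Finset G)
    (hinv : ∀ i, ∀ s ∈ S i, ∀ a ∈ A i, s * a * s⁻¹ ∈ A i)
    (hTI : ∀ i, ∀ g : G, ∀ a ∈ A i, g * a * g⁻¹ ∈ A i → g ∈ S i)
    (hdisj : ∀ i j, i ≠ j → Disjoint (conjClosure (A i)) (conjClosure (A j)))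
    (η : G → ℂ) (hη : ∀ x g, η (x * g * x⁻¹) = η g)
    (hnorm : ∑ g : G, ‖η g‖ ^ 2 = (Nat.card G : ℝ)) (hsum : ∑ g : G, η g = 0)
    (hint : ∀ g : G, (∀ i, g ∉ conjClosure (A i)) → ∃ n : ℤ, η g = (n : ℂ)) :
    ∑ i, (1 / (Nat.card (S i) : ℝ)) * ∑ a ∈ A i, (‖η a‖ ^ 2 + (η a).re) ≤ 1 := by
  classical
  set φ : G → ℝ := fun g => ‖η g‖ ^ 2 + (η g).re with hφ
  have hφc : ∀ x g, φ (x * g * x⁻¹) = φ g := by
    intro x g; simp only [hφ, hη]
  have hGpos : (0 : ℝ) < (Nat.card G : ℝ) := by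
    have : 0 < Nat.card G := Nat.card_pos
    exact_mod_cast this
  -- total
  have htot : ∑ g : G, φ g = (Nat.card G : ℝ) := by
    simp only [hφ, Finset.sum_add_distrib, hnorm]
    have : ∑ g : G, (η g).re = 0 := by
      have := congrArg Complex.re hsum
      simpa using this
    rw [this, add_zero]
  -- closures as finsets
  set C : ι → Finset G := fun i => Finset.univ.filter (fun g => g ∈ conjClosure (A i)) with hC
  have hCd : ∀ i ∈ (Finset.univ : Finset ι), ∀ j ∈ (Finset.univ : Finset ι), i ≠ j → Disjoint (C i) (C j) := by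
    intro i _ j _ hij
    rw [Finset.disjoint_left]
    intro g hgi hgj
    simp only [hC, Finset.mem_filter, Finset.mem_univ, true_and] at hgi hgj
    exact (Set.disjoint_left.mp (hdisj i j hij)) hgi hgj
  have hCsum : ∀ i, ∑ g ∈ C i, φ g = (Nat.card G : ℝ) / (Nat.card (S i) : ℝ) * ∑ a ∈ A i, φ a := by
    intro i
    have h := card_mul_sum_conjClosure (S i) (A i) (hinv i) (hTI i) φ hφc
    have hSpos : (0 : ℝ) < (Nat.card (S i) : ℝ) := by
      have : 0 < Nat.card (S i) := Nat.card_pos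
      exact_mod_cast this
    have hfin : (conjClosure (A i)).Finite := Set.toFinite _
    rw [finsum_mem_eq_finite_toFinset_sum _ hfin] at h
    have hCi : C i = hfin.toFinset := by
      ext g; simp [hC]
    rw [hCi]
    field_simp
    linarith
  set U : Finset G := Finset.univ.biUnion C with hU
  have hUsum : ∑ g ∈ U, φ g = ∑ i, ∑ g ∈ C i, φ g := by
    rw [hU, Finset.sum_biUnion]
    intro i hi j hj hij
    exact hCd i hi j hj hij
  have hRnonneg : 0 ≤ ∑ g ∈ Finset.univ \ U, φ g := by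
    apply Finset.sum_nonneg
    intro g hg
    rw [Finset.mem_sdiff] at hg
    have hg' : ∀ i, g ∉ conjClosure (A i) := by
      intro i hgi
      apply hg.2
      rw [hU, Finset.mem_biUnion]
      exact ⟨i, Finset.mem_univ _, by simp [hC, hgi]⟩
    obtain ⟨n, hn⟩ := hint g hg'
    simp only [hφ, hn]
    have h1 : ‖((n : ℤ) : ℂ)‖ ^ 2 = (n : ℝ) ^ 2 := by
      rw [Complex.norm_intCast, sq_abs]
    rw [h1, Complex.intCast_re]
    have h2 : (0 : ℤ) ≤ n ^ 2 + n := by nlinarith [sq_nonneg (2 * n + 1), Int.emod_emod_of_dvd n (dvd_refl 2)]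
    have : (0 : ℝ) ≤ ((n ^ 2 + n : ℤ) : ℝ) := by exact_mod_cast h2
    push_cast at this
    linarith
  have hsplit : ∑ g ∈ Finset.univ \ U, φ g + ∑ g ∈ U, φ g = ∑ g : G, φ g :=
    Finset.sum_sdiff (Finset.subset_univ U)
  have hle : ∑ i, (Nat.card G : ℝ) / (Nat.card (S i) : ℝ) * ∑ a ∈ A i, φ a ≤ (Nat.card G : ℝ) := by
    rw [← Finset.sum_congr rfl (fun i _ => hCsum i), ← hUsum]
    linarith
  have hrew : ∑ i, (Nat.card G : ℝ) / (Nat.card (S i) : ℝ) * ∑ a ∈ A i, φ a
      = (Nat.card G : ℝ) * ∑ i, (1 / (Nat.card (S i) : ℝ)) * ∑ a ∈ A i, φ a := by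
    rw [Finset.mul_sum]
    refine Finset.sum_congr rfl (fun i _ => ?_)
    ring
  rw [hrew] at hle
  by_contra hcon
  rw [not_le] at hcon
  have := mul_lt_mul_of_pos_left hcon hGpos
  linarith

end Cfsg.Agent.Lib.Helper16.PF13
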