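import Mathlib

/-!
PF sec.13/14, analytic core, module [XS] (helper10 #3548 Step 3, the `S`-local term):
lower bound for `∑_{a ∈ A} (|μ a + F a|² + Re (μ a + F a))`.
Carrier-free: ambient finite group `G`, subgroups `P ≤ K`, a finite set `A ⊆ K \ {1}` which together
with `1` is a union of `P`-cosets, a class function `μ` (restriction of an irreducible character of `K`
of degree `u`, nontrivial on `P`, vanishing on `K \ (A ∪ {1})`), and an integer valued `F` constant on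
`P`-cosets.
-/

set_option autoImplicit false

namespace Cfsg.Agent.Lib.Helper16.PF13

open Finset

variable {G : Type*} [Group G] [Finite G]

/-- integer fact: `(N - 1) n (n+1) ≥ 2 u n` for every integer `n` once `u ≤ N - 1` -/
theorem int_bridge_ineq (N u : ℕ) (hu : u + 1 ≤ N) (n : ℤ) :
    (0 : ℤ) ≤ ((N : ℤ) - 1) * (n ^ 2 + n) - 2 * (u : ℤ) * n := by
  have hN : (u : ℤ) ≤ (N : ℤ) - 1 := by
    have : ((u + 1 : ℕ) : ℤ) ≤ (N : ℤ) := by exact_mod_cast hu
    push_cast at this; linarith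
  have hu0 : (0 : ℤ) ≤ (u : ℤ) := Int.natCast_nonneg u
  rcases le_or_gt n 0 with h | h
  · rcases eq_or_lt_of_le h with h0 | hneg
    · subst h0; simp
    · have h1 : n + 1 ≤ 0 := by omega
      have h2 : 0 ≤ n ^ 2 + n := by nlinarith
      have h3 : 0 ≤ ((N : ℤ) - 1) * (n ^ 2 + n) := mul_nonneg (by linarith) h2
      have h4 : 0 ≤ -(2 * (u : ℤ) * n) := by nlinarith
      linarith
  · have h1 : 1 ≤ n := by omega
    have h2 : 2 * n ≤ n ^ 2 + n := by nlinarith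
    have h3 : ((N : ℤ) - 1) * (2 * n) ≤ ((N : ℤ) - 1) * (n ^ 2 + n) :=
      mul_le_mul_of_nonneg_left h2 (by linarith)
    nlinarith

/-- **[XS]** the `S`-local lower bound of PF sec.13 (helper10 #3548, Step 3). -/
theorem local_lower_bound (P K : Subgroup G) (A : Finset G) (μ : G → ℂ) (F : G → ℤ) (u : ℕ) (n : ℤ)
    (hAK : ∀ a ∈ A, a ∈ K) (h1A : (1 : G) ∉ A)
    (hPA : ∀ x ∈ P, x ≠ 1 → x ∈ A)
    (hcoset : ∀ a ∈ A, a ∉ P → ∀ x ∈ P, x * a ∈ A)
    (hμ1 : μ 1 = (u : ℂ))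
    (hμK : ∑ᶠ k ∈ (K : Set G), ‖μ k‖ ^ 2 = (Nat.card K : ℝ))
    (hμK0 : ∑ᶠ k ∈ (K : Set G), μ k = 0)
    (hμP : ∀ a ∈ K, ∑ᶠ x ∈ (P : Set G), μ (x * a) = 0)
    (hvan : ∀ k ∈ K, k ≠ 1 → k ∉ A → μ k = 0)
    (hFcoset : ∀ a ∈ A, a ∉ P → ∀ x ∈ P, F (x * a) = F a)
    (hFP : ∀ x ∈ P, x ≠ 1 → F x = n)
    (hu : u + 1 ≤ Nat.card P) :
    (Nat.card K : ℝ) - (u : ℝ) ^ 2 - (u : ℝ) ≤
      ∑ a ∈ A, (‖μ a + (F a : ℂ)‖ ^ 2 + (μ a + (F a : ℂ)).re) := by
  classical
  have : Fintype G := Fintype.ofFinite G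
  have hKfin : ((K : Set G)).Finite := Set.toFinite _
  have hPfin : ((P : Set G)).Finite := Set.toFinite _
  set Kf := hKfin.toFinset with hKf
  set Pf := hPfin.toFinset with hPf
  have hmemK : ∀ g, g ∈ Kf ↔ g ∈ K := fun g => by rw [hKf, Set.Finite.mem_toFinset]; rfl
  have hmemP : ∀ g, g ∈ Pf ↔ g ∈ P := fun g => by rw [hPf, Set.Finite.mem_toFinset]; rfl
  rw [finsum_mem_eq_finite_toFinset_sum _ hKfin] at hμK hμK0
  have hμP' : ∀ a ∈ K, ∑ x ∈ Pf, μ (x * a) = 0 := by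
    intro a ha
    have := hμP a ha
    rwa [finsum_mem_eq_finite_toFinset_sum _ hPfin] at this
  have hcardP : Pf.card = Nat.card P := by
    rw [hPf, ← Set.ncard_eq_toFinset_card _ hPfin]; rfl
  -- expansion of one term
  have hterm : ∀ a, ‖μ a + (F a : ℂ)‖ ^ 2 + (μ a + (F a : ℂ)).re
      = ‖μ a‖ ^ 2 + (μ a).re + 2 * ((F a : ℝ) * (μ a).re) + ((F a : ℝ) ^ 2 + (F a : ℝ)) := by
    intro a
    have h1 : ‖μ a + (F a : ℂ)‖ ^ 2 = ‖μ a‖ ^ 2 + 2 * ((F a : ℝ) * (μ a).re) + (F a : ℝ) ^ 2 := by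
      rw [← Complex.normSq_eq_norm_sq, ← Complex.normSq_eq_norm_sq, Complex.normSq_apply,
        Complex.normSq_apply]
      simp only [Complex.add_re, Complex.add_im, Complex.intCast_re, Complex.intCast_im]
      ring
    rw [h1]
    simp only [Complex.add_re, Complex.intCast_re]
    ring
  have hexp : ∑ a ∈ A, (‖μ a + (F a : ℂ)‖ ^ 2 + (μ a + (F a : ℂ)).re)
      = ∑ a ∈ A, ‖μ a‖ ^ 2 + ∑ a ∈ A, (μ a).re + 2 * ∑ a ∈ A, (F a : ℝ) * (μ a).re
        + ∑ a ∈ A, ((F a : ℝ) ^ 2 + (F a : ℝ)) := by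
    rw [Finset.sum_congr rfl (fun a _ => hterm a), Finset.sum_add_distrib, Finset.sum_add_distrib,
      Finset.sum_add_distrib, Finset.mul_sum]
  rw [hexp]
  -- A ⊆ Kf \ {1}
  have hAsub : A ⊆ Kf.erase 1 := by
    intro a ha
    rw [Finset.mem_erase, hmemK]
    exact ⟨fun h => h1A (h ▸ ha), hAK a ha⟩
  have h1K : (1 : G) ∈ Kf := (hmemK 1).mpr K.one_mem
  -- (i) sum of |μ|² over A
  have hi : ∑ a ∈ A, ‖μ a‖ ^ 2 = (Nat.card K : ℝ) - (u : ℝ) ^ 2 := by
    have h1 : ∑ a ∈ Kf.erase 1, ‖μ a‖ ^ 2 = ∑ a ∈ A, ‖μ a‖ ^ 2 := by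
      symm
      apply Finset.sum_subset hAsub
      intro k hk hkA
      rw [Finset.mem_erase, hmemK] at hk
      rw [hvan k hk.2 hk.1 hkA]; simp
    have h2 := Finset.add_sum_erase Kf (fun a => ‖μ a‖ ^ 2) h1K
    rw [hμK, h1, hμ1] at h2
    have : ‖((u : ℕ) : ℂ)‖ = (u : ℝ) := by simp
    rw [this] at h2
    linarith
  -- (ii) sum of Re μ over A
  have hii : ∑ a ∈ A, (μ a).re = -(u : ℝ) := by
    have h1 : ∑ a ∈ Kf.erase 1, (μ a).re = ∑ a ∈ A, (μ a).re := by
      symm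
      apply Finset.sum_subset hAsub
      intro k hk hkA
      rw [Finset.mem_erase, hmemK] at hk
      rw [hvan k hk.2 hk.1 hkA]; simp
    have h0 : ∑ a ∈ Kf, (μ a).re = 0 := by
      have := congrArg Complex.re hμK0
      rw [Complex.re_sum, Complex.zero_re] at this
      exact this
    have h2 := Finset.add_sum_erase Kf (fun a => (μ a).re) h1K
    rw [h0, h1, hμ1] at h2
    simp only [Complex.natCast_re] at h2
    linarith
  -- split A into P-part and the rest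
  set AP := A.filter (fun a => a ∈ P) with hAP
  set B := A.filter (fun a => a ∉ P) with hB
  have hAPeq : AP = Pf.erase 1 := by
    ext a
    rw [hAP, Finset.mem_filter, Finset.mem_erase, hmemP]
    constructor
    · rintro ⟨ha, haP⟩
      exact ⟨fun h => h1A (h ▸ ha), haP⟩
    · rintro ⟨ha1, haP⟩
      exact ⟨hPA a haP ha1, haP⟩
  have hsplit : ∀ g : G → ℝ, ∑ a ∈ A, g a = ∑ a ∈ AP, g a + ∑ a ∈ B, g a := by
    intro g
    rw [hAP, hB, Finset.sum_filter_add_sum_filter_not]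
  have h1P : (1 : G) ∈ Pf := (hmemP 1).mpr P.one_mem
  -- sum of Re μ over P \ {1}
  have hPre : ∑ a ∈ Pf.erase 1, (μ a).re = -(u : ℝ) := by
    have h0 : ∑ a ∈ Pf, (μ a).re = 0 := by
      have := congrArg Complex.re (hμP' 1 K.one_mem)
      rw [Complex.re_sum, Complex.zero_re] at this
      simpa only [mul_one] using this
    have h2 := Finset.add_sum_erase Pf (fun a => (μ a).re) h1P
    rw [h0, hμ1] at h2
    simp only [Complex.natCast_re] at h2
    linarith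
  -- (iii) the cross term
  have hBzero : ∑ a ∈ B, (F a : ℝ) * (μ a).re = 0 := by
    -- translation invariance of B under P
    have htrans : ∀ x ∈ P, ∑ a ∈ B, (F a : ℝ) * (μ a).re = ∑ a ∈ B, (F a : ℝ) * (μ (x * a)).re := by
      intro x hx
      have hbij : ∑ a ∈ B, (F (x * a) : ℝ) * (μ (x * a)).re = ∑ a ∈ B, (F a : ℝ) * (μ a).re := by
        refine Finset.sum_bij (fun a _ => x * a) ?_ ?_ ?_ ?_
        · intro a ha
          rw [hB, Finset.mem_filter] at ha ⊢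
          refine ⟨hcoset a ha.1 ha.2 x hx, ?_⟩
          intro h
          apply ha.2
          have := P.mul_mem (P.inv_mem hx) h
          simpa using this
        · intro a _ b _ h
          exact mul_left_cancel h
        · intro b hb
          rw [hB, Finset.mem_filter] at hb
          refine ⟨x⁻¹ * b, ?_, by simp⟩
          rw [hB, Finset.mem_filter]
          refine ⟨hcoset b hb.1 hb.2 x⁻¹ (P.inv_mem hx), ?_⟩
          intro h
          apply hb.2
          have := P.mul_mem hx h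
          simpa using this
        · intro a _; rfl
      rw [← hbij]
      refine Finset.sum_congr rfl (fun a ha => ?_)
      rw [hB, Finset.mem_filter] at ha
      rw [hFcoset a ha.1 ha.2 x hx]
    have hsum : ∑ x ∈ Pf, ∑ a ∈ B, (F a : ℝ) * (μ (x * a)).re = 0 := by
      rw [Finset.sum_comm]
      apply Finset.sum_eq_zero
      intro a ha
      rw [hB, Finset.mem_filter] at ha
      rw [← Finset.mul_sum]
      have := congrArg Complex.re (hμP' a (hAK a ha.1))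
      simp only [Complex.re_sum, Complex.zero_re] at this
      rw [this, mul_zero]
    have hconst : ∑ x ∈ Pf, ∑ a ∈ B, (F a : ℝ) * (μ (x * a)).re
        = (Pf.card : ℝ) * ∑ a ∈ B, (F a : ℝ) * (μ a).re := by
      rw [Finset.sum_congr rfl (fun x hx => (htrans x ((hmemP x).mp hx)).symm), Finset.sum_const,
        nsmul_eq_mul]
    rw [hconst] at hsum
    have hpos : (Pf.card : ℝ) ≠ 0 := by
      have : 0 < Pf.card := Finset.card_pos.mpr ⟨1, h1P⟩
      exact_mod_cast this.ne'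
    exact (mul_eq_zero.mp hsum).resolve_left hpos
  have hiii : ∑ a ∈ A, (F a : ℝ) * (μ a).re = -(n : ℝ) * (u : ℝ) := by
    rw [hsplit, hBzero, add_zero, hAPeq]
    have : ∀ a ∈ Pf.erase 1, (F a : ℝ) * (μ a).re = (n : ℝ) * (μ a).re := by
      intro a ha
      rw [Finset.mem_erase, hmemP] at ha
      rw [hFP a ha.2 ha.1]
    rw [Finset.sum_congr rfl this, ← Finset.mul_sum, hPre]
    ring
  -- (iv) the F(F+1) term
  have hiv : ((Nat.card P : ℝ) - 1) * ((n : ℝ) ^ 2 + (n : ℝ)) ≤ ∑ a ∈ A, ((F a : ℝ) ^ 2 + (F a : ℝ)) := by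
    rw [hsplit]
    have hBnn : 0 ≤ ∑ a ∈ B, ((F a : ℝ) ^ 2 + (F a : ℝ)) := by
      apply Finset.sum_nonneg
      intro a _
      have h2 : (0 : ℤ) ≤ (F a) ^ 2 + F a := by nlinarith [sq_nonneg (2 * F a + 1)]
      have : (0 : ℝ) ≤ (((F a) ^ 2 + F a : ℤ) : ℝ) := by exact_mod_cast h2
      push_cast at this
      linarith
    have hAPs : ∑ a ∈ AP, ((F a : ℝ) ^ 2 + (F a : ℝ)) = ((Nat.card P : ℝ) - 1) * ((n : ℝ) ^ 2 + (n : ℝ)) := by
      rw [hAPeq]
      have : ∀ a ∈ Pf.erase 1, ((F a : ℝ) ^ 2 + (F a : ℝ)) = ((n : ℝ) ^ 2 + (n : ℝ)) := by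
        intro a ha
        rw [Finset.mem_erase, hmemP] at ha
        rw [hFP a ha.2 ha.1]
      rw [Finset.sum_congr rfl this, Finset.sum_const, nsmul_eq_mul, Finset.card_erase_of_mem h1P, hcardP]
      have hpos : 1 ≤ Nat.card P := Nat.card_pos
      rw [Nat.cast_sub hpos]
      simp
    linarith
  -- conclusion
  rw [hi, hii, hiii]
  have hint := int_bridge_ineq (Nat.card P) u hu n
  have hreal : (0 : ℝ) ≤ ((Nat.card P : ℝ) - 1) * ((n : ℝ) ^ 2 + (n : ℝ)) - 2 * (u : ℝ) * (n : ℝ) := by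
    have : (0 : ℝ) ≤ ((((Nat.card P : ℤ) - 1) * (n ^ 2 + n) - 2 * (u : ℤ) * n : ℤ) : ℝ) := by
      exact_mod_cast hint
    push_cast at this
    linarith
  linarith

end Cfsg.Agent.Lib.Helper16.PF13
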