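import Mathlib
import Cfsg.Agent.Lib.Helper16.PF13Ineq
import Cfsg.Agent.Lib.Helper16.PF13Local
import Cfsg.Agent.Lib.Helper16.PF13Arith
import Cfsg.Agent.Lib.Helper16.PF13ArithNat

/-!
PF sec.13, the S1547 path: top of the analytic chain (helper16).

* `SideData S K P A η p q m u` : everything the inequality needs about ONE maximal subgroup of the
  pair (`K = S'`, `P = S_F`, `A = A(S)` as a finset, `η = η₁₁`, `|P| = p^q`, `|K| = p^q m`
  (`m = |U|`), `|S| = q |K|`, `u = θ₁(1)`), including the decomposition `η = μ + F` on `A`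
  (output of [W] + integrality).
* `WData W A η p q` : the piece `Ŵ = W ∖ (W₁ ∪ W₂)`.
* `star_of_sides` : helper10's inequality (**) of #3548 with `c := m / u`.
* `card_eq_one_of_star` : (**) and the arithmetic side conditions give `|C_U(P)| = 1`.
-/

set_option autoImplicit false

namespace Cfsg.Agent.Lib.Helper16.PF13

open Finset

variable {G : Type*} [Group G] [Fintype G]

/-- the analytic data of one side of the pair -/
structure SideData (S K P : Subgroup G) (A : Finset G) (η : G → ℂ) (p q m u : ℕ) : Prop where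
  card_P : Nat.card P = p ^ q
  card_K : Nat.card K = p ^ q * m
  card_S : Nat.card S = q * Nat.card K
  u_pos : 0 < u
  u_le : u ≤ m
  hu : u + 1 ≤ p ^ q
  inv : ∀ s ∈ S, ∀ a ∈ A, s * a * s⁻¹ ∈ A
  ti : ∀ g : G, ∀ a ∈ A, g * a * g⁻¹ ∈ A → g ∈ S
  AK : ∀ a ∈ A, a ∈ K
  one_not_mem : (1 : G) ∉ A
  PA : ∀ x ∈ P, x ≠ 1 → x ∈ A
  coset : ∀ a ∈ A, a ∉ P → ∀ x ∈ P, x * a ∈ A
  decomp : ∃ (μ : G → ℂ) (F : G → ℤ) (n : ℤ),
    ((∀ a ∈ A, η a = μ a + (F a : ℂ)) ∨ (∀ a ∈ A, η a = -(μ a + (F a : ℂ)) - 1)) ∧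
    μ 1 = (u : ℂ) ∧
    (∑ᶠ k ∈ (K : Set G), ‖μ k‖ ^ 2 = (Nat.card K : ℝ)) ∧
    (∑ᶠ k ∈ (K : Set G), μ k = 0) ∧
    (∀ a ∈ K, ∑ᶠ x ∈ (P : Set G), μ (x * a) = 0) ∧
    (∀ k ∈ K, k ≠ 1 → k ∉ A → μ k = 0) ∧
    (∀ a ∈ A, a ∉ P → ∀ x ∈ P, F (x * a) = F a) ∧
    (∀ x ∈ P, x ≠ 1 → F x = n)

/-- the piece `Ŵ` -/
structure WData (W : Subgroup G) (A : Finset G) (η : G → ℂ) (p q : ℕ) : Prop where
  card_W : Nat.card W = p * q
  inv : ∀ s ∈ W, ∀ a ∈ A, s * a * s⁻¹ ∈ A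
  ti : ∀ g : G, ∀ a ∈ A, g * a * g⁻¹ ∈ A → g ∈ W
  sum_eq : ∑ a ∈ A, (‖η a‖ ^ 2 + (η a).re) = ((p : ℝ) - 1) * ((q : ℝ) - 1) + 1

/-- `|z|² + Re z` is invariant under `z ↦ -z - 1` -/
theorem norm_sq_add_re_neg_sub_one (y : ℂ) :
    ‖-y - 1‖ ^ 2 + (-y - 1).re = ‖y‖ ^ 2 + y.re := by
  rw [← Complex.normSq_eq_norm_sq, ← Complex.normSq_eq_norm_sq, Complex.normSq_apply,
    Complex.normSq_apply]
  simp only [Complex.sub_re, Complex.neg_re, Complex.one_re, Complex.sub_im, Complex.neg_im,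
    Complex.one_im]
  ring

/-- the `S`-local lower bound, from the decomposition `η = μ + F` (or `η = -(μ + F) - 1`) on `A` -/
theorem SideData.piece_lb {S K P : Subgroup G} {A : Finset G} {η : G → ℂ} {p q m u : ℕ}
    (h : SideData S K P A η p q m u) :
    (Nat.card K : ℝ) - (u : ℝ) ^ 2 - (u : ℝ) ≤ ∑ a ∈ A, (‖η a‖ ^ 2 + (η a).re) := by
  obtain ⟨μ, F, n, h1, h2, h3, h4, h5, h6, h7, h8⟩ := h.decomp
  have e : ∑ a ∈ A, (‖η a‖ ^ 2 + (η a).re) =
      ∑ a ∈ A, (‖μ a + (F a : ℂ)‖ ^ 2 + (μ a + (F a : ℂ)).re) := by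
    apply Finset.sum_congr rfl
    intro a ha
    rcases h1 with h1 | h1
    · rw [h1 a ha]
    · rw [h1 a ha]
      exact norm_sq_add_re_neg_sub_one _
  rw [e]
  exact local_lower_bound P K A μ F u n h.AK h.one_not_mem h.PA h.coset h2 h3 h4 h5 h6 h7 h8
    (by rw [h.card_P]; exact h.hu)

/-- **(\*\*)** helper10 #3548: `(u+1)/(c p^(q-1)) + (v+1)/(c' q^(p-1)) ≥ 2` with `c = m/u`,
`c' = m'/v`. -/
theorem star_of_sides (S T W K K' P Q : Subgroup G) (AS AT AW : Finset G) (η : G → ℂ)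
    {p q m m' u v : ℕ} (hp : 0 < p) (hq : 0 < q) (hm : 0 < m) (hm' : 0 < m')
    (hS : SideData S K P AS η p q m u) (hT : SideData T K' Q AT η q p m' v)
    (hW : WData W AW η p q)
    (hST : Disjoint (conjClosure AS) (conjClosure AT))
    (hSW : Disjoint (conjClosure AS) (conjClosure AW))
    (hTW : Disjoint (conjClosure AT) (conjClosure AW))
    (hη : ∀ x g, η (x * g * x⁻¹) = η g)
    (hnorm : ∑ g : G, ‖η g‖ ^ 2 = (Nat.card G : ℝ)) (hsum : ∑ g : G, η g = 0)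
    (hint : ∀ g : G, g ∉ conjClosure AS → g ∉ conjClosure AT → g ∉ conjClosure AW →
      ∃ n : ℤ, η g = (n : ℂ)) :
    (2 : ℝ) ≤ ((u : ℝ) + 1) / (((m : ℝ) / (u : ℝ)) * (p : ℝ) ^ (q - 1)) +
      ((v : ℝ) + 1) / (((m' : ℝ) / (v : ℝ)) * (q : ℝ) ^ (p - 1)) := by
  classical
  -- the three pieces
  have key := sum_pieces_le_one (G := G) (ι := Fin 3) ![S, T, W] ![AS, AT, AW]
    (by
      intro i
      fin_cases i
      · exact hS.inv
      · exact hT.inv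
      · exact hW.inv)
    (by
      intro i
      fin_cases i
      · exact hS.ti
      · exact hT.ti
      · exact hW.ti)
    (by
      intro i j hij
      fin_cases i <;> fin_cases j
      · exact absurd rfl hij
      · exact hST
      · exact hSW
      · exact hST.symm
      · exact absurd rfl hij
      · exact hTW
      · exact hSW.symm
      · exact hTW.symm
      · exact absurd rfl hij)
    η hη hnorm hsum
    (by
      intro g hg
      exact hint g (hg 0) (hg 1) (hg 2))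
  rw [Fin.sum_univ_three] at key
  simp only [Matrix.cons_val_zero, Matrix.cons_val_one, Matrix.cons_val_two, Matrix.head_cons,
    Matrix.tail_cons] at key
  set xS : ℝ := 1 / (Nat.card S : ℝ) * ∑ a ∈ AS, (‖η a‖ ^ 2 + (η a).re) with hxS
  set xT : ℝ := 1 / (Nat.card T : ℝ) * ∑ a ∈ AT, (‖η a‖ ^ 2 + (η a).re) with hxT
  set xW : ℝ := 1 / (Nat.card W : ℝ) * ∑ a ∈ AW, (‖η a‖ ^ 2 + (η a).re) with hxW
  have hpR : (0 : ℝ) < (p : ℝ) := by exact_mod_cast hp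
  have hqR : (0 : ℝ) < (q : ℝ) := by exact_mod_cast hq
  have huR : (0 : ℝ) < (u : ℝ) := by exact_mod_cast hS.u_pos
  have hvR : (0 : ℝ) < (v : ℝ) := by exact_mod_cast hT.u_pos
  have hmR : (0 : ℝ) < (m : ℝ) := by exact_mod_cast hm
  have hm'R : (0 : ℝ) < (m' : ℝ) := by exact_mod_cast hm'
  have hpq1 : (p : ℝ) * (p : ℝ) ^ (q - 1) = (p : ℝ) ^ q := by
    rw [← pow_succ']; congr 1; omega
  have hqp1 : (q : ℝ) * (q : ℝ) ^ (p - 1) = (q : ℝ) ^ p := by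
    rw [← pow_succ']; congr 1; omega
  have hKS : (p : ℝ) * (p : ℝ) ^ (q - 1) * (u : ℝ) * ((m : ℝ) / (u : ℝ)) = (Nat.card K : ℝ) := by
    rw [hpq1, hS.card_K]
    push_cast
    field_simp
  have hKT : (q : ℝ) * (q : ℝ) ^ (p - 1) * (v : ℝ) * ((m' : ℝ) / (v : ℝ)) = (Nat.card K' : ℝ) := by
    rw [hqp1, hT.card_K]
    push_cast
    field_simp
  have hSpos : (0 : ℝ) < (Nat.card S : ℝ) := by
    have : 0 < Nat.card S := Nat.card_pos
    exact_mod_cast this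
  have hTpos : (0 : ℝ) < (Nat.card T : ℝ) := by
    have : 0 < Nat.card T := Nat.card_pos
    exact_mod_cast this
  refine star_of_pieces (p := (p : ℝ)) (q := (q : ℝ)) (u := (u : ℝ)) (v := (v : ℝ))
    (c := (m : ℝ) / (u : ℝ)) (c' := (m' : ℝ) / (v : ℝ))
    (X := (p : ℝ) ^ (q - 1)) (Y := (q : ℝ) ^ (p - 1)) (xS := xS) (xT := xT) (xW := xW)
    hpR hqR huR hvR (div_pos hmR huR) (div_pos hm'R hvR) (pow_pos hpR _) (pow_pos hqR _)
    key ?_ ?_ ?_
  · rw [hxW, hW.sum_eq, hW.card_W]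
    push_cast
    field_simp
  · rw [hKS]
    have h1 := hS.piece_lb
    have h2 : xS * ((q : ℝ) * (Nat.card K : ℝ)) = ∑ a ∈ AS, (‖η a‖ ^ 2 + (η a).re) := by
      rw [hxS]
      have : ((q : ℝ) * (Nat.card K : ℝ)) = (Nat.card S : ℝ) := by
        rw [hS.card_S]; push_cast; ring
      rw [this]
      field_simp
    rw [h2]
    exact h1
  · rw [hKT]
    have h1 := hT.piece_lb
    have h2 : xT * ((p : ℝ) * (Nat.card K' : ℝ)) = ∑ a ∈ AT, (‖η a‖ ^ 2 + (η a).re) := by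
      rw [hxT]
      have : ((p : ℝ) * (Nat.card K' : ℝ)) = (Nat.card T : ℝ) := by
        rw [hT.card_S]; push_cast; ring
      rw [this]
      field_simp
    rw [h2]
    exact h1

/-- **[AR-app]**: (\*\*) with `c = m/u ≥ |C|`, `|C| ≡ 1 (mod 2q)`, and the bounds
`u (p-1) ≤ p^q - 1`, `v (q-1) ≤ q^p - 1` force `|C| = 1`. -/
theorem card_eq_one_of_star {p q m m' u v c : ℕ} (hp : 3 ≤ p) (hq : 3 ≤ q)
    (hupos : 0 < u) (hvpos : 0 < v)
    (hstar : (2 : ℝ) ≤ ((u : ℝ) + 1) / (((m : ℝ) / (u : ℝ)) * (p : ℝ) ^ (q - 1)) +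
      ((v : ℝ) + 1) / (((m' : ℝ) / (v : ℝ)) * (q : ℝ) ^ (p - 1)))
    (hu : u * (p - 1) ≤ p ^ q - 1) (hv : v * (q - 1) ≤ q ^ p - 1)
    (hcu : c * u ≤ m) (hvm : v ≤ m') (hc : c % (2 * q) = 1) : c = 1 := by
  by_contra hne
  have h7 : 7 ≤ c := by
    have h1 := Nat.div_add_mod c (2 * q)
    rw [hc] at h1
    generalize c / (2 * q) = d at h1
    rcases Nat.eq_zero_or_pos d with hd | hd
    · subst hd; omega
    · have h3 : 2 * q * 1 ≤ 2 * q * d := Nat.mul_le_mul_left _ hd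
      omega
  have huR : (0 : ℝ) < (u : ℝ) := by exact_mod_cast hupos
  have hvR : (0 : ℝ) < (v : ℝ) := by exact_mod_cast hvpos
  have hc7 : (7 : ℝ) ≤ (m : ℝ) / (u : ℝ) := by
    rw [le_div_iff₀ huR]
    have h1 : ((c * u : ℕ) : ℝ) ≤ (m : ℝ) := by exact_mod_cast hcu
    have h2 : (7 : ℝ) ≤ (c : ℝ) := by exact_mod_cast h7
    push_cast at h1
    nlinarith
  have hc1 : (1 : ℝ) ≤ (m' : ℝ) / (v : ℝ) := by
    rw [le_div_iff₀ hvR]
    have h1 : (v : ℝ) ≤ (m' : ℝ) := by exact_mod_cast hvm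
    linarith
  have := star_lt_two_of_seven_le (p := (p : ℝ)) (q := (q : ℝ)) (u := (u : ℝ)) (v := (v : ℝ))
    (c := (m : ℝ) / (u : ℝ)) (c' := (m' : ℝ) / (v : ℝ)) (X := (p : ℝ) ^ (q - 1))
    (Y := (q : ℝ) ^ (p - 1))
    (by exact_mod_cast hp) (by exact_mod_cast hq) (nine_le_pow hp hq) (nine_le_pow hq hp)
    (cast_geom (by omega) (by omega) hu) (cast_geom (by omega) (by omega) hv) hc7 hc1
  linarith

end Cfsg.Agent.Lib.Helper16.PF13
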