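import Mathlib
import Cfsg.Agent.Lib.Helper16.PF13Top
import Cfsg.Agent.Lib.Helper24.PFCycDefs
import Cfsg.Agent.Lib.Helper24.PFCycCtx
import Cfsg.Agent.Lib.Helper4.PFTypes
import Cfsg.Agent.Lib.Helper58.PFNineDefs

/-!
# PF sec.13, the S1547 path: carriers (helper16)

* `SideGrp S K P U W₁ W₂ A p q` : the purely group-theoretic facts about one side of the pair
  (`K = S'`, `P = S_F`, `A = A(S)` as a finset, `p = |W₂|`, `q = |W₁|`), in elementwise form.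
* `PSide S W₁ U W₂ mu dl η` : the standing context of one side for the character theory
  (type-P data, `P` elementary abelian of order `p ^ q`, `U` abelian, `A₀(S)` TI with trivial
  `R`, the Dade hypothesis, the `μ_ω` and the cyclic TI family).
* `calZ S` : the coherent set of sec.13, `Ind_{S'}^S (Irr(S') ∖ Irr(S'/P))`
  (book: `calS = seqIndD PU S P 1`), as `Helper58.PF9.Sbook (KM S) (PS S) ⊥`.
* `AFin S` : `A(S) = litA S` as a finset.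
-/

set_option autoImplicit false

namespace Cfsg.Agent.Lib.Helper16.PF13

open Cfsg Cfsg.Agent.Lib.Helper24.PFCyc Cfsg.Agent.Lib.Helper4.PF

universe u

variable {G : Type u} [Group G]

/-- `S_F` as a subgroup of `↥S` -/
abbrev PS (S : Subgroup G) : Subgroup ↥S := (fittingHallOf S).subgroupOf S

/-- the coherent set of sec.13: the characters of `S` induced from the irreducible characters of
`S'` that are not trivial on `S_F` -/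
abbrev calZ (S : Subgroup G) [Fintype S] : Set (↥S → ℂ) :=
  Cfsg.Agent.Lib.Helper58.PF9.Sbook (KM S) (PS S) ⊥

/-- `A(S)` as a finset -/
noncomputable def AFin [Finite G] (S : Subgroup G) : Finset G := (Set.toFinite (litA S)).toFinset

theorem mem_AFin [Finite G] {S : Subgroup G} {a : G} : a ∈ AFin S ↔ a ∈ litA S := by
  unfold AFin
  rw [Set.Finite.mem_toFinset]

/-- `Ŵ = W ∖ (W₁ ∪ W₂)` as a finset -/
noncomputable def WHat [Finite G] (W₁ W₂ : Subgroup G) : Finset G :=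
  (Set.toFinite {g : G | g ∈ W₁ ⊔ W₂ ∧ g ∉ W₁ ∧ g ∉ W₂}).toFinset

theorem mem_WHat [Finite G] {W₁ W₂ : Subgroup G} {g : G} :
    g ∈ WHat W₁ W₂ ↔ g ∈ W₁ ⊔ W₂ ∧ g ∉ W₁ ∧ g ∉ W₂ := by
  unfold WHat
  rw [Set.Finite.mem_toFinset]
  rfl

/-- The group-theoretic facts about one side of the pair, elementwise. -/
structure SideGrp (S K P U W₁ W₂ : Subgroup G) (A : Finset G) (p q : ℕ) : Prop where
  hp : p.Prime
  hq : q.Prime
  hpq : p ≠ q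
  hp3 : 3 ≤ p
  hq3 : 3 ≤ q
  card_W₁ : Nat.card W₁ = q
  card_W₂ : Nat.card W₂ = p
  card_P : Nat.card P = p ^ q
  card_S : Nat.card S = q * Nat.card K
  card_K : Nat.card K = p ^ q * Nat.card U
  K_le : K ≤ S
  P_le : P ≤ K
  U_le : U ≤ K
  W₁_le : W₁ ≤ S
  W₂_le : W₂ ≤ P
  K_normal : ∀ s ∈ S, ∀ k ∈ K, s * k * s⁻¹ ∈ K
  P_normal : ∀ s ∈ S, ∀ x ∈ P, s * x * s⁻¹ ∈ P
  PU_inf : P ⊓ U = ⊥
  PU_mul : ∀ k ∈ K, ∃ x ∈ P, ∃ z ∈ U, k = x * z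
  P_comm : ∀ x ∈ P, ∀ y ∈ P, x * y = y * x
  U_comm : ∀ x ∈ U, ∀ y ∈ U, x * y = y * x
  W₁_norm_U : ∀ w ∈ W₁, ∀ z ∈ U, w * z * w⁻¹ ∈ U
  coprime_PU : (Nat.card P).Coprime (Nat.card U)
  coprime_Kq : (Nat.card K).Coprime q
  cent : ∀ x ∈ W₁, x ≠ 1 → K ⊓ Subgroup.centralizer ({x} : Set G) = W₂
  cover : ∀ m ∈ S, m ∉ K → ∃ x ∈ S, x * m * x⁻¹ ∈ W₁ ⊔ W₂ ∧ x * m * x⁻¹ ∉ W₂
  sylow : ∀ x : G, orderOf x = p → ∃ g : G, g * x * g⁻¹ ∈ P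
  A_sub : ∀ a ∈ A, a ∈ K ∧ a ≠ 1
  A_mem : ∀ a ∈ K, a ≠ 1 → (∃ x ∈ P, x ≠ 1 ∧ a * x = x * a) → a ∈ A
  A_coset : ∀ a ∈ A, a ∉ P → ∀ x ∈ P, x * a ∈ A
  inv : ∀ s ∈ S, ∀ a ∈ A, s * a * s⁻¹ ∈ A
  ti : ∀ g : G, ∀ a ∈ A, g * a * g⁻¹ ∈ A → g ∈ S

/-- numeric facts of one side: `u = θ₁(1)`, `C = C_U(P)` -/
structure SideNum (P U : Subgroup G) (p q u : ℕ) : Prop where
  hu : u * (p - 1) ≤ p ^ q - 1
  hcu : Nat.card ↥(U ⊓ Subgroup.centralizer (P : Set G)) * u ≤ Nat.card U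
  hc : Nat.card ↥(U ⊓ Subgroup.centralizer (P : Set G)) % (2 * q) = 1

/-- The standing context of one side of the pair for the character theory of sec.13. -/
structure PSide [Fintype G] (S W₁ U W₂ : Subgroup G) [Fintype S]
    (mu : WChar W₁ W₂ → (↥S → ℂ)) (dl : WChar W₁ W₂ → ℂ) (η : WChar W₁ W₂ → (G → ℂ)) : Prop where
  hP : IsTypePWith S W₁ U W₂
  hodd : Odd (Nat.card G)
  hq : (Nat.card W₁).Prime
  hp : (Nat.card W₂).Prime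
  hU1 : U ≠ ⊥
  hPcomm : ∀ x ∈ fittingHallOf S, ∀ y ∈ fittingHallOf S, x * y = y * x
  hPexp : ∀ x ∈ fittingHallOf S, x ^ Nat.card W₂ = 1
  hPcard : Nat.card (fittingHallOf S) = Nat.card W₂ ^ Nat.card W₁
  hUcomm : ∀ x ∈ U, ∀ y ∈ U, x * y = y * x
  hA_sub : ∀ a ∈ litA S, a ∈ ⁅S, S⁆ ∧ a ≠ 1
  hA_mem : ∀ a ∈ ⁅S, S⁆, a ≠ 1 → (∃ x ∈ fittingHallOf S, x ≠ 1 ∧ a * x = x * a) → a ∈ litA S
  hA_coset : ∀ a ∈ litA S, a ∉ fittingHallOf S → ∀ x ∈ fittingHallOf S, x * a ∈ litA S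
  hTI : ∀ g : G, ∀ a ∈ litA0 S, a ≠ 1 → g * a * g⁻¹ ∈ litA0 S → g ∈ S
  hR : ∀ a ∈ litA0 S, supportR S a = ⊥
  hD : DadeHypothesis (litA0 S) S (supportR S)
  hsylow : ∀ x : G, orderOf x = Nat.card W₂ → ∃ g : G, g * x * g⁻¹ ∈ fittingHallOf S
  md : MuData S W₁ W₂ mu dl
  hη : IsCyclicTIFamily W₁ W₂ η

end Cfsg.Agent.Lib.Helper16.PF13
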