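import Mathlib
import Cfsg.Agent.Lib.Helper25.PF13W
import Cfsg.Agent.Lib.Helper26.ZSpan
import Cfsg.Agent.Lib.Helper1.PF127Const

/-!
# PF sec.13, module [DECOMP-L] (helper16): the `S`-local decomposition `η = μ + F`

Abstract finite group `L` (think `L = ↥S`), normal subgroups `P ≤ K` (`K = S'`, `P = S_F`).
If `η - μ` is orthogonal to the degree-zero integer combinations of the characters induced from
the irreducible characters of `K` nontrivial on `P` ([W] of helper25 applies), and `η`, `μ` take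
integer values at the `p`-regular elements of `K`, then on `K ∖ 1` we have `η = μ + F` with `F`
integer valued and constant on the cosets of `P`.
-/

set_option autoImplicit false

namespace Cfsg.Agent.Lib.Helper16.PF13

open Cfsg Cfsg.Agent.Lib.Helper25.PF13W
open scoped ComplexConjugate

variable {L : Type*} [Group L] [Fintype L]

/-- integer combinations of functions induced from a normal subgroup `K` vanish off `K` -/
theorem zspan_ind_vanish (K P : Subgroup L) [K.Normal] {α : L → ℂ}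
    (hα : α ∈ zspan (indIrrNot K P)) {s : L} (hs : s ∉ K) : α s = 0 := by
  unfold zspan at hα
  refine Submodule.span_induction (p := fun a _ => a s = 0) ?_ ?_ ?_ ?_ hα
  · rintro x ⟨θ, -, -, rfl⟩
    exact Cfsg.Agent.Lib.Helper1.PF127H.indFun_eq_zero_of_not_mem K θ hs
  · rfl
  · intro a b _ _ ha hb
    rw [Pi.add_apply, ha, hb, add_zero]
  · intro n a _ ha
    rw [Pi.smul_apply, ha, smul_zero]

/-- a rational algebraic integer is an integer -/
theorem int_of_rat_of_integral {x : ℂ} (q : ℚ) (hq : x = (q : ℂ)) (hx : IsIntegral ℤ x) :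
    ∃ n : ℤ, x = (n : ℂ) := by
  rw [hq] at hx ⊢
  have h1 : IsIntegral ℤ q := by
    have hinj : Function.Injective (algebraMap ℚ ℂ) := (algebraMap ℚ ℂ).injective
    rw [← isIntegral_algebraMap_iff hinj]
    simpa using hx
  obtain ⟨n, hn⟩ := IsIntegrallyClosed.algebraMap_eq_of_integral h1
  refine ⟨n, ?_⟩
  rw [← hn]
  simp

/-- **[DECOMP-L]**, `Fintype` form -/
theorem decomp_local' (K P : Subgroup L) [K.Normal] [P.Normal] [Fintype ↥P] (hPK : P ≤ K)
    (ηL μL : L → ℂ) (p : ℕ)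
    (hηc : IsClassFunction L ηL) (hμc : IsClassFunction L μL)
    (horth : ∀ α ∈ zspanOn (indIrrNot K P) ({1}ᶜ : Set L),
      classInner (fun s => ηL s - μL s) α = 0)
    (hsplit : ∀ a ∈ K, ∃ x ∈ P, ∃ z ∈ K, a = x * z ∧ (orderOf z).Coprime p)
    (hint_η : ∀ z ∈ K, (orderOf z).Coprime p → ∃ n : ℤ, ηL z = (n : ℂ))
    (hint_μ : ∀ z ∈ K, (orderOf z).Coprime p → ∃ n : ℤ, μL z = (n : ℂ))
    (havg : ∃ m : ℤ, ∑ y : ↥P, ηL (y : L) = (Nat.card P : ℂ) * (m : ℂ))
    (hμP : ∑ y : ↥P, μL (y : L) = 0)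
    (halg : ∀ y ∈ P, IsIntegral ℤ (ηL y - μL y))
    (hP2 : 2 ≤ Nat.card P) :
    ∃ (F : L → ℤ) (n : ℤ), (∀ a ∈ K, a ≠ 1 → ηL a = μL a + (F a : ℂ)) ∧
      (∀ a ∈ K, ∀ x ∈ P, F (x * a) = F a) ∧ (∀ x ∈ P, F x = n) := by
  classical
  set Φ : L → ℂ := fun s => if s ∈ K then ηL s - μL s else 0 with hΦ
  have hΦc : IsClassFunction L Φ := by
    intro g h
    have hmem : h * g * h⁻¹ ∈ K ↔ g ∈ K := by
      constructor
      · intro hx
        have := (inferInstance : K.Normal).conj_mem _ hx h⁻¹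
        simpa [mul_assoc] using this
      · intro hx
        exact (inferInstance : K.Normal).conj_mem _ hx h
    simp only [hΦ]
    by_cases hg : g ∈ K
    · rw [if_pos hg, if_pos (hmem.mpr hg), hηc g h, hμc g h]
    · rw [if_neg hg, if_neg (fun hx => hg (hmem.mp hx))]
  have hΦK : ∀ s, s ∉ K → Φ s = 0 := by
    intro s hs
    simp only [hΦ]
    rw [if_neg hs]
  have horth' : ∀ α ∈ zspanOn (indIrrNot K P) ({1}ᶜ : Set L), classInner Φ α = 0 := by
    intro α hα
    rw [← horth α hα]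
    unfold classInner
    congr 1
    apply Finset.sum_congr rfl
    intro s _
    by_cases hs : s ∈ K
    · simp only [hΦ]
      rw [if_pos hs]
    · rw [zspan_ind_vanish K P hα.1 hs]
      simp
  obtain ⟨f, hfc, hfP, hfK, hf⟩ := W_restriction_zspan K P hPK Φ hΦc hΦK horth'
  -- values of `f` at `p`-regular elements `z ≠ 1` of `K`
  have hfz : ∀ z ∈ K, z ≠ 1 → (orderOf z).Coprime p → ∃ n : ℤ, f z = (n : ℂ) := by
    intro z hz hz1 hzp
    obtain ⟨n1, h1⟩ := hint_η z hz hzp
    obtain ⟨n2, h2⟩ := hint_μ z hz hzp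
    refine ⟨n1 - n2, ?_⟩
    rw [← hf z hz1]
    simp only [hΦ]
    rw [if_pos hz, h1, h2]
    push_cast
    ring
  -- the value at `1`
  have hone_coprime : (orderOf (1 : L)).Coprime p := by
    rw [orderOf_one]; exact Nat.coprime_one_left p
  obtain ⟨nη, hnη⟩ := hint_η 1 K.one_mem hone_coprime
  obtain ⟨nμ, hnμ⟩ := hint_μ 1 K.one_mem hone_coprime
  obtain ⟨m, hm⟩ := havg
  have hfP1 : ∀ y ∈ P, f y = f 1 := by
    intro y hy
    have := hfP y hy 1
    rwa [mul_one] at this
  have hcardP : (Nat.card P : ℂ) = (Fintype.card ↥P : ℂ) := by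
    rw [Nat.card_eq_fintype_card]
  have hf1 : ∃ n : ℤ, f 1 = (n : ℂ) := by
    -- some `y ∈ P`, `y ≠ 1`
    obtain ⟨y, hyP, hy1⟩ : ∃ y ∈ P, y ≠ 1 := by
      by_contra hcon
      push Not at hcon
      have : Nat.card P = 1 := by
        rw [Subgroup.card_eq_one, Subgroup.eq_bot_iff_forall]
        exact hcon
      omega
    -- sum over `P`
    have hsum : ∑ y : ↥P, (if (y : L) = 1 then (0 : ℂ) else f (y : L)) =
        ((Nat.card P : ℂ) - 1) * f 1 := by
      have h1 : ∀ y : ↥P, (if (y : L) = 1 then (0 : ℂ) else f (y : L)) =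
          f 1 - (if (y : L) = 1 then f 1 else 0) := by
        intro y
        by_cases hy : (y : L) = 1
        · rw [if_pos hy, if_pos hy, sub_self]
        · rw [if_neg hy, if_neg hy, sub_zero, hfP1 y y.2]
      rw [Finset.sum_congr rfl (fun y _ => h1 y), Finset.sum_sub_distrib, Finset.sum_const,
        Finset.card_univ, nsmul_eq_mul, hcardP]
      have h2 : ∑ y : ↥P, (if (y : L) = 1 then f 1 else 0) = f 1 := by
        rw [Finset.sum_eq_single (1 : ↥P)]
        · simp
        · intro b _ hb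
          rw [if_neg]
          intro h
          exact hb (Subtype.ext h)
        · intro h
          exact absurd (Finset.mem_univ _) h
      rw [h2]
      ring
    have hsum2 : ∑ y : ↥P, (if (y : L) = 1 then (0 : ℂ) else f (y : L)) =
        (Nat.card P : ℂ) * (m : ℂ) - (nη : ℂ) + (nμ : ℂ) := by
      have h1 : ∀ y : ↥P, (if (y : L) = 1 then (0 : ℂ) else f (y : L)) =
          (ηL (y : L) - μL (y : L)) - (if (y : L) = 1 then (ηL 1 - μL 1) else 0) := by
        intro y
        by_cases hy : (y : L) = 1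
        · rw [if_pos hy, if_pos hy, hy, sub_self]
        · rw [if_neg hy, if_neg hy, sub_zero, ← hf (y : L) hy]
          simp only [hΦ]
          rw [if_pos (hPK y.2)]
      rw [Finset.sum_congr rfl (fun y _ => h1 y), Finset.sum_sub_distrib, Finset.sum_sub_distrib,
        hm, hμP]
      have h2 : ∑ y : ↥P, (if (y : L) = 1 then (ηL 1 - μL 1) else 0) = ηL 1 - μL 1 := by
        rw [Finset.sum_eq_single (1 : ↥P)]
        · simp
        · intro b _ hb
          rw [if_neg]
          intro h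
          exact hb (Subtype.ext h)
        · intro h
          exact absurd (Finset.mem_univ _) h
      rw [h2, hnη, hnμ]
      ring
    have hPne : ((Nat.card P : ℂ) - 1) ≠ 0 := by
      have : (2 : ℝ) ≤ (Nat.card P : ℝ) := by exact_mod_cast hP2
      intro h
      have h' : ((Nat.card P : ℝ) : ℂ) = ((1 : ℝ) : ℂ) := by
        push_cast
        linear_combination h
      have := Complex.ofReal_injective h'
      linarith
    have hq : f 1 = (((Nat.card P : ℚ) * (m : ℚ) - (nη : ℚ) + (nμ : ℚ)) / ((Nat.card P : ℚ) - 1) : ℚ) := by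
      have : ((Nat.card P : ℂ) - 1) * f 1 = (Nat.card P : ℂ) * (m : ℂ) - (nη : ℂ) + (nμ : ℂ) := by
        rw [← hsum, hsum2]
      push_cast
      rw [eq_div_iff hPne, mul_comm]
      exact this
    apply int_of_rat_of_integral _ hq
    have := halg y hyP
    have e : f 1 = ηL y - μL y := by
      rw [← hfP1 y hyP, ← hf y hy1]
      simp only [hΦ]
      rw [if_pos (hPK hyP)]
    rw [e]
    exact this
  obtain ⟨n, hn⟩ := hf1
  -- all values on `K` are integers
  have hfint : ∀ a ∈ K, ∃ k : ℤ, f a = (k : ℂ) := by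
    intro a ha
    obtain ⟨x, hx, z, hz, rfl, hzp⟩ := hsplit a ha
    rw [hfP x hx z]
    by_cases hz1 : z = 1
    · rw [hz1]
      exact ⟨n, hn⟩
    · exact hfz z hz hz1 hzp
  choose! F hF using hfint
  refine ⟨F, n, ?_, ?_, ?_⟩
  · intro a ha ha1
    have h1 := hf a ha1
    simp only [hΦ] at h1
    rw [if_pos ha] at h1
    rw [← hF a ha, ← h1]
    ring
  · intro a ha x hx
    have h1 : ((F (x * a) : ℤ) : ℂ) = ((F a : ℤ) : ℂ) := by
      rw [← hF (x * a) (K.mul_mem (hPK hx) ha), ← hF a ha, hfP x hx a]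
    exact_mod_cast h1
  · intro x hx
    have h1 : ((F x : ℤ) : ℂ) = ((n : ℤ) : ℂ) := by
      rw [← hF x (hPK hx), hfP1 x hx, hn]
    exact_mod_cast h1

/-- finite sums over a subgroup: `finsum` over the carrier versus `Fintype` sum -/
theorem finsum_mem_subgroup (P : Subgroup L) [Fintype ↥P] (f : L → ℂ) :
    ∑ᶠ y ∈ (P : Set L), f y = ∑ y : ↥P, f (y : L) := by
  rw [← finsum_eq_sum_of_fintype]
  exact (finsum_set_coe_eq_finsum_mem (P : Set L) (f := f)).symm

/-- **[DECOMP-L]** -/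
theorem decomp_local (K P : Subgroup L) [K.Normal] [P.Normal] (hPK : P ≤ K)
    (ηL μL : L → ℂ) (p : ℕ)
    (hηc : IsClassFunction L ηL) (hμc : IsClassFunction L μL)
    (horth : ∀ α ∈ zspanOn (indIrrNot K P) ({1}ᶜ : Set L),
      classInner (fun s => ηL s - μL s) α = 0)
    (hsplit : ∀ a ∈ K, ∃ x ∈ P, ∃ z ∈ K, a = x * z ∧ (orderOf z).Coprime p)
    (hint_η : ∀ z ∈ K, (orderOf z).Coprime p → ∃ n : ℤ, ηL z = (n : ℂ))
    (hint_μ : ∀ z ∈ K, (orderOf z).Coprime p → ∃ n : ℤ, μL z = (n : ℂ))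
    (havg : ∃ m : ℤ, ∑ᶠ y ∈ (P : Set L), ηL y = (Nat.card P : ℂ) * (m : ℂ))
    (hμP : ∑ᶠ y ∈ (P : Set L), μL y = 0)
    (halg : ∀ y ∈ P, IsIntegral ℤ (ηL y - μL y))
    (hP2 : 2 ≤ Nat.card P) :
    ∃ (F : L → ℤ) (n : ℤ), (∀ a ∈ K, a ≠ 1 → ηL a = μL a + (F a : ℂ)) ∧
      (∀ a ∈ K, ∀ x ∈ P, F (x * a) = F a) ∧ (∀ x ∈ P, F x = n) := by
  classical
  haveI : Fintype ↥P := Fintype.ofFinite _
  obtain ⟨m, hm⟩ := havg
  rw [finsum_mem_subgroup] at hm hμP
  exact decomp_local' K P hPK ηL μL p hηc hμc horth hsplit hint_η hint_μ ⟨m, hm⟩ hμP halg hP2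

end Cfsg.Agent.Lib.Helper16.PF13
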