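import Mathlib
import Cfsg.Agent.Lib.Helper16.PF13Defs
import Cfsg.Agent.Lib.Helper13.PF13R
import Cfsg.Agent.Lib.Helper13.PF13DisjST
import Cfsg.Agent.Lib.Helper13.PF13DisjSW
import Cfsg.Agent.Lib.Helper13.PF13Eta
import Cfsg.Agent.Lib.Helper13.PF13Int
import Cfsg.Agent.Lib.Helper11.PF13WD
import Cfsg.Agent.Lib.Helper25.PFCycB2Lat
import Cfsg.Agent.Lib.Helper60.PFTenTSwap
import Cfsg.Agent.Lib.Helper16.PF13ArithNat

/-!
# PF sec.13, the S1547 path: the TOP assembly (helper16)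

`centralizer_eq_bot_of_sides` : from the group data `SideGrp` of both sides of the pair, the
analytic data `SideData` of both sides for the SAME function `η (φ * ψ)`, the numeric data
`SideNum`, and the Type II condition on one side, we get `C_U(P) = 1`.

Inputs (wave 1): helper13 `regular_of_not_mem`, `disjoint_ST`, `disjoint_SW`, `eta_basic`,
`eta_int_of_coprime`; helper11 `wData_of_family`.
-/

set_option autoImplicit false

namespace Cfsg.Agent.Lib.Helper16.PF13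

open Cfsg Cfsg.Agent.Lib.Helper24.PFCyc Cfsg.Agent.Lib.Helper4.PF

universe u

variable {G : Type u} [Group G] [Fintype G]

omit [Fintype G] in
theorem mul_ne_one_of_trivOn {W₁ W₂ : Subgroup G} {φ ψ : WChar W₁ W₂} (hφ : TrivOn W₂ φ)
    (hψ : TrivOn W₁ ψ) (hφ1 : φ ≠ 1) : φ * ψ ≠ 1 := by
  intro h1
  apply hφ1
  have h2 : φ = ψ⁻¹ := eq_inv_of_mul_eq_one_left (a := φ) (b := ψ) h1
  apply Cfsg.Agent.Lib.Helper25.PFCyc.eq_one_of_trivOn _ hφ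
  rw [h2]
  exact hψ.inv

/-- the inequality (\*\*) of helper10 #3548 from the data of both sides (real form, `c = m/u`) -/
theorem star_of_sideGrp {S T K K' P Q U V W₁ W₂ : Subgroup G} {AS AT : Finset G}
    {p q u v : ℕ}
    (hS : SideGrp S K P U W₁ W₂ AS p q) (hT : SideGrp T K' Q V W₂ W₁ AT q p)
    (hW : IsSelfNormalizingCyclic W₁ W₂) (hoddG : Odd (Nat.card G))
    {η : WChar W₁ W₂ → (G → ℂ)} (hη : IsCyclicTIFamily W₁ W₂ η) (φ ψ : WChar W₁ W₂)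
    (hφ : TrivOn W₂ φ) (hψ : TrivOn W₁ ψ) (hφ1 : φ ≠ 1) (hψ1 : ψ ≠ 1)
    (hSd : SideData S K P AS (η (φ * ψ)) p q (Nat.card U) u)
    (hTd : SideData T K' Q AT (η (φ * ψ)) q p (Nat.card V) v)
    (hII : (∀ a ∈ AS, ∃ x ∈ P, x ≠ 1 ∧ a * x = x * a) ∨ (∀ b ∈ AT, ∃ y ∈ Q, y ≠ 1 ∧ b * y = y * b)) :
    (2 : ℝ) ≤ ((u : ℝ) + 1) / (((Nat.card U : ℝ) / (u : ℝ)) * (p : ℝ) ^ (q - 1)) +
      ((v : ℝ) + 1) / (((Nat.card V : ℝ) / (v : ℝ)) * (q : ℝ) ^ (p - 1)) := by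
  have hω1 : φ * ψ ≠ 1 := mul_ne_one_of_trivOn hφ hψ hφ1
  obtain ⟨hcl, hnorm, hsum⟩ := Cfsg.Agent.Lib.Helper13.PF13.eta_basic hη (φ * ψ) hω1
  have hWd : WData (W₁ ⊔ W₂) (WHat W₁ W₂) (η (φ * ψ)) p q := by
    have := Cfsg.Agent.Lib.Helper11.PF13.wData_of_family hW hη φ ψ hφ hψ hφ1 hψ1
    rwa [hS.card_W₂, hS.card_W₁] at this
  have hoddW : Odd (Nat.card ↥(W₁ ⊔ W₂)) :=
    Odd.of_dvd_nat hoddG (Subgroup.card_subgroup_dvd_card _)
  have hTW : Disjoint (conjClosure AT) (conjClosure (WHat W₁ W₂)) := by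
    have := Cfsg.Agent.Lib.Helper13.PF13.disjoint_SW hT
      (Cfsg.Agent.Lib.Helper60.PFTenT.isSelfNormalizingCyclic_swap hW)
    rwa [Cfsg.Agent.Lib.Helper13.PF13.WHat_comm] at this
  exact star_of_sides S T (W₁ ⊔ W₂) K K' P Q AS AT (WHat W₁ W₂) (η (φ * ψ))
    hS.hp.pos hS.hq.pos Nat.card_pos Nat.card_pos hSd hTd hWd
    (Cfsg.Agent.Lib.Helper13.PF13.disjoint_ST hS hT hII)
    (Cfsg.Agent.Lib.Helper13.PF13.disjoint_SW hS hW) hTW hcl hnorm hsum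
    (by
      intro g h1 h2 h3
      apply Cfsg.Agent.Lib.Helper13.PF13.eta_int_of_coprime hW hoddW hη
      rw [hS.card_W₂, hS.card_W₁]
      exact Cfsg.Agent.Lib.Helper13.PF13.regular_of_not_mem hS hT g h1 h2 h3)

/-- ASSEMBLY [P13-TOP]: `C_U(P) = 1` from the data of both sides. -/
theorem centralizer_eq_bot_of_sides {S T K K' P Q U V W₁ W₂ : Subgroup G} {AS AT : Finset G}
    {p q u v : ℕ}
    (hS : SideGrp S K P U W₁ W₂ AS p q) (hT : SideGrp T K' Q V W₂ W₁ AT q p)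
    (hW : IsSelfNormalizingCyclic W₁ W₂) (hoddG : Odd (Nat.card G))
    {η : WChar W₁ W₂ → (G → ℂ)} (hη : IsCyclicTIFamily W₁ W₂ η) (φ ψ : WChar W₁ W₂)
    (hφ : TrivOn W₂ φ) (hψ : TrivOn W₁ ψ) (hφ1 : φ ≠ 1) (hψ1 : ψ ≠ 1)
    (hSd : SideData S K P AS (η (φ * ψ)) p q (Nat.card U) u)
    (hTd : SideData T K' Q AT (η (φ * ψ)) q p (Nat.card V) v)
    (hSn : SideNum P U p q u) (hTn : SideNum Q V q p v)
    (hII : (∀ a ∈ AS, ∃ x ∈ P, x ≠ 1 ∧ a * x = x * a) ∨ (∀ b ∈ AT, ∃ y ∈ Q, y ≠ 1 ∧ b * y = y * b)) :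
    U ⊓ Subgroup.centralizer (P : Set G) = ⊥ := by
  have hstar := star_of_sideGrp hS hT hW hoddG hη φ ψ hφ hψ hφ1 hψ1 hSd hTd hII
  have hc1 : Nat.card ↥(U ⊓ Subgroup.centralizer (P : Set G)) = 1 := by
    apply card_eq_one_of_star hS.hp3 hS.hq3 hSd.u_pos hTd.u_pos hstar hSn.hu hTn.hu hSn.hcu _ hSn.hc
    -- `v ≤ |V|`
    have h1 := hTn.hcu
    have h2 : 1 ≤ Nat.card ↥(V ⊓ Subgroup.centralizer (Q : Set G)) := Nat.card_pos
    calc v = 1 * v := (one_mul v).symm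
      _ ≤ Nat.card ↥(V ⊓ Subgroup.centralizer (Q : Set G)) * v := Nat.mul_le_mul_right v h2
      _ ≤ Nat.card V := h1
  exact Subgroup.card_eq_one.mp hc1

/-- the `ℕ`-form `star p q u v 1 1` of (\*\*) (monotonicity in `c = m/u ≥ 1`) -/
theorem star_one_one_of_real {p q m m' u v : ℕ} (hp : 0 < p) (hq : 0 < q) (hu : 0 < u) (hv : 0 < v)
    (hum : u ≤ m) (hvm : v ≤ m')
    (h : (2 : ℝ) ≤ ((u : ℝ) + 1) / (((m : ℝ) / (u : ℝ)) * (p : ℝ) ^ (q - 1)) +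
      ((v : ℝ) + 1) / (((m' : ℝ) / (v : ℝ)) * (q : ℝ) ^ (p - 1))) : star p q u v 1 1 := by
  unfold star
  have huR : (0 : ℝ) < (u : ℝ) := by exact_mod_cast hu
  have hvR : (0 : ℝ) < (v : ℝ) := by exact_mod_cast hv
  have hX : (0 : ℝ) < (p : ℝ) ^ (q - 1) := pow_pos (by exact_mod_cast hp) _
  have hY : (0 : ℝ) < (q : ℝ) ^ (p - 1) := pow_pos (by exact_mod_cast hq) _
  have hc1 : (1 : ℝ) ≤ (m : ℝ) / (u : ℝ) := by
    rw [le_div_iff₀ huR]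
    have : (u : ℝ) ≤ (m : ℝ) := by exact_mod_cast hum
    linarith
  have hc2 : (1 : ℝ) ≤ (m' : ℝ) / (v : ℝ) := by
    rw [le_div_iff₀ hvR]
    have : (v : ℝ) ≤ (m' : ℝ) := by exact_mod_cast hvm
    linarith
  have h1 : ((u : ℝ) + 1) / (((m : ℝ) / (u : ℝ)) * (p : ℝ) ^ (q - 1)) ≤
      ((u : ℝ) + 1) / (((1 : ℕ) : ℝ) * (p : ℝ) ^ (q - 1)) := by
    apply div_le_div_of_nonneg_left (by linarith) (by simpa using hX)
    rw [Nat.cast_one]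
    exact mul_le_mul_of_nonneg_right hc1 hX.le
  have h2 : ((v : ℝ) + 1) / (((m' : ℝ) / (v : ℝ)) * (q : ℝ) ^ (p - 1)) ≤
      ((v : ℝ) + 1) / (((1 : ℕ) : ℝ) * (q : ℝ) ^ (p - 1)) := by
    apply div_le_div_of_nonneg_left (by linarith) (by simpa using hY)
    rw [Nat.cast_one]
    exact mul_le_mul_of_nonneg_right hc2 hY.le
  linarith

end Cfsg.Agent.Lib.Helper16.PF13
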