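import Mathlib
import Cfsg.Agent.Lib.Helper16.PF13Defs
import Cfsg.Agent.Lib.Helper16.PF13DecompL
import Cfsg.Agent.Lib.Helper16.PF13Spine
import Cfsg.Agent.Lib.Helper25.PF13W
import Cfsg.Agent.Lib.Helper50.PFCycMuRes
import Cfsg.Agent.Lib.Helper78.CharValues
import Cfsg.Agent.Lib.Helper25.CharBasic
import Cfsg.Agent.Lib.Helper51.PFCycMuInd
import Cfsg.Agent.Lib.Helper13.PF13Eta
import Cfsg.Agent.Lib.Helper13.PF13Int
import Cfsg.Agent.Lib.Helper26.PF13NumA
import Cfsg.Agent.Lib.Helper75.PF13NumB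
import Cfsg.Agent.Lib.Helper41.PF13NumC
import Cfsg.Agent.Lib.Helper49.PF13EtaAvg
import Cfsg.Agent.Lib.Helper49.PF13ZEq

/-!
# PF sec.13, the S1547 path: the ONE-SIDE assembly (helper16)

`sideData_of_aux` : for one maximal subgroup `S` of the pair (context `PSide`), the analytic data
`SideData` + `SideNum` for `η ω` (any `ω ≠ 1`), from

* `hG`   : the group data `SideGrp` (module [GRP]),
* `horth`: `Res η_{φψ} - ε μ_{ψ'}` is orthogonal to `zspanOn (calZ S) {1}ᶜ` (module [ORTH]),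
* `hloc` : the local facts on `μ_{ψ'}` (module [MULOC]),
* `hint` : integrality of `μ_{ψ'}` on `p'`-elements (module [MUINT]),

and the landed modules [NUM-A] [NUM-B] [NUM-C] [ETAAVG] [ZEQ] [ETA] [INT] + `decomp_local`.
-/

set_option autoImplicit false

namespace Cfsg.Agent.Lib.Helper16.PF13

open Cfsg Cfsg.Agent.Lib.Helper24.PFCyc Cfsg.Agent.Lib.Helper4.PF

universe u

variable {G : Type u} [Group G] [Fintype G] {S W₁ U W₂ : Subgroup G} [Fintype S]
  {mu : WChar W₁ W₂ → (↥S → ℂ)} {dl : WChar W₁ W₂ → ℂ} {η : WChar W₁ W₂ → (G → ℂ)}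

omit [Fintype G] in
/-- transport of a `finsum` over a subgroup of `G` contained in `S` to `↥S` -/
theorem finsum_mem_subgroupOf (S P' : Subgroup G) (hP' : P' ≤ S) (f : G → ℂ) :
    ∑ᶠ y ∈ ((P'.subgroupOf S : Subgroup ↥S) : Set ↥S), f (y : G) = ∑ᶠ y ∈ (P' : Set G), f y := by
  have himg : (Subtype.val : ↥S → G) '' ((P'.subgroupOf S : Subgroup ↥S) : Set ↥S) = (P' : Set G) := by
    ext g
    constructor
    · rintro ⟨y, hy, rfl⟩
      exact Subgroup.mem_subgroupOf.mp hy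
    · intro hg
      exact ⟨⟨g, hP' hg⟩, Subgroup.mem_subgroupOf.mpr hg, rfl⟩
  rw [← himg, finsum_mem_image (Subtype.val_injective.injOn)]


/-- the values of `η_ω` are algebraic integers -/
theorem eta_isIntegral (hη : IsCyclicTIFamily W₁ W₂ η) (ω : WChar W₁ W₂) (g : G) :
    IsIntegral ℤ (η ω g) := by
  rcases hη.irr_or_neg ω with h1 | h1
  · exact Cfsg.Agent.Lib.Helper78.IsCharacter.isIntegral
      (Cfsg.Agent.Lib.Helper25.isCharacter_of_irr h1) g
  · have := Cfsg.Agent.Lib.Helper78.IsCharacter.isIntegral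
      (Cfsg.Agent.Lib.Helper25.isCharacter_of_irr h1) g
    have e : η ω g = -((-η ω) g) := by simp
    rw [e]
    exact this.neg

/-- ASSEMBLY [P13-SIDE], conditional form: the analytic data of ONE side. -/
theorem sideData_of_aux (h : PSide S W₁ U W₂ mu dl η)
    (hG : SideGrp S ⁅S, S⁆ (fittingHallOf S) U W₁ W₂ (AFin S) (Nat.card W₂) (Nat.card W₁))
    (ω : WChar W₁ W₂) (hω1 : ω ≠ 1)
    (ε : ℤ) (ψ' : WChar W₁ W₂) (hε : ε = 1 ∨ ε = -1) (hψ' : TrivOn W₁ ψ') (hψ'1 : ψ' ≠ 1)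
    (horth : ∀ α ∈ zspanOn (calZ S) ({1}ᶜ : Set ↥S),
        classInner (fun s : ↥S => η ω (s : G) - (ε : ℂ) * mu ψ' s) α = 0)
    (hloc : ∃ u : ℕ, 0 < u ∧ mu ψ' 1 = (u : ℂ) ∧
      (∑ᶠ k ∈ ((⁅S, S⁆ : Subgroup G) : Set G), ‖extendByZero S (mu ψ') k‖ ^ 2 =
        (Nat.card ↥(⁅S, S⁆ : Subgroup G) : ℝ)) ∧
      (∑ᶠ k ∈ ((⁅S, S⁆ : Subgroup G) : Set G), extendByZero S (mu ψ') k = 0) ∧
      (∀ a ∈ (⁅S, S⁆ : Subgroup G), ∑ᶠ x ∈ ((fittingHallOf S : Subgroup G) : Set G),
        extendByZero S (mu ψ') (x * a) = 0) ∧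
      (∀ k ∈ (⁅S, S⁆ : Subgroup G), k ≠ 1 → k ∉ litA S → extendByZero S (mu ψ') k = 0))
    (hint : ∀ z : ↥S, (orderOf z).Coprime (Nat.card W₂) → ∃ n : ℤ, mu ψ' z = (n : ℂ)) :
    ∃ u : ℕ, (SideData S ⁅S, S⁆ (fittingHallOf S) (AFin S) (η ω) (Nat.card W₂) (Nat.card W₁)
        (Nat.card U) u ∧ SideNum (fittingHallOf S) U (Nat.card W₂) (Nat.card W₁) u) ∧
        mu ψ' 1 = (u : ℂ) := by
  classical
  have hW := h.hP.selfNormalizing
  obtain ⟨u, hu0, hu1, hnormK, hsumK, hcosetP, hvanish⟩ := hloc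
  obtain ⟨hcl, -, -⟩ := Cfsg.Agent.Lib.Helper13.PF13.eta_basic h.hη ω hω1
  have hPS : fittingHallOf S ≤ S := hG.P_le.trans hG.K_le
  have hp2 : 2 ≤ Nat.card W₂ := hG.hp.two_le
  have hq1 : 1 ≤ Nat.card W₁ := hG.hq.pos
  have hoddW : Odd (Nat.card ↥(W₁ ⊔ W₂)) :=
    Odd.of_dvd_nat h.hodd (Subgroup.card_subgroup_dvd_card _)
  -- numerics
  have hA := Cfsg.Agent.Lib.Helper26.PF13.degree_mul_card_le h ψ' hψ' hψ'1 u hu1
  have hB := Cfsg.Agent.Lib.Helper75.PF13.index_mul_le h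
  have hC := Cfsg.Agent.Lib.Helper41.PF13.card_cent_mod h
  set C := U ⊓ Subgroup.centralizer ((fittingHallOf S : Subgroup G) : Set G) with hCdef
  have hCU : C ≤ U := inf_le_left
  have hrel : C.relIndex U * Nat.card C = Nat.card U := by
    have := Subgroup.relIndex_mul_relIndex (⊥ : Subgroup G) C U bot_le hCU
    rw [Subgroup.relIndex_bot_left, Subgroup.relIndex_bot_left] at this
    rw [mul_comm]; exact this
  have hCpos : 0 < Nat.card C := Nat.card_pos
  have hu_rel : u ≤ C.relIndex U := by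
    have : Nat.card C * u ≤ Nat.card C * C.relIndex U := by rw [mul_comm _ (C.relIndex U), hrel]; exact hA
    exact Nat.le_of_mul_le_mul_left this hCpos
  have hnum : u * (Nat.card W₂ - 1) ≤ Nat.card W₂ ^ Nat.card W₁ - 1 :=
    (Nat.mul_le_mul_right _ hu_rel).trans hB
  have hpq1 : 1 ≤ Nat.card W₂ ^ Nat.card W₁ := Nat.one_le_pow _ _ (by omega)
  have hu_le : u ≤ Nat.card U := by
    calc u = 1 * u := (one_mul u).symm
      _ ≤ Nat.card C * u := Nat.mul_le_mul_right u hCpos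
      _ ≤ Nat.card U := hA
  have hu_succ : u + 1 ≤ Nat.card W₂ ^ Nat.card W₁ := by
    have h3 : 3 ≤ Nat.card W₂ := hG.hp3
    have : u * 2 ≤ u * (Nat.card W₂ - 1) := Nat.mul_le_mul_left u (by omega)
    omega
  refine ⟨u, ⟨?_, ⟨hnum, hA, hC⟩⟩, hu1⟩
  -- the local decomposition on `↥S`
  have hKn : (KM S).Normal := Cfsg.Agent.Lib.Helper51.PFCyc.KM_normal S
  have hPn : (PS S).Normal := by
    constructor
    intro x hx g
    rw [Subgroup.mem_subgroupOf] at hx ⊢
    have := hG.P_normal (g : G) g.2 (x : G) hx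
    simpa using this
  have hPK : PS S ≤ KM S := fun x hx =>
    Subgroup.mem_subgroupOf.mpr (hG.P_le (Subgroup.mem_subgroupOf.mp hx))
  have hcardPS : Nat.card ↥(PS S) = Nat.card ↥(fittingHallOf S) :=
    Nat.card_congr (Subgroup.subgroupOfEquivOfLe hPS).toEquiv
  have hcopU : (Nat.card W₂).Coprime (Nat.card U) := by
    have := hG.coprime_PU
    rw [hG.card_P] at this
    exact Nat.Coprime.coprime_dvd_left (dvd_pow_self _ hG.hq.ne_zero) this
  have hμchar : IsCharacter ↥S (mu ψ') := Cfsg.Agent.Lib.Helper25.isCharacter_of_irr (h.md.irr ψ')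
  have hμP0 : ∑ᶠ y ∈ ((PS S : Subgroup ↥S) : Set ↥S), mu ψ' y = 0 := by
    have h1 := hcosetP 1 (Subgroup.one_mem _)
    simp only [mul_one] at h1
    rw [← finsum_mem_subgroupOf S (fittingHallOf S) hPS (extendByZero S (mu ψ'))] at h1
    rw [← h1]
    apply finsum_mem_congr rfl
    intro y _
    rw [Cfsg.Agent.Lib.Helper50.PFCyc.ebz_of_mem S (mu ψ') y.2]
  obtain ⟨F, n, hF1, hF2, hF3⟩ := decomp_local (KM S) (PS S) hPK
      (fun s : ↥S => η ω (s : G)) (fun s : ↥S => (ε : ℂ) * mu ψ' s) (Nat.card W₂)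
      (by
        intro g x
        have := hcl (x : G) (g : G)
        simpa using this)
      (by
        intro g x
        have := Cfsg.Agent.Lib.Helper25.isClassFunction_of_isCharacter hμchar g x
        simp only [this])
      (by
        intro α hα
        rw [← Cfsg.Agent.Lib.Helper49.PF13.calZ_eq_indIrrNot] at hα
        exact horth α hα)
      (by
        intro a ha
        obtain ⟨x, hx, z, hz, hxz⟩ := hG.PU_mul (a : G) (Subgroup.mem_subgroupOf.mp ha)
        refine ⟨⟨x, hPS hx⟩, Subgroup.mem_subgroupOf.mpr hx, ⟨z, hG.K_le (hG.U_le hz)⟩,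
          Subgroup.mem_subgroupOf.mpr (hG.U_le hz), Subtype.ext hxz, ?_⟩
        have h1 : orderOf (⟨z, hG.K_le (hG.U_le hz)⟩ : ↥S) = orderOf z := by
          rw [← Subgroup.orderOf_coe]
        rw [h1]
        exact Nat.Coprime.coprime_dvd_left (Subgroup.orderOf_dvd_natCard U hz) hcopU.symm)
      (by
        intro z hz hzp
        apply Cfsg.Agent.Lib.Helper13.PF13.eta_int_of_coprime hW hoddW h.hη
        have h1 : orderOf (z : G) = orderOf z := Subgroup.orderOf_coe z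
        rw [h1]
        apply Nat.Coprime.mul_right hzp
        have h2 : orderOf z ∣ Nat.card ↥(⁅S, S⁆ : Subgroup G) := by
          rw [← h1]
          exact Subgroup.orderOf_dvd_natCard _ (Subgroup.mem_subgroupOf.mp hz)
        exact Nat.Coprime.coprime_dvd_left h2 hG.coprime_Kq)
      (by
        intro z _ hzp
        obtain ⟨k, hk⟩ := hint z hzp
        exact ⟨ε * k, by push_cast; rw [hk]⟩)
      (by
        obtain ⟨m, hm⟩ := Cfsg.Agent.Lib.Helper49.PF13.eta_avg h.hη ω (fittingHallOf S)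
        refine ⟨m, ?_⟩
        rw [hcardPS, ← hm]
        exact finsum_mem_subgroupOf S (fittingHallOf S) hPS (η ω))
      (by
        rw [← mul_finsum_mem, hμP0, mul_zero])
      (by
        intro y _
        exact (eta_isIntegral h.hη _ _).sub
          ((isIntegral_intCast ε).mul (Cfsg.Agent.Lib.Helper78.IsCharacter.isIntegral hμchar y)))
      (by
        rw [hcardPS, hG.card_P]
        calc 2 ≤ Nat.card W₂ := hp2
          _ = Nat.card W₂ ^ 1 := (pow_one _).symm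
          _ ≤ Nat.card W₂ ^ Nat.card W₁ := Nat.pow_le_pow_right (by omega) hq1)
  -- transport to `G`
  have hAK : ∀ a ∈ AFin S, a ∈ (⁅S, S⁆ : Subgroup G) := fun a ha => (hG.A_sub a ha).1
  have hA1 : ∀ a ∈ AFin S, a ≠ 1 := fun a ha => (hG.A_sub a ha).2
  have hPA : ∀ x ∈ fittingHallOf S, x ≠ 1 → x ∈ AFin S := fun x hx hx1 =>
    hG.A_mem x (hG.P_le hx) hx1 ⟨x, hx, hx1, rfl⟩
  set FG : G → ℤ := fun g => if hg : g ∈ S then F ⟨g, hg⟩ else 0 with hFGdef
  have hFG : ∀ (g : G) (hg : g ∈ S), FG g = F ⟨g, hg⟩ := fun g hg => dif_pos hg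
  have hval : ∀ a ∈ AFin S, η ω a = (ε : ℂ) * extendByZero S (mu ψ') a + (FG a : ℂ) := by
    intro a ha
    have haS : a ∈ S := hG.K_le (hAK a ha)
    have := hF1 ⟨a, haS⟩ (Subgroup.mem_subgroupOf.mpr (hAK a ha))
      (fun h1 => hA1 a ha (congrArg Subtype.val h1))
    rw [hFG a haS, Cfsg.Agent.Lib.Helper50.PFCyc.ebz_of_mem S (mu ψ') haS]
    exact this
  have hcosetF : ∀ a ∈ AFin S, a ∉ fittingHallOf S → ∀ x ∈ fittingHallOf S, FG (x * a) = FG a := by
    intro a ha _ x hx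
    have haS : a ∈ S := hG.K_le (hAK a ha)
    have hxS : x ∈ S := hPS hx
    rw [hFG a haS, hFG (x * a) (S.mul_mem hxS haS)]
    exact hF2 ⟨a, haS⟩ (Subgroup.mem_subgroupOf.mpr (hAK a ha)) ⟨x, hxS⟩
      (Subgroup.mem_subgroupOf.mpr hx)
  have hPF : ∀ x ∈ fittingHallOf S, x ≠ 1 → FG x = n := by
    intro x hx _
    rw [hFG x (hPS hx)]
    exact hF3 ⟨x, hPS hx⟩ (Subgroup.mem_subgroupOf.mpr hx)
  refine
    { card_P := hG.card_P
      card_K := hG.card_K
      card_S := hG.card_S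
      u_pos := hu0
      u_le := hu_le
      hu := hu_succ
      inv := hG.inv
      ti := hG.ti
      AK := hAK
      one_not_mem := fun h1 => hA1 1 h1 rfl
      PA := hPA
      coset := hG.A_coset
      decomp := ?_ }
  have hμ1 : extendByZero S (mu ψ') 1 = (u : ℂ) := by
    rw [Cfsg.Agent.Lib.Helper50.PFCyc.ebz_of_mem S (mu ψ') S.one_mem]
    exact hu1
  rcases hε with rfl | rfl
  · refine ⟨extendByZero S (mu ψ'), FG, n, Or.inl ?_, hμ1, hnormK, hsumK, hcosetP, ?_, hcosetF, hPF⟩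
    · intro a ha
      rw [hval a ha]
      push_cast
      ring
    · intro k hk hk1 hkA
      exact hvanish k hk hk1 (fun hkA' => hkA (mem_AFin.mpr hkA'))
  · refine ⟨extendByZero S (mu ψ'), fun g => -FG g - 1, -n - 1, Or.inr ?_, hμ1, hnormK, hsumK,
      hcosetP, ?_, ?_, ?_⟩
    · intro a ha
      rw [hval a ha]
      push_cast
      ring
    · intro k hk hk1 hkA
      exact hvanish k hk hk1 (fun hkA' => hkA (mem_AFin.mpr hkA'))
    · intro a ha haP x hx
      simp only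
      rw [hcosetF a ha haP x hx]
    · intro x hx hx1
      simp only
      rw [hPF x hx hx1]

end Cfsg.Agent.Lib.Helper16.PF13
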