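import Mathlib
import Cfsg.Agent.Lib.Helper16.PF13Defs
import Cfsg.Agent.Lib.Helper16.PF13Spine
import Cfsg.Agent.Lib.Helper16.PF13Side
import Cfsg.Agent.Lib.Helper44.PF13Grp
import Cfsg.Agent.Lib.Helper44.PF13MuInt
import Cfsg.Agent.Lib.Helper26.PF13MuLoc
import Cfsg.Agent.Lib.Helper54.PF13PSide
import Cfsg.Agent.Lib.Helper60.PFTenTSwap
import Cfsg.Agent.Lib.Helper51.PFCycMuInd
import Cfsg.Agent.S1502

/-!
# PF sec.13: S1547 (`C_U(S_F) = 1`) from S1543, the book data and the [ORTH] statement (helper16)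

`OrthStmt G` : the conclusion of the module [ORTH] for every side `PSide S W₁ U W₂ mu dl η`:
`Res_S η_{φψ} - ε μ_{ψ'}` is orthogonal to `ℤ[calZ S]⁰` for some sign `ε` and some `ψ' ≠ 1`.
It follows from coherence of `calZ S` (module [ORTH], (9.11) outside the tight case) and from
helper4's lattice argument in the tight case ([ORTH-TIGHT]).

`stmt1547_of` : `Stmt1547 G` from `IsMinSimpleOddOrder G`, `BookBGData G`, `BookPF8Data G`,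
`Stmt1543 G` and `OrthStmt G`.
-/

set_option autoImplicit false

namespace Cfsg.Agent.Lib.Helper16.PF13

open Cfsg Cfsg.Agent.Lib.Helper24.PFCyc Cfsg.Agent.Lib.Helper4.PF Cfsg.Agent.Lib.Helper60.PFTenT

universe u

/-- the conclusion of [ORTH] for all sides -/
def OrthStmt (G : Type u) [Group G] [Fintype G] : Prop :=
  ∀ (S W₁ U W₂ : Subgroup G) [Fintype S] (mu : WChar W₁ W₂ → (↥S → ℂ)) (dl : WChar W₁ W₂ → ℂ)
    (η : WChar W₁ W₂ → (G → ℂ)), PSide S W₁ U W₂ mu dl η →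
    ∀ φ ψ : WChar W₁ W₂, TrivOn W₂ φ → TrivOn W₁ ψ → φ ≠ 1 → ψ ≠ 1 →
    ∃ (ε : ℤ) (ψ' : WChar W₁ W₂), (ε = 1 ∨ ε = -1) ∧ TrivOn W₁ ψ' ∧ ψ' ≠ 1 ∧
      ∀ α ∈ zspanOn (calZ S) ({1}ᶜ : Set ↥S),
        classInner (fun s : ↥S => η (φ * ψ) (s : G) - (ε : ℂ) * mu ψ' s) α = 0

variable {G : Type u} [Group G] [Fintype G]

/-- the analytic data of one side for `η (φ * ψ)`, from [ORTH] -/
theorem sideData_of {S W₁ U W₂ : Subgroup G} [Fintype S] {mu : WChar W₁ W₂ → (↥S → ℂ)}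
    {dl : WChar W₁ W₂ → ℂ} {η : WChar W₁ W₂ → (G → ℂ)} (h : PSide S W₁ U W₂ mu dl η)
    (hO : OrthStmt G) (φ ψ : WChar W₁ W₂) (hφ : TrivOn W₂ φ) (hψ : TrivOn W₁ ψ) (hφ1 : φ ≠ 1)
    (hψ1 : ψ ≠ 1) :
    ∃ u : ℕ, (SideData S ⁅S, S⁆ (fittingHallOf S) (AFin S) (η (φ * ψ)) (Nat.card W₂) (Nat.card W₁)
        (Nat.card U) u ∧ SideNum (fittingHallOf S) U (Nat.card W₂) (Nat.card W₁) u) ∧
      ∃ ψ' : WChar W₁ W₂, TrivOn W₁ ψ' ∧ ψ' ≠ 1 ∧ mu ψ' 1 = (u : ℂ) := by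
  obtain ⟨ε, ψ', hε, hψ', hψ'1, horth⟩ := hO S W₁ U W₂ mu dl η h φ ψ hφ hψ hφ1 hψ1
  obtain ⟨u, h1, h2⟩ := sideData_of_aux h (Cfsg.Agent.Lib.Helper44.PF13.sideGrp_of h) (φ * ψ)
    (mul_ne_one_of_trivOn hφ hψ hφ1) ε ψ' hε hψ' hψ'1 horth
    (Cfsg.Agent.Lib.Helper26.PF13.mu_local h ψ' hψ' hψ'1)
    (fun z hz => Cfsg.Agent.Lib.Helper44.PF13.mu_int_of_coprime h ψ' hψ' z hz)
  exact ⟨u, h1, ψ', hψ', hψ'1, h2⟩

omit [Fintype G] in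
/-- a nontrivial character trivial on `W₂` -/
theorem exists_trivOn_ne_one [Finite G] {W₁ W₂ : Subgroup G} (hW : IsSelfNormalizingCyclic W₁ W₂)
    (h2 : 2 ≤ Nat.card W₁) : ∃ φ : WChar W₁ W₂, TrivOn W₂ φ ∧ φ ≠ 1 := by
  classical
  have hcard := Cfsg.Agent.Lib.Helper51.PFCyc.card_trivSet_W₂ hW
  have h1 : 1 < (trivSet W₁ W₂ W₂).card := by rw [hcard]; omega
  obtain ⟨φ, hφ, hφ1⟩ := Finset.exists_mem_ne h1 (1 : WChar W₁ W₂)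
  exact ⟨φ, mem_trivSet.mp hφ, hφ1⟩

/-- all the data of the pair: the family `η`, the two sides, the characters `φ`, `ψ`, the analytic
data of both sides for the SAME function `η (φ * ψ)`, and the Type II condition. -/
theorem pair_data (hG : IsMinSimpleOddOrder G) (bg : BookBGData G) (pf8 : BookPF8Data G)
    (h1543 : Stmt1543 G) (hO : OrthStmt G) {S T W₁ W₂ U V : Subgroup G} [Fintype S] [Fintype T]
    (ph : PairHyp S T W₁ W₂ U V) :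
    ∃ (η : WChar W₁ W₂ → (G → ℂ)) (mu : WChar W₁ W₂ → (↥S → ℂ)) (dl : WChar W₁ W₂ → ℂ)
      (mu' : WChar W₂ W₁ → (↥T → ℂ)) (dl' : WChar W₂ W₁ → ℂ) (φ ψ : WChar W₁ W₂) (u v : ℕ),
      IsCyclicTIFamily W₁ W₂ η ∧ PSide S W₁ U W₂ mu dl η ∧ PSide T W₂ V W₁ mu' dl' (etaSwap η) ∧
      TrivOn W₂ φ ∧ TrivOn W₁ ψ ∧ φ ≠ 1 ∧ ψ ≠ 1 ∧
      SideData S ⁅S, S⁆ (fittingHallOf S) (AFin S) (η (φ * ψ)) (Nat.card W₂) (Nat.card W₁)
        (Nat.card U) u ∧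
      SideData T ⁅T, T⁆ (fittingHallOf T) (AFin T) (η (φ * ψ)) (Nat.card W₁) (Nat.card W₂)
        (Nat.card V) v ∧
      SideNum (fittingHallOf S) U (Nat.card W₂) (Nat.card W₁) u ∧
      SideNum (fittingHallOf T) V (Nat.card W₁) (Nat.card W₂) v ∧
      (∃ ψ' : WChar W₁ W₂, TrivOn W₁ ψ' ∧ ψ' ≠ 1 ∧ mu ψ' 1 = (u : ℂ)) ∧
      (∃ ψ'' : WChar W₂ W₁, TrivOn W₂ ψ'' ∧ ψ'' ≠ 1 ∧ mu' ψ'' 1 = (v : ℂ)) ∧
      ((∀ a ∈ AFin S, ∃ x ∈ fittingHallOf S, x ≠ 1 ∧ a * x = x * a) ∨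
        (∀ b ∈ AFin T, ∃ y ∈ fittingHallOf T, y ≠ 1 ∧ b * y = y * b)) := by
  classical
  have hodd : Odd (Nat.card G) := hG.1
  have hW : IsSelfNormalizingCyclic W₁ W₂ := ph.hSP.selfNormalizing
  have hoddW : Odd (Nat.card ↥(W₁ ⊔ W₂)) :=
    Odd.of_dvd_nat hodd (Subgroup.card_subgroup_dvd_card _)
  obtain ⟨η, hη⟩ := Cfsg.Agent.S1502.result W₁ W₂ hW hoddW
  obtain ⟨mu, dl, hPS⟩ := Cfsg.Agent.Lib.Helper54.PF13PSide.exists_pside hG bg pf8 h1543 ph hη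
  obtain ⟨mu', dl', hPT⟩ := Cfsg.Agent.Lib.Helper54.PF13PSide.exists_pside hG bg pf8 h1543 ph.symm
    (isCyclicTIFamily_swap hη)
  -- the characters `φ`, `ψ`
  obtain ⟨φ, hφ, hφ1⟩ := exists_trivOn_ne_one hW hPS.hq.two_le
  obtain ⟨ψT, hψT, hψT1⟩ := exists_trivOn_ne_one (isSelfNormalizingCyclic_swap hW) hPS.hp.two_le
  set ψ : WChar W₁ W₂ := swapChar W₁ W₂ ψT with hψdef
  have hψ : TrivOn W₁ ψ := trivOn_swapChar.mpr hψT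
  have hψ1 : ψ ≠ 1 := by
    intro h1
    apply hψT1
    apply (swapChar W₁ W₂).injective
    rw [map_one]
    exact h1
  -- the `T`-side characters
  set φT : WChar W₂ W₁ := (swapChar W₁ W₂).symm φ with hφTdef
  have hφT : TrivOn W₂ φT := by
    have : TrivOn W₂ (swapChar W₁ W₂ φT) := by rw [hφTdef, MulEquiv.apply_symm_apply]; exact hφ
    exact trivOn_swapChar.mp this
  have hφT1 : φT ≠ 1 := by
    intro h1
    apply hφ1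
    have := congrArg (swapChar W₁ W₂) h1
    rwa [hφTdef, MulEquiv.apply_symm_apply, map_one] at this
  -- the two sides
  obtain ⟨u, ⟨hSd, hSn⟩, hSψ⟩ := sideData_of hPS hO φ ψ hφ hψ hφ1 hψ1
  obtain ⟨v, ⟨hTd, hTn⟩, hTψ⟩ := sideData_of hPT hO ψT φT hψT hφT hψT1 hφT1
  have hηeq : etaSwap η (ψT * φT) = η (φ * ψ) := by
    unfold etaSwap
    rw [map_mul, hφTdef, MulEquiv.apply_symm_apply]
    have e : (swapChar W₁ W₂ ψT * φ : WChar W₁ W₂) = φ * ψ := by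
      apply MonoidHom.ext
      intro w
      rw [MonoidHom.mul_apply, MonoidHom.mul_apply]
      exact mul_comm _ _
    rw [e]
  rw [hηeq] at hTd
  -- the Type II condition
  have hsolvS : Group.IsSolvable ↥⁅S, S⁆ :=
    Cfsg.Agent.Lib.Helper26.PFBook.isSolvable_of_isCoatom hG ph.hS
      (Cfsg.Agent.Lib.Helper26.PFEight.commutator_self_le S)
  have hsolvT : Group.IsSolvable ↥⁅T, T⁆ :=
    Cfsg.Agent.Lib.Helper26.PFBook.isSolvable_of_isCoatom hG ph.hT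
      (Cfsg.Agent.Lib.Helper26.PFEight.commutator_self_le T)
  have hIIc : (∀ a ∈ AFin S, ∃ x ∈ fittingHallOf S, x ≠ 1 ∧ a * x = x * a) ∨
      (∀ b ∈ AFin T, ∃ y ∈ fittingHallOf T, y ≠ 1 ∧ b * y = y * b) := by
    rcases ph.hII with h2 | h2
    · left
      intro a ha
      exact Cfsg.Agent.Lib.Helper54.PF13PSide.litA_typeII hsolvS ph.hSP h2 a (mem_AFin.mp ha)
    · right
      intro b hb
      exact Cfsg.Agent.Lib.Helper54.PF13PSide.litA_typeII hsolvT ph.hTP h2 b (mem_AFin.mp hb)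
  exact ⟨η, mu, dl, mu', dl', φ, ψ, u, v, hη, hPS, hPT, hφ, hψ, hφ1, hψ1, hSd, hTd, hSn, hTn,
    hSψ, hTψ, hIIc⟩

/-- **S1547** from S1543, the book data and [ORTH]. -/
theorem stmt1547_of (hG : IsMinSimpleOddOrder G) (bg : BookBGData G) (pf8 : BookPF8Data G)
    (h1543 : Stmt1543 G) (hO : OrthStmt G) : Stmt1547 G := by
  classical
  intro S T W₁ W₂ U V hS hT hSP hTP hST hII hS25 hT25
  have ph : PairHyp S T W₁ W₂ U V := ⟨hS, hT, hSP, hTP, hST, hII, hS25, hT25⟩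
  let _ : Fintype ↥S := Fintype.ofFinite _
  let _ : Fintype ↥T := Fintype.ofFinite _
  obtain ⟨η, mu, dl, mu', dl', φ, ψ, u, v, hη, hPS, hPT, hφ, hψ, hφ1, hψ1, hSd, hTd, hSn, hTn,
    -, -, hIIc⟩ := pair_data hG bg pf8 h1543 hO ph
  exact centralizer_eq_bot_of_sides (Cfsg.Agent.Lib.Helper44.PF13.sideGrp_of hPS)
    (Cfsg.Agent.Lib.Helper44.PF13.sideGrp_of hPT) hSP.selfNormalizing hG.1 hη φ ψ hφ hψ hφ1 hψ1
    hSd hTd hSn hTn hIIc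

/-- the `ℕ`-form of (\*\*) for the pair, with the degrees `u`, `v` -/
theorem star_of_pair (hG : IsMinSimpleOddOrder G) (bg : BookBGData G) (pf8 : BookPF8Data G)
    (h1543 : Stmt1543 G) (hO : OrthStmt G) {S T W₁ W₂ U V : Subgroup G} [Fintype S] [Fintype T]
    (ph : PairHyp S T W₁ W₂ U V) :
    ∃ (η : WChar W₁ W₂ → (G → ℂ)) (mu : WChar W₁ W₂ → (↥S → ℂ)) (dl : WChar W₁ W₂ → ℂ)
      (mu' : WChar W₂ W₁ → (↥T → ℂ)) (dl' : WChar W₂ W₁ → ℂ) (u v : ℕ),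
      PSide S W₁ U W₂ mu dl η ∧ PSide T W₂ V W₁ mu' dl' (etaSwap η) ∧ 0 < u ∧ 0 < v ∧
      u ≤ Nat.card U ∧ v ≤ Nat.card V ∧
      u * (Nat.card W₂ - 1) ≤ Nat.card W₂ ^ Nat.card W₁ - 1 ∧
      v * (Nat.card W₁ - 1) ≤ Nat.card W₁ ^ Nat.card W₂ - 1 ∧
      (∃ ψ' : WChar W₁ W₂, TrivOn W₁ ψ' ∧ ψ' ≠ 1 ∧ mu ψ' 1 = (u : ℂ)) ∧
      (∃ ψ'' : WChar W₂ W₁, TrivOn W₂ ψ'' ∧ ψ'' ≠ 1 ∧ mu' ψ'' 1 = (v : ℂ)) ∧
      star (Nat.card W₂) (Nat.card W₁) u v 1 1 := by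
  obtain ⟨η, mu, dl, mu', dl', φ, ψ, u, v, hη, hPS, hPT, hφ, hψ, hφ1, hψ1, hSd, hTd, hSn, hTn,
    hSψ, hTψ, hIIc⟩ := pair_data hG bg pf8 h1543 hO ph
  have hGS := Cfsg.Agent.Lib.Helper44.PF13.sideGrp_of hPS
  have hGT := Cfsg.Agent.Lib.Helper44.PF13.sideGrp_of hPT
  have hstar := star_of_sideGrp hGS hGT ph.hSP.selfNormalizing hG.1 hη φ ψ hφ hψ hφ1 hψ1 hSd hTd
    hIIc
  exact ⟨η, mu, dl, mu', dl', u, v, hPS, hPT, hSd.u_pos, hTd.u_pos, hSd.u_le, hTd.u_le, hSn.hu,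
    hTn.hu, hSψ, hTψ,
    star_one_one_of_real hGS.hp.pos hGS.hq.pos hSd.u_pos hTd.u_pos hSd.u_le hTd.u_le hstar⟩

end Cfsg.Agent.Lib.Helper16.PF13
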