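import Mathlib
import Cfsg.Prelude.Def_BrauerPairs
import Cfsg.Prelude.Def_BlockRank

/-!
# PROJECT BP, layer 5: the interface of the Broué–Puig `*`-theorem (helper16)

`(P, e)` is a maximal Brauer pair of the block `B` of `G`.  For `v ∈ P` write
`C(v) = C_G(⟨v⟩)` and `f` for a block of `C(v)` with `(⟨v⟩, f) ≤ (P, e)` (there is exactly one,
S4655).  The *local datum* of a function `θ` on `G` at `(v, f)` is the `f`-part of `c ↦ θ (v c)`
on `C(v)`, read at the `p`-regular elements.

* `IsStarOf p M P e η χ θ`: `θ` has the local data of `η * χ`: at every `(v, f)`, `v ∈ P`, the local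
  datum of `θ` is `η v` times the local datum of `χ`.
* `IsZSpan B θ`: `θ` is an integer combination of the members of `B`.
* `IsFusionStable p M P e η`: `η u = η v` whenever `(u, f_u)` and `(v, f_v)` are `G`-conjugate.
* `BPFull p M B P e`: the `*`-theorem: for every fusion-stable generalized character `η` of `P` and
  `χ ∈ B` some `θ ∈ ℤ B` has the local data of `η * χ`.
* `BPIrr p M B P e`: the same for all `η ∈ Irr(P)` (what the nilpotent rows use; for a nilpotent
  block every class function of `P` is fusion-stable).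
-/

set_option autoImplicit false

namespace Cfsg.Agent.Lib.Helper16.BP

open Cfsg

variable {G : Type*} [Group G]

/-- `C_G(⟨u⟩)`. -/
abbrev locC (u : G) : Subgroup G :=
  Subgroup.centralizer ((Subgroup.zpowers u : Subgroup G) : Set G)

/-- `θ` is an integer combination of the members of `B`. -/
def IsZSpan (B : Set (IrrCharacter G)) (θ : G → ℂ) : Prop :=
  ∃ n : IrrCharacter G → ℤ, ∀ g : G, θ g = ∑ᶠ ψ ∈ B, (n ψ : ℂ) * (ψ : G → ℂ) g

/-- `θ` has the local data of `η * χ` with respect to the maximal pair `(P, e)`. -/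
def IsStarOf [Finite G] (p : ℕ) (M : Ideal AlgInt) (P : Subgroup G)
    (e : Set (IrrCharacter (Subgroup.centralizer (P : Set G)))) (η : P → ℂ) (χ θ : G → ℂ) : Prop :=
  ∀ (v : G) (hv : v ∈ P) (f : Set (IrrCharacter (locC v))),
    SubpairLE p M (Subgroup.zpowers v) f P e →
      ∀ s : locC v, ¬ p ∣ orderOf s →
        blockPart f (fun c : locC v => θ (v * (c : G))) s =
          η ⟨v, hv⟩ * blockPart f (fun c : locC v => χ (v * (c : G))) s

/-- `η` is constant on the `G`-conjugacy classes of the subsections `(v, f_v)`, `v ∈ P`. -/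
def IsFusionStable (p : ℕ) (M : Ideal AlgInt) (P : Subgroup G)
    (e : Set (IrrCharacter (Subgroup.centralizer (P : Set G)))) (η : P → ℂ) : Prop :=
  ∀ (u v : G) (hu : u ∈ P) (hv : v ∈ P) (fu : Set (IrrCharacter (locC u)))
    (fv : Set (IrrCharacter (locC v))) (g : G),
    SubpairLE p M (Subgroup.zpowers u) fu P e → SubpairLE p M (Subgroup.zpowers v) fv P e →
    g * u * g⁻¹ = v →
    (∃ ξ ∈ fu, ∃ ξ' ∈ fv, ∀ (c : locC u) (c' : locC v), (c' : G) = g * (c : G) * g⁻¹ →
      (ξ' : locC v → ℂ) c' = (ξ : locC u → ℂ) c) →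
    η ⟨u, hu⟩ = η ⟨v, hv⟩

/-- The Broué–Puig `*`-theorem for the maximal pair `(P, e)` of `B`. -/
def BPFull [Finite G] (p : ℕ) (M : Ideal AlgInt) (B : Set (IrrCharacter G)) (P : Subgroup G)
    (e : Set (IrrCharacter (Subgroup.centralizer (P : Set G)))) : Prop :=
  ∀ η : P → ℂ, IsGeneralizedCharacter P η → IsFusionStable p M P e η →
    ∀ χ : IrrCharacter G, χ ∈ B → ∃ θ : G → ℂ, IsZSpan B θ ∧ IsStarOf p M P e η (χ : G → ℂ) θ

/-- The `*`-theorem for the irreducible characters of `P` (enough for nilpotent blocks). -/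
def BPIrr [Finite G] (p : ℕ) (M : Ideal AlgInt) (B : Set (IrrCharacter G)) (P : Subgroup G)
    (e : Set (IrrCharacter (Subgroup.centralizer (P : Set G)))) : Prop :=
  ∀ η : IrrCharacter P, ∀ χ : IrrCharacter G, χ ∈ B →
    ∃ θ : G → ℂ, IsZSpan B θ ∧ IsStarOf p M P e (η : P → ℂ) (χ : G → ℂ) θ

end Cfsg.Agent.Lib.Helper16.BP
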