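import Cfsg.Agent.Lib.Helper16.FirstMain
import Cfsg.Agent.Lib.Helper81.IrrTwist

/-!
# Transport of blocks along a group isomorphism (helper16)

For `φ : K₁ ≃* K₂`, composition with `φ` maps irreducible characters, blocks, block idempotent
coefficients, defect classes and defect groups of `K₂` to those of `K₁`.
-/

set_option autoImplicit false

namespace Cfsg.Agent.Lib.Helper16

open Cfsg
open scoped ComplexConjugate

universe u

variable {K₁ K₂ : Type u} [Group K₁] [Group K₂]

/-- Pull back an irreducible character along a group isomorphism. -/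
noncomputable def irrPull (φ : K₁ ≃* K₂) (χ : IrrCharacter K₂) : IrrCharacter K₁ :=
  ⟨(χ : K₂ → ℂ) ∘ φ, Cfsg.Agent.Lib.Helper81.isIrrCharacter_comp_mulEquiv χ.2 φ⟩

theorem irrPull_apply (φ : K₁ ≃* K₂) (χ : IrrCharacter K₂) (k : K₁) :
    (irrPull φ χ : K₁ → ℂ) k = (χ : K₂ → ℂ) (φ k) := rfl

theorem irrPull_symm_irrPull (φ : K₁ ≃* K₂) (χ : IrrCharacter K₂) :
    irrPull φ.symm (irrPull φ χ) = χ := by
  apply Subtype.ext
  funext k
  rw [irrPull_apply, irrPull_apply, MulEquiv.apply_symm_apply]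

theorem irrPull_irrPull_symm (φ : K₁ ≃* K₂) (χ : IrrCharacter K₁) :
    irrPull φ (irrPull φ.symm χ) = χ := by
  apply Subtype.ext
  funext k
  rw [irrPull_apply, irrPull_apply, MulEquiv.symm_apply_apply]

theorem irrPull_injective (φ : K₁ ≃* K₂) : Function.Injective (irrPull φ) := by
  intro χ ψ h
  rw [← irrPull_symm_irrPull φ χ, h, irrPull_symm_irrPull]

/-- Pull back a set of irreducible characters along a group isomorphism. -/
def pullBlock (φ : K₁ ≃* K₂) (β : Set (IrrCharacter K₂)) : Set (IrrCharacter K₁) :=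
  irrPull φ '' β

theorem irrPull_mem_pullBlock (φ : K₁ ≃* K₂) {β : Set (IrrCharacter K₂)} {χ : IrrCharacter K₂}
    (hχ : χ ∈ β) : irrPull φ χ ∈ pullBlock φ β := ⟨χ, hχ, rfl⟩

theorem mem_pullBlock_iff (φ : K₁ ≃* K₂) {β : Set (IrrCharacter K₂)} {ξ : IrrCharacter K₁} :
    ξ ∈ pullBlock φ β ↔ irrPull φ.symm ξ ∈ β := by
  constructor
  · rintro ⟨χ, hχ, rfl⟩
    rwa [irrPull_symm_irrPull]
  · intro h
    exact ⟨_, h, irrPull_irrPull_symm φ ξ⟩

theorem index_centralizer_apply (φ : K₁ ≃* K₂) (k : K₁) :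
    (Subgroup.centralizer ({φ k} : Set K₂)).index = (Subgroup.centralizer ({k} : Set K₁)).index := by
  have h1 : (Subgroup.centralizer ({φ k} : Set K₂)).comap φ.toMonoidHom =
      Subgroup.centralizer ({k} : Set K₁) := by
    ext x
    rw [Subgroup.mem_comap, Subgroup.mem_centralizer_singleton_iff,
      Subgroup.mem_centralizer_singleton_iff]
    show φ x * φ k = φ k * φ x ↔ _
    rw [← map_mul, ← map_mul, φ.injective.eq_iff]
  rw [← h1]
  exact (Subgroup.index_comap_of_surjective _ φ.surjective).symm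

theorem centralChar_comp_mulEquiv (φ : K₁ ≃* K₂) (χ : K₂ → ℂ) (k : K₁) :
    centralChar (χ ∘ φ) k = centralChar χ (φ k) := by
  unfold centralChar
  rw [index_centralizer_apply]
  simp only [Function.comp_apply, map_one]

theorem sameBlock_comp_mulEquiv_iff {M : Ideal AlgInt} (φ : K₁ ≃* K₂) (χ ψ : K₂ → ℂ) :
    SameBlock M (χ ∘ φ) (ψ ∘ φ) ↔ SameBlock M χ ψ := by
  constructor
  · intro h g
    have := h (φ.symm g)
    rwa [centralChar_comp_mulEquiv, centralChar_comp_mulEquiv, MulEquiv.apply_symm_apply] at this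
  · intro h k
    rw [centralChar_comp_mulEquiv, centralChar_comp_mulEquiv]
    exact h (φ k)

theorem pullBlock_blockOf {M : Ideal AlgInt} (φ : K₁ ≃* K₂) (χ : IrrCharacter K₂) :
    pullBlock φ (blockOf M (χ : K₂ → ℂ)) = blockOf M (irrPull φ χ : K₁ → ℂ) := by
  ext ξ
  rw [mem_pullBlock_iff, mem_blockOf_iff, mem_blockOf_iff]
  have h1 : (irrPull φ χ : K₁ → ℂ) = (χ : K₂ → ℂ) ∘ φ := rfl
  have h2 : (ξ : K₁ → ℂ) = ((irrPull φ.symm ξ : IrrCharacter K₂) : K₂ → ℂ) ∘ φ := by
    funext k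
    show _ = (ξ : K₁ → ℂ) (φ.symm (φ k))
    rw [MulEquiv.symm_apply_apply]
  rw [h1, h2, sameBlock_comp_mulEquiv_iff]

theorem isPBlock_pullBlock {M : Ideal AlgInt} (φ : K₁ ≃* K₂) {β : Set (IrrCharacter K₂)}
    (hβ : IsPBlock M β) : IsPBlock M (pullBlock φ β) := by
  obtain ⟨χ, rfl⟩ := hβ
  exact ⟨irrPull φ χ, pullBlock_blockOf φ χ⟩

theorem blockCoeff_pullBlock [Finite K₁] (φ : K₁ ≃* K₂) (β : Set (IrrCharacter K₂)) (k : K₁) :
    blockCoeff (pullBlock φ β) k = blockCoeff β (φ k) := by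
  unfold blockCoeff pullBlock
  rw [finsum_mem_image (irrPull_injective φ).injOn, Nat.card_congr φ.toEquiv]
  simp only [irrPull_apply, map_one]

theorem isDefectClass_pullBlock [Finite K₁] {M : Ideal AlgInt} (φ : K₁ ≃* K₂)
    {β : Set (IrrCharacter K₂)} {k : K₁} (h : IsDefectClass M β (φ k)) :
    IsDefectClass M (pullBlock φ β) k := by
  refine ⟨?_, ?_, ?_⟩
  · rw [blockCoeff_pullBlock]
    exact h.1
  · rw [blockCoeff_pullBlock]
    exact h.2.1
  · rintro _ ⟨χ, hχ, rfl⟩
    have h1 : (irrPull φ χ : K₁ → ℂ) = (χ : K₂ → ℂ) ∘ φ := rfl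
    rw [h1, centralChar_comp_mulEquiv]
    exact h.2.2 χ hχ

theorem isDefectGroup_pullBlock [Finite K₁] [Finite K₂] {M : Ideal AlgInt} {p : ℕ} [Fact p.Prime]
    (φ : K₁ ≃* K₂) {β : Set (IrrCharacter K₂)} {D : Subgroup K₂}
    (hD : IsDefectGroup p M β D) : IsDefectGroup p M (pullBlock φ β) (D.comap φ.toMonoidHom) := by
  obtain ⟨g, hg, Q, rfl⟩ := hD
  have hg' : IsDefectClass M (pullBlock φ β) (φ.symm g) := by
    apply isDefectClass_pullBlock
    rwa [MulEquiv.apply_symm_apply]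
  refine ⟨φ.symm g, hg', ?_⟩
  set D := (Q : Subgroup (Subgroup.centralizer ({g} : Set K₂))).map
    (Subgroup.centralizer ({g} : Set K₂)).subtype with hDdef
  have hle : D.comap φ.toMonoidHom ≤ Subgroup.centralizer ({φ.symm g} : Set K₁) := by
    intro x hx
    rw [Subgroup.mem_comap] at hx
    obtain ⟨q, _, hq⟩ := hx
    have hc : φ x ∈ Subgroup.centralizer ({g} : Set K₂) := by
      have : (φ.toMonoidHom x) = (q : K₂) := hq.symm
      show φ.toMonoidHom x ∈ _
      rw [this]
      exact q.2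
    rw [Subgroup.mem_centralizer_singleton_iff] at hc ⊢
    apply φ.injective
    rw [map_mul, map_mul, MulEquiv.apply_symm_apply]
    exact hc
  have hcardD : Nat.card (D.comap φ.toMonoidHom) = Nat.card D := by
    have : D.comap φ.toMonoidHom = D.map φ.symm.toMonoidHom :=
      Subgroup.comap_equiv_eq_map_symm φ D
    rw [this]
    exact Subgroup.card_map_of_injective φ.symm.injective
  have hcardC : Nat.card (Subgroup.centralizer ({φ.symm g} : Set K₁)) =
      Nat.card (Subgroup.centralizer ({g} : Set K₂)) := by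
    have h1 := index_centralizer_apply φ (φ.symm g)
    rw [MulEquiv.apply_symm_apply] at h1
    have h2 := Subgroup.index_mul_card (Subgroup.centralizer ({φ.symm g} : Set K₁))
    have h3 := Subgroup.index_mul_card (Subgroup.centralizer ({g} : Set K₂))
    have h4 : Nat.card K₁ = Nat.card K₂ := Nat.card_congr φ.toEquiv
    rw [h1] at h3
    have hi0 : (Subgroup.centralizer ({φ.symm g} : Set K₁)).index ≠ 0 :=
      Subgroup.index_ne_zero_of_finite
    apply Nat.eq_of_mul_eq_mul_left (Nat.pos_of_ne_zero hi0)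
    rw [h2, h3, h4]
  have hcard : Nat.card (D.comap φ.toMonoidHom) =
      p ^ (Nat.card (Subgroup.centralizer ({φ.symm g} : Set K₁))).factorization p := by
    rw [hcardD, hcardC, hDdef, card_sylow_map Q]
  obtain ⟨S, hS⟩ := exists_sylow_map_eq_of_card hle hcard
  exact ⟨S, hS.symm⟩

end Cfsg.Agent.Lib.Helper16
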