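import Mathlib
import Cfsg.Agent.Lib.Helper82.SubsecKernel
import Cfsg.Agent.Lib.Helper16.BlockTransport

/-!
# Orthogonality of the contributions of non-conjugate subsections (helper16)

Let `(u, e)` and `(u', e')` be subsections of `G` (`u, u'` are `p`-elements, `e, e'` blocks of
`H = C_G(u)`, `H' = C_G(u')`).  If no element `g` of `G` conjugates `u` to `u'` and some member
of `e` to a member of `e'`, then the `(u, e)`-parts and the `(u', e')`-parts of the irreducible
characters of `G` are orthogonal (`sum_irr_secPart_mul_conj_eq_zero`), hence the product of the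
two matrices of contributions vanishes (`sum_secM_mul_conj_eq_zero`).
-/

set_option autoImplicit false
set_option linter.unusedSectionVars false
set_option linter.style.haveILetI false

namespace Cfsg.Agent.Lib.Helper16

open Cfsg Finset Cfsg.Agent.Lib.Helper78 Cfsg.Agent.Lib.Helper82
open scoped ComplexConjugate

section Orth

variable {G : Type*} [Group G] [Fintype G] {M : Ideal AlgInt}

/-- Elements of the `p`-sections of non-conjugate `p`-elements are not conjugate: the second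
orthogonality sum vanishes. -/
theorem sum_irr_mul_conj_section_eq_zero {p : ℕ} [Fact p.Prime] (u u' : G)
    (hu : ∃ k : ℕ, orderOf u = p ^ k) (hu' : ∃ k : ℕ, orderOf u' = p ^ k)
    (H H' : Subgroup G) (hH : ∀ g : G, g ∈ H ↔ Commute u g)
    (hH' : ∀ g : G, g ∈ H' ↔ Commute u' g) (hnc : ∀ g : G, g * u * g⁻¹ ≠ u')
    (c : H) (c' : H') (hc : ¬ p ∣ orderOf c) (hc' : ¬ p ∣ orderOf c') :
    ∑ ψ : IrrCharacter G, (ψ : G → ℂ) (u * (c : G)) * conj ((ψ : G → ℂ) (u' * (c' : G))) = 0 := by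
  classical
  rw [sum_irr_mul_conj_eq]
  unfold classIndicator
  rw [if_neg, mul_zero]
  intro hconj
  obtain ⟨g, hg⟩ := isConj_iff.mp hconj
  have h1 : IsPPart p (u * (c : G)) (g * u' * g⁻¹) :=
    hg ▸ isPPart_conj (isPPart_mul_of_mem_gen u' hu' H' hH' c' hc') g
  have h2 : g * u' * g⁻¹ = u := isPPart_unique h1 (isPPart_mul_of_mem_gen u hu H hH c hc)
  apply hnc g⁻¹
  rw [← h2]
  group

/-- Conjugation by `g` as an isomorphism `C_G(u) ≃* C_G(g u g⁻¹)`. -/
noncomputable def conjSec (u u' : G) (H H' : Subgroup G) (hH : ∀ g : G, g ∈ H ↔ Commute u g)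
    (hH' : ∀ g : G, g ∈ H' ↔ Commute u' g) (g : G) (hg : g * u * g⁻¹ = u') : H ≃* H' where
  toFun c := ⟨g * (c : G) * g⁻¹, by
    rw [hH', ← hg]
    exact (Commute.conj_iff g).mpr ((hH c).mp c.2)⟩
  invFun c' := ⟨g⁻¹ * (c' : G) * g, by
    rw [hH]
    have h1 : Commute u' (c' : G) := (hH' c').mp c'.2
    have h2 := (Commute.conj_iff g⁻¹).mpr h1
    have h3 : g⁻¹ * u' * g⁻¹⁻¹ = u := by
      rw [← hg]
      group
    rw [h3, inv_inv] at h2
    exact h2⟩
  left_inv c := by
    apply Subtype.ext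
    show g⁻¹ * (g * (c : G) * g⁻¹) * g = c
    group
  right_inv c' := by
    apply Subtype.ext
    show g * (g⁻¹ * (c' : G) * g) * g⁻¹ = c'
    group
  map_mul' a b := by
    apply Subtype.ext
    show g * ((a : G) * (b : G)) * g⁻¹ = g * (a : G) * g⁻¹ * (g * (b : G) * g⁻¹)
    group

theorem conjSec_coe (u u' : G) (H H' : Subgroup G) (hH : ∀ g : G, g ∈ H ↔ Commute u g)
    (hH' : ∀ g : G, g ∈ H' ↔ Commute u' g) (g : G) (hg : g * u * g⁻¹ = u') (c : H) :
    ((conjSec u u' H H' hH hH' g hg c : H') : G) = g * (c : G) * g⁻¹ := rfl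

open scoped Classical in
/-- **Orthogonality of non-conjugate subsections** (kernel form). -/
theorem sum_irr_secPart_mul_conj_eq_zero {p : ℕ} [Fact p.Prime] (hM : IsPModular p M)
    (u u' : G) (hu : ∃ k : ℕ, orderOf u = p ^ k) (hu' : ∃ k : ℕ, orderOf u' = p ^ k)
    (H H' : Subgroup G) [Fintype H] [Fintype H'] (hH : ∀ g : G, g ∈ H ↔ Commute u g)
    (hH' : ∀ g : G, g ∈ H' ↔ Commute u' g)
    {e : Set (IrrCharacter H)} {e' : Set (IrrCharacter H')} (he : IsPBlock M e)
    (he' : IsPBlock M e')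
    (hne : ∀ g : G, g * u * g⁻¹ = u' → ¬ ∃ ξ ∈ e, ∃ ξ' ∈ e', ∀ (c : H) (c' : H'),
      (c' : G) = g * (c : G) * g⁻¹ → (ξ' : H' → ℂ) c' = (ξ : H → ℂ) c)
    (s : H) (s' : H') (hs : ¬ p ∣ orderOf s) (hs' : ¬ p ∣ orderOf s') :
    ∑ ψ : IrrCharacter G,
      secPart u H e (ψ : G → ℂ) s * conj (secPart u' H' e' (ψ : G → ℂ) s') = 0 := by
  unfold secPart
  obtain ⟨N, hN⟩ : ∃ N : ℂ, N = (Nat.card H : ℂ) := ⟨_, rfl⟩
  obtain ⟨N', hN'⟩ : ∃ N' : ℂ, N' = (Nat.card H' : ℂ) := ⟨_, rfl⟩
  have hNc : conj N'⁻¹ = N'⁻¹ := by rw [hN', map_inv₀, Complex.conj_natCast]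
  -- expand
  have hexp : ∀ ψ : IrrCharacter G,
      blockPart e (fun c : H => (ψ : G → ℂ) (u * (c : G))) s *
      conj (blockPart e' (fun c : H' => (ψ : G → ℂ) (u' * (c : G))) s') =
      N⁻¹ * N'⁻¹ * ∑ c : H, ∑ c' : H',
        blockKernel e s c * conj (blockKernel e' s' c') *
          ((ψ : G → ℂ) (u * (c : G)) * conj ((ψ : G → ℂ) (u' * (c' : G)))) := by
    intro ψ
    rw [blockPart_eq_sum_blockKernel, blockPart_eq_sum_blockKernel, ← hN, ← hN', map_mul, hNc,
      map_sum, mul_mul_mul_comm, Finset.sum_mul_sum]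
    congr 1
    apply Finset.sum_congr rfl
    intro c _
    apply Finset.sum_congr rfl
    intro c' _
    rw [map_mul]
    ring
  rw [Finset.sum_congr rfl (fun ψ _ => hexp ψ), ← Finset.mul_sum]
  have hswap : ∑ ψ : IrrCharacter G, ∑ c : H, ∑ c' : H',
        blockKernel e s c * conj (blockKernel e' s' c') *
          ((ψ : G → ℂ) (u * (c : G)) * conj ((ψ : G → ℂ) (u' * (c' : G)))) =
      ∑ c : H, ∑ c' : H', blockKernel e s c * conj (blockKernel e' s' c') *
        ∑ ψ : IrrCharacter G, (ψ : G → ℂ) (u * (c : G)) * conj ((ψ : G → ℂ) (u' * (c' : G))) := by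
    rw [Finset.sum_comm]
    apply Finset.sum_congr rfl
    intro c _
    rw [Finset.sum_comm]
    apply Finset.sum_congr rfl
    intro c' _
    rw [Finset.mul_sum]
  rw [hswap]
  by_cases hex : ∃ g₀ : G, g₀ * u * g₀⁻¹ = u'
  · -- the sections are conjugate
    obtain ⟨g₀, hg₀⟩ := hex
    set φ := conjSec u u' H H' hH hH' g₀ hg₀ with hφ
    have hrepl : ∀ (c : H) (c' : H'),
        blockKernel e s c * conj (blockKernel e' s' c') *
          ∑ ψ : IrrCharacter G, (ψ : G → ℂ) (u * (c : G)) * conj ((ψ : G → ℂ) (u' * (c' : G))) =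
        blockKernel e s c * conj (blockKernel e' s' c') *
          ∑ ξ : IrrCharacter H', (ξ : H' → ℂ) (φ c) * conj ((ξ : H' → ℂ) c') := by
      intro c c'
      by_cases hc : p ∣ orderOf c
      · rw [blockKernel_eq_zero_right hM he hs hc, zero_mul, zero_mul, zero_mul]
      · by_cases hc' : p ∣ orderOf c'
        · rw [blockKernel_eq_zero_right hM he' hs' hc', map_zero, mul_zero, zero_mul, zero_mul]
        · have hφc : ¬ p ∣ orderOf (φ c) := by
            rw [MulEquiv.orderOf_eq]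
            exact hc
          rw [← sum_irr_section_eq_gen u' hu' H' hH' (φ c) c' hφc hc']
          congr 1
          apply Finset.sum_congr rfl
          intro ψ _
          have h1 : u' * ((φ c : H') : G) = g₀ * (u * (c : G)) * g₀⁻¹ := by
            rw [hφ, conjSec_coe, ← hg₀]
            group
          rw [h1, (IsCharacter.isClassFunction (IsIrrCharacter.isCharacter ψ.2)) (u * (c : G)) g₀]
    have hcollect : ∑ c : H, ∑ c' : H', blockKernel e s c * conj (blockKernel e' s' c') *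
          ∑ ξ : IrrCharacter H', (ξ : H' → ℂ) (φ c) * conj ((ξ : H' → ℂ) c') =
        ∑ ξ : IrrCharacter H', (∑ c : H, blockKernel e s c * (irrPull φ ξ : H → ℂ) c) *
          conj (∑ c' : H', blockKernel e' s' c' * (ξ : H' → ℂ) c') := by
      have hR : ∀ ξ : IrrCharacter H', (∑ c : H, blockKernel e s c * (irrPull φ ξ : H → ℂ) c) *
          conj (∑ c' : H', blockKernel e' s' c' * (ξ : H' → ℂ) c') =
          ∑ c : H, ∑ c' : H', blockKernel e s c * conj (blockKernel e' s' c') *
            ((ξ : H' → ℂ) (φ c) * conj ((ξ : H' → ℂ) c')) := by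
        intro ξ
        rw [map_sum, Finset.sum_mul_sum]
        apply Finset.sum_congr rfl
        intro c _
        apply Finset.sum_congr rfl
        intro c' _
        rw [map_mul, irrPull_apply]
        ring
      rw [Finset.sum_congr rfl (fun ξ _ => hR ξ)]
      symm
      rw [Finset.sum_comm]
      apply Finset.sum_congr rfl
      intro c _
      rw [Finset.sum_comm]
      apply Finset.sum_congr rfl
      intro c' _
      rw [Finset.mul_sum]
    rw [Finset.sum_congr rfl (fun c _ => Finset.sum_congr rfl (fun c' _ => hrepl c c')), hcollect,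
      Finset.sum_eq_zero, mul_zero]
    intro ξ _
    rw [sum_blockKernel_mul_irr e (irrPull φ ξ) s, sum_blockKernel_mul_irr e' ξ s']
    by_cases h1 : irrPull φ ξ ∈ e
    · by_cases h2 : ξ ∈ e'
      · exfalso
        apply hne g₀ hg₀
        refine ⟨irrPull φ ξ, h1, ξ, h2, ?_⟩
        intro c c' hcc
        rw [irrPull_apply]
        refine congrArg _ (Subtype.ext ?_)
        rw [hcc, hφ, conjSec_coe]
      · rw [if_neg h2, map_zero, mul_zero]
    · rw [if_neg h1, zero_mul]
  · -- the sections are not conjugate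
    have hex' : ∀ g : G, g * u * g⁻¹ ≠ u' := fun g hg => hex ⟨g, hg⟩
    rw [Finset.sum_eq_zero, mul_zero]
    intro c _
    apply Finset.sum_eq_zero
    intro c' _
    by_cases hc : p ∣ orderOf c
    · rw [blockKernel_eq_zero_right hM he hs hc, zero_mul, zero_mul]
    · by_cases hc' : p ∣ orderOf c'
      · rw [blockKernel_eq_zero_right hM he' hs' hc', map_zero, mul_zero, zero_mul]
      · rw [sum_irr_mul_conj_section_eq_zero u u' hu hu' H H' hH hH' hex' c c' hc hc', mul_zero]

open scoped Classical in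
/-- **Orthogonality of non-conjugate subsections**: the product of the matrices of contributions
of two non-conjugate subsections vanishes. -/
theorem sum_secM_mul_conj_eq_zero {p : ℕ} [Fact p.Prime] (hM : IsPModular p M)
    (u u' : G) (hu : ∃ k : ℕ, orderOf u = p ^ k) (hu' : ∃ k : ℕ, orderOf u' = p ^ k)
    (H H' : Subgroup G) [Fintype H] [Fintype H'] (hH : ∀ g : G, g ∈ H ↔ Commute u g)
    (hH' : ∀ g : G, g ∈ H' ↔ Commute u' g)
    {e : Set (IrrCharacter H)} {e' : Set (IrrCharacter H')} (he : IsPBlock M e)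
    (he' : IsPBlock M e')
    (hne : ∀ g : G, g * u * g⁻¹ = u' → ¬ ∃ ξ ∈ e, ∃ ξ' ∈ e', ∀ (c : H) (c' : H'),
      (c' : G) = g * (c : G) * g⁻¹ → (ξ' : H' → ℂ) c' = (ξ : H → ℂ) c)
    (χ χ' : G → ℂ) :
    ∑ ψ : IrrCharacter G,
      secM p u H e χ (ψ : G → ℂ) * conj (secM p u' H' e' χ' (ψ : G → ℂ)) = 0 := by
  unfold secM
  obtain ⟨N, hN⟩ : ∃ N : ℂ, N = (Nat.card H : ℂ) := ⟨_, rfl⟩
  obtain ⟨N', hN'⟩ : ∃ N' : ℂ, N' = (Nat.card H' : ℂ) := ⟨_, rfl⟩
  have hNc : conj N'⁻¹ = N'⁻¹ := by rw [hN', map_inv₀, Complex.conj_natCast]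
  rw [← hN, ← hN']
  set R := Finset.univ.filter (fun s : H => ¬ p ∣ orderOf s) with hR
  set R' := Finset.univ.filter (fun s : H' => ¬ p ∣ orderOf s) with hR'
  have hterm : ∀ ψ : IrrCharacter G,
      (N⁻¹ * ∑ s ∈ R, secPart u H e χ s * conj (secPart u H e (ψ : G → ℂ) s)) *
        conj (N'⁻¹ * ∑ s' ∈ R', secPart u' H' e' χ' s' * conj (secPart u' H' e' (ψ : G → ℂ) s')) =
      N⁻¹ * N'⁻¹ * ∑ s ∈ R, ∑ s' ∈ R', secPart u H e χ s * conj (secPart u' H' e' χ' s') *
        conj (secPart u H e (ψ : G → ℂ) s * conj (secPart u' H' e' (ψ : G → ℂ) s')) := by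
    intro ψ
    rw [map_mul, hNc, map_sum, mul_mul_mul_comm, Finset.sum_mul_sum]
    congr 1
    apply Finset.sum_congr rfl
    intro s _
    apply Finset.sum_congr rfl
    intro s' _
    simp only [map_mul, Complex.conj_conj]
    ring
  rw [Finset.sum_congr rfl (fun ψ _ => hterm ψ), ← Finset.mul_sum, Finset.sum_comm]
  rw [Finset.sum_eq_zero, mul_zero]
  intro s hs
  rw [Finset.sum_comm]
  apply Finset.sum_eq_zero
  intro s' hs'
  rw [← Finset.mul_sum, ← map_sum]
  simp only [hR, hR', Finset.mem_filter, Finset.mem_univ, true_and] at hs hs'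
  rw [sum_irr_secPart_mul_conj_eq_zero hM u u' hu hu' H H' hH hH' he he' hne s s' hs hs',
    map_zero, mul_zero]

end Orth

end Cfsg.Agent.Lib.Helper16
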