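import Mathlib
import Cfsg.Agent.Lib.Helper16.SubsecOrth

/-!
# PROJECT BP, layer 5: conjugation invariance of subsection parts (helper16)

`blockPart` is natural under group isomorphisms, so the `(u, b)`-part of a class function `θ` of
`G` at `s` equals the `(g u g⁻¹, g b g⁻¹)`-part at `g s g⁻¹`, and the contributions `secM` of
conjugate subsections agree.
-/

set_option autoImplicit false
set_option linter.unusedSectionVars false
set_option linter.style.haveILetI false

namespace Cfsg.Agent.Lib.Helper16.BP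

open Cfsg Finset Cfsg.Agent.Lib.Helper16 Cfsg.Agent.Lib.Helper78 Cfsg.Agent.Lib.Helper82
open scoped ComplexConjugate

section Transport

universe u

variable {K₁ K₂ : Type u} [Group K₁] [Group K₂] [Fintype K₁] [Fintype K₂]

theorem classInner_comp_mulEquiv (φ : K₁ ≃* K₂) (α β : K₂ → ℂ) :
    classInner (α ∘ φ) (β ∘ φ) = classInner α β := by
  unfold classInner
  rw [Nat.card_congr φ.toEquiv]
  congr 1
  exact Fintype.sum_equiv φ.toEquiv _ _ (fun k => rfl)

open scoped Classical in
theorem blockPart_pullBlock (φ : K₁ ≃* K₂) (β : Set (IrrCharacter K₂)) (ϑ : K₂ → ℂ) (k : K₁) :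
    blockPart (pullBlock φ β) (ϑ ∘ φ) k = blockPart β ϑ (φ k) := by
  rw [blockPart_apply, blockPart_apply]
  symm
  apply Finset.sum_bij (fun χ _ => irrPull φ χ)
  · intro χ hχ
    simp only [Finset.mem_filter, Finset.mem_univ, true_and] at hχ ⊢
    exact irrPull_mem_pullBlock φ hχ
  · intro χ _ ψ _ h
    exact irrPull_injective φ h
  · intro ξ hξ
    simp only [Finset.mem_filter, Finset.mem_univ, true_and] at hξ
    refine ⟨irrPull φ.symm ξ, ?_, irrPull_irrPull_symm φ ξ⟩
    simp only [Finset.mem_filter, Finset.mem_univ, true_and]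
    exact (mem_pullBlock_iff φ).mp hξ
  · intro χ _
    have h1 : ((irrPull φ χ : IrrCharacter K₁) : K₁ → ℂ) = (χ : K₂ → ℂ) ∘ φ := rfl
    rw [h1, classInner_comp_mulEquiv]
    rfl

end Transport

section Conj

variable {G : Type*} [Group G] [Fintype G] {M : Ideal AlgInt} [hMp : M.IsPrime]

/-- If some member of `b` is `g`-conjugate to a member of the block `b'` then `b` is the pull-back
of `b'` along conjugation by `g`. -/
theorem eq_pullBlock_conjSec_of_exists (u u' : G) (H H' : Subgroup G)
    (hH : ∀ g : G, g ∈ H ↔ Commute u g) (hH' : ∀ g : G, g ∈ H' ↔ Commute u' g) (g : G)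
    (hg : g * u * g⁻¹ = u') {b : Set (IrrCharacter H)} {b' : Set (IrrCharacter H')}
    (hb : IsPBlock M b) (hb' : IsPBlock M b')
    (hex : ∃ ξ ∈ b, ∃ ξ' ∈ b', ∀ (c : H) (c' : H'), (c' : G) = g * (c : G) * g⁻¹ →
      (ξ' : H' → ℂ) c' = (ξ : H → ℂ) c) :
    b = pullBlock (conjSec u u' H H' hH hH' g hg) b' := by
  obtain ⟨ξ, hξ, ξ', hξ', hconj⟩ := hex
  have h1 : irrPull (conjSec u u' H H' hH hH' g hg) ξ' = ξ := by
    apply Subtype.ext
    funext c
    rw [irrPull_apply]
    exact hconj c _ (conjSec_coe u u' H H' hH hH' g hg c)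
  have h2 : ξ ∈ pullBlock (conjSec u u' H H' hH hH' g hg) b' := h1 ▸ irrPull_mem_pullBlock _ hξ'
  have hpb : IsPBlock M (pullBlock (conjSec u u' H H' hH hH' g hg) b') :=
    isPBlock_pullBlock _ hb'
  exact IsPBlock_eq_of_mem hb hpb hξ h2

/-- Conjugation invariance of the subsection part of a class function. -/
theorem secPart_conj (u u' : G) (H H' : Subgroup G) [Fintype H] [Fintype H']
    (hH : ∀ g : G, g ∈ H ↔ Commute u g) (hH' : ∀ g : G, g ∈ H' ↔ Commute u' g) (g : G)
    (hg : g * u * g⁻¹ = u') (b' : Set (IrrCharacter H')) {θ : G → ℂ}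
    (hθ : IsClassFunction G θ) (s : H) :
    secPart u H (pullBlock (conjSec u u' H H' hH hH' g hg) b') θ s =
      secPart u' H' b' θ (conjSec u u' H H' hH hH' g hg s) := by
  unfold secPart
  rw [← blockPart_pullBlock]
  congr 1
  funext c
  rw [Function.comp_apply, conjSec_coe, ← hg]
  have h1 : g * u * g⁻¹ * (g * (c : G) * g⁻¹) = g * (u * (c : G)) * g⁻¹ := by group
  rw [h1, hθ]

open scoped Classical in
/-- Conjugation invariance of the contributions. -/
theorem secM_conj_eq (p : ℕ) (u u' : G) (H H' : Subgroup G) [Fintype H] [Fintype H']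
    (hH : ∀ g : G, g ∈ H ↔ Commute u g) (hH' : ∀ g : G, g ∈ H' ↔ Commute u' g) (g : G)
    (hg : g * u * g⁻¹ = u') (b' : Set (IrrCharacter H')) {θ θ' : G → ℂ}
    (hθ : IsClassFunction G θ) (hθ' : IsClassFunction G θ') :
    secM p u H (pullBlock (conjSec u u' H H' hH hH' g hg) b') θ θ' = secM p u' H' b' θ θ' := by
  unfold secM
  rw [Nat.card_congr (conjSec u u' H H' hH hH' g hg).toEquiv]
  congr 1
  apply Finset.sum_bij (fun s _ => conjSec u u' H H' hH hH' g hg s)
  · intro s hs
    simp only [Finset.mem_filter, Finset.mem_univ, true_and] at hs ⊢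
    rwa [MulEquiv.orderOf_eq]
  · intro s _ t _ h
    exact (conjSec u u' H H' hH hH' g hg).injective h
  · intro t ht
    simp only [Finset.mem_filter, Finset.mem_univ, true_and] at ht
    refine ⟨(conjSec u u' H H' hH hH' g hg).symm t, ?_, MulEquiv.apply_symm_apply _ t⟩
    simp only [Finset.mem_filter, Finset.mem_univ, true_and]
    rwa [MulEquiv.orderOf_eq]
  · intro s _
    rw [secPart_conj u u' H H' hH hH' g hg b' hθ s, secPart_conj u u' H H' hH hH' g hg b' hθ' s]

end Conj

end Cfsg.Agent.Lib.Helper16.BP
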