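import Cfsg.Agent.Lib.Helper16.NormConj

/-!
# Restriction of Brauer pairs to a subgroup `L` containing their centralizers (helper16)

For a pair `(R, g)` of `G` with `R ≤ L` and `C_G(R) ≤ L`, `restrictPair L ⟨R, g⟩` is the pair
`(R, g)` seen in the group `L`.  Restriction commutes with conjugation by elements of `L`,
preserves and reflects normal inclusion and inclusion, and is injective.
-/

set_option autoImplicit false

namespace Cfsg.Agent.Lib.Helper16

open Cfsg MonoidAlgebra Cfsg.Agent.Lib.Helper77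
open scoped ComplexConjugate

universe u

theorem pullBlock_symm_pullBlock {K₁ K₂ : Type u} [Group K₁] [Group K₂] (φ : K₁ ≃* K₂)
    (β : Set (IrrCharacter K₂)) : pullBlock φ.symm (pullBlock φ β) = β := by
  ext ξ
  rw [mem_pullBlock_iff, mem_pullBlock_iff, MulEquiv.symm_symm, irrPull_symm_irrPull]

section Restrict

variable {G : Type u} [Group G]

/-- Restriction to `L` of a pair whose subgroup and centralizer lie in `L`. -/
noncomputable def restrictPair (L : Subgroup G) (a : BrauerPairIdx G) (ha : a.1 ≤ L)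
    (hC : Subgroup.centralizer (a.1 : Set G) ≤ L) : BrauerPairIdx ↥L :=
  ⟨a.1.subgroupOf L, pullBlock (centEquivIn L a.1 ha hC) a.2⟩

theorem map_conj_le_of_mem {L R : Subgroup G} (hR : R ≤ L) {t : G} (ht : t ∈ L) :
    R.map (MulAut.conj t).toMonoidHom ≤ L := by
  rintro _ ⟨r, hr, rfl⟩
  exact L.mul_mem (L.mul_mem ht (hR hr)) (L.inv_mem ht)

theorem centralizer_map_conj_le {L R : Subgroup G}
    (hC : Subgroup.centralizer (R : Set G) ≤ L) {t : G} (ht : t ∈ L) :
    Subgroup.centralizer ((R.map (MulAut.conj t).toMonoidHom : Subgroup G) : Set G) ≤ L := by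
  intro c hc
  have h1 := hC ((mem_centralizer_map_conj_iff R t c).mp hc)
  have h2 : c = t * (t⁻¹ * c * t) * t⁻¹ := by group
  rw [h2]
  exact L.mul_mem (L.mul_mem ht h1) (L.inv_mem ht)

theorem subgroupOf_map_conj (L R : Subgroup G) (t : ↥L) :
    (R.map (MulAut.conj (t : G)).toMonoidHom).subgroupOf L =
      (R.subgroupOf L).map (MulAut.conj t).toMonoidHom := by
  ext y
  rw [Subgroup.mem_subgroupOf, mem_map_conj_iff, mem_map_conj_iff, Subgroup.mem_subgroupOf]
  rfl

/-- Restriction commutes with conjugation by elements of `L`. -/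
theorem restrictPair_conjPair (L R : Subgroup G)
    (g : Set (IrrCharacter (Subgroup.centralizer (R : Set G)))) (ha : R ≤ L)
    (hC : Subgroup.centralizer (R : Set G) ≤ L) (t : ↥L)
    (ha' : R.map (MulAut.conj (t : G)).toMonoidHom ≤ L)
    (hC' : Subgroup.centralizer ((R.map (MulAut.conj (t : G)).toMonoidHom : Subgroup G) :
      Set G) ≤ L) :
    restrictPair L ⟨R.map (MulAut.conj (t : G)).toMonoidHom, conjBlock R (t : G) g⟩ ha' hC' =
      conjPair t (restrictPair L ⟨R, g⟩ ha hC) := by
  unfold restrictPair conjPair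
  apply pairIdx_ext (subgroupOf_map_conj L R t)
  intro ξ₁ ξ₂ hag
  simp only
  rw [mem_pullBlock_iff, conjBlock_eq_pullBlock, mem_pullBlock_iff, conjBlock_eq_pullBlock,
    mem_pullBlock_iff, mem_pullBlock_iff]
  have : irrPull (conjCent R (t : G)).symm
      (irrPull (centEquivIn L (R.map (MulAut.conj (t : G)).toMonoidHom) ha' hC').symm ξ₁) =
      irrPull (centEquivIn L R ha hC).symm
        (irrPull (conjCent (R.subgroupOf L) t).symm ξ₂) := by
    apply Subtype.ext
    funext c
    rw [irrPull_apply, irrPull_apply, irrPull_apply, irrPull_apply]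
    apply hag
    rfl
  rw [this]

/-- Stabilizers under `centEquivIn`: an element of `L` stabilizing the transported block in `L`
stabilizes `e` in `G`. -/
theorem stabilizesBlock_of_pullBlock_centEquivIn (L R : Subgroup G) (hRL : R ≤ L)
    (hCL : Subgroup.centralizer (R : Set G) ≤ L)
    (e : Set (IrrCharacter (Subgroup.centralizer (R : Set G)))) (r : ↥L)
    (h : StabilizesBlock (Subgroup.centralizer ((R.subgroupOf L : Subgroup ↥L) : Set ↥L))
      (pullBlock (centEquivIn L R hRL hCL) e) r) :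
    StabilizesBlock (Subgroup.centralizer (R : Set G)) e (r : G) := by
  obtain ⟨h1, h2⟩ := h
  refine ⟨?_, ?_⟩
  · rw [Subgroup.mem_normalizer_iff]
    intro c
    constructor
    · intro hc
      have h3 := (Subgroup.mem_normalizer_iff.mp h1 ⟨c, hCL hc⟩).mp
        (mk_mem_centralizer_of_subgroupOf L R (hCL hc) hc)
      exact coe_mem_centralizer_of_subgroupOf L R hRL h3
    · intro hc
      have hcL : c ∈ L := by
        have h4 : c = (r : G)⁻¹ * ((r : G) * c * (r : G)⁻¹) * (r : G) := by group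
        rw [h4]
        exact L.mul_mem (L.mul_mem (L.inv_mem r.2) (hCL hc)) r.2
      have h3 := (Subgroup.mem_normalizer_iff.mp h1 ⟨c, hcL⟩).mpr
        (mk_mem_centralizer_of_subgroupOf L R (r * ⟨c, hcL⟩ * r⁻¹).2 hc)
      exact coe_mem_centralizer_of_subgroupOf L R hRL h3
  · intro χ hχ
    obtain ⟨χ'', hχ'', hc⟩ := h2 (irrPull (centEquivIn L R hRL hCL) χ) (irrPull_mem_pullBlock _ hχ)
    rw [mem_pullBlock_iff] at hχ''
    refine ⟨irrPull (centEquivIn L R hRL hCL).symm χ'', hχ'', ?_⟩
    intro k k' hk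
    have := hc ((centEquivIn L R hRL hCL).symm k) ((centEquivIn L R hRL hCL).symm k') (by
      apply Subtype.ext
      exact hk)
    rw [irrPull_apply, MulEquiv.apply_symm_apply] at this
    rw [irrPull_apply]
    exact this

/-- Normal inclusion of pairs can be tested in `L`. -/
theorem isNormalSubpair_restrict_iff [Finite G] {p : ℕ} {M : Ideal AlgInt} {L R R' : Subgroup G}
    (hRL : R ≤ L) (hR'L : R' ≤ L) (hCR : Subgroup.centralizer (R : Set G) ≤ L)
    (hCR' : Subgroup.centralizer (R' : Set G) ≤ L)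
    {g : Set (IrrCharacter (Subgroup.centralizer (R : Set G)))}
    {g' : Set (IrrCharacter (Subgroup.centralizer (R' : Set G)))} :
    IsNormalSubpair p M (R.subgroupOf L) (pullBlock (centEquivIn L R hRL hCR) g)
      (R'.subgroupOf L) (pullBlock (centEquivIn L R' hR'L hCR') g') ↔
    IsNormalSubpair p M R g R' g' := by
  have hco : (subgroupBlockCoeff (Subgroup.centralizer ((R.subgroupOf L : Subgroup ↥L) : Set ↥L))
      (pullBlock (centEquivIn L R hRL hCR) g)) =
      fun n : ↥L => subgroupBlockCoeff (Subgroup.centralizer (R : Set G)) g (n : G) := by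
    funext n
    exact subgroupBlockCoeff_pullBlock_centEquivIn L R hRL hCR g n
  have hpg : ∀ {S : Subgroup G}, S ≤ L → IsPGroup p (S.subgroupOf L) → IsPGroup p S := by
    intro S hSL hS r
    obtain ⟨k, hk⟩ := hS ⟨⟨(r : G), hSL r.2⟩, Subgroup.mem_subgroupOf.mpr r.2⟩
    refine ⟨k, ?_⟩
    apply Subtype.ext
    have := congrArg (fun z : ↥(S.subgroupOf L) => ((z : ↥L) : G)) hk
    simpa using this
  have hblk : ∀ {S : Subgroup G} (hSL : S ≤ L) (hCS : Subgroup.centralizer (S : Set G) ≤ L)
      {γ : Set (IrrCharacter (Subgroup.centralizer (S : Set G)))},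
      IsPBlock M (pullBlock (centEquivIn L S hSL hCS) γ) → IsPBlock M γ := by
    intro S hSL hCS γ h
    have := isPBlock_pullBlock (centEquivIn L S hSL hCS).symm h
    rwa [pullBlock_symm_pullBlock] at this
  constructor
  · rintro ⟨hRg, hR'g', hle, hN, hstab, hω⟩
    refine ⟨⟨hpg hRL hRg.1, hblk hRL hCR hRg.2⟩, ⟨hpg hR'L hR'g'.1, hblk hR'L hCR' hR'g'.2⟩,
      ?_, ?_, ?_, ?_⟩
    · intro r hr
      have : (⟨r, hRL hr⟩ : ↥L) ∈ R'.subgroupOf L := hle (Subgroup.mem_subgroupOf.mpr hr)
      exact Subgroup.mem_subgroupOf.mp this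
    · intro x hx
      have h1 : (⟨x, hR'L hx⟩ : ↥L) ∈ Subgroup.normalizer ((R.subgroupOf L : Subgroup ↥L) : Set ↥L) :=
        hN (Subgroup.mem_subgroupOf.mpr hx)
      rw [Subgroup.mem_normalizer_iff]
      intro r
      constructor
      · intro hr
        have := (Subgroup.mem_normalizer_iff.mp h1 ⟨r, hRL hr⟩).mp (Subgroup.mem_subgroupOf.mpr hr)
        exact Subgroup.mem_subgroupOf.mp this
      · intro hr
        have hrL : r ∈ L := by
          have h4 : r = x⁻¹ * (x * r * x⁻¹) * x := by group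
          rw [h4]
          exact L.mul_mem (L.mul_mem (L.inv_mem (hR'L hx)) (hRL hr)) (hR'L hx)
        have := (Subgroup.mem_normalizer_iff.mp h1 ⟨r, hrL⟩).mpr (Subgroup.mem_subgroupOf.mpr hr)
        exact Subgroup.mem_subgroupOf.mp this
    · intro x hx
      exact stabilizesBlock_of_pullBlock_centEquivIn L R hRL hCR g ⟨x, hR'L hx⟩
        (hstab ⟨x, hR'L hx⟩ (Subgroup.mem_subgroupOf.mpr hx))
    · intro ξ hξ
      have := hω (irrPull (centEquivIn L R' hR'L hCR') ξ) (irrPull_mem_pullBlock _ hξ)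
      rw [hco, brauerOmega_centEquivIn] at this
      exact this
  · rintro ⟨hRg, hR'g', hle, hN, hstab, hω⟩
    refine ⟨⟨hRg.1.comap_subtype, isPBlock_pullBlock _ hRg.2⟩,
      ⟨hR'g'.1.comap_subtype, isPBlock_pullBlock _ hR'g'.2⟩, ?_, ?_, ?_, ?_⟩
    · intro r hr
      exact Subgroup.mem_subgroupOf.mpr (hle (Subgroup.mem_subgroupOf.mp hr))
    · intro x hx
      have h1 := hN (Subgroup.mem_subgroupOf.mp hx)
      rw [Subgroup.mem_normalizer_iff]
      intro r
      have h2 := Subgroup.mem_normalizer_iff.mp h1 (r : G)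
      constructor
      · intro hr
        exact Subgroup.mem_subgroupOf.mpr (h2.mp (Subgroup.mem_subgroupOf.mp hr))
      · intro hr
        exact Subgroup.mem_subgroupOf.mpr (h2.mpr (Subgroup.mem_subgroupOf.mp hr))
    · intro x hx
      exact stabilizesBlock_pullBlock_centEquivIn L R hRL hCR g x
        (hstab (x : G) (Subgroup.mem_subgroupOf.mp hx))
    · intro ξ' hξ'
      obtain ⟨ξ, hξ, rfl⟩ := hξ'
      rw [hco, brauerOmega_centEquivIn]
      exact hω ξ hξ

theorem subgroupOf_injective_of_le {L A A' : Subgroup G} (hA : A ≤ L) (hA' : A' ≤ L)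
    (h : A.subgroupOf L = A'.subgroupOf L) : A = A' := by
  rw [← Subgroup.map_subgroupOf_eq_of_le hA, ← Subgroup.map_subgroupOf_eq_of_le hA', h]

/-- Restriction is injective. -/
theorem restrictPair_injective {L : Subgroup G} {a b : BrauerPairIdx G} (ha : a.1 ≤ L)
    (hCa : Subgroup.centralizer (a.1 : Set G) ≤ L) (hb : b.1 ≤ L)
    (hCb : Subgroup.centralizer (b.1 : Set G) ≤ L)
    (h : restrictPair L a ha hCa = restrictPair L b hb hCb) : a = b := by
  obtain ⟨R, g⟩ := a
  obtain ⟨R', g'⟩ := b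
  unfold restrictPair at h
  have h1 : R.subgroupOf L = R'.subgroupOf L := congrArg Sigma.fst h
  have h2 : R = R' := subgroupOf_injective_of_le ha hb h1
  subst h2
  have h3 : pullBlock (centEquivIn L R ha hCa) g = pullBlock (centEquivIn L R hb hCb) g' :=
    eq_of_heq (Sigma.mk.inj h).2
  have h4 := congrArg (pullBlock (centEquivIn L R ha hCa).symm) h3
  rw [pullBlock_symm_pullBlock, pullBlock_symm_pullBlock] at h4
  rw [h4]

/-- Every pair of `L` whose subgroup contains `Q` (with `C_G(Q) ≤ L`) is a restriction. -/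
theorem exists_restrictPair_eq {L Q : Subgroup G} (hQL : Q ≤ L)
    (hCQ : Subgroup.centralizer (Q : Set G) ≤ L) (b' : BrauerPairIdx ↥L)
    (hQb : Q.subgroupOf L ≤ b'.1) :
    ∃ (b : BrauerPairIdx G) (hb : b.1 ≤ L) (hCb : Subgroup.centralizer (b.1 : Set G) ≤ L),
      Q ≤ b.1 ∧ restrictPair L b hb hCb = b' := by
  obtain ⟨D, d⟩ := b'
  obtain ⟨R, hRL, rfl⟩ : ∃ R : Subgroup G, R ≤ L ∧ D = R.subgroupOf L := by
    refine ⟨D.map L.subtype, ?_, ?_⟩
    · rintro _ ⟨t, _, rfl⟩
      exact t.2
    · exact (Subgroup.comap_map_eq_self_of_injective (Subgroup.subtype_injective L) D).symm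
  have hQR : Q ≤ R := by
    intro q hq
    have : (⟨q, hQL hq⟩ : ↥L) ∈ R.subgroupOf L := hQb (Subgroup.mem_subgroupOf.mpr hq)
    exact Subgroup.mem_subgroupOf.mp this
  have hCR : Subgroup.centralizer (R : Set G) ≤ L := (Subgroup.centralizer_le hQR).trans hCQ
  refine ⟨⟨R, pullBlock (centEquivIn L R hRL hCR).symm d⟩, hRL, hCR, hQR, ?_⟩
  unfold restrictPair
  simp only
  rw [pullBlock_pullBlock_symm]

end Restrict

section Chains

variable {G : Type u} [Group G] [Fintype G] {M : Ideal AlgInt}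

/-- A chain of normal inclusions in `L` starting at a restricted pair comes from a chain in `G`. -/
theorem subpairLE_of_restrictPair {p : ℕ} {L Q : Subgroup G} (hQL : Q ≤ L)
    (hCQ : Subgroup.centralizer (Q : Set G) ≤ L) {a : BrauerPairIdx G} (ha : a.1 ≤ L)
    (hCa : Subgroup.centralizer (a.1 : Set G) ≤ L) (hQa : Q ≤ a.1) {b' : BrauerPairIdx ↥L}
    (h : Relation.ReflTransGen (NormalSubpairRel p M) (restrictPair L a ha hCa) b') :
    ∃ (b : BrauerPairIdx G) (hb : b.1 ≤ L) (hCb : Subgroup.centralizer (b.1 : Set G) ≤ L),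
      Q ≤ b.1 ∧ restrictPair L b hb hCb = b' ∧
      Relation.ReflTransGen (NormalSubpairRel p M) a b := by
  induction h with
  | refl => exact ⟨a, ha, hCa, hQa, rfl, Relation.ReflTransGen.refl⟩
  | @tail c' b₂ _ hstep ih =>
    obtain ⟨c, hc, hCc, hQc, rfl, hchain⟩ := ih
    have hle : (restrictPair L c hc hCc).1 ≤ b₂.1 := hstep.2.2.1
    have hQb : Q.subgroupOf L ≤ b₂.1 := by
      refine le_trans ?_ hle
      intro q hq
      exact Subgroup.mem_subgroupOf.mpr (hQc (Subgroup.mem_subgroupOf.mp hq))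
    obtain ⟨b, hb, hCb, hQb', rfl⟩ := exists_restrictPair_eq hQL hCQ b₂ hQb
    refine ⟨b, hb, hCb, hQb', rfl, Relation.ReflTransGen.tail hchain ?_⟩
    exact (isNormalSubpair_restrict_iff hc hb hCc hCb).mp hstep

/-- A chain of normal inclusions in `G` ending inside `L` restricts to a chain in `L`. -/
theorem restrictPair_subpairLE {p : ℕ} {L : Subgroup G} {a : BrauerPairIdx G}
    (hCa : Subgroup.centralizer (a.1 : Set G) ≤ L) {b : BrauerPairIdx G}
    (h : Relation.ReflTransGen (NormalSubpairRel p M) a b) :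
    ∀ (hb : b.1 ≤ L),
      Relation.ReflTransGen (NormalSubpairRel p M)
        (restrictPair L a ((Cfsg.Agent.S4655.le_le h).trans hb) hCa)
        (restrictPair L b hb ((Subgroup.centralizer_le (Cfsg.Agent.S4655.le_le h)).trans hCa)) := by
  induction h with
  | refl => intro hb; exact Relation.ReflTransGen.refl
  | @tail c b hac hstep ih =>
    intro hb
    have hcb : c.1 ≤ b.1 := hstep.2.2.1
    have hc : c.1 ≤ L := hcb.trans hb
    have h1 := ih hc
    refine Relation.ReflTransGen.tail h1 ?_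
    exact (isNormalSubpair_restrict_iff hc hb _ _).mpr hstep

end Chains

end Cfsg.Agent.Lib.Helper16
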