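import Cfsg.Agent.Lib.Helper16.PairLocal
import Cfsg.Agent.Lib.Helper16.PairRestrict

/-!
# Blocks induced from centralizers and Brauer pairs (helper16)

`IsInducedBlock M C_G(P) c B` gives the Brauer pair `(P, c)` of `B`; conversely, for `P` abelian, a
`B`-pair `(P, c)` has `c^G = B`.  Conversion between `IsInducedBlockIn` and `IsInducedBlock` inside
the subgroup.
-/

set_option autoImplicit false

namespace Cfsg.Agent.Lib.Helper16

open Cfsg MonoidAlgebra Cfsg.Agent.Lib.Helper77
open scoped ComplexConjugate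

universe u

section Pair

variable {G : Type u} [Group G] [Fintype G] {M : Ideal AlgInt}

/-- `omega ξ` of the truncation to `C_G(P)` of the idempotent of `B` is `brauerOmega`. -/
theorem omega_resAlg_idemOf (P : Subgroup G) [Fintype ↥(Subgroup.centralizer (P : Set G))]
    (B : Set (IrrCharacter G)) (ξ : ↥(Subgroup.centralizer (P : Set G)) → ℂ) :
    omega ξ (resAlg (Subgroup.centralizer (P : Set G)) (idemOf B)) =
      brauerOmega P (blockCoeff B) ξ := by
  unfold brauerOmega omega
  rw [finsum_eq_sum_of_fintype, Finset.sum_div]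
  refine Finset.sum_congr rfl fun x _ => ?_
  rw [coeff_resAlg, coeff_idemOf]

/-- If the block `c` of `C_G(P)` induces `B` then `(P, c)` is a Brauer pair of `B`. -/
theorem isBrauerPairOf_of_isInducedBlock {p : ℕ} [Fact p.Prime] (hM : IsPModular p M)
    {B : Set (IrrCharacter G)} {P : Subgroup G} (hP : IsPGroup p P)
    {c : Set (IrrCharacter (Subgroup.centralizer (P : Set G)))}
    (hind : IsInducedBlock M (Subgroup.centralizer (P : Set G)) c B) :
    IsBrauerPairOf p M B P c := by
  classical
  have hMp := isPModular_isPrime hM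
  have : Fintype ↥(Subgroup.centralizer (P : Set G)) := Fintype.ofFinite _
  refine ⟨⟨hP, hind.1⟩, hind.2.1, ?_⟩
  intro ξ hξ
  obtain ⟨χ, hχ⟩ := IsPBlock_nonempty hMp.ne_top hind.2.1
  have h1 := isInducedBlock_congr (Subgroup.centralizer (P : Set G)) hind hξ hχ
    (idemC_mem_centerOrder hind.2.1)
  rw [omegaHom_idemC, if_pos hχ] at h1
  have h2 : omega (ξ : ↥(Subgroup.centralizer (P : Set G)) → ℂ)
      (resAlg (Subgroup.centralizer (P : Set G))
        ((idemC B : Subalgebra.center ℂ (MonoidAlgebra ℂ G)) : MonoidAlgebra ℂ G)) =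
      brauerOmega P (blockCoeff B) (ξ : ↥(Subgroup.centralizer (P : Set G)) → ℂ) :=
    omega_resAlg_idemOf P B _
  rw [h2] at h1
  exact h1

/-- For an abelian `p`-subgroup `P`, a `B`-pair `(P, c)` has `c^G = B`. -/
theorem isInducedBlock_of_isBrauerPairOf {p : ℕ} [Fact p.Prime] (hM : IsPModular p M)
    {B : Set (IrrCharacter G)} {P : Subgroup G}
    (hab : P ≤ Subgroup.centralizer (P : Set G))
    {c : Set (IrrCharacter (Subgroup.centralizer (P : Set G)))}
    (hpair : IsBrauerPairOf p M B P c) :
    IsInducedBlock M (Subgroup.centralizer (P : Set G)) c B := by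
  classical
  have hMp := isPModular_isPrime hM
  have : Fintype ↥(Subgroup.centralizer (P : Set G)) := Fintype.ofFinite _
  obtain ⟨⟨hP, hc⟩, hB, hbr⟩ := hpair
  have hCN : Subgroup.centralizer (P : Set G) ≤ Subgroup.normalizer (P : Set G) :=
    Subgroup.centralizer_le_normalizer _
  obtain ⟨ξ, hξ⟩ := IsPBlock_nonempty hMp.ne_top hc
  obtain ⟨χ₀, hχ₀⟩ := exists_irr_brauerLam hM P (Subgroup.centralizer (P : Set G)) hP le_rfl hCN ξ
  have hind : IsInducedBlock M (Subgroup.centralizer (P : Set G))
      (blockOf M (ξ : ↥(Subgroup.centralizer (P : Set G)) → ℂ)) (blockOf M (χ₀ : G → ℂ)) := by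
    apply isInducedBlock_of_brauerCentralChar hM P _ hP hab hCN ξ χ₀
    intro x
    have := hχ₀ (classSumC x) (classSumC_mem_centerOrder x)
    rw [omegaHom_classSumC] at this
    change MemLocalIdeal M (brauerLam P _ (ξ : ↥(Subgroup.centralizer (P : Set G)) → ℂ)
      (classSum x) - _) at this
    rwa [brauerLam_classSum] at this
  have hχ₀B : χ₀ ∈ B := by
    by_contra hcon
    have h1 := hχ₀ (idemC B) (idemC_mem_centerOrder hB)
    rw [omegaHom_idemC, if_neg hcon, sub_zero] at h1
    have h4 : brauerLam P (Subgroup.centralizer (P : Set G))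
        (ξ : ↥(Subgroup.centralizer (P : Set G)) → ℂ)
        ((idemC B : Subalgebra.center ℂ (MonoidAlgebra ℂ G)) : MonoidAlgebra ℂ G) =
        brauerOmega P (blockCoeff B) (ξ : Subgroup.centralizer (P : Set G) → ℂ) := by
      rw [brauerLam_apply]
      show omega _ (brP P _ (idemOf B)) = _
      unfold brauerOmega omega
      rw [finsum_eq_sum_of_fintype, Finset.sum_div]
      refine Finset.sum_congr rfl fun x _ => ?_
      rw [coeff_brP, if_pos x.2, coeff_idemOf]
    rw [h4] at h1
    have h5 := memLocalIdeal_sub (hbr ξ hξ) h1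
    have h6 : brauerOmega P (blockCoeff B) (ξ : Subgroup.centralizer (P : Set G) → ℂ) - 1 -
        brauerOmega P (blockCoeff B) (ξ : Subgroup.centralizer (P : Set G) → ℂ) = -1 := by ring
    rw [h6, memLocalIdeal_neg_iff] at h5
    exact one_not_memLocalIdeal h5
  rw [IsPBlock_eq_blockOf hB hχ₀B, IsPBlock_eq_blockOf hc hξ]
  exact hind

end Pair

section Conv

variable {G : Type u} [Group G] {M : Ideal AlgInt}

/-- The induced central character computed in the group `L` from `C_L(R)` is the one computed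
inside `L` from `C_G(R)`. -/
theorem inducedCentralChar_centEquivIn (L R : Subgroup G) (hRL : R ≤ L)
    (hCL : Subgroup.centralizer (R : Set G) ≤ L)
    (ξ : IrrCharacter ↥(Subgroup.centralizer (R : Set G))) (g : ↥L) :
    inducedCentralChar (Subgroup.centralizer ((R.subgroupOf L : Subgroup ↥L) : Set ↥L))
      (irrPull (centEquivIn L R hRL hCL) ξ : _ → ℂ) g =
    inducedCentralCharIn L (Subgroup.centralizer (R : Set G))
      (ξ : ↥(Subgroup.centralizer (R : Set G)) → ℂ) (g : G) := by
  unfold inducedCentralChar inducedCentralCharIn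
  apply finsum_mem_eq_of_bijOn (centEquivIn L R hRL hCL)
  · refine ⟨?_, (centEquivIn L R hRL hCL).injective.injOn, ?_⟩
    · intro h hh
      obtain ⟨c, hc⟩ := isConj_iff.mp (show IsConj g (h : ↥L) from hh)
      refine ⟨c⁻¹, ?_⟩
      rw [centEquivIn_coe, ← hc]
      simp [mul_assoc]
    · intro k hk
      obtain ⟨x, hx⟩ := hk
      refine ⟨(centEquivIn L R hRL hCL).symm k, ?_, MulEquiv.apply_symm_apply _ _⟩
      show IsConj g _
      rw [isConj_iff]
      refine ⟨x⁻¹, ?_⟩
      apply Subtype.ext
      have h1 : ((((centEquivIn L R hRL hCL).symm k :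
          ↥(Subgroup.centralizer ((R.subgroupOf L : Subgroup ↥L) : Set ↥L))) : ↥L) : G) =
          (k : G) := rfl
      rw [h1]
      push_cast
      rw [← hx]
      group
  · intro h _
    rw [irrPull_apply, irrPull_apply, map_one]

/-- `IsInducedBlock` in the group `L` from `C_L(R)` is `IsInducedBlockIn` from `C_G(R)`. -/
theorem isInducedBlock_centEquivIn_iff (L R : Subgroup G) (hRL : R ≤ L)
    (hCL : Subgroup.centralizer (R : Set G) ≤ L)
    (e : Set (IrrCharacter ↥(Subgroup.centralizer (R : Set G)))) (f : Set (IrrCharacter ↥L)) :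
    IsInducedBlock M (Subgroup.centralizer ((R.subgroupOf L : Subgroup ↥L) : Set ↥L))
      (pullBlock (centEquivIn L R hRL hCL) e) f ↔
    IsInducedBlockIn M L (Subgroup.centralizer (R : Set G)) e f := by
  constructor
  · rintro ⟨he', hf, h⟩
    refine ⟨?_, hf, ?_⟩
    · have := isPBlock_pullBlock (centEquivIn L R hRL hCL).symm he'
      rwa [pullBlock_symm_pullBlock] at this
    · intro ξ hξ χ hχ g
      have := h (irrPull (centEquivIn L R hRL hCL) ξ) (irrPull_mem_pullBlock _ hξ) χ hχ g
      rwa [inducedCentralChar_centEquivIn] at this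
  · rintro ⟨he, hf, h⟩
    refine ⟨isPBlock_pullBlock _ he, hf, ?_⟩
    intro ξ' hξ' χ hχ g
    obtain ⟨ξ, hξ, rfl⟩ := hξ'
    rw [inducedCentralChar_centEquivIn]
    exact h ξ hξ χ hχ g

end Conv

end Cfsg.Agent.Lib.Helper16
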