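import Cfsg.Agent.Lib.Helper16.ThirdMain

/-!
# Conjugation of Brauer pairs (helper16)

* `conjCent Q x : C_G(x Q x⁻¹) ≃* C_G(Q)` and `conjBlock Q x f = pullBlock (conjCent Q x) f`.
* `conjPair x` on the index type of Brauer pairs, with `conjPair n (conjPair z a) = conjPair (n * z) a`.
* Conjugation preserves normal inclusion, inclusion, and being a Brauer pair of a block.
-/

set_option autoImplicit false

namespace Cfsg.Agent.Lib.Helper16

open Cfsg MonoidAlgebra Cfsg.Agent.Lib.Helper77
open scoped ComplexConjugate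

universe u

section Basic

variable {G : Type u} [Group G]

theorem mem_centralizer_map_conj_iff (Q : Subgroup G) (x c : G) :
    c ∈ Subgroup.centralizer ((Q.map (MulAut.conj x).toMonoidHom : Subgroup G) : Set G) ↔
      x⁻¹ * c * x ∈ Subgroup.centralizer (Q : Set G) := by
  rw [Subgroup.mem_centralizer_iff, Subgroup.mem_centralizer_iff]
  constructor
  · intro h q hq
    have := h (x * q * x⁻¹) ⟨q, hq, rfl⟩
    calc q * (x⁻¹ * c * x) = x⁻¹ * ((x * q * x⁻¹) * c) * x := by group
      _ = x⁻¹ * (c * (x * q * x⁻¹)) * x := by rw [this]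
      _ = x⁻¹ * c * x * q := by group
  · rintro h _ ⟨q, hq, rfl⟩
    have := h q hq
    show x * q * x⁻¹ * c = c * (x * q * x⁻¹)
    calc x * q * x⁻¹ * c = x * (q * (x⁻¹ * c * x)) * x⁻¹ := by group
      _ = x * ((x⁻¹ * c * x) * q) * x⁻¹ := by rw [this]
      _ = c * (x * q * x⁻¹) := by group

/-- Conjugation by `x⁻¹` as an isomorphism `C_G(x Q x⁻¹) ≃* C_G(Q)`. -/
noncomputable def conjCent (Q : Subgroup G) (x : G) :
    ↥(Subgroup.centralizer ((Q.map (MulAut.conj x).toMonoidHom : Subgroup G) : Set G)) ≃*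
      ↥(Subgroup.centralizer (Q : Set G)) where
  toFun c := ⟨x⁻¹ * (c : G) * x, (mem_centralizer_map_conj_iff Q x c).mp c.2⟩
  invFun c := ⟨x * (c : G) * x⁻¹, (mem_centralizer_map_conj_iff Q x _).mpr (by
    have : x⁻¹ * (x * (c : G) * x⁻¹) * x = (c : G) := by group
    rw [this]
    exact c.2)⟩
  left_inv c := by
    apply Subtype.ext
    show x * (x⁻¹ * (c : G) * x) * x⁻¹ = (c : G)
    group
  right_inv c := by
    apply Subtype.ext
    show x⁻¹ * (x * (c : G) * x⁻¹) * x = (c : G)
    group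
  map_mul' a b := by
    apply Subtype.ext
    show x⁻¹ * ((a : G) * (b : G)) * x = (x⁻¹ * (a : G) * x) * (x⁻¹ * (b : G) * x)
    group

theorem conjCent_coe (Q : Subgroup G) (x : G)
    (c : ↥(Subgroup.centralizer ((Q.map (MulAut.conj x).toMonoidHom : Subgroup G) : Set G))) :
    ((conjCent Q x c : ↥(Subgroup.centralizer (Q : Set G))) : G) = x⁻¹ * (c : G) * x := rfl

theorem conjCent_symm_coe (Q : Subgroup G) (x : G) (c : ↥(Subgroup.centralizer (Q : Set G))) :
    (((conjCent Q x).symm c :
      ↥(Subgroup.centralizer ((Q.map (MulAut.conj x).toMonoidHom : Subgroup G) : Set G))) : G) =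
      x * (c : G) * x⁻¹ := rfl

/-- The Prelude's conjugate of a set of characters is the pull-back along `conjCent`. -/
theorem conjBlock_eq_pullBlock (Q : Subgroup G) (x : G)
    (f : Set (IrrCharacter (Subgroup.centralizer (Q : Set G)))) :
    conjBlock Q x f = pullBlock (conjCent Q x) f := by
  ext ξ'
  constructor
  · rintro ⟨ξ, hξ, h⟩
    rw [mem_pullBlock_iff]
    have : irrPull (conjCent Q x).symm ξ' = ξ := by
      apply Subtype.ext
      funext c
      rw [irrPull_apply]
      exact h c _ (conjCent_symm_coe Q x c)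
    rw [this]
    exact hξ
  · rintro ⟨ξ, hξ, rfl⟩
    refine ⟨ξ, hξ, ?_⟩
    intro c c' hc
    rw [irrPull_apply]
    have : conjCent Q x c' = c := by
      apply Subtype.ext
      rw [conjCent_coe, hc]
      group
    rw [this]

/-- Two Brauer-pair indices are equal when the subgroups are and the sets of characters correspond
under the identification of the centralizers. -/
theorem pairIdx_ext {Q₁ Q₂ : Subgroup G} (h : Q₁ = Q₂)
    (f₁ : Set (IrrCharacter (Subgroup.centralizer (Q₁ : Set G))))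
    (f₂ : Set (IrrCharacter (Subgroup.centralizer (Q₂ : Set G))))
    (hf : ∀ (ξ₁ : IrrCharacter (Subgroup.centralizer (Q₁ : Set G)))
      (ξ₂ : IrrCharacter (Subgroup.centralizer (Q₂ : Set G))),
      (∀ (c₁ : Subgroup.centralizer (Q₁ : Set G)) (c₂ : Subgroup.centralizer (Q₂ : Set G)),
        (c₁ : G) = (c₂ : G) → (ξ₁ : _ → ℂ) c₁ = (ξ₂ : _ → ℂ) c₂) → (ξ₁ ∈ f₁ ↔ ξ₂ ∈ f₂)) :
    (⟨Q₁, f₁⟩ : BrauerPairIdx G) = ⟨Q₂, f₂⟩ := by
  subst h
  congr 1
  ext ξ
  apply hf ξ ξ
  intro c₁ c₂ hc
  rw [Subtype.ext hc]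

/-- Conjugation of a Brauer-pair index. -/
noncomputable def conjPair (x : G) (a : BrauerPairIdx G) : BrauerPairIdx G :=
  ⟨a.1.map (MulAut.conj x).toMonoidHom, conjBlock a.1 x a.2⟩

theorem map_conj_map_conj (Q : Subgroup G) (n z : G) :
    (Q.map (MulAut.conj z).toMonoidHom).map (MulAut.conj n).toMonoidHom =
      Q.map (MulAut.conj (n * z)).toMonoidHom := by
  ext y
  rw [mem_map_conj_iff, mem_map_conj_iff, mem_map_conj_iff]
  have : z⁻¹ * (n⁻¹ * y * n) * z = (n * z)⁻¹ * y * (n * z) := by group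
  rw [this]

/-- Composition of conjugations of Brauer-pair indices. -/
theorem conjPair_conjPair (n z : G) (a : BrauerPairIdx G) :
    conjPair n (conjPair z a) = conjPair (n * z) a := by
  obtain ⟨Q, f⟩ := a
  unfold conjPair
  apply pairIdx_ext (map_conj_map_conj Q n z)
  intro ξ₁ ξ₂ hag
  simp only
  rw [conjBlock_eq_pullBlock, conjBlock_eq_pullBlock, conjBlock_eq_pullBlock, mem_pullBlock_iff,
    mem_pullBlock_iff, mem_pullBlock_iff]
  have : irrPull (conjCent Q z).symm
      (irrPull (conjCent (Q.map (MulAut.conj z).toMonoidHom) n).symm ξ₁) =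
      irrPull (conjCent Q (n * z)).symm ξ₂ := by
    apply Subtype.ext
    funext c
    rw [irrPull_apply, irrPull_apply, irrPull_apply]
    apply hag
    rw [conjCent_symm_coe, conjCent_symm_coe, conjCent_symm_coe]
    group
  rw [this]

/-- `brauerOmega` under conjugation. -/
theorem brauerOmega_conj (P : Subgroup G) (x : G) (β : G → ℂ)
    (ξ : IrrCharacter (Subgroup.centralizer (P : Set G))) :
    brauerOmega (P.map (MulAut.conj x).toMonoidHom) (fun g => β (x⁻¹ * g * x))
      (irrPull (conjCent P x) ξ : _ → ℂ) =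
    brauerOmega P β (ξ : Subgroup.centralizer (P : Set G) → ℂ) := by
  unfold brauerOmega
  rw [← finsum_comp_equiv (conjCent P x).toEquiv]
  apply finsum_congr
  intro c
  rw [irrPull_apply, irrPull_apply, map_one]
  rfl

/-- Extended idempotent coefficients of a conjugate block. -/
theorem subgroupBlockCoeff_conjBlock [Finite G] (Q : Subgroup G) (x : G)
    (f : Set (IrrCharacter (Subgroup.centralizer (Q : Set G)))) (g : G) :
    subgroupBlockCoeff (Subgroup.centralizer ((Q.map (MulAut.conj x).toMonoidHom : Subgroup G) :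
      Set G)) (conjBlock Q x f) g =
    subgroupBlockCoeff (Subgroup.centralizer (Q : Set G)) f (x⁻¹ * g * x) := by
  unfold subgroupBlockCoeff
  by_cases hg : g ∈ Subgroup.centralizer ((Q.map (MulAut.conj x).toMonoidHom : Subgroup G) : Set G)
  · have hg' := (mem_centralizer_map_conj_iff Q x g).mp hg
    rw [dif_pos hg, dif_pos hg', conjBlock_eq_pullBlock, blockCoeff_pullBlock]
    rfl
  · have hg' : x⁻¹ * g * x ∉ Subgroup.centralizer (Q : Set G) :=
      fun h => hg ((mem_centralizer_map_conj_iff Q x g).mpr h)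
    rw [dif_neg hg, dif_neg hg']

theorem map_conj_le_normalizer_map_conj {Q P : Subgroup G}
    (hPN : P ≤ Subgroup.normalizer (Q : Set G)) (x : G) :
    P.map (MulAut.conj x).toMonoidHom ≤
      Subgroup.normalizer ((Q.map (MulAut.conj x).toMonoidHom : Subgroup G) : Set G) := by
  intro v hv
  rw [mem_map_conj_iff] at hv
  have hu := hPN hv
  rw [Subgroup.mem_normalizer_iff]
  intro h
  rw [mem_map_conj_iff, mem_map_conj_iff]
  have h1 := Subgroup.mem_normalizer_iff.mp hu (x⁻¹ * h * x)
  have h2 : x⁻¹ * (v * h * v⁻¹) * x = x⁻¹ * v * x * (x⁻¹ * h * x) * (x⁻¹ * v * x)⁻¹ := by group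
  rw [h2]
  exact h1

end Basic

section Functorial

variable {G : Type u} [Group G] [Fintype G] {M : Ideal AlgInt}

/-- Conjugation preserves normal inclusion of Brauer pairs. -/
theorem isNormalSubpair_conj {p : ℕ} {Q P : Subgroup G}
    {f : Set (IrrCharacter (Subgroup.centralizer (Q : Set G)))}
    {e : Set (IrrCharacter (Subgroup.centralizer (P : Set G)))}
    (h : IsNormalSubpair p M Q f P e) (x : G) :
    IsNormalSubpair p M (Q.map (MulAut.conj x).toMonoidHom) (conjBlock Q x f)
      (P.map (MulAut.conj x).toMonoidHom) (conjBlock P x e) := by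
  obtain ⟨hQf, hPe, hQP, hPN, hstab, hω⟩ := h
  have hPN' := map_conj_le_normalizer_map_conj hPN x
  refine ⟨⟨hQf.1.map _, ?_⟩, ⟨hPe.1.map _, ?_⟩, Subgroup.map_mono hQP, hPN', ?_, ?_⟩
  · rw [conjBlock_eq_pullBlock]
    exact isPBlock_pullBlock _ hQf.2
  · rw [conjBlock_eq_pullBlock]
    exact isPBlock_pullBlock _ hPe.2
  · intro v hv
    refine ⟨normalizer_le_normalizer_centralizer' _ (hPN' hv), ?_⟩
    have hu : x⁻¹ * v * x ∈ P := (mem_map_conj_iff P x v).mp hv
    obtain ⟨_, hst⟩ := hstab _ hu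
    intro χ' hχ'
    rw [conjBlock_eq_pullBlock] at hχ' ⊢
    obtain ⟨χ, hχ, rfl⟩ := hχ'
    obtain ⟨χ₂, hχ₂, hc⟩ := hst χ hχ
    refine ⟨irrPull (conjCent Q x) χ₂, irrPull_mem_pullBlock _ hχ₂, ?_⟩
    intro k k' hk
    rw [irrPull_apply, irrPull_apply]
    apply hc
    rw [conjCent_coe, conjCent_coe, hk]
    group
  · intro ξ' hξ'
    rw [conjBlock_eq_pullBlock] at hξ'
    obtain ⟨ξ, hξ, rfl⟩ := hξ'
    have h1 : subgroupBlockCoeff (Subgroup.centralizer
        ((Q.map (MulAut.conj x).toMonoidHom : Subgroup G) : Set G)) (conjBlock Q x f) =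
        fun g => subgroupBlockCoeff (Subgroup.centralizer (Q : Set G)) f (x⁻¹ * g * x) := by
      funext g
      exact subgroupBlockCoeff_conjBlock Q x f g
    rw [h1, brauerOmega_conj]
    exact hω ξ hξ

/-- Conjugation preserves inclusion of Brauer pairs. -/
theorem subpairLE_conjPair {p : ℕ} {a b : BrauerPairIdx G}
    (h : Relation.ReflTransGen (NormalSubpairRel p M) a b) (x : G) :
    Relation.ReflTransGen (NormalSubpairRel p M) (conjPair x a) (conjPair x b) := by
  induction h with
  | refl => exact Relation.ReflTransGen.refl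
  | tail _ hbc ih => exact Relation.ReflTransGen.tail ih (isNormalSubpair_conj hbc x)

/-- Conjugation preserves being a Brauer pair of a block of `G`. -/
theorem isBrauerPairOf_conj {p : ℕ} {B : Set (IrrCharacter G)} {Q : Subgroup G}
    {f : Set (IrrCharacter (Subgroup.centralizer (Q : Set G)))}
    (h : IsBrauerPairOf p M B Q f) (x : G) :
    IsBrauerPairOf p M B (Q.map (MulAut.conj x).toMonoidHom) (conjBlock Q x f) := by
  obtain ⟨hQf, hB, hω⟩ := h
  refine ⟨⟨hQf.1.map _, ?_⟩, hB, ?_⟩
  · rw [conjBlock_eq_pullBlock]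
    exact isPBlock_pullBlock _ hQf.2
  · intro ξ' hξ'
    rw [conjBlock_eq_pullBlock] at hξ'
    obtain ⟨ξ, hξ, rfl⟩ := hξ'
    have h1 : blockCoeff B = fun g => blockCoeff B (x⁻¹ * g * x) := by
      funext g
      have := blockCoeff_conj B g x⁻¹
      rw [inv_inv] at this
      exact this.symm
    rw [h1, brauerOmega_conj]
    exact hω ξ hξ

end Functorial

end Cfsg.Agent.Lib.Helper16
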