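import Cfsg.Agent.Lib.Helper16.Osima

/-!
# Block idempotents, congruences of central characters, defect classes (helper16)
-/

set_option autoImplicit false

namespace Cfsg.Agent.Lib.Helper16

open Cfsg MonoidAlgebra
open scoped ComplexConjugate

variable {G : Type*} [Group G] [Fintype G]

/-- Completeness: a central element is determined by its central characters. -/
theorem eq_zero_of_forall_omegaHom_eq_zero (z : Subalgebra.center ℂ (MonoidAlgebra ℂ G))
    (h : ∀ ψ : IrrCharacter G, omegaHom ψ z = 0) : z = 0 := by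
  have hf : IsClassFunction G (fun g => (z : MonoidAlgebra ℂ G).coeff g) := by
    intro g x
    exact coeff_conj_of_mem_center z.2 g x
  have key := Cfsg.Agent.Lib.Helper78.eq_zero_of_forall_sum_mul_irr_eq_zero hf (by
    intro ψ
    have hψ1 : (ψ : G → ℂ) 1 ≠ 0 := Cfsg.Agent.Lib.Helper79.irr_apply_one_ne_zero ψ
    have := h ψ
    rw [omegaHom_apply] at this
    unfold omega at this
    rw [div_eq_zero_iff] at this
    exact this.resolve_right hψ1)
  apply Subtype.ext
  ext g
  exact congrFun key g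

theorem eq_of_forall_omegaHom_eq (z w : Subalgebra.center ℂ (MonoidAlgebra ℂ G))
    (h : ∀ ψ : IrrCharacter G, omegaHom ψ z = omegaHom ψ w) : z = w := by
  rw [← sub_eq_zero]
  apply eq_zero_of_forall_omegaHom_eq_zero
  intro ψ
  rw [map_sub, h ψ, sub_self]

section

variable {M : Ideal AlgInt} [hMp : M.IsPrime]

open scoped Classical in
/-- Characters in the same block have congruent central characters on the whole order. -/
theorem sameBlock_omegaHom_congr {χ ψ : IrrCharacter G}
    (h : SameBlock M (χ : G → ℂ) (ψ : G → ℂ))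
    {z : Subalgebra.center ℂ (MonoidAlgebra ℂ G)} (hz : z ∈ centerOrder G M) :
    MemLocalIdeal M (omegaHom χ z - omegaHom ψ z) := by
  rw [omegaHom_apply, omegaHom_apply, omega_eq_sum_classes _ (irr_conj χ) z.2,
    omega_eq_sum_classes _ (irr_conj ψ) z.2, ← Finset.sum_sub_distrib]
  apply memLocalIdeal_sum
  intro c _
  rw [← mul_sub]
  exact memLocalIdeal_mul_left (hz _) (h _)

/-- The block idempotent of the block of `χ₀`, as an element of the centre. -/
noncomputable def blockIdem (M : Ideal AlgInt) [M.IsPrime] (χ₀ : IrrCharacter G) :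
    Subalgebra.center ℂ (MonoidAlgebra ℂ G) :=
  Classical.choose (exists_block_idempotent (M := M) χ₀)

theorem blockIdem_mem (χ₀ : IrrCharacter G) : blockIdem M χ₀ ∈ centerOrder G M :=
  (Classical.choose_spec (exists_block_idempotent (M := M) χ₀)).1

theorem omegaHom_blockIdem_of_mem (χ₀ : IrrCharacter G) {ψ : IrrCharacter G}
    (hψ : ψ ∈ blockOf M (χ₀ : G → ℂ)) : omegaHom ψ (blockIdem M χ₀) = 1 :=
  (Classical.choose_spec (exists_block_idempotent (M := M) χ₀)).2.1 ψ hψ

theorem omegaHom_blockIdem_of_not_mem (χ₀ : IrrCharacter G) {ψ : IrrCharacter G}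
    (hψ : ψ ∉ blockOf M (χ₀ : G → ℂ)) : omegaHom ψ (blockIdem M χ₀) = 0 :=
  (Classical.choose_spec (exists_block_idempotent (M := M) χ₀)).2.2 ψ hψ

theorem coeff_blockIdem (χ₀ : IrrCharacter G) (g : G) :
    (blockIdem M χ₀ : MonoidAlgebra ℂ G).coeff g = blockCoeff (blockOf M (χ₀ : G → ℂ)) g :=
  coeff_eq_blockCoeff χ₀ (fun _ h => omegaHom_blockIdem_of_mem χ₀ h)
    (fun _ h => omegaHom_blockIdem_of_not_mem χ₀ h) g

theorem blockIdem_mul_self (χ₀ : IrrCharacter G) :
    blockIdem M χ₀ * blockIdem M χ₀ = blockIdem M χ₀ := by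
  apply eq_of_forall_omegaHom_eq
  intro ψ
  rw [map_mul]
  by_cases hψ : ψ ∈ blockOf M (χ₀ : G → ℂ)
  · rw [omegaHom_blockIdem_of_mem χ₀ hψ, mul_one]
  · rw [omegaHom_blockIdem_of_not_mem χ₀ hψ, mul_zero]

open scoped Classical in
/-- Every block has a defect class. -/
theorem exists_isDefectClass_blockOf (χ₀ : IrrCharacter G) :
    ∃ g : G, IsDefectClass M (blockOf M (χ₀ : G → ℂ)) g := by
  set B := blockOf M (χ₀ : G → ℂ) with hB
  set E := blockIdem M χ₀ with hE
  have hχ₀ : χ₀ ∈ B := self_mem_blockOf hMp.ne_top χ₀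
  have h1 : omegaHom χ₀ E = 1 := omegaHom_blockIdem_of_mem χ₀ hχ₀
  rw [omegaHom_apply, omega_eq_sum_classes _ (irr_conj χ₀) E.2] at h1
  -- some term of the sum is outside the ideal
  have hex : ∃ c : ConjClasses G, ¬ MemLocalIdeal M
      ((E : MonoidAlgebra ℂ G).coeff (classRep c) * centralChar (χ₀ : G → ℂ) (classRep c)) := by
    by_contra hcon
    push Not at hcon
    apply one_not_memLocalIdeal (M := M)
    rw [← h1]
    exact memLocalIdeal_sum _ _ fun c _ => hcon c
  obtain ⟨c, hc⟩ := hex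
  set g := classRep c
  have hR1 : MemLocalRing M ((E : MonoidAlgebra ℂ G).coeff g) := blockIdem_mem χ₀ g
  have hR2 : ∀ θ : IrrCharacter G, MemLocalRing M (centralChar (θ : G → ℂ) g) := fun θ =>
    memLocalRing_of_isIntegral hMp.ne_top (Cfsg.Agent.Lib.Helper79.isIntegral_centralChar θ g)
  rw [memLocalIdeal_mul_iff hR1 (hR2 χ₀)] at hc
  push Not at hc
  rw [coeff_blockIdem] at hR1 hc
  refine ⟨g, hR1, hc.1, ?_⟩
  intro χ hχ
  have : MemLocalIdeal M (centralChar (χ₀ : G → ℂ) g - centralChar (χ : G → ℂ) g) := hχ g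
  rw [← memLocalIdeal_congr this]
  exact hc.2

theorem exists_isDefectClass {B : Set (IrrCharacter G)} (hB : IsPBlock M B) :
    ∃ g : G, IsDefectClass M B g := by
  obtain ⟨χ₀, rfl⟩ := hB
  exact exists_isDefectClass_blockOf χ₀

end

end Cfsg.Agent.Lib.Helper16
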