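import Cfsg.Agent.Lib.Helper16.NormConj

/-!
# Centric pairs: the block of `Q C_G(Q)` with the idempotent of `f` (helper16)
-/

set_option autoImplicit false

namespace Cfsg.Agent.Lib.Helper16

open Cfsg MonoidAlgebra Cfsg.Agent.Lib.Helper77
open scoped ComplexConjugate

universe u

section GroupTheory

variable {G : Type u} [Group G]

open scoped Pointwise in
/-- A `p`-regular element of `Q C_G(Q)`, `Q` a `p`-group, centralizes `Q`. -/
theorem mem_centralizer_of_isPRegular_of_mem_sup {p : ℕ} [Fact p.Prime] {Q : Subgroup G}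
    (hQ : IsPGroup p Q) {x : G} (hx : x ∈ Q ⊔ Subgroup.centralizer (Q : Set G))
    (hreg : IsPRegular p x) : x ∈ Subgroup.centralizer (Q : Set G) := by
  have hx' : x ∈ ((Q ⊔ Subgroup.centralizer (Q : Set G) : Subgroup G) : Set G) := hx
  rw [Subgroup.coe_mul_of_right_le_normalizer_left _ _ (Subgroup.centralizer_le_normalizer _)] at hx'
  obtain ⟨q, hq, c, hc, rfl⟩ := hx'
  have hcomm : Commute q c := (Subgroup.mem_centralizer_iff.mp hc q hq)
  obtain ⟨k, hk⟩ := hQ ⟨q, hq⟩
  have hqk : q ^ (p ^ k) = 1 := by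
    have := congrArg Subtype.val hk
    simpa using this
  have h1 : (q * c) ^ (p ^ k) = c ^ (p ^ k) := by
    rw [hcomm.mul_pow, hqk, one_mul]
  have hcop : (p ^ k).Coprime (orderOf (q * c)) := by
    apply Nat.Coprime.pow_left
    exact (Nat.Prime.coprime_iff_not_dvd Fact.out).mpr hreg
  obtain ⟨m, hm⟩ := exists_pow_eq_self_of_coprime hcop
  show q * c ∈ Subgroup.centralizer (Q : Set G)
  rw [← hm, h1]
  exact Subgroup.pow_mem _ (Subgroup.pow_mem _ hc _) _

end GroupTheory

section Blocks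

variable {G : Type u} [Group G] [Fintype G] {M : Ideal AlgInt} {Q : Subgroup G}
  {f : Set (IrrCharacter (Subgroup.centralizer (Q : Set G)))}

/-- If `Z(Q)` is a defect group of the block `f` of `C_G(Q)`, it is the only one. -/
theorem defectGroup_eq_center {p : ℕ} [Fact p.Prime] (hM : IsPModular p M) (hf : IsPBlock M f)
    (hZ : IsDefectGroup p M f ((Q ⊓ Subgroup.centralizer (Q : Set G)).subgroupOf
      (Subgroup.centralizer (Q : Set G))))
    {D : Subgroup ↥(Subgroup.centralizer (Q : Set G))} (hD : IsDefectGroup p M f D) :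
    D = (Q ⊓ Subgroup.centralizer (Q : Set G)).subgroupOf (Subgroup.centralizer (Q : Set G)) := by
  classical
  have : Fintype ↥(Subgroup.centralizer (Q : Set G)) := Fintype.ofFinite _
  obtain ⟨z, hz⟩ := exists_conj_eq_of_isDefectGroup hM hf hZ hD
  have hcomm : ∀ w ∈ (Q ⊓ Subgroup.centralizer (Q : Set G)).subgroupOf
      (Subgroup.centralizer (Q : Set G)), ∀ z : ↥(Subgroup.centralizer (Q : Set G)),
      w * z = z * w := by
    intro w hw z
    apply Subtype.ext
    exact Subgroup.mem_centralizer_iff.mp z.2 (w : G) (Subgroup.mem_subgroupOf.mp hw).1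
  rw [← hz]
  ext y
  rw [mem_map_conj_iff]
  constructor
  · intro hy
    have h1 := hcomm _ hy z
    have h2 : y = z⁻¹ * y * z := by
      calc y = z * (z⁻¹ * y * z) * z⁻¹ := by group
        _ = (z⁻¹ * y * z) * z * z⁻¹ := by rw [← h1]
        _ = z⁻¹ * y * z := by group
    rw [h2]
    exact hy
  · intro hy
    have h1 := hcomm _ hy z
    have h2 : z⁻¹ * y * z = y := by
      rw [mul_assoc, h1]
      group
    rw [h2]
    exact hy

/-- A maximal Brauer pair of the block `F'` of `L` comes from a pair normally above `(Q, f)`. -/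
theorem exists_isNormalSubpair_of_isMaximalBrauerPair' {p : ℕ} [Fact p.Prime]
    (hM : IsPModular p M) (hQ : IsPGroup p Q) (hf : IsPBlock M f) {L : Subgroup G}
    (hQL : Q ≤ L) (hLN : L ≤ Subgroup.normalizer (Q : Set G))
    (hCL : Subgroup.centralizer (Q : Set G) ≤ L)
    (hstab : ∀ x ∈ L, StabilizesBlock (Subgroup.centralizer (Q : Set G)) f x)
    {F' : Set (IrrCharacter ↥L)} (hF' : IsPBlock M F')
    (hF'f : ∀ t : ↥L, blockCoeff F' t =
      subgroupBlockCoeff (Subgroup.centralizer (Q : Set G)) f (t : G))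
    {D : Subgroup ↥L} {d : Set (IrrCharacter (Subgroup.centralizer (D : Set ↥L)))}
    (hmax : IsMaximalBrauerPair p M F' D d) :
    ∃ (R : Subgroup G) (g : Set (IrrCharacter (Subgroup.centralizer (R : Set G)))),
      IsNormalSubpair p M Q f R g ∧ R ≤ L ∧ D = R.subgroupOf L := by
  classical
  have : Fintype ↥L := Fintype.ofFinite _
  have hD := isDefectGroup_of_isMaximalBrauerPair hM F' D d hmax
  have hQn : (Q.subgroupOf L).Normal := Subgroup.normal_subgroupOf_of_le_normalizer hLN
  have hQD : Q.subgroupOf L ≤ D :=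
    normal_pGroup_le_defectGroup hM (Q.subgroupOf L) hQ.comap_subtype hF' hD
  obtain ⟨R, hRL, rfl⟩ : ∃ R : Subgroup G, R ≤ L ∧ D = R.subgroupOf L := by
    refine ⟨D.map L.subtype, ?_, ?_⟩
    · rintro _ ⟨t, _, rfl⟩
      exact t.2
    · exact (Subgroup.comap_map_eq_self_of_injective (Subgroup.subtype_injective L) D).symm
  have hQR : Q ≤ R := by
    intro q hq
    have : (⟨q, hQL hq⟩ : ↥L) ∈ R.subgroupOf L := hQD (Subgroup.mem_subgroupOf.mpr hq)
    exact Subgroup.mem_subgroupOf.mp this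
  have hCRL : Subgroup.centralizer (R : Set G) ≤ L := (Subgroup.centralizer_le hQR).trans hCL
  exact ⟨R, _, isNormalSubpair_of_isBrauerPairOf_subgroupOf hQ hLN hf hstab hF'f hQR hRL hCRL
    hmax.1, hRL, rfl⟩

open scoped Pointwise in
/-- If `Z(Q)` is a defect group of `f`, a pair normally above `(Q, f)` inside `Q C_G(Q)` is
`(Q, f)` itself. -/
theorem eq_of_isNormalSubpair_of_le_sup {p : ℕ} [Fact p.Prime] (hM : IsPModular p M)
    (hf : IsPBlock M f)
    (hZ : IsDefectGroup p M f ((Q ⊓ Subgroup.centralizer (Q : Set G)).subgroupOf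
      (Subgroup.centralizer (Q : Set G))))
    {R : Subgroup G} {g : Set (IrrCharacter (Subgroup.centralizer (R : Set G)))}
    (hN : IsNormalSubpair p M Q f R g) (hRL : R ≤ Q ⊔ Subgroup.centralizer (Q : Set G)) :
    R = Q := by
  obtain ⟨D, hD, hle⟩ := exists_isDefectGroup_ge_centralizerIn hM hN.2.1
    (Relation.ReflTransGen.single hN : SubpairLE p M Q f R g)
  rw [defectGroup_eq_center hM hf hZ hD] at hle
  have hRC : R ⊓ Subgroup.centralizer (Q : Set G) ≤ Q := by
    intro c hc
    have : (⟨c, hc.2⟩ : ↥(Subgroup.centralizer (Q : Set G))) ∈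
        (Q ⊓ Subgroup.centralizer (Q : Set G)).subgroupOf (Subgroup.centralizer (Q : Set G)) :=
      hle (Subgroup.mem_subgroupOf.mpr hc)
    exact (Subgroup.mem_subgroupOf.mp this).1
  apply le_antisymm _ hN.2.2.1
  intro r hr
  have hr' : r ∈ ((Q ⊔ Subgroup.centralizer (Q : Set G) : Subgroup G) : Set G) := hRL hr
  rw [Subgroup.coe_mul_of_right_le_normalizer_left _ _ (Subgroup.centralizer_le_normalizer _)] at hr'
  obtain ⟨q, hq, c, hc, hqc⟩ := hr'
  have hqc' : q * c = r := hqc
  have hcR : c ∈ R := by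
    have : c = q⁻¹ * r := by rw [← hqc']; group
    rw [this]
    exact R.mul_mem (R.inv_mem (hN.2.2.1 hq)) hr
  rw [← hqc']
  exact Q.mul_mem hq (hRC ⟨hcR, hc⟩)

/-- If `Z(Q)` is a defect group of `f`, the block of `Q C_G(Q)` with the idempotent of `f` is
nilpotent. -/
theorem isNilpotentBlock_of_center_defect {p : ℕ} [Fact p.Prime] (hM : IsPModular p M)
    (hQ : IsPGroup p Q) (hf : IsPBlock M f)
    (hZ : IsDefectGroup p M f ((Q ⊓ Subgroup.centralizer (Q : Set G)).subgroupOf
      (Subgroup.centralizer (Q : Set G))))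
    {F' : Set (IrrCharacter ↥(Q ⊔ Subgroup.centralizer (Q : Set G)))} (hF' : IsPBlock M F')
    (hF'f : ∀ t : ↥(Q ⊔ Subgroup.centralizer (Q : Set G)), blockCoeff F' t =
      subgroupBlockCoeff (Subgroup.centralizer (Q : Set G)) f (t : G)) :
    IsNilpotentBlock p M F' := by
  classical
  have : Fintype ↥(Q ⊔ Subgroup.centralizer (Q : Set G)) := Fintype.ofFinite _
  have hLN : Q ⊔ Subgroup.centralizer (Q : Set G) ≤ Subgroup.normalizer (Q : Set G) :=
    sup_le Subgroup.le_normalizer (Subgroup.centralizer_le_normalizer _)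
  have hstab : ∀ x ∈ Q ⊔ Subgroup.centralizer (Q : Set G),
      StabilizesBlock (Subgroup.centralizer (Q : Set G)) f x := by
    intro x hx
    apply stabilizesBlock_of_mem_supCent Q ⊤ f
    have hle : Q ⊔ Subgroup.centralizer (Q : Set G) ≤ supCent Q ⊤ :=
      sup_le (le_supCent Q ⊤) (fun c hc => coe_mem_supCent Q ⊤
        (Subgroup.mem_top (⟨c, hc⟩ : ↥(Subgroup.centralizer (Q : Set G)))))
    exact hle hx
  refine ⟨hF', ?_⟩
  intro R' g' hpair x _ _ hreg
  obtain ⟨D, d, hmax, hle⟩ := exists_isMaximalBrauerPair_ge hM F'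
    (Nat.card ↥(Q ⊔ Subgroup.centralizer (Q : Set G)) - Nat.card R') R' g' hpair le_rfl
  have hR'D : R' ≤ D := Cfsg.Agent.S4655.le_le hle
  obtain ⟨R, g, hN, hRL, rfl⟩ := exists_isNormalSubpair_of_isMaximalBrauerPair' hM hQ hf
    le_sup_left hLN le_sup_right hstab hF' hF'f hmax
  have hRQ : R = Q := eq_of_isNormalSubpair_of_le_sup hM hf hZ hN hRL
  have hreg' : IsPRegular p (x : G) := by
    unfold IsPRegular at hreg ⊢
    rwa [Subgroup.orderOf_coe]
  have hxC := mem_centralizer_of_isPRegular_of_mem_sup hQ x.2 hreg'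
  rw [Subgroup.mem_centralizer_iff]
  intro r hr
  apply Subtype.ext
  have hrQ : (r : G) ∈ Q := by
    have := Subgroup.mem_subgroupOf.mp (hR'D hr)
    rwa [hRQ] at this
  exact Subgroup.mem_centralizer_iff.mp hxC (r : G) hrQ

end Blocks

end Cfsg.Agent.Lib.Helper16
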