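import Cfsg.Agent.Lib.Helper16.NormDefect

/-!
# Conjugating back pairs, and the conjugate of `(Q, f)` with `N_P(Q)` as large as possible
(helper16)
-/

set_option autoImplicit false

namespace Cfsg.Agent.Lib.Helper16

open Cfsg MonoidAlgebra Cfsg.Agent.Lib.Helper77
open scoped ComplexConjugate

universe u

section Back

variable {G : Type u} [Group G]

theorem map_conj_one (Q : Subgroup G) : Q.map (MulAut.conj (1 : G)).toMonoidHom = Q := by
  ext y
  rw [mem_map_conj_iff]
  simp

theorem conjPair_one (a : BrauerPairIdx G) : conjPair 1 a = a := by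
  obtain ⟨Q, f⟩ := a
  unfold conjPair
  apply pairIdx_ext (map_conj_one Q)
  intro ξ₁ ξ₂ hag
  simp only
  rw [conjBlock_eq_pullBlock, mem_pullBlock_iff]
  have : irrPull (conjCent Q 1).symm ξ₁ = ξ₂ := by
    apply Subtype.ext
    funext c
    rw [irrPull_apply]
    apply hag
    rw [conjCent_symm_coe]
    simp
  rw [this]

theorem conjPair_inv_conjPair (x : G) (a : BrauerPairIdx G) :
    conjPair x⁻¹ (conjPair x a) = a := by
  rw [conjPair_conjPair, inv_mul_cancel, conjPair_one]

variable [Fintype G] {M : Ideal AlgInt}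

/-- A pair normally above the conjugate `(Q, f)^x` conjugates back to a pair normally above
`(Q, f)`. -/
theorem isNormalSubpair_conj_back {p : ℕ} {Q : Subgroup G}
    {f : Set (IrrCharacter (Subgroup.centralizer (Q : Set G)))} {x : G} {R₂ : Subgroup G}
    {g₂ : Set (IrrCharacter (Subgroup.centralizer (R₂ : Set G)))}
    (h : IsNormalSubpair p M (Q.map (MulAut.conj x).toMonoidHom) (conjBlock Q x f) R₂ g₂) :
    IsNormalSubpair p M Q f (R₂.map (MulAut.conj x⁻¹).toMonoidHom) (conjBlock R₂ x⁻¹ g₂) := by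
  have h1 : NormalSubpairRel p M (conjPair x⁻¹ (conjPair x ⟨Q, f⟩)) (conjPair x⁻¹ ⟨R₂, g₂⟩) :=
    isNormalSubpair_conj h x⁻¹
  rw [conjPair_inv_conjPair] at h1
  exact h1

end Back

section Conj

variable {G : Type u} [Group G] [Fintype G] {M : Ideal AlgInt}

/-- For a maximal `B`-pair `(P, e)` and `(Q, f) ≤ (P, e)`, some conjugate `(Q, f)^x` lies below
`(P, e)` and `N_P(Q^x)` is at least as large as every subgroup of a pair normally above
`(Q, f)^x`. -/
theorem exists_conj_card_normalizerIn {p : ℕ} [Fact p.Prime] (hM : IsPModular p M)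
    {B : Set (IrrCharacter G)} {P Q T : Subgroup G}
    {e : Set (IrrCharacter (Subgroup.centralizer (P : Set G)))}
    {f : Set (IrrCharacter (Subgroup.centralizer (Q : Set G)))} (hf : IsPBlock M f)
    (hT : ∀ y : G, y ∈ T ↔ y ∈ Subgroup.normalizer (Q : Set G) ∧
      StabilizesBlock (Subgroup.centralizer (Q : Set G)) f y)
    (hmax : IsMaximalBrauerPair p M B P e) (hle : SubpairLE p M Q f P e) :
    ∃ x : G, SubpairLE p M (Q.map (MulAut.conj x).toMonoidHom) (conjBlock Q x f) P e ∧
      ∀ (R₂ : Subgroup G) (g₂ : Set (IrrCharacter (Subgroup.centralizer (R₂ : Set G)))),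
        IsNormalSubpair p M (Q.map (MulAut.conj x).toMonoidHom) (conjBlock Q x f) R₂ g₂ →
        Nat.card R₂ ≤ Nat.card (P ⊓ Subgroup.normalizer
          ((Q.map (MulAut.conj x).toMonoidHom : Subgroup G) : Set G) : Subgroup G) := by
  classical
  have hMp := isPModular_isPrime hM
  have : Fintype ↥T := Fintype.ofFinite _
  have hPe : IsBrauerPair p M P e := hmax.1.1
  have hQf : IsBrauerPair p M Q f := Cfsg.Agent.S4655.le_pair_left hle hPe
  have hBQ : IsBrauerPairOf p M B Q f :=
    (Cfsg.Agent.S4658.chain_iff p M hM B ⟨Q, f⟩ ⟨P, e⟩ hle).mp hmax.1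
  obtain ⟨F', hF', hF'f⟩ := exists_block_of_stable hM Q T hQf.1 (le_stab hT)
    (stab_le_normalizer hT) (centralizer_le_stab hT) f hf (stab_stabilizes hT)
  obtain ⟨D, d, hDmax, _⟩ := exists_isMaximalBrauerPair_ge_normalizerIn hM hT hF' hF'f hPe hle
  obtain ⟨R, g, hN, hRT, hDR⟩ :=
    exists_isNormalSubpair_of_isMaximalBrauerPair hM hQf.1 hf hT hF' hF'f hDmax
  have : Fintype ↥(Subgroup.centralizer (Q : Set G)) := Fintype.ofFinite _
  have : Fintype ↥(Subgroup.centralizer (R : Set G)) := Fintype.ofFinite _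
  have hBS : IsBrauerPairOf p M B R g := isBrauerPairOf_of_isNormalSubpair hM hN hBQ
  obtain ⟨x, hx⟩ := Cfsg.Agent.S4660.result p M hM B P R e g hmax hBS
  have hstep : NormalSubpairRel p M
      (⟨Q.map (MulAut.conj x).toMonoidHom, conjBlock Q x f⟩ : BrauerPairIdx G)
      ⟨R.map (MulAut.conj x).toMonoidHom, conjBlock R x g⟩ := isNormalSubpair_conj hN x
  have hxle : SubpairLE p M (Q.map (MulAut.conj x).toMonoidHom) (conjBlock Q x f) P e :=
    Relation.ReflTransGen.head hstep hx
  refine ⟨x, hxle, ?_⟩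
  intro R₂ g₂ h₂
  have hback := isNormalSubpair_conj_back h₂
  have hD := isDefectGroup_of_isMaximalBrauerPair hM F' D d hDmax
  have h1 := card_le_card_of_isNormalSubpair hM hT hF' hF'f hD hback
  rw [card_map_conj] at h1
  have h2 : Nat.card D = Nat.card R := by
    rw [hDR]
    exact Nat.card_congr (Subgroup.subgroupOfEquivOfLe hRT).toEquiv
  have h3 : R.map (MulAut.conj x).toMonoidHom ≤ P ⊓ Subgroup.normalizer
      ((Q.map (MulAut.conj x).toMonoidHom : Subgroup G) : Set G) :=
    le_inf (Cfsg.Agent.S4655.le_le hx) hstep.2.2.2.1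
  have h4 := Subgroup.card_le_of_le h3
  rw [card_map_conj] at h4
  omega

end Conj

end Cfsg.Agent.Lib.Helper16
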