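import Cfsg.Agent.Lib.Helper16.NilStab
import Cfsg.Agent.Lib.Helper16.AbelianDefect
import Cfsg.Agent.Lib.Helper16.NormConj

/-!
# Nilpotent blocks: conjugations between subpairs of a maximal pair come from `P` (helper16)
-/

set_option autoImplicit false

namespace Cfsg.Agent.Lib.Helper16

open Cfsg MonoidAlgebra Cfsg.Agent.Lib.Helper77
open scoped ComplexConjugate

universe u

section GroupTheory

variable {G : Type u} [Group G]

/-- If `x ∈ N_G(Q)` is `p`-regular and acts on `Q` as an element `u` of a `p`-group, then `x`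
centralizes `Q`. -/
theorem mem_centralizer_of_isPRegular_of_mul_mem {p : ℕ} [Fact p.Prime] {P Q : Subgroup G}
    (hP : IsPGroup p P) {x u : G} (hxN : x ∈ Subgroup.normalizer (Q : Set G)) (hu : u ∈ P)
    (huc : u⁻¹ * x ∈ Subgroup.centralizer (Q : Set G)) (hreg : IsPRegular p x) :
    x ∈ Subgroup.centralizer (Q : Set G) := by
  have hCN : Subgroup.centralizer (Q : Set G) ≤ Subgroup.normalizer (Q : Set G) :=
    Subgroup.centralizer_le_normalizer _
  have huN : u ∈ Subgroup.normalizer (Q : Set G) := by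
    have h1 : u = x * (u⁻¹ * x)⁻¹ := by group
    rw [h1]
    exact Subgroup.mul_mem _ hxN (Subgroup.inv_mem _ (hCN huc))
  have hpow : ∀ n : ℕ, (u ^ n)⁻¹ * x ^ n ∈ Subgroup.centralizer (Q : Set G) := by
    intro n
    induction n with
    | zero => simp
    | succ n ih =>
      have h1 : (u ^ (n + 1))⁻¹ * x ^ (n + 1) =
          (u⁻¹ * ((u ^ n)⁻¹ * x ^ n) * u⁻¹⁻¹) * (u⁻¹ * x) := by
        rw [pow_succ, pow_succ]; group
      rw [h1]
      exact Subgroup.mul_mem _
        (conj_mem_centralizer_of_mem_normalizer (Subgroup.inv_mem _ huN) ih) huc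
  obtain ⟨k, hk⟩ := hP ⟨u, hu⟩
  have huk : u ^ (p ^ k) = 1 := by
    have := congrArg Subtype.val hk
    simpa using this
  have h2 := hpow (p ^ k)
  rw [huk, inv_one, one_mul] at h2
  have hcop : (p ^ k).Coprime (orderOf x) := by
    apply Nat.Coprime.pow_left
    exact (Nat.Prime.coprime_iff_not_dvd Fact.out).mpr hreg
  obtain ⟨m, hm⟩ := exists_pow_eq_self_of_coprime hcop
  rw [← hm]
  exact Subgroup.pow_mem _ h2 _

end GroupTheory

section Aux

variable {G : Type u} [Group G] [Fintype G] {M : Ideal AlgInt}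

/-- If `(Q, f) ≤ (P, e)` then `(Q, f) ⊴ (N_P(Q), g) ≤ (P, e)` for some `g`. -/
theorem exists_isNormalSubpair_normalizerIn' {p : ℕ} [Fact p.Prime] (hM : IsPModular p M)
    {P Q : Subgroup G} {e : Set (IrrCharacter (Subgroup.centralizer (P : Set G)))}
    {f : Set (IrrCharacter (Subgroup.centralizer (Q : Set G)))}
    (hPe : IsBrauerPair p M P e) (hle : SubpairLE p M Q f P e) :
    ∃ g : Set (IrrCharacter (Subgroup.centralizer
      ((P ⊓ Subgroup.normalizer (Q : Set G) : Subgroup G) : Set G))),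
      IsNormalSubpair p M Q f (P ⊓ Subgroup.normalizer (Q : Set G)) g ∧
      SubpairLE p M (P ⊓ Subgroup.normalizer (Q : Set G)) g P e := by
  have hQP : Q ≤ P := Cfsg.Agent.S4655.le_le hle
  have hQS : Q ≤ P ⊓ Subgroup.normalizer (Q : Set G) := le_inf hQP Subgroup.le_normalizer
  obtain ⟨g, _, hg⟩ := Cfsg.Agent.S4655.exists_le hM
    (Nat.card P - Nat.card (P ⊓ Subgroup.normalizer (Q : Set G) : Subgroup G))
    (⟨P, e⟩ : BrauerPairIdx G) hPe (P ⊓ Subgroup.normalizer (Q : Set G)) inf_le_left le_rfl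
  have hSg : IsBrauerPair p M (P ⊓ Subgroup.normalizer (Q : Set G)) g :=
    Cfsg.Agent.S4655.le_pair_left hg hPe
  have h1 : SubpairLE p M Q f (P ⊓ Subgroup.normalizer (Q : Set G)) g :=
    subpairLE_of_le_of_subpairLE hM hPe hg hle hQS
  exact ⟨g, isNormalSubpair_of_subpairLE hM hSg h1 inf_le_right, hg⟩

/-- A `B`-pair on a defect group of `B` is maximal. -/
theorem isMaximalBrauerPair_of_isDefectGroup {p : ℕ} [Fact p.Prime] (hM : IsPModular p M)
    {B : Set (IrrCharacter G)} {D : Subgroup G}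
    {d : Set (IrrCharacter (Subgroup.centralizer (D : Set G)))}
    (hpair : IsBrauerPairOf p M B D d) (hD : IsDefectGroup p M B D) :
    IsMaximalBrauerPair p M B D d := by
  classical
  refine ⟨hpair, ?_⟩
  intro R g hRg hle
  have hDR : D ≤ R := Cfsg.Agent.S4655.le_le hle
  obtain ⟨P', e', hmax', hle'⟩ := exists_isMaximalBrauerPair_ge hM B (Nat.card G - Nat.card R) R g
    hRg le_rfl
  have hRP' : R ≤ P' := Cfsg.Agent.S4655.le_le hle'
  have hD' := isDefectGroup_of_isMaximalBrauerPair hM B P' e' hmax'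
  obtain ⟨z, hz⟩ := exists_conj_eq_of_isDefectGroup hM hpair.2.1 hD' hD
  have hcard : Nat.card P' = Nat.card D := by
    rw [← hz, card_map_conj]
  symm
  apply Subgroup.eq_of_le_of_card_ge hDR
  rw [← hcard]
  exact Subgroup.card_le_of_le hRP'

/-- If every pair normally above `(Q, f) ≤ (P, e)` has order at most `|N_P(Q)|`, then `N_P(Q)` is a
defect group of the block `F'` of `T = N_G(Q, f)`. -/
theorem isDefectGroup_normalizerIn_of_card {p : ℕ} [Fact p.Prime] (hM : IsPModular p M)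
    {P Q T : Subgroup G} {e : Set (IrrCharacter (Subgroup.centralizer (P : Set G)))}
    {f : Set (IrrCharacter (Subgroup.centralizer (Q : Set G)))}
    (hT : ∀ y : G, y ∈ T ↔ y ∈ Subgroup.normalizer (Q : Set G) ∧
      StabilizesBlock (Subgroup.centralizer (Q : Set G)) f y)
    {F' : Set (IrrCharacter ↥T)} (hF' : IsPBlock M F')
    (hF'f : ∀ t : ↥T, blockCoeff F' t =
      subgroupBlockCoeff (Subgroup.centralizer (Q : Set G)) f (t : G))
    (hPe : IsBrauerPair p M P e) (hle : SubpairLE p M Q f P e)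
    (hcard : ∀ (R₂ : Subgroup G) (g₂ : Set (IrrCharacter (Subgroup.centralizer (R₂ : Set G)))),
      IsNormalSubpair p M Q f R₂ g₂ →
      Nat.card R₂ ≤ Nat.card (P ⊓ Subgroup.normalizer (Q : Set G) : Subgroup G)) :
    IsDefectGroup p M F' ((P ⊓ Subgroup.normalizer (Q : Set G)).subgroupOf T) := by
  classical
  have : Fintype ↥T := Fintype.ofFinite _
  have hQf : IsBrauerPair p M Q f := Cfsg.Agent.S4655.le_pair_left hle hPe
  obtain ⟨D₂, d₂, hmax₂, hle₂⟩ :=
    exists_isMaximalBrauerPair_ge_normalizerIn hM hT hF' hF'f hPe hle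
  obtain ⟨R₂, g₂, hN₂, hRT₂, hDR₂⟩ :=
    exists_isNormalSubpair_of_isMaximalBrauerPair hM hQf.1 hQf.2 hT hF' hF'f hmax₂
  have h1 := hcard R₂ g₂ hN₂
  have hST' := normalizerIn_le_stab hM hT hPe hle
  have h2 : Nat.card D₂ = Nat.card R₂ := by
    rw [hDR₂]
    exact Nat.card_congr (Subgroup.subgroupOfEquivOfLe hRT₂).toEquiv
  have h3 : Nat.card ((P ⊓ Subgroup.normalizer (Q : Set G)).subgroupOf T) =
      Nat.card (P ⊓ Subgroup.normalizer (Q : Set G) : Subgroup G) :=
    Nat.card_congr (Subgroup.subgroupOfEquivOfLe hST').toEquiv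
  have heq := Subgroup.eq_of_le_of_card_ge hle₂ (by rw [h2, h3]; exact h1)
  rw [heq]
  exact isDefectGroup_of_isMaximalBrauerPair hM F' D₂ d₂ hmax₂

end Aux

section Main

variable {G : Type u} [Group G] [Fintype G] {M : Ideal AlgInt}

/-- Key step: for a subpair `(Q₁, f₁) < (P, e)` of a nilpotent block with `N_P(Q₁)` as large as
possible, every `y` carrying `(Q₁, f₁)` to a subpair of `(P, e)` acts on `Q₁` as an element of `P`,
provided this is known for bigger subpairs. -/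
theorem exists_mem_of_card_normalizerIn {p : ℕ} [Fact p.Prime] (hM : IsPModular p M)
    {B : Set (IrrCharacter G)} {P Q₁ : Subgroup G}
    {e : Set (IrrCharacter (Subgroup.centralizer (P : Set G)))}
    {f₁ : Set (IrrCharacter (Subgroup.centralizer (Q₁ : Set G)))}
    (hmax : IsMaximalBrauerPair p M B P e) (hnil : IsNilpotentBlock p M B)
    (hle : SubpairLE p M Q₁ f₁ P e) (hne : Q₁ ≠ P)
    (hcard : ∀ (R₂ : Subgroup G) (g₂ : Set (IrrCharacter (Subgroup.centralizer (R₂ : Set G)))),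
      IsNormalSubpair p M Q₁ f₁ R₂ g₂ →
      Nat.card R₂ ≤ Nat.card (P ⊓ Subgroup.normalizer (Q₁ : Set G) : Subgroup G))
    (IH : ∀ (Q' : Subgroup G) (f' : Set (IrrCharacter (Subgroup.centralizer (Q' : Set G))))
      (g' : G), Nat.card Q₁ < Nat.card Q' → SubpairLE p M Q' f' P e →
      SubpairLE p M (Q'.map (MulAut.conj g').toMonoidHom) (conjBlock Q' g' f') P e →
      ∃ u ∈ P, u⁻¹ * g' ∈ Subgroup.centralizer (Q' : Set G))
    (y : G) (hy : SubpairLE p M (Q₁.map (MulAut.conj y).toMonoidHom) (conjBlock Q₁ y f₁) P e) :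
    ∃ w ∈ P, w⁻¹ * y ∈ Subgroup.centralizer (Q₁ : Set G) := by
  classical
  have hMp := isPModular_isPrime hM
  have hPe : IsBrauerPair p M P e := hmax.1.1
  have hQf : IsBrauerPair p M Q₁ f₁ := Cfsg.Agent.S4655.le_pair_left hle hPe
  have hBQ : IsBrauerPairOf p M B Q₁ f₁ :=
    (Cfsg.Agent.S4658.chain_iff p M hM B ⟨Q₁, f₁⟩ ⟨P, e⟩ hle).mp hmax.1
  have hT := mem_stabSubgroup_iff Q₁ f₁
  have : Fintype ↥(stabSubgroup Q₁ f₁) := Fintype.ofFinite _
  have hQT : Q₁ ≤ stabSubgroup Q₁ f₁ := le_stab hT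
  have hTN : stabSubgroup Q₁ f₁ ≤ Subgroup.normalizer (Q₁ : Set G) := stab_le_normalizer hT
  have hCT : Subgroup.centralizer (Q₁ : Set G) ≤ stabSubgroup Q₁ f₁ := centralizer_le_stab hT
  have hst := stab_stabilizes hT
  obtain ⟨F', hF', hF'f⟩ := exists_block_of_stable hM Q₁ (stabSubgroup Q₁ f₁) hQf.1 hQT hTN hCT
    f₁ hQf.2 hst
  -- the pair on `N_P(Q₁)`
  obtain ⟨g₁, hN₁, hle₁⟩ := exists_isNormalSubpair_normalizerIn' hM hPe hle
  have hN₁T : P ⊓ Subgroup.normalizer (Q₁ : Set G) ≤ stabSubgroup Q₁ f₁ :=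
    le_stab_of_isNormalSubpair hT hN₁
  have hCN₁ : Subgroup.centralizer
      ((P ⊓ Subgroup.normalizer (Q₁ : Set G) : Subgroup G) : Set G) ≤ stabSubgroup Q₁ f₁ :=
    (Subgroup.centralizer_le hN₁.2.2.1).trans hCT
  have hpairN₁ := isBrauerPairOf_subgroupOf_of_isNormalSubpair hCT hF' hF'f hN₁T hN₁
  have hDN₁ := isDefectGroup_normalizerIn_of_card hM hT hF' hF'f hPe hle hcard
  have hmaxL := isMaximalBrauerPair_of_isDefectGroup hM hpairN₁ hDN₁
  -- the conjugate
  obtain ⟨g'', hN'', hle''⟩ := exists_isNormalSubpair_normalizerIn' hM hPe hy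
  have hback := isNormalSubpair_conj_back hN''
  have hRT : (P ⊓ Subgroup.normalizer
      ((Q₁.map (MulAut.conj y).toMonoidHom : Subgroup G) : Set G)).map
      (MulAut.conj y⁻¹).toMonoidHom ≤ stabSubgroup Q₁ f₁ := le_stab_of_isNormalSubpair hT hback
  have hCR : Subgroup.centralizer (((P ⊓ Subgroup.normalizer
      ((Q₁.map (MulAut.conj y).toMonoidHom : Subgroup G) : Set G)).map
      (MulAut.conj y⁻¹).toMonoidHom : Subgroup G) : Set G) ≤ stabSubgroup Q₁ f₁ :=
    (Subgroup.centralizer_le hback.2.2.1).trans hCT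
  have hpairR := isBrauerPairOf_subgroupOf_of_isNormalSubpair hCT hF' hF'f hRT hback
  obtain ⟨t, ht⟩ := Cfsg.Agent.S4660.result p M hM F' _ _ _ _ hmaxL hpairR
  have ha' := map_conj_le_of_mem hRT t.2
  have hC' := centralizer_map_conj_le hCR t.2
  have ht' : Relation.ReflTransGen (NormalSubpairRel p M)
      (conjPair t (restrictPair (stabSubgroup Q₁ f₁)
        ⟨(P ⊓ Subgroup.normalizer
          ((Q₁.map (MulAut.conj y).toMonoidHom : Subgroup G) : Set G)).map
          (MulAut.conj y⁻¹).toMonoidHom, conjBlock _ y⁻¹ g''⟩ hRT hCR))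
      (restrictPair (stabSubgroup Q₁ f₁)
        ⟨P ⊓ Subgroup.normalizer (Q₁ : Set G), g₁⟩ hN₁T hCN₁) := ht
  rw [← restrictPair_conjPair _ _ _ hRT hCR t ha' hC'] at ht'
  have hQa : Q₁ ≤ ((P ⊓ Subgroup.normalizer
      ((Q₁.map (MulAut.conj y).toMonoidHom : Subgroup G) : Set G)).map
      (MulAut.conj y⁻¹).toMonoidHom).map (MulAut.conj (t : G)).toMonoidHom := by
    have h1 : Q₁.map (MulAut.conj (t : G)).toMonoidHom ≤ _ :=
      Subgroup.map_mono (f := (MulAut.conj (t : G)).toMonoidHom) hback.2.2.1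
    rwa [map_conj_eq_of_mem_normalizer Q₁ (hTN t.2)] at h1
  obtain ⟨b, hb, hCb, _, hbeq, hchainG⟩ := subpairLE_of_restrictPair hQT hCT
    (a := (⟨((P ⊓ Subgroup.normalizer
      ((Q₁.map (MulAut.conj y).toMonoidHom : Subgroup G) : Set G)).map
      (MulAut.conj y⁻¹).toMonoidHom).map (MulAut.conj (t : G)).toMonoidHom,
      conjBlock _ (t : G) (conjBlock _ y⁻¹ g'')⟩ : BrauerPairIdx G)) ha' hC' hQa ht'
  have hbN : b = ⟨P ⊓ Subgroup.normalizer (Q₁ : Set G), g₁⟩ :=
    restrictPair_injective hb hCb hN₁T hCN₁ hbeq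
  rw [hbN] at hchainG
  have h5 : Relation.ReflTransGen (NormalSubpairRel p M)
      (conjPair ((t : G) * y⁻¹) (⟨P ⊓ Subgroup.normalizer
        ((Q₁.map (MulAut.conj y).toMonoidHom : Subgroup G) : Set G), g''⟩ : BrauerPairIdx G))
      ⟨P, e⟩ := by
    rw [← conjPair_conjPair]
    exact hchainG.trans hle₁
  -- induction hypothesis for `N_P(Q₁^y)`
  have hQ''P : Q₁.map (MulAut.conj y).toMonoidHom ≤ P := Cfsg.Agent.S4655.le_le hy
  have hQ₁P : Q₁ ≤ P := Cfsg.Agent.S4655.le_le hle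
  have hQ''ne : Q₁.map (MulAut.conj y).toMonoidHom ≠ P := by
    intro heq
    have h1 := Cfsg.Agent.S4655.card_lt_card_of_lt (lt_of_le_of_ne hQ₁P hne)
    rw [← heq, card_map_conj] at h1
    exact lt_irrefl _ h1
  have hlt := Cfsg.Agent.S4655.lt_inf_normalizer hPe.1 (lt_of_le_of_ne hQ''P hQ''ne)
  have hc := Cfsg.Agent.S4655.card_lt_card_of_lt hlt
  rw [card_map_conj] at hc
  obtain ⟨u, hu, huc⟩ := IH _ g'' ((t : G) * y⁻¹) hc hle'' h5
  have huc' : u⁻¹ * ((t : G) * y⁻¹) ∈ Subgroup.centralizer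
      ((Q₁.map (MulAut.conj y).toMonoidHom : Subgroup G) : Set G) :=
    Subgroup.centralizer_le hN''.2.2.1 huc
  -- factorization of `t`
  have hreg : ∀ x ∈ stabSubgroup Q₁ f₁, IsPRegular p x →
      x ∈ Subgroup.centralizer (Q₁ : Set G) := fun x hx hxr =>
    hnil.2 Q₁ f₁ hBQ x ((hT x).mp hx).1 ((hT x).mp hx).2 hxr
  obtain ⟨d, hd, c, hc', hdc⟩ := exists_mul_of_mem_of_regular hM Q₁ (stabSubgroup Q₁ f₁) hQf.1
    hQT hTN hCT f₁ hQf.2 hst hF' hF'f hreg hDN₁ (t : G) t.2
  refine ⟨u⁻¹ * d, P.mul_mem (P.inv_mem hu) hd.1, ?_⟩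
  have h6 := (mem_centralizer_map_conj_iff Q₁ y _).mp huc'
  have h7 : y⁻¹ * u⁻¹ * d ∈ Subgroup.centralizer (Q₁ : Set G) := by
    have h : y⁻¹ * u⁻¹ * d = (y⁻¹ * (u⁻¹ * ((t : G) * y⁻¹)) * y) * c⁻¹ := by
      rw [hdc]; group
    rw [h]
    exact Subgroup.mul_mem _ h6 (Subgroup.inv_mem _ hc')
  have h8 : (u⁻¹ * d)⁻¹ * y = (y⁻¹ * u⁻¹ * d)⁻¹ := by group
  rw [h8]
  exact Subgroup.inv_mem _ h7

/-- The stabilizer of a maximal pair of a nilpotent block is `P C_G(P)`. -/
theorem exists_mul_of_mem_stab_of_nilpotent {p : ℕ} [Fact p.Prime] (hM : IsPModular p M)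
    {B : Set (IrrCharacter G)} {P : Subgroup G}
    {e : Set (IrrCharacter (Subgroup.centralizer (P : Set G)))}
    (hmax : IsMaximalBrauerPair p M B P e) (hnil : IsNilpotentBlock p M B) {x : G}
    (hxN : x ∈ Subgroup.normalizer (P : Set G))
    (hxS : StabilizesBlock (Subgroup.centralizer (P : Set G)) e x) :
    ∃ d ∈ P, ∃ c ∈ Subgroup.centralizer (P : Set G), x = d * c := by
  classical
  have hMp := isPModular_isPrime hM
  have hPe : IsBrauerPair p M P e := hmax.1.1
  have hT := mem_stabSubgroup_iff P e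
  have : Fintype ↥(stabSubgroup P e) := Fintype.ofFinite _
  have hPT : P ≤ stabSubgroup P e := le_stab hT
  have hTN : stabSubgroup P e ≤ Subgroup.normalizer (P : Set G) := stab_le_normalizer hT
  have hCT : Subgroup.centralizer (P : Set G) ≤ stabSubgroup P e := centralizer_le_stab hT
  have hst := stab_stabilizes hT
  obtain ⟨F', hF', hF'f, hpair⟩ := exists_block_of_stable' hM P (stabSubgroup P e) hPe.1 hPT hTN
    hCT e hPe.2 hst
  have hmaxL := isMaximalBrauerPair_restrictPair hM hmax hPT hCT le_rfl hPT hCT hpair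
  have hD := isDefectGroup_of_isMaximalBrauerPair hM F' _ _ hmaxL
  have hreg : ∀ y ∈ stabSubgroup P e, IsPRegular p y →
      y ∈ Subgroup.centralizer (P : Set G) := by
    intro y hy hyreg
    exact hnil.2 P e hmax.1 y ((hT y).mp hy).1 ((hT y).mp hy).2 hyreg
  exact exists_mul_of_mem_of_regular hM P (stabSubgroup P e) hPe.1 hPT
    hTN hCT e hPe.2 hst hF' hF'f hreg hD x ((hT x).mpr ⟨hxN, hxS⟩)

/-- In a nilpotent block every conjugation between subpairs of the maximal pair `(P, e)` is induced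
by an element of `P`. -/
theorem exists_mem_of_nilpotent {p : ℕ} [Fact p.Prime] (hM : IsPModular p M)
    {B : Set (IrrCharacter G)} {P : Subgroup G}
    {e : Set (IrrCharacter (Subgroup.centralizer (P : Set G)))}
    (hmax : IsMaximalBrauerPair p M B P e) (hnil : IsNilpotentBlock p M B) :
    ∀ (n : ℕ) (Q : Subgroup G) (f : Set (IrrCharacter (Subgroup.centralizer (Q : Set G))))
      (g : G), Nat.card P - Nat.card Q ≤ n → SubpairLE p M Q f P e →
      SubpairLE p M (Q.map (MulAut.conj g).toMonoidHom) (conjBlock Q g f) P e →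
      ∃ u ∈ P, u⁻¹ * g ∈ Subgroup.centralizer (Q : Set G) := by
  classical
  have hMp := isPModular_isPrime hM
  have hPe : IsBrauerPair p M P e := hmax.1.1
  intro n
  induction n with
  | zero =>
    intro Q f g hn hle hgle
    have hQP : Q ≤ P := Cfsg.Agent.S4655.le_le hle
    have hQeq : Q = P := by
      by_contra hne
      have := Cfsg.Agent.S4655.card_lt_card_of_lt (lt_of_le_of_ne hQP hne)
      omega
    subst hQeq
    have hfe : (⟨Q, f⟩ : BrauerPairIdx G) = ⟨Q, e⟩ := Cfsg.Agent.S4655.le_eq_of_fst_eq hM hle rfl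
    have hfe' : f = e := eq_of_heq (Sigma.mk.inj hfe).2
    subst hfe'
    have h6 : (conjPair g (⟨Q, f⟩ : BrauerPairIdx G)).1 = Q := by
      apply Subgroup.eq_of_le_of_card_ge (Cfsg.Agent.S4655.le_le hgle)
      show Nat.card Q ≤ Nat.card (Q.map (MulAut.conj g).toMonoidHom)
      rw [card_map_conj]
    have hfix : conjPair g (⟨Q, f⟩ : BrauerPairIdx G) = ⟨Q, f⟩ :=
      Cfsg.Agent.S4655.le_eq_of_fst_eq hM hgle h6
    obtain ⟨hgN, hgS⟩ := stabilizes_of_conjPair_eq_self hfix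
    obtain ⟨d, hd, c, hc, hdc⟩ := exists_mul_of_mem_stab_of_nilpotent hM hmax hnil hgN hgS
    refine ⟨d, hd, ?_⟩
    rw [hdc, inv_mul_cancel_left]
    exact hc
  | succ n ih =>
    intro Q f g hn hle hgle
    have hQP : Q ≤ P := Cfsg.Agent.S4655.le_le hle
    by_cases hQeq : Q = P
    · exact ih Q f g (by rw [hQeq]; omega) hle hgle
    have hQf : IsBrauerPair p M Q f := Cfsg.Agent.S4655.le_pair_left hle hPe
    obtain ⟨x, hxle, hcard⟩ := exists_conj_card_normalizerIn hM hQf.2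
      (mem_stabSubgroup_iff Q f) hmax hle
    have hQ₁ne : Q.map (MulAut.conj x).toMonoidHom ≠ P := by
      intro heq
      have h1 := Cfsg.Agent.S4655.card_lt_card_of_lt (lt_of_le_of_ne hQP hQeq)
      rw [← heq, card_map_conj] at h1
      exact lt_irrefl _ h1
    have hlt := Cfsg.Agent.S4655.card_lt_card_of_lt (lt_of_le_of_ne hQP hQeq)
    have IH : ∀ (Q' : Subgroup G)
        (f' : Set (IrrCharacter (Subgroup.centralizer (Q' : Set G)))) (g' : G),
        Nat.card (Q.map (MulAut.conj x).toMonoidHom) < Nat.card Q' → SubpairLE p M Q' f' P e →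
        SubpairLE p M (Q'.map (MulAut.conj g').toMonoidHom) (conjBlock Q' g' f') P e →
        ∃ u ∈ P, u⁻¹ * g' ∈ Subgroup.centralizer (Q' : Set G) := by
      intro Q' f' g' hc hle' hgle'
      rw [card_map_conj] at hc
      exact ih Q' f' g' (by omega) hle' hgle'
    -- `x⁻¹` and `g x⁻¹` carry `(Q, f)^x` into `(P, e)`
    have h1 : Relation.ReflTransGen (NormalSubpairRel p M)
        (conjPair x⁻¹ (conjPair x (⟨Q, f⟩ : BrauerPairIdx G))) ⟨P, e⟩ := by
      rw [conjPair_inv_conjPair]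
      exact hle
    have h2 : Relation.ReflTransGen (NormalSubpairRel p M)
        (conjPair (g * x⁻¹) (conjPair x (⟨Q, f⟩ : BrauerPairIdx G))) ⟨P, e⟩ := by
      rw [← conjPair_conjPair, conjPair_inv_conjPair]
      exact hgle
    obtain ⟨w₁, hw₁, hw₁c⟩ := exists_mem_of_card_normalizerIn hM hmax hnil hxle hQ₁ne hcard IH
      x⁻¹ h1
    obtain ⟨w₂, hw₂, hw₂c⟩ := exists_mem_of_card_normalizerIn hM hmax hnil hxle hQ₁ne hcard IH
      (g * x⁻¹) h2
    have h3 := (mem_centralizer_map_conj_iff Q x _).mp hw₁c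
    have h4 := (mem_centralizer_map_conj_iff Q x _).mp hw₂c
    refine ⟨w₂ * w₁⁻¹, P.mul_mem hw₂ (P.inv_mem hw₁), ?_⟩
    have h5 : (w₂ * w₁⁻¹)⁻¹ * g =
        (x⁻¹ * (w₁⁻¹ * x⁻¹) * x)⁻¹ * (x⁻¹ * (w₂⁻¹ * (g * x⁻¹)) * x) := by group
    rw [h5]
    exact Subgroup.mul_mem _ (Subgroup.inv_mem _ h3) h4

end Main

end Cfsg.Agent.Lib.Helper16
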