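import Cfsg.Agent.Lib.Helper16.NormalSub

/-!
# Covering of blocks of a normal subgroup (helper16)
-/

set_option autoImplicit false

namespace Cfsg.Agent.Lib.Helper16

open Cfsg MonoidAlgebra
open Cfsg.Agent.Lib.Helper75
open scoped ComplexConjugate

universe u

variable {G : Type u} [Group G] [Fintype G] (N : Subgroup G) [hN : N.Normal] [Fintype N]

omit [Fintype G] [Fintype N] in
/-- Conjugation by `g ∈ G` carries the centralizer of `n` in `N` to that of `g n g⁻¹`. -/
theorem index_centralizer_conjNormal (g : G) (n : N) :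
    (Subgroup.centralizer ({(⟨g * n * g⁻¹, hN.conj_mem n n.2 g⟩ : N)} : Set N)).index =
      (Subgroup.centralizer ({n} : Set N)).index := by
  have : Subgroup.centralizer ({(⟨g * n * g⁻¹, hN.conj_mem n n.2 g⟩ : N)} : Set N) =
      (Subgroup.centralizer ({n} : Set N)).map (MulAut.conjNormal (H := N) g).toMonoidHom := by
    ext y
    rw [Subgroup.mem_map_equiv, Subgroup.mem_centralizer_singleton_iff,
      Subgroup.mem_centralizer_singleton_iff]
    constructor
    · intro h
      apply Subtype.ext
      have h' := congrArg (Subtype.val : N → G) h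
      simp only [Subgroup.coe_mul, MulAut.conjNormal_symm_apply] at h' ⊢
      calc g⁻¹ * (y : G) * g * n = g⁻¹ * ((y : G) * (g * n * g⁻¹)) * g := by group
        _ = g⁻¹ * ((g * n * g⁻¹) * (y : G)) * g := by rw [h']
        _ = n * (g⁻¹ * (y : G) * g) := by group
    · intro h
      apply Subtype.ext
      have h' := congrArg (Subtype.val : N → G) h
      simp only [Subgroup.coe_mul, MulAut.conjNormal_symm_apply] at h' ⊢
      calc (y : G) * (g * n * g⁻¹) = g * ((g⁻¹ * (y : G) * g) * n) * g⁻¹ := by group
        _ = g * (n * (g⁻¹ * (y : G) * g)) * g⁻¹ := by rw [h']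
        _ = g * n * g⁻¹ * y := by group
  rw [this]
  exact Subgroup.index_map_equiv _ (MulAut.conjNormal (H := N) g)

omit [Fintype G] [Fintype N] in
theorem centralChar_conjIrrN (g : G) (θ : IrrCharacter N) (n : N) :
    centralChar (conjIrrN N g θ : N → ℂ) n =
      centralChar (θ : N → ℂ) ⟨g * n * g⁻¹, hN.conj_mem n n.2 g⟩ := by
  unfold centralChar
  rw [conjIrrN_apply_one, conjIrrN_apply, index_centralizer_conjNormal]

omit [Fintype G] [Fintype N] in
theorem sameBlock_conjIrrN {M : Ideal AlgInt} (g : G) {θ θ' : IrrCharacter N}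
    (h : SameBlock M (θ : N → ℂ) (θ' : N → ℂ)) :
    SameBlock M (conjIrrN N g θ : N → ℂ) (conjIrrN N g θ' : N → ℂ) := by
  intro n
  rw [centralChar_conjIrrN, centralChar_conjIrrN]
  exact h _

/-- The set of all `G`-conjugates of members of `b`. -/
def conjClosure (b : Set (IrrCharacter N)) : Set (IrrCharacter N) :=
  {φ | ∃ g : G, conjIrrN N g φ ∈ b}

omit [Fintype G] [Fintype N] in
theorem subset_conjClosure (b : Set (IrrCharacter N)) : b ⊆ conjClosure N b := by
  intro θ hθ
  refine ⟨1, ?_⟩
  have : conjIrrN N 1 θ = θ := Subtype.ext (conjFun_one N _)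
  rwa [this]

omit [Fintype G] [Fintype N] in
theorem isGStable_conjClosure (b : Set (IrrCharacter N)) : IsGStable N (conjClosure N b) := by
  rintro φ ⟨g, hg⟩ g'
  refine ⟨g'⁻¹ * g, ?_⟩
  have : conjIrrN N (g'⁻¹ * g) (conjIrrN N g' φ) = conjIrrN N g φ := by
    apply Subtype.ext
    show conjFun N (g'⁻¹ * g) (conjFun N g' (φ : N → ℂ)) = conjFun N g (φ : N → ℂ)
    rw [← conjFun_mul]
    congr 1
    group
  rwa [this]

omit [Fintype G] [Fintype N] in
/-- The conjugate closure of a block is a union of blocks. -/
theorem conjClosure_sameBlock_closed {M : Ideal AlgInt} [M.IsPrime] {b : Set (IrrCharacter N)}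
    (hb : IsPBlock M b) {θ θ' : IrrCharacter N} (hθ : θ ∈ conjClosure N b)
    (h : SameBlock M (θ : N → ℂ) (θ' : N → ℂ)) : θ' ∈ conjClosure N b := by
  obtain ⟨g, hg⟩ := hθ
  refine ⟨g, ?_⟩
  have h1 := sameBlock_conjIrrN N g h
  rw [IsPBlock_eq_blockOf hb hg]
  exact h1

open scoped Classical in
omit [Fintype G] hN in
/-- A union of blocks has locally integral idempotent coefficients. -/
theorem blockCoeff_memLocalRing_of_closed {M : Ideal AlgInt} [hMp : M.IsPrime]
    {V : Set (IrrCharacter N)}
    (hV : ∀ θ θ' : IrrCharacter N, θ ∈ V → SameBlock M (θ : N → ℂ) (θ' : N → ℂ) → θ' ∈ V)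
    (n : N) : MemLocalRing M (blockCoeff V n) := by
  -- the finite set of blocks contained in `V`
  set 𝔅 : Finset (Set (IrrCharacter N)) :=
    (Finset.univ.filter (fun θ : IrrCharacter N => θ ∈ V)).image
      (fun θ : IrrCharacter N => blockOf M (θ : N → ℂ)) with h𝔅
  have key : blockCoeff V n = ∑ b' ∈ 𝔅, blockCoeff b' n := by
    simp only [blockCoeff_eq_sum]
    rw [← Finset.mul_sum]
    congr 1
    rw [← Finset.sum_fiberwise_of_maps_to (s := Finset.univ.filter (fun θ : IrrCharacter N => θ ∈ V))
      (t := 𝔅) (g := fun θ : IrrCharacter N => blockOf M (θ : N → ℂ))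
      (fun θ hθ => Finset.mem_image_of_mem _ hθ)]
    refine Finset.sum_congr rfl fun b' hb' => ?_
    obtain ⟨θ₀, hθ₀, rfl⟩ := Finset.mem_image.mp hb'
    have hθ₀V : θ₀ ∈ V := (Finset.mem_filter.mp hθ₀).2
    refine Finset.sum_congr ?_ fun _ _ => rfl
    ext θ
    simp only [Finset.mem_filter, Finset.mem_univ, true_and]
    constructor
    · rintro ⟨_, h2⟩
      rw [← h2]
      exact self_mem_blockOf hMp.ne_top θ
    · intro h2
      exact ⟨hV θ₀ θ hθ₀V h2, blockOf_eq_of_mem h2⟩
  rw [key]
  apply memLocalRing_sum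
  intro b' hb'
  obtain ⟨θ₀, _, rfl⟩ := Finset.mem_image.mp hb'
  exact blockCoeff_memLocalRing_blockOf θ₀ n

open scoped Classical in
omit [Fintype G] hN in
/-- The central character of `θ` on the idempotent of `U`, restricted to `N`. -/
theorem omega_resAlg_stableElt (U : Set (IrrCharacter N)) (θ : IrrCharacter N) :
    omega (θ : N → ℂ) (resAlg N (stableElt N U)) = if θ ∈ U then 1 else 0 := by
  unfold omega
  simp only [coeff_resAlg, coeff_stableElt_coe]
  rw [sum_blockCoeff_mul]
  have h1 : (θ : N → ℂ) 1 ≠ 0 := Cfsg.Agent.Lib.Helper79.irr_apply_one_ne_zero θ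
  split_ifs
  · exact div_self h1
  · exact zero_div _

omit hN in
open scoped Classical in
/-- The difference between the central character of `χ` and the induced central character of `θ`
at a central element, as a sum over classes. -/
theorem omega_sub_omega_resAlg {z : MonoidAlgebra ℂ G}
    (hz : z ∈ Subalgebra.center ℂ (MonoidAlgebra ℂ G)) (χ : IrrCharacter G) (θ : N → ℂ) :
    omega (χ : G → ℂ) z - omega θ (resAlg N z) =
      ∑ c : ConjClasses G, z.coeff (classRep c) *
        (centralChar (χ : G → ℂ) (classRep c) - inducedCentralChar N θ (classRep c)) := by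
  rw [omega_eq_sum_classes _ (irr_conj χ) hz, omega_resAlg_eq_sum_classes N θ hz,
    ← Finset.sum_sub_distrib]
  refine Finset.sum_congr rfl fun c _ => ?_
  ring

omit [Fintype N] in
/-- Class sums of elements of a normal subgroup are supported on it. -/
theorem coeff_classSum_of_not_mem (n : N) {g : G} (hg : g ∉ N) :
    (classSum (n : G)).coeff g = 0 := by
  classical
  rw [coeff_classSum, if_neg]
  intro hc
  obtain ⟨c, rfl⟩ := isConj_iff.mp hc
  exact hg (hN.conj_mem n n.2 c)

/-- If `θ` is a constituent of `χ` restricted to `N`, the central character of `χ` on `N` is the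
induced central character of `θ`. -/
theorem centralChar_eq_inducedCentralChar_of_constituent (χ : IrrCharacter G)
    (θ : IrrCharacter N) (hθ : classInner (fun n : N => (χ : G → ℂ) n) (θ : N → ℂ) ≠ 0) (n : N) :
    centralChar (χ : G → ℂ) (n : G) = inducedCentralChar N (θ : N → ℂ) (n : G) := by
  rw [← omega_classSum_irr χ (n : G), ← omega_resAlg_classSum N (θ : N → ℂ) (n : G)]
  exact omega_eq_omega_resAlg_of_support N (classSum_mem_center _)
    (fun g hg => coeff_classSum_of_not_mem N n hg) χ θ hθ

section

variable {M : Ideal AlgInt} [hMp : M.IsPrime]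

omit hN in
open scoped Classical in
/-- If the central character of `χ` and the induced central character of `θ` agree modulo the
ideal on `N`, they agree modulo the ideal on every element of the order supported on `N`. -/
theorem omega_sub_omega_resAlg_memLocalIdeal (χ : IrrCharacter G) (θ : N → ℂ)
    (h : ∀ n : N, MemLocalIdeal M (centralChar (χ : G → ℂ) (n : G) -
      inducedCentralChar N θ (n : G)))
    {z : Subalgebra.center ℂ (MonoidAlgebra ℂ G)} (hz : z ∈ centerOrder G M)
    (hsupp : ∀ g : G, g ∉ N → (z : MonoidAlgebra ℂ G).coeff g = 0) :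
    MemLocalIdeal M (omega (χ : G → ℂ) (z : MonoidAlgebra ℂ G) -
      omega θ (resAlg N (z : MonoidAlgebra ℂ G))) := by
  rw [omega_sub_omega_resAlg N z.2]
  apply memLocalIdeal_sum
  intro c _
  by_cases hc : classRep c ∈ N
  · exact memLocalIdeal_mul_left (hz _) (h ⟨classRep c, hc⟩)
  · rw [hsupp _ hc, zero_mul]
    exact memLocalIdeal_zero hMp.ne_top

/-- **Covering criterion.**  If the central character of `χ` agrees modulo the ideal on `N` with
the induced central character of `θ ∈ b`, then every constituent of `χ` on `N` is conjugate to a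
member of `b`. -/
theorem mem_conjClosure_of_congr {b : Set (IrrCharacter N)} (hb : IsPBlock M b)
    (χ : IrrCharacter G) (θ : IrrCharacter N) (hθb : θ ∈ b)
    (h : ∀ n : N, MemLocalIdeal M (centralChar (χ : G → ℂ) (n : G) -
      inducedCentralChar N (θ : N → ℂ) (n : G)))
    (θ₁ : IrrCharacter N) (hθ₁ : classInner (fun n : N => (χ : G → ℂ) n) (θ₁ : N → ℂ) ≠ 0) :
    θ₁ ∈ conjClosure N b := by
  classical
  set U := conjClosure N b with hU
  have hUs : IsGStable N U := isGStable_conjClosure N b
  have hR : ∀ n : N, MemLocalRing M (blockCoeff U n) :=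
    blockCoeff_memLocalRing_of_closed N
      (fun θ θ' h1 h2 => conjClosure_sameBlock_closed N hb h1 h2)
  have h1 := omega_sub_omega_resAlg_memLocalIdeal (M := M) N χ (θ : N → ℂ) h
    (stableElt_mem_centerOrder (M := M) N hUs hR)
    (fun g hg => coeff_stableElt_of_not_mem N U hg)
  change MemLocalIdeal M (omega (χ : G → ℂ) (stableElt N U) -
    omega (θ : N → ℂ) (resAlg N (stableElt N U))) at h1
  rw [omega_stableElt N hUs χ θ₁ hθ₁, omega_resAlg_stableElt,
    if_pos (subset_conjClosure N b hθb)] at h1
  by_contra hcon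
  rw [if_neg hcon, zero_sub, memLocalIdeal_neg_iff] at h1
  exact one_not_memLocalIdeal h1

/-- If `χ ∈ B` lies over `θ ∈ b`, then every constituent on `N` of every `χ' ∈ B` is conjugate to
a member of `b`. -/
theorem mem_conjClosure_of_sameBlock {b : Set (IrrCharacter N)} (hb : IsPBlock M b)
    {χ χ' : IrrCharacter G} (hsb : SameBlock M (χ : G → ℂ) (χ' : G → ℂ))
    {θ : IrrCharacter N} (hθb : θ ∈ b)
    (hθ : classInner (fun n : N => (χ : G → ℂ) n) (θ : N → ℂ) ≠ 0)
    (ψ : IrrCharacter N) (hψ : classInner (fun n : N => (χ' : G → ℂ) n) (ψ : N → ℂ) ≠ 0) :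
    ψ ∈ conjClosure N b := by
  apply mem_conjClosure_of_congr N hb χ' θ hθb _ ψ hψ
  intro n
  rw [← centralChar_eq_inducedCentralChar_of_constituent N χ θ hθ n, memLocalIdeal_sub_comm]
  exact hsb _

end

/-- If the central character of `χ` on `N` equals the induced central character of `θ`, then `θ`
is a constituent of `χ` restricted to `N`. -/
theorem constituent_of_centralChar_eq (χ : IrrCharacter G) (θ : IrrCharacter N)
    (h : ∀ n : N, centralChar (χ : G → ℂ) (n : G) = inducedCentralChar N (θ : N → ℂ) (n : G)) :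
    classInner (fun n : N => (χ : G → ℂ) n) (θ : N → ℂ) ≠ 0 := by
  classical
  obtain ⟨θ', hθ'⟩ := exists_constituent N χ
  set U := conjSet N θ' with hU
  have hUs : IsGStable N U := isGStable_conjSet N θ'
  have h1 := omega_sub_omega_resAlg N (stableElt_mem_center N hUs) χ (θ : N → ℂ)
  have h2 : ∑ c : ConjClasses G, (stableElt N U).coeff (classRep c) *
      (centralChar (χ : G → ℂ) (classRep c) - inducedCentralChar N (θ : N → ℂ) (classRep c)) = 0 := by
    apply Finset.sum_eq_zero
    intro c _
    by_cases hc : classRep c ∈ N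
    · have := h ⟨classRep c, hc⟩
      simp only at this
      rw [this, sub_self, mul_zero]
    · rw [coeff_stableElt_of_not_mem N U hc, zero_mul]
  rw [h2, omega_stableElt N hUs χ θ' hθ', if_pos (self_mem_conjSet N θ'),
    omega_resAlg_stableElt] at h1
  have hθU : θ ∈ U := by
    by_contra hcon
    rw [if_neg hcon, sub_zero] at h1
    exact one_ne_zero h1
  obtain ⟨g, rfl⟩ := hθU
  rwa [classInner_res_conjIrrN]

end Cfsg.Agent.Lib.Helper16
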