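import Cfsg.Agent.Lib.Helper16.DefectConj
import Cfsg.Agent.S4654

/-!
# Maximal Brauer pairs on the same subgroup are conjugate under the normalizer (helper16)
-/

set_option autoImplicit false

namespace Cfsg.Agent.Lib.Helper16

open Cfsg MonoidAlgebra Cfsg.Agent.Lib.Helper77
open scoped ComplexConjugate

universe u

section Aut

variable {G : Type u} [Group G]

/-- Conjugation by an element of `N_G(P)` as an automorphism of `C_G(P)`. -/
noncomputable def normAut (P : Subgroup G) (g : G)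
    (hg : g ∈ Subgroup.normalizer (P : Set G)) :
    ↥(Subgroup.centralizer (P : Set G)) ≃* ↥(Subgroup.centralizer (P : Set G)) where
  toFun c := ⟨g * (c : G) * g⁻¹, conj_mem_centralizer_of_mem_normalizer hg c.2⟩
  invFun c := ⟨g⁻¹ * (c : G) * g, by
    have := conj_mem_centralizer_of_mem_normalizer (Subgroup.inv_mem _ hg) c.2
    rwa [inv_inv] at this⟩
  left_inv c := by
    apply Subtype.ext
    show g⁻¹ * (g * (c : G) * g⁻¹) * g = (c : G)
    group
  right_inv c := by
    apply Subtype.ext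
    show g * (g⁻¹ * (c : G) * g) * g⁻¹ = (c : G)
    group
  map_mul' a b := by
    apply Subtype.ext
    show g * ((a : G) * (b : G)) * g⁻¹ = (g * (a : G) * g⁻¹) * (g * (b : G) * g⁻¹)
    group

theorem normAut_coe (P : Subgroup G) (g : G) (hg : g ∈ Subgroup.normalizer (P : Set G))
    (c : ↥(Subgroup.centralizer (P : Set G))) :
    ((normAut P g hg c : ↥(Subgroup.centralizer (P : Set G))) : G) = g * (c : G) * g⁻¹ := rfl

theorem map_conj_eq_of_mem_normalizer (P : Subgroup G) {g : G}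
    (hg : g ∈ Subgroup.normalizer (P : Set G)) :
    P.map (MulAut.conj g).toMonoidHom = P := by
  ext y
  rw [mem_map_conj_iff]
  have h := Subgroup.mem_normalizer_iff.mp (Subgroup.inv_mem _ hg) y
  rw [inv_inv] at h
  exact h.symm

end Aut

variable {G : Type u} [Group G] [Fintype G] {M : Ideal AlgInt}

/-- If `(P, e)` is a maximal `B`-pair and `(P, e₂)` is a `B`-pair on the same subgroup, then some
element of `N_G(P)` conjugates `(P, e₂)` to `(P, e)`. -/
theorem exists_conjPair_eq_of_isMaximalBrauerPair {p : ℕ} [Fact p.Prime] (hM : IsPModular p M)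
    (B : Set (IrrCharacter G)) (P : Subgroup G)
    (e e₂ : Set (IrrCharacter (Subgroup.centralizer (P : Set G))))
    (hmax : IsMaximalBrauerPair p M B P e) (h₂ : IsBrauerPairOf p M B P e₂) :
    ∃ g : G, g ∈ Subgroup.normalizer (P : Set G) ∧
      conjPair g (⟨P, e₂⟩ : BrauerPairIdx G) = ⟨P, e⟩ := by
  classical
  have hMp := isPModular_isPrime hM
  have : Fintype ↥(Subgroup.normalizer (P : Set G)) := Fintype.ofFinite _
  obtain ⟨b, hbe, hbind⟩ := exists_local_block_of_isBrauerPairOf hM B P e hmax.1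
  obtain ⟨b₂, hbe₂, hbind₂⟩ := exists_local_block_of_isBrauerPairOf hM B P e₂ h₂
  have hD := isDefectGroup_local_of_isMaximalBrauerPair hM B P e hmax b hbe
  have hbb : b = b₂ :=
    firstMain_unique hM P hmax.1.1.1 B hmax.1.2.1 hbe.2.1 hD hbind hbe₂.2.1 hbind₂
  subst hbb
  have hb : IsPBlock M b := hbe.2.1
  have hP'n : (P.subgroupOf (Subgroup.normalizer (P : Set G))).Normal :=
    Subgroup.normal_subgroupOf_of_le_normalizer le_rfl
  have hP'p : IsPGroup p (P.subgroupOf (Subgroup.normalizer (P : Set G))) :=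
    hmax.1.1.1.comap_subtype
  have hCn : (Subgroup.centralizer ((P.subgroupOf (Subgroup.normalizer (P : Set G)) :
      Subgroup ↥(Subgroup.normalizer (P : Set G))) :
      Set ↥(Subgroup.normalizer (P : Set G)))).Normal :=
    Cfsg.Agent.S4653.centralizer_normal_of_normal _
  have : Fintype ↥(Subgroup.centralizer ((P.subgroupOf (Subgroup.normalizer (P : Set G)) :
      Subgroup ↥(Subgroup.normalizer (P : Set G))) :
      Set ↥(Subgroup.normalizer (P : Set G)))) := Fintype.ofFinite _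
  obtain ⟨ξ₁, hξ₁⟩ := IsPBlock_nonempty hMp.ne_top hmax.1.1.2
  obtain ⟨ξ₂, hξ₂⟩ := IsPBlock_nonempty hMp.ne_top h₂.1.2
  have hθ₁ : irrPull (centEquiv P) ξ₁ ∈ pullBlock (centEquiv P) e := irrPull_mem_pullBlock _ hξ₁
  have hθ₂ : irrPull (centEquiv P) ξ₂ ∈ pullBlock (centEquiv P) e₂ :=
    irrPull_mem_pullBlock _ hξ₂
  obtain ⟨χ₁, hχ₁⟩ := exists_irr_over _ (irrPull (centEquiv P) ξ₁)
  obtain ⟨χ₂, hχ₂⟩ := exists_irr_over _ (irrPull (centEquiv P) ξ₂)
  have hχ₁b : χ₁ ∈ b := Cfsg.Agent.S4654.mem_of_over hM _ hP'p hb (hbe.2.2 _ hθ₁) hχ₁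
  have hχ₂b : χ₂ ∈ b := Cfsg.Agent.S4654.mem_of_over hM _ hP'p hb (hbe₂.2.2 _ hθ₂) hχ₂
  have hsb := sameBlock_of_mem hb hχ₂b hχ₁b
  obtain ⟨g, hg⟩ := mem_conjClosure_of_sameBlock _ (isPBlock_pullBlock _ h₂.1.2) hsb hθ₂ hχ₂
    (irrPull (centEquiv P) ξ₁) hχ₁
  refine ⟨(g : G), g.2, ?_⟩
  -- the conjugate of `ξ₁` under `g` lies in `e₂`
  have hkey : irrPull (normAut P (g : G) g.2) ξ₁ ∈ e₂ := by
    rw [mem_pullBlock_iff] at hg
    have : irrPull (centEquiv P).symm (conjIrrN _ g (irrPull (centEquiv P) ξ₁)) =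
        irrPull (normAut P (g : G) g.2) ξ₁ := by
      apply Subtype.ext
      funext c
      rw [irrPull_apply, conjIrrN_apply, irrPull_apply, irrPull_apply]
      rfl
    rwa [this] at hg
  have he : e = blockOf M (ξ₁ : _ → ℂ) := IsPBlock_eq_blockOf hmax.1.1.2 hξ₁
  have he₂ : e₂ = blockOf M (irrPull (normAut P (g : G) g.2) ξ₁ : _ → ℂ) :=
    IsPBlock_eq_blockOf h₂.1.2 hkey
  unfold conjPair
  apply pairIdx_ext (map_conj_eq_of_mem_normalizer P g.2)
  intro ξ' ξ'' hag
  simp only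
  rw [conjBlock_eq_pullBlock, mem_pullBlock_iff]
  have h1 : irrPull (conjCent P (g : G)).symm ξ' = irrPull (normAut P (g : G) g.2) ξ'' := by
    apply Subtype.ext
    funext c
    rw [irrPull_apply, irrPull_apply]
    apply hag
    rw [conjCent_symm_coe, normAut_coe]
  rw [h1, he, he₂, mem_blockOf_iff, mem_blockOf_iff]
  exact sameBlock_comp_mulEquiv_iff (normAut P (g : G) g.2) (ξ₁ : _ → ℂ) (ξ'' : _ → ℂ)

end Cfsg.Agent.Lib.Helper16
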