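import Mathlib
import Cfsg.Agent.Lib.Helper16.BPConj
import Cfsg.Agent.Lib.Helper16.BPNilDefs
import Cfsg.Agent.Lib.Helper16.InducedPair
import Cfsg.Agent.Lib.Helper16.PairConj
import Cfsg.Agent.Lib.Helper82.IsoLocal
import Cfsg.Agent.S4657
import Cfsg.Agent.S4660

/-!
# PROJECT BP, layer 5: the subsections `(v, f_v)`, `v ∈ P`, exhaust the block (helper16)

`(P, e)` a maximal Brauer pair of the block `B`.  A class function `θ` in the span of `B` whose
local data at all `(v, f)`, `v ∈ P`, `(⟨v⟩, f) ≤ (P, e)`, vanish on the `p`-regular elements is zero.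
(Second main theorem, every `B`-subsection is conjugate to one below `(P, e)` - S4660 -, and
conjugation invariance.)
-/

set_option autoImplicit false
set_option linter.unusedSectionVars false
set_option linter.style.haveILetI false

namespace Cfsg.Agent.Lib.Helper16.BP

open Cfsg Finset Cfsg.Agent.Lib.Helper16 Cfsg.Agent.Lib.Helper78 Cfsg.Agent.Lib.Helper82
open scoped ComplexConjugate

universe u

variable {G : Type u} [Group G] [Fintype G] {M : Ideal AlgInt}

/-- The `b`-part of `c ↦ θ (x c)` vanishes at `p`-regular elements when `θ` is orthogonal to the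
block induced by `b`. -/
theorem secPart_eq_zero_of_classInner_eq_zero {p : ℕ} [Fact p.Prime] (hM : IsPModular p M) (x : G)
    (hx : ∃ k : ℕ, orderOf x = p ^ k) (H : Subgroup G)
    (hH : ∀ g : G, g ∈ H ↔ Commute x g) [Fintype H]
    {B' : Set (IrrCharacter G)} {b : Set (IrrCharacter H)}
    (hind : IsInducedBlock M H b B') {θ : G → ℂ} (hθ : IsClassFunction G θ)
    (horth : ∀ ψ : IrrCharacter G, ψ ∈ B' → classInner θ (ψ : G → ℂ) = 0)
    (s : H) (hs : ¬ p ∣ orderOf s) :
    secPart x H b θ s = 0 := by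
  classical
  have hexp := classFunction_eq_sum_irr hθ
  have h1 : (fun c : H => θ (x * (c : G))) =
      ∑ ψ : IrrCharacter G, classInner θ (ψ : G → ℂ) •
        (fun c : H => (ψ : G → ℂ) (x * (c : G))) := by
    funext c
    have := congrFun hexp (x * (c : G))
    rw [Finset.sum_apply] at this
    rw [Finset.sum_apply]
    simpa using this
  unfold secPart
  rw [h1, blockPart_sum_smul]
  apply Finset.sum_eq_zero
  intro ψ _
  by_cases hψ : ψ ∈ B'
  · rw [horth ψ hψ, zero_mul]
  · have := secPart_eq_zero_of_not_mem hM x hx H hH hind ψ hψ s hs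
    unfold secPart at this
    rw [this, mul_zero]

/-- Transport of the vanishing hypothesis along an equality of subgroups. -/
theorem blockPart_eq_zero_of_eq {p : ℕ} {P : Subgroup G}
    {e : Set (IrrCharacter (Subgroup.centralizer (P : Set G)))} {θ : G → ℂ} (v : G)
    (hloc : ∀ (f : Set (IrrCharacter (locC v))),
      SubpairLE p M (Subgroup.zpowers v) f P e → ∀ s : locC v, ¬ p ∣ orderOf s →
        blockPart f (fun c : locC v => θ (v * (c : G))) s = 0) :
    ∀ (Q' : Subgroup G), Q' = Subgroup.zpowers v →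
      ∀ (f' : Set (IrrCharacter (Subgroup.centralizer (Q' : Set G)))),
        SubpairLE p M Q' f' P e → ∀ s : Subgroup.centralizer (Q' : Set G), ¬ p ∣ orderOf s →
          blockPart f' (fun c : Subgroup.centralizer (Q' : Set G) => θ (v * (c : G))) s = 0 := by
  intro Q' hQ'
  subst hQ'
  exact hloc

/-- **Exhaustion.** -/
theorem eq_zero_of_local_eq_zero {p : ℕ} [Fact p.Prime] (hM : IsPModular p M)
    {B : Set (IrrCharacter G)} {P : Subgroup G}
    {e : Set (IrrCharacter (Subgroup.centralizer (P : Set G)))}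
    (hmax : IsMaximalBrauerPair p M B P e) {θ : G → ℂ} (hθ : IsClassFunction G θ)
    (hθB : ∀ ψ : IrrCharacter G, ψ ∉ B → classInner θ (ψ : G → ℂ) = 0)
    (hloc : ∀ (v : G), v ∈ P → ∀ (f : Set (IrrCharacter (locC v))),
      SubpairLE p M (Subgroup.zpowers v) f P e → ∀ s : locC v, ¬ p ∣ orderOf s →
        blockPart f (fun c : locC v => θ (v * (c : G))) s = 0) :
    θ = 0 := by
  classical
  have hMp := isPModular_isPrime hM
  have hB : IsPBlock M B := hmax.1.2.1
  funext g
  obtain ⟨x, y, hxy, hcomm, hx, hy⟩ := exists_isPPart p g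
  have hH : ∀ a : G, a ∈ locC x ↔ Commute x a := mem_centralizer_zpowers_iff x
  haveI : Fintype (locC x) := Fintype.ofFinite _
  have hyH : y ∈ locC x := (hH y).mpr hcomm
  -- the twisted function is a class function of `C(x)`
  have hcf : IsClassFunction (locC x) (fun c : locC x => θ (x * (c : G))) :=
    isClassFunction_secTwist x (locC x) hH hθ
  have h1 : θ g = blockPart (Set.univ : Set (IrrCharacter (locC x)))
      (fun c : locC x => θ (x * (c : G))) ⟨y, hyH⟩ := by
    rw [blockPart_apply]
    have := congrFun (classFunction_eq_sum_irr hcf) ⟨y, hyH⟩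
    rw [Finset.sum_apply] at this
    simp only [Pi.smul_apply, smul_eq_mul] at this
    rw [← hxy]
    rw [this]
    apply Finset.sum_congr
    · ext ξ; simp
    · intro ξ _; rfl
  rw [h1, blockPart_eq_sum_blocksIn (M := M) Set.univ (fun _ _ _ _ => Set.mem_univ _)]
  rw [Pi.zero_apply]
  apply Finset.sum_eq_zero
  intro b hb
  obtain ⟨ξ, -, rfl⟩ := mem_blocksIn.mp hb
  have hbblock : IsPBlock M (blockOf M (ξ : locC x → ℂ)) := isPBlock_blockOf ξ
  have hxP : IsPGroup p (Subgroup.zpowers x) := by
    obtain ⟨k, hk⟩ := hx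
    exact IsPGroup.of_card (n := k) (by rw [Nat.card_zpowers, hk])
  have hpair : IsBrauerPair p M (Subgroup.zpowers x) (blockOf M (ξ : locC x → ℂ)) :=
    ⟨hxP, hbblock⟩
  obtain ⟨B', hB', -⟩ := Cfsg.Agent.S4657.result p M hM (Subgroup.zpowers x) _ hpair
  have hab : Subgroup.zpowers x ≤ Subgroup.centralizer ((Subgroup.zpowers x : Subgroup G) : Set G) := by
    intro a ha
    rw [mem_centralizer_zpowers_iff]
    obtain ⟨n, rfl⟩ := Subgroup.mem_zpowers_iff.mp ha
    exact (Commute.refl x).zpow_right n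
  have hind : IsInducedBlock M (locC x) (blockOf M (ξ : locC x → ℂ)) B' :=
    isInducedBlock_of_isBrauerPairOf hM hab hB'
  have hys : ¬ p ∣ orderOf (⟨y, hyH⟩ : locC x) := by
    rwa [Subgroup.orderOf_mk]
  by_cases hBB : B' = B
  · subst hBB
    -- conjugate below `(P, e)`
    obtain ⟨g₀, hle⟩ := Cfsg.Agent.S4660.result p M hM B' P (Subgroup.zpowers x) e _ hmax hB'
    have hQ' : (Subgroup.zpowers x).map (MulAut.conj g₀).toMonoidHom =
        Subgroup.zpowers (g₀ * x * g₀⁻¹) := by
      rw [MonoidHom.map_zpowers]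
      rfl
    have hvP : g₀ * x * g₀⁻¹ ∈ P := by
      apply Cfsg.Agent.S4655.le_le hle
      show g₀ * x * g₀⁻¹ ∈ (Subgroup.zpowers x).map (MulAut.conj g₀).toMonoidHom
      rw [hQ']
      exact Subgroup.mem_zpowers _
    have key := blockPart_eq_zero_of_eq (g₀ * x * g₀⁻¹) (hloc (g₀ * x * g₀⁻¹) hvP) _ hQ' _ hle
      ((conjCent (Subgroup.zpowers x) g₀).symm ⟨y, hyH⟩)
      (by rw [MulEquiv.orderOf_eq]; exact hys)
    rw [conjBlock_eq_pullBlock] at key
    have hfun : (fun c : Subgroup.centralizer
        (((Subgroup.zpowers x).map (MulAut.conj g₀).toMonoidHom : Subgroup G) : Set G) =>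
          θ (g₀ * x * g₀⁻¹ * (c : G))) =
        (fun c : locC x => θ (x * (c : G))) ∘ (conjCent (Subgroup.zpowers x) g₀) := by
      funext c
      rw [Function.comp_apply, conjCent_coe]
      have h2 : g₀ * x * g₀⁻¹ * (c : G) = g₀ * (x * (g₀⁻¹ * (c : G) * g₀)) * g₀⁻¹ := by group
      rw [h2, hθ]
    rw [hfun, blockPart_pullBlock, MulEquiv.apply_symm_apply] at key
    exact key
  · -- the block induces another block: second main theorem
    have hB'block : IsPBlock M B' := hind.2.1
    have := secPart_eq_zero_of_classInner_eq_zero hM x hx (locC x) hH hind hθ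
      (fun ψ hψ => hθB ψ (fun hψB => hBB (IsPBlock_eq_of_mem hB'block hB hψ hψB)))
      ⟨y, hyH⟩ hys
    unfold secPart at this
    exact this

end Cfsg.Agent.Lib.Helper16.BP
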