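import Mathlib
import Cfsg.Agent.Lib.Helper16.SubsecOrth
import Cfsg.Agent.Lib.Helper78.SMTOrtho2

/-!
# PROJECT BP, layer 5: linearity and polarized idempotency of the contributions (helper16)

`secPart` is linear in the function, `secM` is sesquilinear, and the matrix of contributions of a
subsection is idempotent in the polarized form `∑_ψ m(α, ψ) conj (m(β, ψ)) = m(α, β)`.
-/

set_option autoImplicit false
set_option linter.unusedSectionVars false
set_option linter.style.haveILetI false

namespace Cfsg.Agent.Lib.Helper16.BP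

open Cfsg Finset Cfsg.Agent.Lib.Helper16 Cfsg.Agent.Lib.Helper78 Cfsg.Agent.Lib.Helper82
open scoped ComplexConjugate

variable {G : Type*} [Group G] [Fintype G] {M : Ideal AlgInt}

open scoped Classical in
theorem secPart_sum_smul (u : G) (H : Subgroup G) [Fintype H] (b : Set (IrrCharacter H))
    {ι : Type*} (t : Finset ι) (a : ι → ℂ) (α : ι → G → ℂ) (s : H) :
    secPart u H b (∑ i ∈ t, a i • α i) s = ∑ i ∈ t, a i * secPart u H b (α i) s := by
  unfold secPart
  have h1 : (fun c : H => (∑ i ∈ t, a i • α i) (u * (c : G))) =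
      ∑ i ∈ t, a i • (fun c : H => α i (u * (c : G))) := by
    funext c
    simp [Finset.sum_apply]
  rw [h1, blockPart_sum_smul]

open scoped Classical in
theorem secM_sum_smul_left (p : ℕ) (u : G) (H : Subgroup G) [Fintype H] (b : Set (IrrCharacter H))
    {ι : Type*} (t : Finset ι) (a : ι → ℂ) (α : ι → G → ℂ) (β : G → ℂ) :
    secM p u H b (∑ i ∈ t, a i • α i) β = ∑ i ∈ t, a i * secM p u H b (α i) β := by
  unfold secM
  simp_rw [secPart_sum_smul, Finset.sum_mul, Finset.mul_sum]
  rw [Finset.sum_comm]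
  apply Finset.sum_congr rfl
  intro i _
  apply Finset.sum_congr rfl
  intro s _
  ring

open scoped Classical in
theorem secM_sum_smul_right (p : ℕ) (u : G) (H : Subgroup G) [Fintype H] (b : Set (IrrCharacter H))
    {ι : Type*} (t : Finset ι) (a : ι → ℂ) (α : G → ℂ) (β : ι → G → ℂ) :
    secM p u H b α (∑ i ∈ t, a i • β i) = ∑ i ∈ t, conj (a i) * secM p u H b α (β i) := by
  rw [← secM_conj, secM_sum_smul_left, map_sum]
  apply Finset.sum_congr rfl
  intro i _
  rw [map_mul, secM_conj]

theorem secM_sub_left (p : ℕ) (u : G) (H : Subgroup G) [Fintype H] (b : Set (IrrCharacter H))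
    (α α' β : G → ℂ) :
    secM p u H b (α - α') β = secM p u H b α β - secM p u H b α' β := by
  classical
  have h1 : α - α' = ∑ i ∈ (Finset.univ : Finset (Fin 2)),
      (![1, -1] i : ℂ) • (![α, α'] i) := by
    rw [Fin.sum_univ_two]
    simp [sub_eq_add_neg]
  rw [h1, secM_sum_smul_left, Fin.sum_univ_two]
  simp [sub_eq_add_neg]

open scoped Classical in
/-- The matrix of contributions is idempotent (polarized form). -/
theorem sum_secM_mul_conj_polar {p : ℕ} [Fact p.Prime] (hM : IsPModular p M) (u : G)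
    (hu : ∃ k : ℕ, orderOf u = p ^ k) (H : Subgroup G)
    (hH : ∀ g : G, g ∈ H ↔ Commute u g) [Fintype H]
    {e : Set (IrrCharacter H)} (he : IsPBlock M e) (χ χ' : G → ℂ) :
    ∑ ψ : IrrCharacter G, secM p u H e χ (ψ : G → ℂ) * conj (secM p u H e χ' (ψ : G → ℂ)) =
      secM p u H e χ χ' := by
  obtain ⟨N, hN⟩ : ∃ N : ℂ, N = (Nat.card H : ℂ) := ⟨_, rfl⟩
  have hN0 : N ≠ 0 := by
    rw [hN]
    exact_mod_cast Nat.card_pos.ne'
  have hNc : conj N⁻¹ = N⁻¹ := by rw [hN, map_inv₀, Complex.conj_natCast]
  set R := Finset.univ.filter (fun s : H => ¬ p ∣ orderOf s) with hR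
  set f := secPart u H e χ with hf
  set f' := secPart u H e χ' with hf'
  have hterm : ∀ ψ : IrrCharacter G,
      secM p u H e χ (ψ : G → ℂ) * conj (secM p u H e χ' (ψ : G → ℂ)) =
      N⁻¹ * N⁻¹ * ∑ s' ∈ R, ∑ s ∈ R, conj (f' s') * f s *
        (secPart u H e (ψ : G → ℂ) s' * conj (secPart u H e (ψ : G → ℂ) s)) := by
    intro ψ
    unfold secM
    rw [← hN, ← hR, ← hf, ← hf', map_mul, hNc, map_sum, mul_mul_mul_comm, mul_comm (∑ s ∈ R, _),
      Finset.sum_mul_sum]
    congr 1
    apply Finset.sum_congr rfl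
    intro s' _
    apply Finset.sum_congr rfl
    intro s _
    rw [map_mul, Complex.conj_conj]
    ring
  rw [Finset.sum_congr rfl (fun ψ _ => hterm ψ), ← Finset.mul_sum]
  have hswap : ∑ ψ : IrrCharacter G, ∑ s' ∈ R, ∑ s ∈ R, conj (f' s') * f s *
        (secPart u H e (ψ : G → ℂ) s' * conj (secPart u H e (ψ : G → ℂ) s)) =
      ∑ s' ∈ R, ∑ s ∈ R, conj (f' s') * f s * blockKernel e s' s := by
    rw [Finset.sum_comm]
    apply Finset.sum_congr rfl
    intro s' hs'
    rw [Finset.sum_comm]
    apply Finset.sum_congr rfl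
    intro s hs
    rw [← Finset.mul_sum]
    congr 1
    simp only [hR, Finset.mem_filter, Finset.mem_univ, true_and] at hs hs'
    exact sum_irr_secPart_mul_conj u hu H hH s' s
      (fun c hc => blockKernel_eq_zero_right hM he hs' hc)
      (fun c hc => blockKernel_eq_zero_right hM he hs hc)
  rw [hswap]
  have hinner : ∀ s' ∈ R, ∑ s ∈ R, conj (f' s') * f s * blockKernel e s' s =
      conj (f' s') * (N * f s') := by
    intro s' hs'
    simp only [hR, Finset.mem_filter, Finset.mem_univ, true_and] at hs'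
    have h1 := sum_pRegular_blockKernel_mul_blockPart hM he
      (fun c : H => χ (u * (c : G))) hs'
    rw [← Nat.card_eq_fintype_card, ← hN] at h1
    have h2 : ∀ s : H, conj (f' s') * f s * blockKernel e s' s =
        conj (f' s') * (blockKernel e s' s * f s) := fun s => by ring
    simp_rw [h2]
    rw [← Finset.mul_sum]
    congr 1
  rw [Finset.sum_congr rfl hinner]
  unfold secM
  rw [← hN, ← hR, ← hf, ← hf', Finset.mul_sum, Finset.mul_sum]
  apply Finset.sum_congr rfl
  intro s' _
  field_simp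

end Cfsg.Agent.Lib.Helper16.BP
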