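import Mathlib
import Cfsg.Agent.Lib.Helper16.BPExhaust
import Cfsg.Agent.Lib.Helper16.BPSecLin
import Cfsg.Agent.S4655
import Cfsg.Agent.S4658

/-!
# PROJECT BP, layer 5: the norm formula over the subsections below a maximal pair (helper16)

`(P, e)` a maximal Brauer pair of the block `B`; `subF v` is the block of `C_G(v)` with
`(⟨v⟩, subF v) ≤ (P, e)`, `mv v α β` the contribution of the subsection `(v, subF v)`, and
`Fus v v'` says that `(v, subF v)` and `(v', subF v')` are `G`-conjugate.  For an equivalence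
relation `R` on `P` that agrees with `Fus`, and `θ` in the span of `B`,
`⟨θ, θ'⟩ = ∑_{v ∈ P} |[v]_R|⁻¹ mv v θ θ'`.
-/

set_option autoImplicit false
set_option linter.unusedSectionVars false
set_option linter.style.haveILetI false

namespace Cfsg.Agent.Lib.Helper16.BP

open Cfsg Finset Cfsg.Agent.Lib.Helper16 Cfsg.Agent.Lib.Helper78 Cfsg.Agent.Lib.Helper82
open scoped ComplexConjugate

universe u

variable {G : Type u} [Group G] [Fintype G] {M : Ideal AlgInt}

/-- The `Fintype` structure used on the local centralizers. -/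
@[reducible] noncomputable def locCFintype (v : G) : Fintype (locC v) := Fintype.ofFinite _

attribute [local instance 2000] locCFintype

section SubF

open scoped Classical in
/-- The block `f_v` of `C_G(v)` with `(⟨v⟩, f_v) ≤ (P, e)`. -/
noncomputable def subF (p : ℕ) (M : Ideal AlgInt) (P : Subgroup G)
    (e : Set (IrrCharacter (Subgroup.centralizer (P : Set G)))) (v : G) :
    Set (IrrCharacter (locC v)) :=
  if h : ∃ f : Set (IrrCharacter (locC v)),
      IsPBlock M f ∧ SubpairLE p M (Subgroup.zpowers v) f P e then h.choose else ∅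

theorem subF_spec {p : ℕ} [Fact p.Prime] (hM : IsPModular p M) {P : Subgroup G}
    {e : Set (IrrCharacter (Subgroup.centralizer (P : Set G)))} (hPe : IsBrauerPair p M P e)
    {v : G} (hv : v ∈ P) :
    IsPBlock M (subF p M P e v) ∧ SubpairLE p M (Subgroup.zpowers v) (subF p M P e v) P e := by
  have hex : ∃ f : Set (IrrCharacter (locC v)),
      IsPBlock M f ∧ SubpairLE p M (Subgroup.zpowers v) f P e :=
    (Cfsg.Agent.S4655.result p M hM P (Subgroup.zpowers v) e hPe
      (by rwa [Subgroup.zpowers_le])).exists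
  unfold subF
  rw [dif_pos hex]
  exact hex.choose_spec

theorem eq_subF {p : ℕ} [Fact p.Prime] (hM : IsPModular p M) {P : Subgroup G}
    {e : Set (IrrCharacter (Subgroup.centralizer (P : Set G)))} (hPe : IsBrauerPair p M P e)
    {v : G} (hv : v ∈ P) {f : Set (IrrCharacter (locC v))}
    (hf : SubpairLE p M (Subgroup.zpowers v) f P e) : f = subF p M P e v := by
  have hblock : IsPBlock M f := (Cfsg.Agent.S4655.le_pair_left hf hPe).2
  exact (Cfsg.Agent.S4655.result p M hM P (Subgroup.zpowers v) e hPe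
    (by rwa [Subgroup.zpowers_le])).unique ⟨hblock, hf⟩ (subF_spec hM hPe hv)

/-- `(v, f_v)` and `(v', f_{v'})` are conjugate in `G`. -/
def Fus (p : ℕ) (M : Ideal AlgInt) (P : Subgroup G)
    (e : Set (IrrCharacter (Subgroup.centralizer (P : Set G)))) (v v' : G) : Prop :=
  ∃ g : G, g * v * g⁻¹ = v' ∧ ∃ ξ ∈ subF p M P e v, ∃ ξ' ∈ subF p M P e v',
    ∀ (c : locC v) (c' : locC v'), (c' : G) = g * (c : G) * g⁻¹ →
      (ξ' : locC v' → ℂ) c' = (ξ : locC v → ℂ) c

/-- The contribution of the subsection `(v, f_v)`. -/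
noncomputable def mv (p : ℕ) (M : Ideal AlgInt) (P : Subgroup G)
    (e : Set (IrrCharacter (Subgroup.centralizer (P : Set G)))) (v : G) (α β : G → ℂ) : ℂ :=
  secM p v (locC v) (subF p M P e v) α β

theorem locC_mem_iff (v : G) : ∀ g : G, g ∈ locC v ↔ Commute v g :=
  mem_centralizer_zpowers_iff v

theorem isInducedBlock_subF {p : ℕ} [Fact p.Prime] (hM : IsPModular p M)
    {B : Set (IrrCharacter G)} {P : Subgroup G}
    {e : Set (IrrCharacter (Subgroup.centralizer (P : Set G)))}
    (hmax : IsMaximalBrauerPair p M B P e) {v : G} (hv : v ∈ P) :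
    IsInducedBlock M (locC v) (subF p M P e v) B := by
  have hPe : IsBrauerPair p M P e := hmax.1.1
  obtain ⟨hblock, hle⟩ := subF_spec hM hPe hv
  have hQf : IsBrauerPair p M (Subgroup.zpowers v) (subF p M P e v) :=
    Cfsg.Agent.S4655.le_pair_left hle hPe
  have hpair : IsBrauerPairOf p M B (Subgroup.zpowers v) (subF p M P e v) :=
    (Cfsg.Agent.S4658.result p M hM P (Subgroup.zpowers v) e _ hPe hQf hle B hmax.1.2.1).mp hmax.1
  have hab : Subgroup.zpowers v ≤
      Subgroup.centralizer ((Subgroup.zpowers v : Subgroup G) : Set G) := by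
    intro a ha
    rw [mem_centralizer_zpowers_iff]
    obtain ⟨n, rfl⟩ := Subgroup.mem_zpowers_iff.mp ha
    exact (Commute.refl v).zpow_right n
  exact isInducedBlock_of_isBrauerPairOf hM hab hpair

theorem exists_orderOf_of_mem {p : ℕ} [Fact p.Prime] {P : Subgroup G} (hP : IsPGroup p P) {v : G}
    (hv : v ∈ P) : ∃ k : ℕ, orderOf v = p ^ k := by
  obtain ⟨k, hk⟩ := hP ⟨v, hv⟩
  have h1 : v ^ p ^ k = 1 := by
    have := congrArg Subtype.val hk
    simpa using this
  obtain ⟨j, -, hj⟩ := (Nat.dvd_prime_pow (Fact.out : p.Prime)).mp (orderOf_dvd_of_pow_eq_one h1)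
  exact ⟨j, hj⟩

end SubF

section Props

variable {p : ℕ} [Fact p.Prime] {B : Set (IrrCharacter G)} {P : Subgroup G}
  {e : Set (IrrCharacter (Subgroup.centralizer (P : Set G)))}

theorem mv_conj (v : G) (α β : G → ℂ) : conj (mv p M P e v α β) = mv p M P e v β α := by
  unfold mv
  exact secM_conj _ _ _ _ _ _

/-- Conjugate subsections have equal contributions. -/
theorem mv_eq_of_fus (hM : IsPModular p M) (hPe : IsBrauerPair p M P e) {v v' : G} (hv : v ∈ P)
    (hv' : v' ∈ P) (h : Fus p M P e v v') {α β : G → ℂ} (hα : IsClassFunction G α)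
    (hβ : IsClassFunction G β) : mv p M P e v α β = mv p M P e v' α β := by
  haveI hMp := isPModular_isPrime hM
  obtain ⟨g, hg, hex⟩ := h
  unfold mv
  have hbeq := eq_pullBlock_conjSec_of_exists (M := M) v v' (locC v) (locC v') (locC_mem_iff v)
    (locC_mem_iff v') g hg (subF_spec hM hPe hv).1 (subF_spec hM hPe hv').1 hex
  rw [hbeq]
  exact secM_conj_eq p v v' (locC v) (locC v') (locC_mem_iff v) (locC_mem_iff v') g hg _ hα hβ

open scoped Classical in
theorem sum_mv_mul_conj_eq_zero (hM : IsPModular p M) (hPe : IsBrauerPair p M P e) {v v' : G}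
    (hv : v ∈ P) (hv' : v' ∈ P) (h : ¬ Fus p M P e v v') (α β : G → ℂ) :
    ∑ ψ : IrrCharacter G, mv p M P e v α (ψ : G → ℂ) * conj (mv p M P e v' β (ψ : G → ℂ)) = 0 := by
  unfold mv
  apply sum_secM_mul_conj_eq_zero hM v v' (exists_orderOf_of_mem hPe.1 hv)
    (exists_orderOf_of_mem hPe.1 hv') (locC v) (locC v') (locC_mem_iff v) (locC_mem_iff v')
    (subF_spec hM hPe hv).1 (subF_spec hM hPe hv').1
  intro g hg hex
  exact h ⟨g, hg, hex⟩

open scoped Classical in
theorem sum_mv_mul_conj (hM : IsPModular p M) (hPe : IsBrauerPair p M P e) {v : G}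
    (hv : v ∈ P) (α β : G → ℂ) :
    ∑ ψ : IrrCharacter G, mv p M P e v α (ψ : G → ℂ) * conj (mv p M P e v β (ψ : G → ℂ)) =
      mv p M P e v α β := by
  unfold mv
  exact sum_secM_mul_conj_polar hM v (exists_orderOf_of_mem hPe.1 hv) (locC v) (locC_mem_iff v)
    (subF_spec hM hPe hv).1 α β

theorem mv_eq_zero_of_not_mem (hM : IsPModular p M) (hmax : IsMaximalBrauerPair p M B P e) {v : G}
    (hv : v ∈ P) (α : G → ℂ) (ψ : IrrCharacter G) (hψ : ψ ∉ B) :
    mv p M P e v α (ψ : G → ℂ) = 0 := by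
  unfold mv
  exact secM_eq_zero_of_not_mem_right hM v (exists_orderOf_of_mem hmax.1.1.1 hv) (locC v)
    (locC_mem_iff v) (isInducedBlock_subF hM hmax hv) α ψ hψ

open scoped Classical in
theorem mv_sum_smul_left (v : G) {ι : Type*} (t : Finset ι) (a : ι → ℂ) (α : ι → G → ℂ)
    (β : G → ℂ) :
    mv p M P e v (∑ i ∈ t, a i • α i) β = ∑ i ∈ t, a i * mv p M P e v (α i) β := by
  unfold mv
  exact secM_sum_smul_left _ _ _ _ _ _ _ _

open scoped Classical in
theorem mv_sum_smul_right (v : G) {ι : Type*} (t : Finset ι) (a : ι → ℂ) (α : G → ℂ)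
    (β : ι → G → ℂ) :
    mv p M P e v α (∑ i ∈ t, a i • β i) = ∑ i ∈ t, conj (a i) * mv p M P e v α (β i) := by
  unfold mv
  exact secM_sum_smul_right _ _ _ _ _ _ _ _

theorem mv_sub_left (v : G) (α α' β : G → ℂ) :
    mv p M P e v (α - α') β = mv p M P e v α β - mv p M P e v α' β := by
  unfold mv
  exact secM_sub_left _ _ _ _ _ _ _

open scoped Classical in
/-- A vanishing diagonal contribution kills the local datum on the `p`-regular elements. -/
theorem blockPart_eq_zero_of_mv_self_eq_zero (v : G) (δ : G → ℂ)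
    (h : mv p M P e v δ δ = 0) (s : locC v) (hs : ¬ p ∣ orderOf s) :
    blockPart (subF p M P e v) (fun c : locC v => δ (v * (c : G))) s = 0 := by
  unfold mv secM at h
  have hN : (Nat.card (locC v) : ℂ)⁻¹ ≠ 0 := by
    apply inv_ne_zero
    exact_mod_cast Nat.card_pos.ne'
  have h1 := (mul_eq_zero.mp h).resolve_left hN
  have h2 : ∀ s : locC v, secPart v (locC v) (subF p M P e v) δ s *
      conj (secPart v (locC v) (subF p M P e v) δ s) =
      ((Complex.normSq (secPart v (locC v) (subF p M P e v) δ s) : ℝ) : ℂ) :=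
    fun s => Complex.mul_conj _
  simp_rw [h2] at h1
  rw [← Complex.ofReal_sum, Complex.ofReal_eq_zero] at h1
  have h3 := (Finset.sum_eq_zero_iff_of_nonneg (fun s _ => Complex.normSq_nonneg _)).mp h1 s
    (by simp [hs])
  exact Complex.normSq_eq_zero.mp h3

end Props

section Main

variable {p : ℕ} [Fact p.Prime] {B : Set (IrrCharacter G)} {P : Subgroup G}
  {e : Set (IrrCharacter (Subgroup.centralizer (P : Set G)))}

open scoped Classical in
/-- The weights of an equivalence relation sum to one over each class. -/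
theorem sum_inv_card_class {X : Type*} [Fintype X] (R : X → X → Prop) (hRe : Equivalence R)
    (τ : X) :
    ∑ v : X, (if R v τ then ((Nat.card {v' : X // R v v'} : ℂ))⁻¹ else 0) = 1 := by
  have h1 : ∀ v : X, R v τ → Nat.card {v' : X // R v v'} = Nat.card {v' : X // R τ v'} := by
    intro v hv
    apply Nat.card_congr
    refine Equiv.subtypeEquivRight ?_
    intro v'
    exact ⟨fun h => hRe.trans (hRe.symm hv) h, fun h => hRe.trans hv h⟩
  have h2 : ∀ v : X, (if R v τ then ((Nat.card {v' : X // R v v'} : ℂ))⁻¹ else 0) =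
      (if R τ v then ((Nat.card {v' : X // R τ v'} : ℂ))⁻¹ else 0) := by
    intro v
    by_cases hv : R v τ
    · rw [if_pos hv, if_pos (hRe.symm hv), h1 v hv]
    · rw [if_neg hv, if_neg (fun h => hv (hRe.symm h))]
  simp_rw [h2]
  rw [← Finset.sum_filter, Finset.sum_const, nsmul_eq_mul]
  have h3 : Nat.card {v' : X // R τ v'} = (Finset.univ.filter (fun v : X => R τ v)).card := by
    rw [Nat.card_eq_fintype_card, Fintype.card_subtype]
  rw [h3]
  have h4 : ((Finset.univ.filter (fun v : X => R τ v)).card : ℂ) ≠ 0 := by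
    have : 0 < (Finset.univ.filter (fun v : X => R τ v)).card :=
      Finset.card_pos.mpr ⟨τ, by simp [hRe.refl τ]⟩
    exact_mod_cast this.ne'
  exact mul_inv_cancel₀ h4

open scoped Classical in
/-- **The norm formula.** -/
theorem classInner_eq_sum_mv (hM : IsPModular p M) (hmax : IsMaximalBrauerPair p M B P e)
    (R : P → P → Prop) (hRe : Equivalence R)
    (hR : ∀ v v' : P, R v v' ↔ Fus p M P e (v : G) (v' : G))
    {θ θ' : G → ℂ} (hθ : IsClassFunction G θ)
    (hθB : ∀ ψ : IrrCharacter G, ψ ∉ B → classInner θ (ψ : G → ℂ) = 0)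
    (hθ' : IsClassFunction G θ') :
    classInner θ θ' =
      ∑ v : P, ((Nat.card {v' : P // R v v'} : ℂ))⁻¹ * mv p M P e (v : G) θ θ' := by
  have hPe : IsBrauerPair p M P e := hmax.1.1
  set c : P → ℂ := fun v => ((Nat.card {v' : P // R v v'} : ℂ))⁻¹ with hc
  set a : IrrCharacter G → ℂ := fun ψ => ∑ v : P, c v * mv p M P e (v : G) θ (ψ : G → ℂ) with ha
  set Eθ : G → ℂ := ∑ ψ : IrrCharacter G, a ψ • (ψ : G → ℂ) with hE
  have hEcf : IsClassFunction G Eθ :=
    isClassFunction_sum _ _ (fun ψ _ => isClassFunction_smul _ (isClassFunction_irr ψ))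
  -- Claim A
  have hA : ∀ (τ : P) (ψ' : IrrCharacter G),
      mv p M P e (τ : G) Eθ (ψ' : G → ℂ) = mv p M P e (τ : G) θ (ψ' : G → ℂ) := by
    intro τ ψ'
    rw [hE, mv_sum_smul_left]
    have h1 : ∀ ψ : IrrCharacter G, a ψ * mv p M P e (τ : G) (ψ : G → ℂ) (ψ' : G → ℂ) =
        ∑ v : P, c v * (mv p M P e (v : G) θ (ψ : G → ℂ) *
          conj (mv p M P e (τ : G) (ψ' : G → ℂ) (ψ : G → ℂ))) := by
      intro ψ
      rw [ha, Finset.sum_mul]
      apply Finset.sum_congr rfl
      intro v _
      rw [mv_conj]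
      ring
    simp_rw [h1]
    rw [Finset.sum_comm]
    simp_rw [← Finset.mul_sum]
    have h2 : ∀ v : P, c v * ∑ ψ : IrrCharacter G, mv p M P e (v : G) θ (ψ : G → ℂ) *
          conj (mv p M P e (τ : G) (ψ' : G → ℂ) (ψ : G → ℂ)) =
        (if R v τ then c v else 0) * mv p M P e (τ : G) θ (ψ' : G → ℂ) := by
      intro v
      by_cases hv : R v τ
      · rw [if_pos hv]
        congr 1
        rw [← sum_mv_mul_conj hM hPe τ.2 θ (ψ' : G → ℂ)]
        apply Finset.sum_congr rfl
        intro ψ _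
        rw [mv_eq_of_fus hM hPe v.2 τ.2 ((hR v τ).mp hv) hθ (isClassFunction_irr ψ)]
      · rw [if_neg hv, zero_mul,
          sum_mv_mul_conj_eq_zero hM hPe v.2 τ.2 (fun h => hv ((hR v τ).mpr h)), mul_zero]
    simp_rw [h2]
    rw [← Finset.sum_mul, sum_inv_card_class R hRe τ, one_mul]
  -- the difference
  set δ : G → ℂ := θ - Eθ with hδ
  have hδcf : IsClassFunction G δ := isClassFunction_sub hθ hEcf
  have hEinner : ∀ ψ : IrrCharacter G, classInner Eθ (ψ : G → ℂ) = a ψ := by
    intro ψ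
    rw [hE, classInner_sum_left]
    simp_rw [classInner_smul_left]
    rw [Finset.sum_eq_single ψ]
    · rw [classInner_irr_self ψ.2, mul_one]
    · intro ψ₂ _ hne
      rw [classInner_irr_ne ψ₂.2 ψ.2 (fun h => hne (Subtype.ext h)), mul_zero]
    · intro h; exact absurd (Finset.mem_univ ψ) h
  have haB : ∀ ψ : IrrCharacter G, ψ ∉ B → a ψ = 0 := by
    intro ψ hψ
    rw [ha]
    apply Finset.sum_eq_zero
    intro v _
    rw [mv_eq_zero_of_not_mem hM hmax v.2 θ ψ hψ, mul_zero]
  have hδB : ∀ ψ : IrrCharacter G, ψ ∉ B → classInner δ (ψ : G → ℂ) = 0 := by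
    intro ψ hψ
    have : δ = θ + (-1 : ℂ) • Eθ := by rw [hδ]; funext g; simp [sub_eq_add_neg]
    rw [this, classInner_add_left, classInner_smul_left, hθB ψ hψ, hEinner ψ, haB ψ hψ]
    ring
  have hδm : ∀ (τ : P) (ψ' : IrrCharacter G), mv p M P e (τ : G) δ (ψ' : G → ℂ) = 0 := by
    intro τ ψ'
    rw [hδ, mv_sub_left, hA τ ψ', sub_self]
  have hδexp := classFunction_eq_sum_irr hδcf
  have hδmm : ∀ τ : P, mv p M P e (τ : G) δ δ = 0 := by
    intro τ
    have h := mv_sum_smul_right (p := p) (M := M) (P := P) (e := e) (τ : G) Finset.univ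
      (fun ψ : IrrCharacter G => classInner δ (ψ : G → ℂ)) δ (fun ψ : IrrCharacter G => (ψ : G → ℂ))
    rw [← hδexp] at h
    rw [h]
    apply Finset.sum_eq_zero
    intro ψ' _
    rw [hδm τ ψ', mul_zero]
  have hδ0 : δ = 0 := by
    apply eq_zero_of_local_eq_zero hM hmax hδcf hδB
    intro v hv f hf s hs
    rw [eq_subF hM hPe hv hf]
    exact blockPart_eq_zero_of_mv_self_eq_zero v δ (hδmm ⟨v, hv⟩) s hs
  have hθE : θ = Eθ := by
    have := hδ0
    rw [hδ] at this
    exact sub_eq_zero.mp this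
  -- Claim F
  have hθ'exp := classFunction_eq_sum_irr hθ'
  have h5 : ∀ v : P, mv p M P e (v : G) θ θ' =
      ∑ ψ : IrrCharacter G, conj (classInner θ' (ψ : G → ℂ)) * mv p M P e (v : G) θ (ψ : G → ℂ) := by
    intro v
    have h := mv_sum_smul_right (p := p) (M := M) (P := P) (e := e) (v : G) Finset.univ
      (fun ψ : IrrCharacter G => classInner θ' (ψ : G → ℂ)) θ (fun ψ : IrrCharacter G => (ψ : G → ℂ))
    rw [← hθ'exp] at h
    exact h
  calc classInner θ θ' = classInner Eθ θ' := by rw [← hθE]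
    _ = ∑ ψ : IrrCharacter G, a ψ * classInner (ψ : G → ℂ) θ' := by
        rw [hE, classInner_sum_left]
        simp_rw [classInner_smul_left]
    _ = ∑ v : P, c v * mv p M P e (v : G) θ θ' := by
        simp_rw [h5, ha, Finset.sum_mul, Finset.mul_sum]
        rw [Finset.sum_comm]
        apply Finset.sum_congr rfl
        intro v _
        apply Finset.sum_congr rfl
        intro ψ _
        rw [← classInner_conj_symm θ' (ψ : G → ℂ)]
        ring

end Main

end Cfsg.Agent.Lib.Helper16.BP
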