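import Cfsg.Agent.Lib.Helper16.FongSylow

/-!
# When the `p`-regular elements of `L` centralize `Q`: `L = D C_G(Q)` (helper16)
-/

set_option autoImplicit false

namespace Cfsg.Agent.Lib.Helper16

open Cfsg MonoidAlgebra Cfsg.Agent.Lib.Helper77
open scoped ComplexConjugate

universe u

section Quot

variable {G : Type u} [Group G] [Finite G]

/-- If the `p`-regular elements of `L` centralize `Q` then `L / C_G(Q)` is a `p`-group. -/
theorem exists_index_eq_pow_of_regular {p : ℕ} [Fact p.Prime] {L Q : Subgroup G}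
    (hLN : L ≤ Subgroup.normalizer (Q : Set G))
    (hreg : ∀ x ∈ L, IsPRegular p x → x ∈ Subgroup.centralizer (Q : Set G)) :
    ∃ k : ℕ, ((Subgroup.centralizer (Q : Set G)).subgroupOf L).index = p ^ k := by
  have hp : p.Prime := Fact.out
  have hnorm : ((Subgroup.centralizer (Q : Set G)).subgroupOf L).Normal :=
    Subgroup.normal_subgroupOf_of_le_normalizer
      (hLN.trans (normalizer_le_normalizer_centralizer' Q))
  have hpg : IsPGroup p (↥L ⧸ (Subgroup.centralizer (Q : Set G)).subgroupOf L) := by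
    intro tbar
    obtain ⟨t, rfl⟩ := QuotientGroup.mk_surjective tbar
    have hn0 : orderOf (t : G) ≠ 0 := (orderOf_pos (t : G)).ne'
    obtain ⟨k, m, hm, hn⟩ := Nat.exists_eq_pow_mul_and_not_dvd hn0 p hp.ne_one
    refine ⟨k, ?_⟩
    rw [← QuotientGroup.mk_pow, QuotientGroup.eq_one_iff, Subgroup.mem_subgroupOf]
    have hpk : p ^ k ≠ 0 := pow_ne_zero _ hp.ne_zero
    have hord : orderOf ((t : G) ^ (p ^ k)) = m := by
      have hg : (p ^ k * m).gcd (p ^ k) = p ^ k := Nat.gcd_eq_right (Dvd.intro _ rfl)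
      rw [orderOf_pow' _ hpk, hn, hg, Nat.mul_div_cancel_left _ (pow_pos hp.pos k)]
    have hregx : IsPRegular p ((t : G) ^ (p ^ k)) := by
      unfold IsPRegular
      rw [hord]
      exact hm
    have := hreg _ (L.pow_mem t.2 _) hregx
    simpa using this
  obtain ⟨k, hk⟩ := IsPGroup.iff_card.mp hpg
  exact ⟨k, hk⟩

end Quot

section Main

variable {G : Type u} [Group G] [Fintype G] {M : Ideal AlgInt}

open scoped Pointwise in
/-- If the `p`-regular elements of `L` centralize `Q`, then `L = D C_G(Q)` for every defect group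
`D` of the block of `L` with the idempotent of `f`. -/
theorem exists_mul_of_mem_of_regular {p : ℕ} [Fact p.Prime] (hM : IsPModular p M)
    (Q L : Subgroup G) (hQ : IsPGroup p Q) (hQL : Q ≤ L)
    (hLN : L ≤ Subgroup.normalizer (Q : Set G)) (hCL : Subgroup.centralizer (Q : Set G) ≤ L)
    (f : Set (IrrCharacter (Subgroup.centralizer (Q : Set G)))) (hf : IsPBlock M f)
    (hstab : ∀ x ∈ L, StabilizesBlock (Subgroup.centralizer (Q : Set G)) f x)
    {F' : Set (IrrCharacter ↥L)} (hF' : IsPBlock M F')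
    (hF'f : ∀ t : ↥L, blockCoeff F' t =
      subgroupBlockCoeff (Subgroup.centralizer (Q : Set G)) f (t : G))
    (hreg : ∀ x ∈ L, IsPRegular p x → x ∈ Subgroup.centralizer (Q : Set G))
    {R : Subgroup G} (hD : IsDefectGroup p M F' (R.subgroupOf L)) :
    ∀ t ∈ L, ∃ d ∈ R, ∃ c ∈ Subgroup.centralizer (Q : Set G), t = d * c := by
  have hp : p.Prime := Fact.out
  have h1 := not_dvd_index_defectGroup_sup hM Q L hQ hQL hLN hCL f hf hstab hF' hF'f hD
  obtain ⟨k, hk⟩ := exists_index_eq_pow_of_regular hLN hreg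
  have h2 : (R.subgroupOf L ⊔ (Subgroup.centralizer (Q : Set G)).subgroupOf L).index ∣ p ^ k := by
    rw [← hk]
    exact Subgroup.index_dvd_of_le le_sup_right
  obtain ⟨j, _, hj⟩ := (Nat.dvd_prime_pow hp).mp h2
  have hj0 : j = 0 := by
    by_contra hne
    apply h1
    rw [hj]
    exact dvd_pow_self p hne
  rw [hj0, pow_zero, Subgroup.index_eq_one] at hj
  have hnorm : ((Subgroup.centralizer (Q : Set G)).subgroupOf L).Normal :=
    Subgroup.normal_subgroupOf_of_le_normalizer
      (hLN.trans (normalizer_le_normalizer_centralizer' Q))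
  intro t ht
  have ht' : (⟨t, ht⟩ : ↥L) ∈
      ((R.subgroupOf L ⊔ (Subgroup.centralizer (Q : Set G)).subgroupOf L : Subgroup ↥L) :
        Set ↥L) := by
    rw [hj]
    exact Subgroup.mem_top _
  rw [Subgroup.mul_normal] at ht'
  obtain ⟨d, hd, c, hc, hdc⟩ := ht'
  refine ⟨(d : G), Subgroup.mem_subgroupOf.mp hd, (c : G), Subgroup.mem_subgroupOf.mp hc, ?_⟩
  have := congrArg Subtype.val hdc
  exact this.symm

/-- The restriction to `L` of a maximal `B`-pair `(P, e)` is a maximal pair of the block of `L`. -/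
theorem isMaximalBrauerPair_restrictPair {p : ℕ} [Fact p.Prime] (hM : IsPModular p M)
    {B : Set (IrrCharacter G)} {P Q L : Subgroup G}
    {e : Set (IrrCharacter (Subgroup.centralizer (P : Set G)))}
    (hmax : IsMaximalBrauerPair p M B P e) (hQL : Q ≤ L)
    (hCL : Subgroup.centralizer (Q : Set G) ≤ L) (hQP : Q ≤ P) (hPL : P ≤ L)
    (hCP : Subgroup.centralizer (P : Set G) ≤ L) {F' : Set (IrrCharacter ↥L)}
    (hpair : IsBrauerPairOf p M F' (P.subgroupOf L) (pullBlock (centEquivIn L P hPL hCP) e)) :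
    IsMaximalBrauerPair p M F' (P.subgroupOf L) (pullBlock (centEquivIn L P hPL hCP) e) := by
  refine ⟨hpair, ?_⟩
  intro R' g' _ hchain
  obtain ⟨b, hb, hCb, _, hbeq, hab⟩ := subpairLE_of_restrictPair hQL hCL
    (a := (⟨P, e⟩ : BrauerPairIdx G)) hPL hCP hQP hchain
  have hbB : IsBrauerPairOf p M B b.1 b.2 :=
    (Cfsg.Agent.S4658.chain_iff p M hM B ⟨P, e⟩ b hab).mpr hmax.1
  have hbP : b.1 = P := hmax.2 b.1 b.2 hbB hab
  have h1 : b.1.subgroupOf L = R' := congrArg Sigma.fst hbeq
  rw [← h1, hbP]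

end Main

end Cfsg.Agent.Lib.Helper16
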