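import Cfsg.Agent.Lib.Helper16.InducedPair
import Cfsg.Agent.Lib.Helper16.NilStab
import Cfsg.Agent.S4687

/-!
# Abelian defect: nilpotency of the local block at `Q` (helper16)

For a maximal `B`-pair `(P, c)` with `P` abelian and `Q ≤ P`, a block `f` of `C_G(Q)` for which
(the restriction of) `(P, c)` is a Brauer pair is nilpotent iff every element of `N_G(P, c)`
centralizing `Q` centralizes `P`.
-/

set_option autoImplicit false

namespace Cfsg.Agent.Lib.Helper16

open Cfsg MonoidAlgebra Cfsg.Agent.Lib.Helper77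
open scoped ComplexConjugate

universe u

variable {G : Type u} [Group G] [Fintype G] {M : Ideal AlgInt}

omit [Fintype G] in
theorem coe_mem_normalizer_iff_subgroupOf {L R : Subgroup G} (hRL : R ≤ L) (x : ↥L) :
    x ∈ Subgroup.normalizer ((R.subgroupOf L : Subgroup ↥L) : Set ↥L) ↔
      (x : G) ∈ Subgroup.normalizer (R : Set G) := by
  rw [← Subgroup.subgroupOf_normalizer_eq hRL, Subgroup.mem_subgroupOf]

theorem isNilpotentBlock_centralizer_iff {p : ℕ} [Fact p.Prime] (hM : IsPModular p M)
    {B : Set (IrrCharacter G)} {P Q : Subgroup G}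
    {c : Set (IrrCharacter (Subgroup.centralizer (P : Set G)))}
    (hmax : IsMaximalBrauerPair p M B P c) (hab : ∀ x ∈ P, ∀ y ∈ P, x * y = y * x)
    (hQP : Q ≤ P) (hPL : P ≤ Subgroup.centralizer (Q : Set G))
    (hCP : Subgroup.centralizer (P : Set G) ≤ Subgroup.centralizer (Q : Set G))
    {f : Set (IrrCharacter ↥(Subgroup.centralizer (Q : Set G)))}
    (hpair : IsBrauerPairOf p M f (P.subgroupOf (Subgroup.centralizer (Q : Set G)))
      (pullBlock (centEquivIn (Subgroup.centralizer (Q : Set G)) P hPL hCP) c)) :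
    IsNilpotentBlock p M f ↔ ∀ g : G, g ∈ Subgroup.normalizer (P : Set G) →
      StabilizesBlock (Subgroup.centralizer (P : Set G)) c g →
      g ∈ Subgroup.centralizer (Q : Set G) → g ∈ Subgroup.centralizer (P : Set G) := by
  classical
  have : Fintype ↥(Subgroup.centralizer (Q : Set G)) := Fintype.ofFinite _
  have hQL : Q ≤ Subgroup.centralizer (Q : Set G) := hQP.trans hPL
  have hmaxK := isMaximalBrauerPair_restrictPair hM hmax hQL le_rfl hQP hPL hCP hpair
  have hab' : ∀ x ∈ P.subgroupOf (Subgroup.centralizer (Q : Set G)),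
      ∀ y ∈ P.subgroupOf (Subgroup.centralizer (Q : Set G)), x * y = y * x := by
    intro x hx y hy
    apply Subtype.ext
    exact hab _ (Subgroup.mem_subgroupOf.mp hx) _ (Subgroup.mem_subgroupOf.mp hy)
  rw [Cfsg.Agent.S4687.result p M hM f _ _ hmaxK hab']
  constructor
  · intro h g hgN hgS hgQ
    have h1 := h ⟨g, hgQ⟩ ((coe_mem_normalizer_iff_subgroupOf hPL _).mpr hgN)
      (stabilizesBlock_pullBlock_centEquivIn _ P hPL hCP c ⟨g, hgQ⟩ hgS)
    exact coe_mem_centralizer_of_subgroupOf _ P hPL h1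
  · intro h x hxN hxS
    exact mk_mem_centralizer_of_subgroupOf _ P x.2
      (h (x : G) ((coe_mem_normalizer_iff_subgroupOf hPL _).mp hxN)
        (stabilizesBlock_of_pullBlock_centEquivIn _ P hPL hCP c x hxS) x.2)

end Cfsg.Agent.Lib.Helper16
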