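import Cfsg.Agent.Lib.Helper16.CentDefect

/-!
# Blocks of a subgroup `L` with `Q C_G(Q) ≤ L ≤ N_G(Q, f)` and pairs normally above `(Q, f)`
(helper16)

* `centEquivIn L R : C_L(R) ≃* C_G(R)` for `R ≤ L`, `C_G(R) ≤ L`, with transport lemmas.
* `exists_block_of_stable`: an `L`-stable block `f` of `C_G(Q)` is the idempotent of a block of `L`.
* `isBrauerPairOf_subgroupOf_of_isNormalSubpair`, `isNormalSubpair_of_isBrauerPairOf_subgroupOf`:
  Brauer pairs `(R, g)` of that block of `L` with `Q ≤ R` are the pairs with `(Q, f) ⊴ (R, g)`.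
-/

set_option autoImplicit false

namespace Cfsg.Agent.Lib.Helper16

open Cfsg MonoidAlgebra Cfsg.Agent.Lib.Helper77
open scoped ComplexConjugate

universe u

section Transport

variable {G : Type u} [Group G]

theorem coe_mem_centralizer_of_subgroupOf (L R : Subgroup G) (hRL : R ≤ L) {c : ↥L}
    (hc : c ∈ Subgroup.centralizer ((R.subgroupOf L : Subgroup ↥L) : Set ↥L)) :
    (c : G) ∈ Subgroup.centralizer (R : Set G) := by
  rw [Subgroup.mem_centralizer_iff] at hc ⊢
  intro r hr
  have := hc ⟨r, hRL hr⟩ (by rw [SetLike.mem_coe, Subgroup.mem_subgroupOf]; exact hr)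
  exact congrArg Subtype.val this

theorem mk_mem_centralizer_of_subgroupOf (L R : Subgroup G) {c : G} (hcL : c ∈ L)
    (hc : c ∈ Subgroup.centralizer (R : Set G)) :
    (⟨c, hcL⟩ : ↥L) ∈ Subgroup.centralizer ((R.subgroupOf L : Subgroup ↥L) : Set ↥L) := by
  rw [Subgroup.mem_centralizer_iff] at hc ⊢
  intro h hh
  rw [SetLike.mem_coe, Subgroup.mem_subgroupOf] at hh
  exact Subtype.ext (hc (h : G) hh)

/-- For `R ≤ L` with `C_G(R) ≤ L`: the centralizer of `R` computed inside `L` is `C_G(R)`. -/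
noncomputable def centEquivIn (L R : Subgroup G) (hRL : R ≤ L)
    (hCL : Subgroup.centralizer (R : Set G) ≤ L) :
    ↥(Subgroup.centralizer ((R.subgroupOf L : Subgroup ↥L) : Set ↥L)) ≃*
      ↥(Subgroup.centralizer (R : Set G)) where
  toFun c := ⟨((c : ↥L) : G), coe_mem_centralizer_of_subgroupOf L R hRL c.2⟩
  invFun c := ⟨⟨(c : G), hCL c.2⟩, mk_mem_centralizer_of_subgroupOf L R (hCL c.2) c.2⟩
  left_inv _ := rfl
  right_inv _ := rfl
  map_mul' _ _ := rfl

theorem centEquivIn_coe (L R : Subgroup G) (hRL : R ≤ L)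
    (hCL : Subgroup.centralizer (R : Set G) ≤ L)
    (c : ↥(Subgroup.centralizer ((R.subgroupOf L : Subgroup ↥L) : Set ↥L))) :
    ((centEquivIn L R hRL hCL c : ↥(Subgroup.centralizer (R : Set G))) : G) =
      ((c : ↥L) : G) := rfl

theorem centEquivIn_symm_coe (L R : Subgroup G) (hRL : R ≤ L)
    (hCL : Subgroup.centralizer (R : Set G) ≤ L) (c : ↥(Subgroup.centralizer (R : Set G))) :
    ((((centEquivIn L R hRL hCL).symm c :
      ↥(Subgroup.centralizer ((R.subgroupOf L : Subgroup ↥L) : Set ↥L))) : ↥L) : G) = (c : G) :=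
  rfl

/-- Extended idempotent coefficients under `centEquivIn`. -/
theorem subgroupBlockCoeff_pullBlock_centEquivIn [Finite G] (L R : Subgroup G) (hRL : R ≤ L)
    (hCL : Subgroup.centralizer (R : Set G) ≤ L)
    (e : Set (IrrCharacter (Subgroup.centralizer (R : Set G)))) (y : ↥L) :
    subgroupBlockCoeff (Subgroup.centralizer ((R.subgroupOf L : Subgroup ↥L) : Set ↥L))
      (pullBlock (centEquivIn L R hRL hCL) e) y =
    subgroupBlockCoeff (Subgroup.centralizer (R : Set G)) e (y : G) := by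
  unfold subgroupBlockCoeff
  by_cases hy : y ∈ Subgroup.centralizer ((R.subgroupOf L : Subgroup ↥L) : Set ↥L)
  · have hy' : (y : G) ∈ Subgroup.centralizer (R : Set G) :=
      coe_mem_centralizer_of_subgroupOf L R hRL hy
    rw [dif_pos hy, dif_pos hy', blockCoeff_pullBlock]
    rfl
  · have hy' : (y : G) ∉ Subgroup.centralizer (R : Set G) := by
      intro h
      exact hy (mk_mem_centralizer_of_subgroupOf L R y.2 h)
    rw [dif_neg hy, dif_neg hy']

/-- Stabilizers under `centEquivIn`: an element of `L` stabilizing `e` in `G` stabilizes the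
transported block in `L`. -/
theorem stabilizesBlock_pullBlock_centEquivIn (L R : Subgroup G) (hRL : R ≤ L)
    (hCL : Subgroup.centralizer (R : Set G) ≤ L)
    (e : Set (IrrCharacter (Subgroup.centralizer (R : Set G)))) (r : ↥L)
    (h : StabilizesBlock (Subgroup.centralizer (R : Set G)) e (r : G)) :
    StabilizesBlock (Subgroup.centralizer ((R.subgroupOf L : Subgroup ↥L) : Set ↥L))
      (pullBlock (centEquivIn L R hRL hCL) e) r := by
  obtain ⟨h1, h2⟩ := h
  refine ⟨?_, ?_⟩
  · rw [Subgroup.mem_normalizer_iff]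
    intro c
    have h3 := Subgroup.mem_normalizer_iff.mp h1 (c : G)
    constructor
    · intro hc
      have := h3.mp (coe_mem_centralizer_of_subgroupOf L R hRL hc)
      exact mk_mem_centralizer_of_subgroupOf L R (r * c * r⁻¹).2 this
    · intro hc
      have := h3.mpr (coe_mem_centralizer_of_subgroupOf L R hRL hc)
      exact mk_mem_centralizer_of_subgroupOf L R c.2 this
  · intro χ' hχ'
    obtain ⟨χ, hχ, rfl⟩ := hχ'
    obtain ⟨χ₂, hχ₂, hc⟩ := h2 χ hχ
    refine ⟨irrPull (centEquivIn L R hRL hCL) χ₂, irrPull_mem_pullBlock _ hχ₂, ?_⟩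
    intro k k' hk
    rw [irrPull_apply, irrPull_apply]
    apply hc
    rw [centEquivIn_coe, centEquivIn_coe, hk]
    rfl

/-- `brauerOmega` under `centEquivIn`. -/
theorem brauerOmega_centEquivIn (L R : Subgroup G) (hRL : R ≤ L)
    (hCL : Subgroup.centralizer (R : Set G) ≤ L) (β : G → ℂ)
    (ξ : IrrCharacter (Subgroup.centralizer (R : Set G))) :
    brauerOmega (R.subgroupOf L) (fun n : ↥L => β (n : G))
      (irrPull (centEquivIn L R hRL hCL) ξ : _ → ℂ) =
    brauerOmega R β (ξ : Subgroup.centralizer (R : Set G) → ℂ) := by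
  unfold brauerOmega
  rw [← finsum_comp_equiv (centEquivIn L R hRL hCL).toEquiv]
  apply finsum_congr
  intro x
  rw [irrPull_apply, irrPull_apply, map_one]
  rfl

end Transport

section Exists

variable {G : Type u} [Group G] [Fintype G] {M : Ideal AlgInt}

/-- Let `Q` be a `p`-subgroup, `f` a block of `C_G(Q)` and `L` a subgroup with
`Q C_G(Q) ≤ L ≤ N_G(Q)` all of whose elements stabilize `f`.  Then the idempotent of `f` is the
idempotent of a block of `L`. -/
theorem exists_block_of_stable {p : ℕ} [Fact p.Prime] (hM : IsPModular p M) (Q L : Subgroup G)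
    (hQ : IsPGroup p Q) (hQL : Q ≤ L) (hLN : L ≤ Subgroup.normalizer (Q : Set G))
    (hCL : Subgroup.centralizer (Q : Set G) ≤ L)
    (f : Set (IrrCharacter (Subgroup.centralizer (Q : Set G)))) (hf : IsPBlock M f)
    (hstab : ∀ x ∈ L, StabilizesBlock (Subgroup.centralizer (Q : Set G)) f x) :
    ∃ F' : Set (IrrCharacter ↥L), IsPBlock M F' ∧
      ∀ t : ↥L, blockCoeff F' t = subgroupBlockCoeff (Subgroup.centralizer (Q : Set G)) f (t : G) := by
  classical
  have hMp := isPModular_isPrime hM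
  have : Fintype ↥L := Fintype.ofFinite _
  have hQn : (Q.subgroupOf L).Normal := Subgroup.normal_subgroupOf_of_le_normalizer hLN
  have hQp : IsPGroup p (Q.subgroupOf L) := hQ.comap_subtype
  have hpair : IsBrauerPair p M (Q.subgroupOf L) (pullBlock (centEquivIn L Q hQL hCL) f) :=
    ⟨hQp, isPBlock_pullBlock _ hf⟩
  obtain ⟨B, hB, _⟩ := Cfsg.Agent.S4657.result p M hM _ _ hpair
  have hT : ∀ x : ↥L, x ∈ (⊤ : Subgroup ↥L) ↔
      StabilizesBlock (Subgroup.centralizer ((Q.subgroupOf L : Subgroup ↥L) : Set ↥L))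
        (pullBlock (centEquivIn L Q hQL hCL) f) x := by
    intro x
    constructor
    · intro _
      exact stabilizesBlock_pullBlock_centEquivIn L Q hQL hCL f x (hstab x x.2)
    · intro _
      exact Subgroup.mem_top x
  have hform := (Cfsg.Agent.S4654.result p M hM (Q.subgroupOf L) hQp B _ hB ⊤ hT).2
  refine ⟨B, hB.2.1, ?_⟩
  intro t
  rw [hform t, ← subgroupBlockCoeff_pullBlock_centEquivIn L Q hQL hCL f t]
  have hterm : ∀ x : ↥L,
      subgroupBlockCoeff (Subgroup.centralizer ((Q.subgroupOf L : Subgroup ↥L) : Set ↥L))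
        (pullBlock (centEquivIn L Q hQL hCL) f) (x⁻¹ * t * x) =
      subgroupBlockCoeff (Subgroup.centralizer ((Q.subgroupOf L : Subgroup ↥L) : Set ↥L))
        (pullBlock (centEquivIn L Q hQL hCL) f) t := by
    intro x
    have := subgroupBlockCoeff_conj_of_stabilizes
      (Subgroup.centralizer ((Q.subgroupOf L : Subgroup ↥L) : Set ↥L))
      (pullBlock (centEquivIn L Q hQL hCL) f) x⁻¹ ((hT x⁻¹).mp (Subgroup.mem_top _)) t
    rw [inv_inv] at this
    exact this
  rw [Finset.sum_congr rfl (fun x _ => hterm x), Finset.sum_const, Finset.card_univ,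
    nsmul_eq_mul, ← mul_assoc]
  have hcard : (Nat.card (⊤ : Subgroup ↥L) : ℂ) = (Fintype.card ↥L : ℂ) := by
    rw [Subgroup.card_top, Nat.card_eq_fintype_card]
  rw [hcard, inv_mul_cancel₀, one_mul]
  exact_mod_cast Fintype.card_ne_zero

end Exists

section Transfer

variable {G : Type u} [Group G] {M : Ideal AlgInt}

/-- A pair `(R, g)` normally above `(Q, f)` with `R ≤ L` is a Brauer pair of the block of `L` whose
idempotent is that of `f`. -/
theorem isBrauerPairOf_subgroupOf_of_isNormalSubpair {p : ℕ} {Q L R : Subgroup G}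
    (hCL : Subgroup.centralizer (Q : Set G) ≤ L)
    {f : Set (IrrCharacter (Subgroup.centralizer (Q : Set G)))}
    {F' : Set (IrrCharacter ↥L)} (hF' : IsPBlock M F')
    (hF'f : ∀ t : ↥L, blockCoeff F' t =
      subgroupBlockCoeff (Subgroup.centralizer (Q : Set G)) f (t : G))
    (hRL : R ≤ L) {g : Set (IrrCharacter (Subgroup.centralizer (R : Set G)))}
    (h : IsNormalSubpair p M Q f R g) :
    IsBrauerPairOf p M F' (R.subgroupOf L)
      (pullBlock (centEquivIn L R hRL ((Subgroup.centralizer_le h.2.2.1).trans hCL)) g) := by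
  obtain ⟨_, hRg, hQR, _, _, hω⟩ := h
  refine ⟨⟨hRg.1.comap_subtype, isPBlock_pullBlock _ hRg.2⟩, hF', ?_⟩
  intro ξ' hξ'
  obtain ⟨ξ, hξ, rfl⟩ := hξ'
  have h1 : blockCoeff F' =
      fun n : ↥L => subgroupBlockCoeff (Subgroup.centralizer (Q : Set G)) f (n : G) := by
    funext n
    exact hF'f n
  rw [h1, brauerOmega_centEquivIn]
  exact hω ξ hξ

/-- A Brauer pair `(R, g')` with `Q ≤ R` of the block of `L` whose idempotent is that of `f` is a
pair normally above `(Q, f)`. -/
theorem isNormalSubpair_of_isBrauerPairOf_subgroupOf {p : ℕ} {Q L R : Subgroup G}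
    (hQ : IsPGroup p Q) (hLN : L ≤ Subgroup.normalizer (Q : Set G))
    {f : Set (IrrCharacter (Subgroup.centralizer (Q : Set G)))} (hf : IsPBlock M f)
    (hstab : ∀ x ∈ L, StabilizesBlock (Subgroup.centralizer (Q : Set G)) f x)
    {F' : Set (IrrCharacter ↥L)}
    (hF'f : ∀ t : ↥L, blockCoeff F' t =
      subgroupBlockCoeff (Subgroup.centralizer (Q : Set G)) f (t : G))
    (hQR : Q ≤ R) (hRL : R ≤ L) (hCRL : Subgroup.centralizer (R : Set G) ≤ L)
    {g' : Set (IrrCharacter (Subgroup.centralizer ((R.subgroupOf L : Subgroup ↥L) : Set ↥L)))}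
    (h : IsBrauerPairOf p M F' (R.subgroupOf L) g') :
    IsNormalSubpair p M Q f R (pullBlock (centEquivIn L R hRL hCRL).symm g') := by
  obtain ⟨⟨hR', hg'⟩, _, hω⟩ := h
  have hRp : IsPGroup p R := by
    intro r
    obtain ⟨k, hk⟩ := hR' ⟨⟨(r : G), hRL r.2⟩, Subgroup.mem_subgroupOf.mpr r.2⟩
    refine ⟨k, ?_⟩
    apply Subtype.ext
    have := congrArg (fun z : ↥(R.subgroupOf L) => ((z : ↥L) : G)) hk
    simpa using this
  refine ⟨⟨hQ, hf⟩, ⟨hRp, isPBlock_pullBlock _ hg'⟩, hQR, hRL.trans hLN,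
    fun x hx => hstab x (hRL hx), ?_⟩
  intro ξ hξ
  obtain ⟨ξ', hξ', rfl⟩ := hξ
  have h1 : blockCoeff F' =
      fun n : ↥L => subgroupBlockCoeff (Subgroup.centralizer (Q : Set G)) f (n : G) := by
    funext n
    exact hF'f n
  have h2 := hω ξ' hξ'
  rw [h1, ← irrPull_irrPull_symm (centEquivIn L R hRL hCRL) ξ', brauerOmega_centEquivIn] at h2
  exact h2

end Transfer

end Cfsg.Agent.Lib.Helper16
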