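import Mathlib
import Cfsg.Agent.Lib.Helper92.BPTheta
import Cfsg.Agent.Lib.Helper16.BPNorm
import Cfsg.Agent.Lib.Helper78.SMTMain

/-!
# PROJECT BP, [L4-INST]: the local system of a maximal pair and the `*`-function (helper16)

* `locSysOf p M P e η : LocSys G`: `μ Q f u = η (x u x⁻¹)` if `(Q, f)^x ≤ (P, e)` for some `x`,
  and `0` if no conjugate of `(Q, f)` lies below `(P, e)`.
* `pPartOf p g`: the `p`-part of `g`; `starFun p M μ χ g = Θ_{⟨g_p⟩}(g_p, g_p⁻¹ g)`.
-/

set_option autoImplicit false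

namespace Cfsg.Agent.Lib.Helper16.BP

open Cfsg Cfsg.Agent.Lib.Helper16 Cfsg.Agent.Lib.Helper78 Cfsg.Agent.Lib.Helper92.BP

universe u

variable {G : Type u} [Group G]

open scoped Classical in
/-- The local system attached to the maximal pair `(P, e)` and the function `η` on `P`. -/
noncomputable def locSysOf (p : ℕ) (M : Ideal AlgInt) (P : Subgroup G)
    (e : Set (IrrCharacter (Subgroup.centralizer (P : Set G)))) (η : P → ℂ) : LocSys G :=
  fun Q f u =>
    if h : ∃ x : G, SubpairLE p M (Q.map (MulAut.conj x).toMonoidHom) (conjBlock Q x f) P e ∧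
        x * u * x⁻¹ ∈ P
    then η ⟨h.choose * u * h.choose⁻¹, h.choose_spec.2⟩ else 0

/-- The `p`-part of an element of a finite group. -/
noncomputable def pPartOf [Fintype G] (p : ℕ) [Fact p.Prime] (g : G) : G :=
  (exists_isPPart p g).choose

theorem isPPart_pPartOf [Fintype G] (p : ℕ) [Fact p.Prime] (g : G) : IsPPart p g (pPartOf p g) :=
  (exists_isPPart p g).choose_spec

/-- The function `μ * χ`: `θ(g) = Θ_{⟨g_p⟩}(g_p, g_{p'})`. -/
noncomputable def starFun [Fintype G] (p : ℕ) [Fact p.Prime] (M : Ideal AlgInt) [M.IsPrime]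
    (μ : LocSys G) (χ : G → ℂ) : G → ℂ :=
  fun g => ThetaQ M μ χ (Subgroup.zpowers (pPartOf p g)) (pPartOf p g)
    (MonoidAlgebra.of (localSubring M) G ((pPartOf p g)⁻¹ * g))

end Cfsg.Agent.Lib.Helper16.BP
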