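import Cfsg.Agent.Lib.Helper16.PairRestrict
import Cfsg.Agent.Lib.Helper77.NrmAct

/-!
# The stabilizer of a Brauer pair as a subgroup (helper16)

* `stabilizesBlock_inv`, `stabilizesBlock_mul`, `stabSubgroup Q f = N_G(Q, f)`.
* `conjPair x ⟨Q, f⟩ = ⟨Q, f⟩` iff `x ∈ N_G(Q, f)`.
* `subpair_unique`: two pairs below a third one on the same subgroup are equal.
-/

set_option autoImplicit false

namespace Cfsg.Agent.Lib.Helper16

open Cfsg MonoidAlgebra Cfsg.Agent.Lib.Helper77
open scoped ComplexConjugate Pointwise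

universe u

section Stab

variable {G : Type u} [Group G] [Finite G]

attribute [local instance] nrmMulAction

theorem stabilizesBlock_inv (H : Subgroup G) (f : Set (IrrCharacter H)) {x : G}
    (h : StabilizesBlock H f x) : StabilizesBlock H f x⁻¹ := by
  have hx : x ∈ Subgroup.normalizer (H : Set G) := h.1
  have h1 := (stabilizesBlock_iff H ⟨x, hx⟩ f).mp h
  have h2 : (⟨x, hx⟩ : ↥(Subgroup.normalizer (H : Set G)))⁻¹ • f = f := by
    rw [inv_smul_eq_iff, h1]
  exact (stabilizesBlock_iff H (⟨x, hx⟩ : ↥(Subgroup.normalizer (H : Set G)))⁻¹ f).mpr h2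

theorem stabilizesBlock_mul (H : Subgroup G) (f : Set (IrrCharacter H)) {x y : G}
    (hx' : StabilizesBlock H f x) (hy' : StabilizesBlock H f y) : StabilizesBlock H f (x * y) := by
  obtain ⟨u, rfl⟩ : ∃ u : ↥(Subgroup.normalizer (H : Set G)), (u : G) = x := ⟨⟨x, hx'.1⟩, rfl⟩
  obtain ⟨v, rfl⟩ : ∃ v : ↥(Subgroup.normalizer (H : Set G)), (v : G) = y := ⟨⟨y, hy'.1⟩, rfl⟩
  have h1 : u • f = f := (stabilizesBlock_iff H u f).mp hx'
  have h2 : v • f = f := (stabilizesBlock_iff H v f).mp hy'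
  have h3 : (u * v) • f = f := by
    rw [mul_smul, h2, h1]
  have h4 := (stabilizesBlock_iff H (u * v) f).mpr h3
  rwa [Subgroup.coe_mul] at h4

theorem stabilizesBlock_one (H : Subgroup G) (f : Set (IrrCharacter H)) :
    StabilizesBlock H f 1 := by
  have h3 : (1 : ↥(Subgroup.normalizer (H : Set G))) • f = f := one_smul _ f
  exact (stabilizesBlock_iff H (1 : ↥(Subgroup.normalizer (H : Set G))) f).mpr h3

/-- The stabilizer `N_G(Q, f)` of the pair `(Q, f)`. -/
def stabSubgroup (Q : Subgroup G) (f : Set (IrrCharacter (Subgroup.centralizer (Q : Set G)))) :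
    Subgroup G where
  carrier := {y | y ∈ Subgroup.normalizer (Q : Set G) ∧
    StabilizesBlock (Subgroup.centralizer (Q : Set G)) f y}
  mul_mem' := fun ha hb => ⟨Subgroup.mul_mem _ ha.1 hb.1, stabilizesBlock_mul _ f ha.2 hb.2⟩
  one_mem' := ⟨Subgroup.one_mem _, stabilizesBlock_one _ f⟩
  inv_mem' := fun ha => ⟨Subgroup.inv_mem _ ha.1, stabilizesBlock_inv _ f ha.2⟩

theorem mem_stabSubgroup_iff (Q : Subgroup G)
    (f : Set (IrrCharacter (Subgroup.centralizer (Q : Set G)))) (y : G) :
    y ∈ stabSubgroup Q f ↔ y ∈ Subgroup.normalizer (Q : Set G) ∧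
      StabilizesBlock (Subgroup.centralizer (Q : Set G)) f y := Iff.rfl

end Stab

section PairEq

variable {G : Type u} [Group G]

theorem pairIdx_mem_iff_of_eq {Q₁ Q₂ : Subgroup G}
    {f₁ : Set (IrrCharacter (Subgroup.centralizer (Q₁ : Set G)))}
    {f₂ : Set (IrrCharacter (Subgroup.centralizer (Q₂ : Set G)))}
    (h : (⟨Q₁, f₁⟩ : BrauerPairIdx G) = ⟨Q₂, f₂⟩)
    (ξ₁ : IrrCharacter (Subgroup.centralizer (Q₁ : Set G)))
    (ξ₂ : IrrCharacter (Subgroup.centralizer (Q₂ : Set G)))
    (hag : ∀ (c₁ : Subgroup.centralizer (Q₁ : Set G)) (c₂ : Subgroup.centralizer (Q₂ : Set G)),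
      (c₁ : G) = (c₂ : G) → (ξ₁ : _ → ℂ) c₁ = (ξ₂ : _ → ℂ) c₂) : ξ₁ ∈ f₁ ↔ ξ₂ ∈ f₂ := by
  cases h
  have : ξ₁ = ξ₂ := Subtype.ext (funext fun c => hag c c rfl)
  rw [this]

theorem mem_normalizer_of_map_conj_eq {P : Subgroup G} {y : G}
    (h : P.map (MulAut.conj y).toMonoidHom = P) : y ∈ Subgroup.normalizer (P : Set G) := by
  rw [Subgroup.mem_normalizer_iff]
  intro k
  constructor
  · intro hk
    rw [← h]
    exact ⟨k, hk, rfl⟩
  · intro hk
    rw [← h, mem_map_conj_iff] at hk
    have h2 : y⁻¹ * (y * k * y⁻¹) * y = k := by group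
    rwa [h2] at hk

/-- An element fixing the pair `(P, e)` under conjugation lies in `N_G(P, e)`. -/
theorem stabilizes_of_conjPair_eq_self {P : Subgroup G}
    {e : Set (IrrCharacter (Subgroup.centralizer (P : Set G)))} {y : G}
    (h : conjPair y (⟨P, e⟩ : BrauerPairIdx G) = ⟨P, e⟩) :
    y ∈ Subgroup.normalizer (P : Set G) ∧
      StabilizesBlock (Subgroup.centralizer (P : Set G)) e y := by
  have hPy : P.map (MulAut.conj y).toMonoidHom = P := congrArg Sigma.fst h
  have hy : y ∈ Subgroup.normalizer (P : Set G) := mem_normalizer_of_map_conj_eq hPy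
  refine ⟨hy, normalizer_le_normalizer_centralizer' P hy, ?_⟩
  intro χ hχ
  have hy' : y⁻¹ ∈ Subgroup.normalizer (P : Set G) := Subgroup.inv_mem _ hy
  refine ⟨irrPull (normAut P y⁻¹ hy') χ, ?_, ?_⟩
  · have h1 : irrPull (conjCent P y) χ ∈ conjBlock P y e := by
      rw [conjBlock_eq_pullBlock]
      exact irrPull_mem_pullBlock _ hχ
    refine (pairIdx_mem_iff_of_eq h (irrPull (conjCent P y) χ)
      (irrPull (normAut P y⁻¹ hy') χ) ?_).mp h1
    intro c₁ c₂ hc
    rw [irrPull_apply, irrPull_apply]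
    refine congrArg _ (Subtype.ext ?_)
    rw [conjCent_coe, normAut_coe, hc, inv_inv]
  · intro k k' hk
    rw [irrPull_apply]
    refine congrArg _ (Subtype.ext ?_)
    rw [normAut_coe, hk, inv_inv]
    group

end PairEq

section PairEq2

variable {G : Type u} [Group G] [Finite G]

/-- An element of `N_G(Q, f)` fixes the pair `(Q, f)` under conjugation. -/
theorem conjPair_eq_self_of_stabilizes {Q : Subgroup G}
    {f : Set (IrrCharacter (Subgroup.centralizer (Q : Set G)))} {x : G}
    (hx : x ∈ Subgroup.normalizer (Q : Set G))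
    (hst : StabilizesBlock (Subgroup.centralizer (Q : Set G)) f x) :
    conjPair x (⟨Q, f⟩ : BrauerPairIdx G) = ⟨Q, f⟩ := by
  unfold conjPair
  apply pairIdx_ext (map_conj_eq_of_mem_normalizer Q hx)
  intro ξ₁ ξ₂ hag
  simp only
  rw [conjBlock_eq_pullBlock, mem_pullBlock_iff]
  have h1 : irrPull (conjCent Q x).symm ξ₁ = irrPull (normAut Q x hx) ξ₂ := by
    apply Subtype.ext
    funext c
    rw [irrPull_apply, irrPull_apply]
    apply hag
    rw [conjCent_symm_coe, normAut_coe]
  rw [h1]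
  constructor
  · intro hmem
    obtain ⟨χ', hχ', hc⟩ := hst.2 _ hmem
    have : χ' = ξ₂ := by
      apply Subtype.ext
      funext k
      have h2 := hc ((normAut Q x hx).symm k) k (by
        have : (((normAut Q x hx) ((normAut Q x hx).symm k) :
            ↥(Subgroup.centralizer (Q : Set G))) : G) = (k : G) := by
          rw [MulEquiv.apply_symm_apply]
        rw [normAut_coe] at this
        exact this.symm)
      rw [h2, irrPull_apply, MulEquiv.apply_symm_apply]
    rw [← this]
    exact hχ'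
  · intro hmem
    obtain ⟨χ', hχ', hc⟩ := (stabilizesBlock_inv _ f hst).2 ξ₂ hmem
    have : χ' = irrPull (normAut Q x hx) ξ₂ := by
      apply Subtype.ext
      funext k
      have h2 := hc ((normAut Q x hx) k) k (by
        rw [normAut_coe, inv_inv]
        group)
      rw [h2, irrPull_apply]
    rw [← this]
    exact hχ'

end PairEq2

section Unique

variable {G : Type u} [Group G] [Fintype G] {M : Ideal AlgInt}

/-- Two pairs below a third one with the same subgroup are equal. -/
theorem subpair_unique {p : ℕ} [Fact p.Prime] (hM : IsPModular p M) {a b c : BrauerPairIdx G}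
    (hc : IsBrauerPair p M c.1 c.2)
    (ha : Relation.ReflTransGen (NormalSubpairRel p M) a c)
    (hb : Relation.ReflTransGen (NormalSubpairRel p M) b c) (hab : a.1 = b.1) : a = b := by
  obtain ⟨Q₁, f₁⟩ := a
  obtain ⟨Q₂, f₂⟩ := b
  simp only at hab
  subst hab
  have hQ : Q₁ ≤ c.1 := Cfsg.Agent.S4655.le_le ha
  have := Cfsg.Agent.S4655.unique_le hM (Nat.card c.1 - Nat.card Q₁) c hc Q₁ hQ le_rfl f₁ f₂ ha hb
  rw [this]

end Unique

end Cfsg.Agent.Lib.Helper16
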