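import Mathlib
import Cfsg.Agent.Lib.Helper16.BPNorm
import Cfsg.Agent.Lib.Helper16.NilFusion
import Cfsg.Agent.Lib.Helper16.StabGroup
import Cfsg.Agent.Lib.Helper16.AbelianDefect

/-!
# PROJECT BP, layer 5: the norm formula for a nilpotent block (helper16)

For a nilpotent block with maximal pair `(P, e)` the subsections `(v, f_v)`, `(v', f_{v'})`
(`v, v' ∈ P`) are `G`-conjugate exactly when `v, v'` are conjugate in `P`; so
`⟨θ, θ'⟩ = ∑_{v ∈ P} |v^P|⁻¹ mv v θ θ'` for `θ` in the span of `B`.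
-/

set_option autoImplicit false
set_option linter.unusedSectionVars false
set_option linter.style.haveILetI false

namespace Cfsg.Agent.Lib.Helper16.BP

open Cfsg Finset Cfsg.Agent.Lib.Helper16 Cfsg.Agent.Lib.Helper78 Cfsg.Agent.Lib.Helper82
open scoped ComplexConjugate

universe u

variable {G : Type u} [Group G] [Fintype G] {M : Ideal AlgInt}

attribute [local instance 2000] locCFintype

variable {p : ℕ} [Fact p.Prime] {B : Set (IrrCharacter G)} {P : Subgroup G}
  {e : Set (IrrCharacter (Subgroup.centralizer (P : Set G)))}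

/-- Transport of a pair on a subgroup equal to `⟨v'⟩`: its members are members of `f_{v'}`. -/
theorem exists_mem_subF_of_eq (hM : IsPModular p M) (hPe : IsBrauerPair p M P e) {v' : G}
    (hv' : v' ∈ P) :
    ∀ (Q' : Subgroup G), Q' = Subgroup.zpowers v' →
      ∀ (f' : Set (IrrCharacter (Subgroup.centralizer (Q' : Set G)))), SubpairLE p M Q' f' P e →
        ∀ ξ₁ ∈ f', ∃ ξ' ∈ subF p M P e v',
          ∀ (c₁ : Subgroup.centralizer (Q' : Set G)) (c' : locC v'), (c₁ : G) = (c' : G) →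
            (ξ' : locC v' → ℂ) c' = (ξ₁ : Subgroup.centralizer (Q' : Set G) → ℂ) c₁ := by
  intro Q' hQ'
  subst hQ'
  intro f' hle ξ₁ hξ₁
  refine ⟨ξ₁, (eq_subF hM hPe hv' hle) ▸ hξ₁, ?_⟩
  intro c₁ c' h
  rw [Subtype.ext h]

/-- Transport the other way: a block on a subgroup equal to `⟨v'⟩` sharing a member with `f_{v'}`
lies below `(P, e)`. -/
theorem subpairLE_of_eq (hM : IsPModular p M) (hPe : IsBrauerPair p M P e) {v' : G}
    (hv' : v' ∈ P) :
    ∀ (Q' : Subgroup G), Q' = Subgroup.zpowers v' →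
      ∀ (f' : Set (IrrCharacter (Subgroup.centralizer (Q' : Set G)))), IsPBlock M f' →
        (∃ ξ₁ ∈ f', ∃ ξ' ∈ subF p M P e v',
          ∀ (c₁ : Subgroup.centralizer (Q' : Set G)) (c' : locC v'), (c₁ : G) = (c' : G) →
            (ξ' : locC v' → ℂ) c' = (ξ₁ : Subgroup.centralizer (Q' : Set G) → ℂ) c₁) →
        SubpairLE p M Q' f' P e := by
  haveI hMp := isPModular_isPrime hM
  intro Q' hQ'
  subst hQ'
  rintro f' hf' ⟨ξ₁, hξ₁, ξ', hξ', h⟩
  have h1 : ξ' = ξ₁ := Subtype.ext (funext fun c => h c c rfl)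
  subst h1
  have h2 : f' = subF p M P e v' := IsPBlock_eq_of_mem hf' (subF_spec hM hPe hv').1 hξ₁ hξ'
  rw [h2]
  exact (subF_spec hM hPe hv').2

theorem map_conj_zpowers (g v : G) :
    (Subgroup.zpowers v).map (MulAut.conj g).toMonoidHom = Subgroup.zpowers (g * v * g⁻¹) := by
  rw [MonoidHom.map_zpowers]
  rfl

/-- Conjugation by an element of `P` carries `(v, f_v)` to `(d v d⁻¹, f_{d v d⁻¹})`. -/
theorem fus_of_mem (hM : IsPModular p M) (hPe : IsBrauerPair p M P e) {v d : G} (hv : v ∈ P)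
    (hd : d ∈ P) : Fus p M P e v (d * v * d⁻¹) := by
  haveI hMp := isPModular_isPrime hM
  have hv' : d * v * d⁻¹ ∈ P := P.mul_mem (P.mul_mem hd hv) (P.inv_mem hd)
  obtain ⟨hblock, hle⟩ := subF_spec hM hPe hv
  obtain ⟨ξ, hξ⟩ := IsPBlock_nonempty hMp.ne_top hblock
  have hfix : conjPair d (⟨P, e⟩ : BrauerPairIdx G) = ⟨P, e⟩ :=
    conjPair_eq_self_of_stabilizes (Subgroup.le_normalizer hd)
      (stabilizesBlock_of_mem_sup_centralizer P e (Subgroup.mem_sup_left hd))
  have hle' := subpairLE_conjPair (M := M) hle d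
  rw [hfix] at hle'
  have hξ₁ : irrPull (conjCent (Subgroup.zpowers v) d) ξ ∈
      conjBlock (Subgroup.zpowers v) d (subF p M P e v) := by
    rw [conjBlock_eq_pullBlock]
    exact irrPull_mem_pullBlock _ hξ
  obtain ⟨ξ', hξ', hc⟩ := exists_mem_subF_of_eq hM hPe hv' _ (map_conj_zpowers d v) _ hle' _ hξ₁
  refine ⟨d, rfl, ξ, hξ, ξ', hξ', ?_⟩
  intro c c' hcc
  have hmem : (c' : G) ∈ Subgroup.centralizer
      (((Subgroup.zpowers v).map (MulAut.conj d).toMonoidHom : Subgroup G) : Set G) := by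
    rw [map_conj_zpowers]
    exact c'.2
  rw [hc ⟨(c' : G), hmem⟩ c' rfl, irrPull_apply]
  refine congrArg _ (Subtype.ext ?_)
  rw [conjCent_coe]
  show d⁻¹ * (c' : G) * d = (c : G)
  rw [hcc]
  group

/-- In a nilpotent block, conjugate subsections below `(P, e)` are conjugate under `P`. -/
theorem exists_mem_of_fus (hM : IsPModular p M) (hmax : IsMaximalBrauerPair p M B P e)
    (hnil : IsNilpotentBlock p M B) {v v' : G} (hv : v ∈ P) (hv' : v' ∈ P)
    (h : Fus p M P e v v') : ∃ d ∈ P, d * v * d⁻¹ = v' := by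
  haveI hMp := isPModular_isPrime hM
  have hPe : IsBrauerPair p M P e := hmax.1.1
  obtain ⟨g, hg, ξ, hξ, ξ', hξ', hconj⟩ := h
  obtain ⟨hblock, hle⟩ := subF_spec hM hPe hv
  have hf'block : IsPBlock M (conjBlock (Subgroup.zpowers v) g (subF p M P e v)) := by
    rw [conjBlock_eq_pullBlock]
    exact isPBlock_pullBlock _ hblock
  have hQ' : (Subgroup.zpowers v).map (MulAut.conj g).toMonoidHom = Subgroup.zpowers v' := by
    rw [map_conj_zpowers, hg]
  have hle' : SubpairLE p M ((Subgroup.zpowers v).map (MulAut.conj g).toMonoidHom)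
      (conjBlock (Subgroup.zpowers v) g (subF p M P e v)) P e := by
    apply subpairLE_of_eq hM hPe hv' _ hQ' _ hf'block
    refine ⟨irrPull (conjCent (Subgroup.zpowers v) g) ξ, ?_, ξ', hξ', ?_⟩
    · rw [conjBlock_eq_pullBlock]
      exact irrPull_mem_pullBlock _ hξ
    · intro c₁ c' hcc
      rw [irrPull_apply]
      apply hconj
      rw [conjCent_coe, ← hcc]
      group
  obtain ⟨d, hd, hdc⟩ := exists_mem_of_nilpotent hM hmax hnil _ (Subgroup.zpowers v)
    (subF p M P e v) g le_rfl hle hle'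
  refine ⟨d, hd, ?_⟩
  have hcomm : Commute v (d⁻¹ * g) := (mem_centralizer_zpowers_iff v _).mp hdc
  rw [← hg]
  have h1 : g = d * (d⁻¹ * g) := by group
  rw [h1]
  have h2 : d * (d⁻¹ * g) * v * (d * (d⁻¹ * g))⁻¹ = d * ((d⁻¹ * g) * v * (d⁻¹ * g)⁻¹) * d⁻¹ := by
    group
  rw [h2, ← hcomm.eq, mul_inv_cancel_right]

theorem isConj_iff_fus (hM : IsPModular p M) (hmax : IsMaximalBrauerPair p M B P e)
    (hnil : IsNilpotentBlock p M B) (v v' : P) :
    IsConj v v' ↔ Fus p M P e (v : G) (v' : G) := by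
  have hPe : IsBrauerPair p M P e := hmax.1.1
  constructor
  · intro h
    obtain ⟨d, hd⟩ := isConj_iff.mp h
    have h1 := fus_of_mem hM hPe v.2 d.2
    have h2 : (d : G) * (v : G) * (d : G)⁻¹ = (v' : G) := by
      have := congrArg Subtype.val hd
      simpa using this
    rwa [h2] at h1
  · intro h
    obtain ⟨d, hd, hdv⟩ := exists_mem_of_fus hM hmax hnil v.2 v'.2 h
    rw [isConj_iff]
    exact ⟨⟨d, hd⟩, Subtype.ext (by simpa using hdv)⟩

open scoped Classical in
/-- **The norm formula for a nilpotent block.** -/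
theorem classInner_eq_sum_mv_nil (hM : IsPModular p M) (hmax : IsMaximalBrauerPair p M B P e)
    (hnil : IsNilpotentBlock p M B) {θ θ' : G → ℂ} (hθ : IsClassFunction G θ)
    (hθB : ∀ ψ : IrrCharacter G, ψ ∉ B → classInner θ (ψ : G → ℂ) = 0)
    (hθ' : IsClassFunction G θ') :
    classInner θ θ' =
      ∑ v : P, ((Nat.card {v' : P // IsConj v v'} : ℂ))⁻¹ * mv p M P e (v : G) θ θ' :=
  classInner_eq_sum_mv hM hmax (fun v v' : P => IsConj v v')
    ⟨IsConj.refl, fun h => h.symm, fun h h' => h.trans h'⟩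
    (isConj_iff_fus hM hmax hnil) hθ hθB hθ'

end Cfsg.Agent.Lib.Helper16.BP
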