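import Mathlib
import Cfsg.Agent.Lib.Helper16.BPInstDefs
import Cfsg.Agent.Lib.Helper16.BPNilDefs
import Cfsg.Agent.Lib.Helper16.BPNilNorm

/-!
# PROJECT BP, [INST-FUS] + [INST-MU]: the values of `locSysOf` (helper16)
-/

set_option autoImplicit false
set_option linter.unusedSectionVars false
set_option linter.style.haveILetI false

namespace Cfsg.Agent.Lib.Helper16.BP

open Cfsg Cfsg.Agent.Lib.Helper16 Cfsg.Agent.Lib.Helper78 Cfsg.Agent.Lib.Helper92.BP

universe u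

variable {G : Type u} [Group G] [Fintype G] {M : Ideal AlgInt} {p : ℕ} [Fact p.Prime]
  {B : Set (IrrCharacter G)} {P : Subgroup G}
  {e : Set (IrrCharacter (Subgroup.centralizer (P : Set G)))}

attribute [local instance 2000] locCFintype

/-- the subsection `(x u x⁻¹, f_{x u x⁻¹})` is carried by `g` to `(g x u x⁻¹ g⁻¹, f_…)` as soon as
`(Q, f)^x` and `(Q, f)^{g x}` both lie below `(P, e)`. -/
theorem fus_of_conj_le_aux (hM : IsPModular p M) (hPe : IsBrauerPair p M P e)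
    {Q₁ : Subgroup G} {f₁ : Set (IrrCharacter (Subgroup.centralizer (Q₁ : Set G)))} {g : G}
    (hx : SubpairLE p M Q₁ f₁ P e)
    (hy : Relation.ReflTransGen (NormalSubpairRel p M) (conjPair g ⟨Q₁, f₁⟩) ⟨P, e⟩)
    {v : G} (hv : v ∈ Q₁) : Fus p M P e v (g * v * g⁻¹) := by
  haveI hMp := isPModular_isPrime hM
  have hQ₁ : IsBrauerPair p M Q₁ f₁ := Cfsg.Agent.S4655.le_pair_left hx hPe
  have hQ₁P : Q₁ ≤ P := Cfsg.Agent.S4655.le_le hx
  have hvP : v ∈ P := hQ₁P hv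
  have hv' : g * v * g⁻¹ ∈ P := by
    have h1 : (conjPair g (⟨Q₁, f₁⟩ : BrauerPairIdx G)).1 ≤ P := Cfsg.Agent.S4655.le_le hy
    apply h1
    exact ⟨v, hv, rfl⟩
  -- the block of `C_G(v)` below `(Q₁, f₁)`
  obtain ⟨f₂, ⟨hf₂, hle₂⟩, -⟩ := Cfsg.Agent.S4655.result p M hM Q₁ (Subgroup.zpowers v) f₁ hQ₁
    (by rwa [Subgroup.zpowers_le])
  have hle₂P : SubpairLE p M (Subgroup.zpowers v) f₂ P e := Relation.ReflTransGen.trans hle₂ hx
  have hf₂eq : f₂ = subF p M P e v := eq_subF hM hPe hvP hle₂P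
  obtain ⟨ξ, hξ⟩ := IsPBlock_nonempty hMp.ne_top hf₂
  have hle' : Relation.ReflTransGen (NormalSubpairRel p M)
      (conjPair g ⟨Subgroup.zpowers v, f₂⟩) ⟨P, e⟩ :=
    Relation.ReflTransGen.trans (subpairLE_conjPair (M := M) hle₂ g) hy
  have hξ₁ : irrPull (conjCent (Subgroup.zpowers v) g) ξ ∈
      conjBlock (Subgroup.zpowers v) g f₂ := by
    rw [conjBlock_eq_pullBlock]
    exact irrPull_mem_pullBlock _ hξ
  obtain ⟨ξ', hξ', hc⟩ := exists_mem_subF_of_eq hM hPe hv' _ (map_conj_zpowers g v) _ hle' _ hξ₁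
  refine ⟨g, rfl, ξ, hf₂eq ▸ hξ, ξ', hξ', ?_⟩
  intro c c' hcc
  have hmem : (c' : G) ∈ Subgroup.centralizer
      (((Subgroup.zpowers v).map (MulAut.conj g).toMonoidHom : Subgroup G) : Set G) := by
    rw [map_conj_zpowers]
    exact c'.2
  rw [hc ⟨(c' : G), hmem⟩ c' rfl, irrPull_apply]
  refine congrArg _ (Subtype.ext ?_)
  rw [conjCent_coe]
  show g⁻¹ * (c' : G) * g = (c : G)
  rw [hcc]
  group

/-- BP-[INST-FUS] : two conjugates of `(Q, f)` below `(P, e)` give fused subsections -/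
theorem fus_of_conj_le (hM : IsPModular p M) (hPe : IsBrauerPair p M P e) {Q : Subgroup G}
    {f : Set (IrrCharacter (Subgroup.centralizer (Q : Set G)))} {x y : G}
    (hx : SubpairLE p M (Q.map (MulAut.conj x).toMonoidHom) (conjBlock Q x f) P e)
    (hy : SubpairLE p M (Q.map (MulAut.conj y).toMonoidHom) (conjBlock Q y f) P e)
    {u : G} (hu : u ∈ Q) : Fus p M P e (x * u * x⁻¹) (y * u * y⁻¹) := by
  have h1 : conjPair (y * x⁻¹) (conjPair x (⟨Q, f⟩ : BrauerPairIdx G)) = conjPair y ⟨Q, f⟩ := by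
    rw [conjPair_conjPair, inv_mul_cancel_right]
  have hy' : Relation.ReflTransGen (NormalSubpairRel p M)
      (conjPair (y * x⁻¹) ⟨Q.map (MulAut.conj x).toMonoidHom, conjBlock Q x f⟩) ⟨P, e⟩ := by
    have : (⟨Q.map (MulAut.conj x).toMonoidHom, conjBlock Q x f⟩ : BrauerPairIdx G) =
      conjPair x ⟨Q, f⟩ := rfl
    rw [this, h1]
    exact hy
  have hmem : x * u * x⁻¹ ∈ Q.map (MulAut.conj x).toMonoidHom := ⟨u, hu, rfl⟩
  have h2 := fus_of_conj_le_aux hM hPe hx hy' hmem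
  have h3 : y * x⁻¹ * (x * u * x⁻¹) * (y * x⁻¹)⁻¹ = y * u * y⁻¹ := by group
  rwa [h3] at h2

/-- a fusion-stable function takes equal values on fused elements -/
theorem eq_of_fus (hM : IsPModular p M) (hPe : IsBrauerPair p M P e) {η : P → ℂ}
    (hη : IsFusionStable p M P e η) {v v' : G} (hv : v ∈ P) (hv' : v' ∈ P)
    (h : Fus p M P e v v') : η ⟨v, hv⟩ = η ⟨v', hv'⟩ := by
  obtain ⟨g, hg, hex⟩ := h
  exact hη v v' hv hv' (subF p M P e v) (subF p M P e v') g (subF_spec hM hPe hv).2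
    (subF_spec hM hPe hv').2 hg hex

/-- BP-[INST-MU] : the value of the local system -/
theorem locSysOf_eq (hM : IsPModular p M) (hPe : IsBrauerPair p M P e) {η : P → ℂ}
    (hη : IsFusionStable p M P e η) {Q : Subgroup G}
    {f : Set (IrrCharacter (Subgroup.centralizer (Q : Set G)))} {x : G}
    (hx : SubpairLE p M (Q.map (MulAut.conj x).toMonoidHom) (conjBlock Q x f) P e)
    {u : G} (hu : u ∈ Q) (hmem : x * u * x⁻¹ ∈ P) :
    locSysOf p M P e η Q f u = η ⟨x * u * x⁻¹, hmem⟩ := by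
  classical
  have hex : ∃ x : G, SubpairLE p M (Q.map (MulAut.conj x).toMonoidHom) (conjBlock Q x f) P e ∧
      x * u * x⁻¹ ∈ P := ⟨x, hx, hmem⟩
  unfold locSysOf
  rw [dif_pos hex]
  exact eq_of_fus hM hPe hη _ _ (fus_of_conj_le hM hPe hex.choose_spec.1 hx hu)

theorem locSysOf_eq_zero (η : P → ℂ) {Q : Subgroup G}
    {f : Set (IrrCharacter (Subgroup.centralizer (Q : Set G)))} (u : G)
    (h : ¬ ∃ x : G, SubpairLE p M (Q.map (MulAut.conj x).toMonoidHom) (conjBlock Q x f) P e) :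
    locSysOf p M P e η Q f u = 0 := by
  classical
  unfold locSysOf
  rw [dif_neg]
  rintro ⟨x, hx, -⟩
  exact h ⟨x, hx⟩

end Cfsg.Agent.Lib.Helper16.BP
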