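import Mathlib
import Cfsg.Agent.Lib.Helper16.BPNilNorm
import Cfsg.Agent.Lib.Helper82.PullRank

/-!
# PROJECT BP, layer 5: local data at `v = 1`, contributions of `*`-products (helper16)

* `local_one`: for `θ` in the span of `B` the local datum at `(1, f_1)` is `θ` itself.
* `mv_star`: the contributions of functions with the local data of `η * χ`, `η' * χ'`.
* `IsZSpan` calculus.
-/

set_option autoImplicit false
set_option linter.unusedSectionVars false
set_option linter.style.haveILetI false

namespace Cfsg.Agent.Lib.Helper16.BP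

open Cfsg Finset Cfsg.Agent.Lib.Helper16 Cfsg.Agent.Lib.Helper78 Cfsg.Agent.Lib.Helper82
open scoped ComplexConjugate

universe u

variable {G : Type u} [Group G] [Fintype G] {M : Ideal AlgInt}

attribute [local instance 2000] locCFintype

variable {p : ℕ} [Fact p.Prime] {B : Set (IrrCharacter G)} {P : Subgroup G}
  {e : Set (IrrCharacter (Subgroup.centralizer (P : Set G)))}

theorem locC_one_eq_top : locC (1 : G) = ⊤ := by
  ext g
  simp only [Subgroup.mem_top, iff_true]
  rw [mem_centralizer_zpowers_iff]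
  exact Commute.one_left g

open scoped Classical in
/-- The `B`-part of a class function in the span of `B` is the function. -/
theorem blockPart_self_of_orth {θ : G → ℂ} (hθ : IsClassFunction G θ)
    (hθB : ∀ ψ : IrrCharacter G, ψ ∉ B → classInner θ (ψ : G → ℂ) = 0) (g : G) :
    blockPart B θ g = θ g := by
  rw [blockPart_apply]
  have h := congrFun (classFunction_eq_sum_irr hθ) g
  rw [Finset.sum_apply] at h
  simp only [Pi.smul_apply, smul_eq_mul] at h
  rw [h, Finset.sum_filter]
  apply Finset.sum_congr rfl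
  intro ψ _
  split_ifs with hψ
  · rfl
  · rw [hθB ψ hψ, zero_mul]

/-- The local datum at `(1, f_1)` of a class function in the span of `B` is the function. -/
theorem local_one (hM : IsPModular p M) (hmax : IsMaximalBrauerPair p M B P e) {θ : G → ℂ}
    (hθ : IsClassFunction G θ)
    (hθB : ∀ ψ : IrrCharacter G, ψ ∉ B → classInner θ (ψ : G → ℂ) = 0) (s : locC (1 : G)) :
    blockPart (subF p M P e 1) (fun c : locC (1 : G) => θ (1 * (c : G))) s = θ (s : G) := by
  haveI hMp := isPModular_isPrime hM
  have hPe : IsBrauerPair p M P e := hmax.1.1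
  have hB : IsPBlock M B := hmax.1.2.1
  have h1 : subF p M P e 1 = pullBlock (topEquivOf locC_one_eq_top) B :=
    (isInducedBlock_iff_of_eq_top locC_one_eq_top (subF_spec hM hPe (one_mem P)).1 hB).mp
      (isInducedBlock_subF hM hmax (one_mem P))
  have h2 : (fun c : locC (1 : G) => θ (1 * (c : G))) = θ ∘ (topEquivOf locC_one_eq_top) := by
    funext c
    rw [one_mul]
    rfl
  rw [h1, h2, blockPart_pullBlock, blockPart_self_of_orth hθ hθB]
  rfl

open scoped Classical in
/-- Contributions of two functions with the local data of `η * χ` and `η' * χ'`. -/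
theorem mv_star (hM : IsPModular p M) (hPe : IsBrauerPair p M P e) {η η' : P → ℂ}
    {χ χ' θ θ' : G → ℂ} (hstar : IsStarOf p M P e η χ θ) (hstar' : IsStarOf p M P e η' χ' θ')
    (v : P) :
    mv p M P e (v : G) θ θ' = η v * conj (η' v) * mv p M P e (v : G) χ χ' := by
  unfold mv secM
  have hterm : ∀ s ∈ Finset.univ.filter (fun s : locC (v : G) => ¬ p ∣ orderOf s),
      secPart (v : G) (locC (v : G)) (subF p M P e (v : G)) θ s *
        conj (secPart (v : G) (locC (v : G)) (subF p M P e (v : G)) θ' s) =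
      η v * conj (η' v) * (secPart (v : G) (locC (v : G)) (subF p M P e (v : G)) χ s *
        conj (secPart (v : G) (locC (v : G)) (subF p M P e (v : G)) χ' s)) := by
    intro s hs
    simp only [Finset.mem_filter, Finset.mem_univ, true_and] at hs
    have h1 := hstar (v : G) v.2 (subF p M P e (v : G)) (subF_spec hM hPe v.2).2 s hs
    have h2 := hstar' (v : G) v.2 (subF p M P e (v : G)) (subF_spec hM hPe v.2).2 s hs
    unfold secPart
    rw [h1, h2, map_mul]
    ring
  rw [Finset.sum_congr rfl hterm, ← Finset.mul_sum]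
  ring

/-- Every function has the local data of `1 * itself`. -/
theorem isStarOf_one (χ : G → ℂ) : IsStarOf p M P e (fun _ => (1 : ℂ)) χ χ := by
  intro v hv f _ s _
  rw [one_mul]

section ZSpan

open scoped Classical in
/-- `IsZSpan` in `Finset` form. -/
theorem IsZSpan.exists_sum {θ : G → ℂ} (h : IsZSpan B θ) :
    ∃ n : IrrCharacter G → ℤ, (∀ ψ, ψ ∉ B → n ψ = 0) ∧
      θ = ∑ ψ : IrrCharacter G, (n ψ : ℂ) • (ψ : G → ℂ) := by
  obtain ⟨n, hn⟩ := h
  refine ⟨fun ψ => if ψ ∈ B then n ψ else 0, fun ψ hψ => if_neg hψ, ?_⟩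
  funext g
  rw [hn g, finsum_mem_eq_sum_of_subset (t := Finset.univ.filter (fun ψ : IrrCharacter G => ψ ∈ B))
    _ (by intro x hx; simpa using hx.1) (by intro x hx; simpa using hx),
    Finset.sum_apply, Finset.sum_filter]
  apply Finset.sum_congr rfl
  intro ψ _
  by_cases hψ : ψ ∈ B
  · simp only [if_pos hψ, Pi.smul_apply, smul_eq_mul]
  · simp only [if_neg hψ, Pi.smul_apply, smul_eq_mul, Int.cast_zero, zero_mul]

theorem IsZSpan.isClassFunction {θ : G → ℂ} (h : IsZSpan B θ) : IsClassFunction G θ := by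
  obtain ⟨n, -, rfl⟩ := h.exists_sum
  exact isClassFunction_sum _ _ (fun ψ _ => isClassFunction_smul _ (isClassFunction_irr ψ))

open scoped Classical in
theorem classInner_sum_int_smul (n : IrrCharacter G → ℤ) (ψ : IrrCharacter G) :
    classInner (∑ ψ' : IrrCharacter G, (n ψ' : ℂ) • (ψ' : G → ℂ)) (ψ : G → ℂ) = (n ψ : ℂ) := by
  rw [classInner_sum_left]
  simp_rw [classInner_smul_left]
  rw [Finset.sum_eq_single ψ]
  · rw [classInner_irr_self ψ.2, mul_one]
  · intro ψ₂ _ hne
    rw [classInner_irr_ne ψ₂.2 ψ.2 (fun h => hne (Subtype.ext h)), mul_zero]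
  · intro h; exact absurd (Finset.mem_univ ψ) h

theorem IsZSpan.classInner_eq_zero {θ : G → ℂ} (h : IsZSpan B θ) (ψ : IrrCharacter G)
    (hψ : ψ ∉ B) : classInner θ (ψ : G → ℂ) = 0 := by
  obtain ⟨n, hn, rfl⟩ := h.exists_sum
  rw [classInner_sum_int_smul, hn ψ hψ, Int.cast_zero]

theorem isZSpan_irr {χ : IrrCharacter G} (hχ : χ ∈ B) : IsZSpan B (χ : G → ℂ) := by
  classical
  refine ⟨fun ψ => if ψ = χ then 1 else 0, fun g => ?_⟩
  rw [finsum_mem_eq_sum_of_subset (t := Finset.univ.filter (fun ψ : IrrCharacter G => ψ ∈ B))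
    _ (by intro x hx; simpa using hx.1) (by intro x hx; simpa using hx)]
  rw [Finset.sum_eq_single χ]
  · simp
  · intro ψ _ hne
    simp [hne]
  · intro h
    exact absurd (by simpa using hχ) h

open scoped Classical in
/-- The inner product of two integer combinations of irreducible characters is an integer. -/
theorem IsZSpan.classInner_int {θ θ' : G → ℂ} (h : IsZSpan B θ) (h' : IsZSpan B θ') :
    ∃ z : ℤ, classInner θ θ' = (z : ℂ) := by
  obtain ⟨n, -, rfl⟩ := h.exists_sum
  obtain ⟨n', -, rfl⟩ := h'.exists_sum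
  refine ⟨∑ ψ : IrrCharacter G, n ψ * n' ψ, ?_⟩
  rw [classInner_sum_left]
  push_cast
  apply Finset.sum_congr rfl
  intro ψ _
  rw [classInner_smul_left, ← classInner_conj_symm, classInner_sum_int_smul]
  simp

end ZSpan

end Cfsg.Agent.Lib.Helper16.BP
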