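import Mathlib
import Cfsg.Agent.Lib.Helper16.BPInstFus
import Cfsg.Agent.Lib.Helper16.BPNilLocal
import Cfsg.Agent.Lib.Helper16.StabGroup
import Cfsg.Agent.Lib.Helper82.FusionControl
import Cfsg.Agent.Lib.Helper82.PullRank

/-!
# PROJECT WAT (S4644), modules [CTRL] and [CENTRAL] (helper16)

* `fus_iff_exists_stab`: for an abelian `P` and a maximal pair `(P, e)`, two subsections
  `(v, f_v)`, `(v', f_{v'})` (`v, v' ∈ P`) are `G`-conjugate iff `v, v'` are conjugate under
  `N_G(P, e)`.
* `blockRank_subF_of_central`, `card_subF_of_central`: for `v ∈ P` central in `G`, `f_v`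
  corresponds to `B`.
-/

set_option autoImplicit false
set_option linter.unusedSectionVars false
set_option linter.style.haveILetI false

namespace Cfsg.Agent.Lib.Helper16.BP

open Cfsg Cfsg.Agent.Lib.Helper16 Cfsg.Agent.Lib.Helper78 Cfsg.Agent.Lib.Helper82

universe u

variable {G : Type u} [Group G] [Fintype G] {M : Ideal AlgInt} {p : ℕ} [Fact p.Prime]
  {B : Set (IrrCharacter G)} {P : Subgroup G}
  {e : Set (IrrCharacter (Subgroup.centralizer (P : Set G)))}

attribute [local instance 2000] locCFintype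

/-- WAT-[CTRL], `⇐`: an element of `N_G(P, e)` fuses `(v, f_v)` and its conjugate. -/
theorem fus_of_stab (hM : IsPModular p M) (hPe : IsBrauerPair p M P e) {v t : G} (hv : v ∈ P)
    (ht : t ∈ Subgroup.normalizer (P : Set G))
    (hst : StabilizesBlock (Subgroup.centralizer (P : Set G)) e t) :
    Fus p M P e v (t * v * t⁻¹) := by
  have hfix : conjPair t (⟨P, e⟩ : BrauerPairIdx G) = ⟨P, e⟩ :=
    conjPair_eq_self_of_stabilizes ht hst
  have hx : SubpairLE p M P e P e := Relation.ReflTransGen.refl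
  have hy : Relation.ReflTransGen (NormalSubpairRel p M) (conjPair t ⟨P, e⟩) ⟨P, e⟩ := by
    rw [hfix]
  exact fus_of_conj_le_aux hM hPe hx hy hv

/-- WAT-[CTRL], `⇒`: for an abelian `P`, fusion of subsections below `(P, e)` is realized in
`N_G(P, e)`. -/
theorem exists_stab_of_fus (hM : IsPModular p M) (hmax : IsMaximalBrauerPair p M B P e)
    (hPab : ∀ x ∈ P, ∀ y ∈ P, x * y = y * x) {v v' : G} (hv : v ∈ P) (hv' : v' ∈ P)
    (h : Fus p M P e v v') :
    ∃ t : G, (t ∈ Subgroup.normalizer (P : Set G) ∧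
      StabilizesBlock (Subgroup.centralizer (P : Set G)) e t) ∧ t * v * t⁻¹ = v' := by
  haveI hMp := isPModular_isPrime hM
  have hPe : IsBrauerPair p M P e := hmax.1.1
  obtain ⟨g, hg, ξ, hξ, ξ', hξ', hconj⟩ := h
  obtain ⟨hblock, hle⟩ := subF_spec hM hPe hv
  have hf'block : IsPBlock M (conjBlock (Subgroup.zpowers v) g (subF p M P e v)) := by
    rw [conjBlock_eq_pullBlock]
    exact isPBlock_pullBlock _ hblock
  have hQ' : (Subgroup.zpowers v).map (MulAut.conj g).toMonoidHom = Subgroup.zpowers v' := by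
    rw [map_conj_zpowers, hg]
  have hle' : SubpairLE p M ((Subgroup.zpowers v).map (MulAut.conj g).toMonoidHom)
      (conjBlock (Subgroup.zpowers v) g (subF p M P e v)) P e := by
    apply subpairLE_of_eq hM hPe hv' _ hQ' _ hf'block
    refine ⟨irrPull (conjCent (Subgroup.zpowers v) g) ξ, ?_, ξ', hξ', ?_⟩
    · rw [conjBlock_eq_pullBlock]
      exact irrPull_mem_pullBlock _ hξ
    · intro c₁ c' hcc
      rw [irrPull_apply]
      apply hconj
      rw [conjCent_coe, ← hcc]
      group
  have hlex : SubpairLE p M ((Subgroup.zpowers v).map (MulAut.conj g).toMonoidHom)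
      (conjBlock (Subgroup.zpowers v) g (subF p M P e v))
      (P.map (MulAut.conj g).toMonoidHom) (conjBlock P g e) :=
    subpairLE_conjPair (M := M) hle g
  -- `P` and `P^g` centralize `⟨v'⟩`
  have hQP : (Subgroup.zpowers v).map (MulAut.conj g).toMonoidHom ≤ P := by
    rw [hQ']
    exact (Subgroup.zpowers_le).mpr hv'
  have hPC : P ≤ Subgroup.centralizer
      (((Subgroup.zpowers v).map (MulAut.conj g).toMonoidHom : Subgroup G) : Set G) := by
    intro x hx
    rw [Subgroup.mem_centralizer_iff]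
    intro y hy
    exact hPab y (hQP hy) x hx
  have hPxC : P.map (MulAut.conj g).toMonoidHom ≤ Subgroup.centralizer
      (((Subgroup.zpowers v).map (MulAut.conj g).toMonoidHom : Subgroup G) : Set G) := by
    rintro x ⟨x₀, hx₀, rfl⟩
    rw [Subgroup.mem_centralizer_iff]
    rintro y ⟨y₀, hy₀, rfl⟩
    have hy₀P : y₀ ∈ P := (Subgroup.zpowers_le).mpr hv hy₀
    have h1 := hPab y₀ hy₀P x₀ hx₀
    simp only [MulEquiv.coe_toMonoidHom, MulAut.conj_apply]
    calc g * y₀ * g⁻¹ * (g * x₀ * g⁻¹) = g * (y₀ * x₀) * g⁻¹ := by group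
      _ = g * (x₀ * y₀) * g⁻¹ := by rw [h1]
      _ = g * x₀ * g⁻¹ * (g * y₀ * g⁻¹) := by group
  obtain ⟨t, ht, hfix⟩ := exists_mul_conjPair_eq_self_of_le hM hmax hle' hPC hlex hPxC
  refine ⟨t * g, stabilizes_of_conjPair_eq_self hfix, ?_⟩
  -- `t` centralizes `v'`
  have htc : t ∈ Subgroup.centralizer
      (((Subgroup.zpowers v).map (MulAut.conj g).toMonoidHom : Subgroup G) : Set G) := by
    have hle2 : (Subgroup.zpowers v).map (MulAut.conj g).toMonoidHom ⊔ Subgroup.centralizer
        (((Subgroup.zpowers v).map (MulAut.conj g).toMonoidHom : Subgroup G) : Set G) ≤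
        Subgroup.centralizer
          (((Subgroup.zpowers v).map (MulAut.conj g).toMonoidHom : Subgroup G) : Set G) :=
      sup_le (hQP.trans hPC) le_rfl
    exact hle2 ht
  rw [Subgroup.mem_centralizer_iff] at htc
  have hv'Q : v' ∈ (Subgroup.zpowers v).map (MulAut.conj g).toMonoidHom := by
    rw [hQ']
    exact Subgroup.mem_zpowers v'
  have hcomm := htc v' hv'Q
  calc t * g * v * (t * g)⁻¹ = t * (g * v * g⁻¹) * t⁻¹ := by group
    _ = t * v' * t⁻¹ := by rw [hg]
    _ = v' * t * t⁻¹ := by rw [hcomm]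
    _ = v' := by group

/-- **WAT-[CTRL]** : control of fusion for an abelian defect group. -/
theorem fus_iff_exists_stab (hM : IsPModular p M) (hmax : IsMaximalBrauerPair p M B P e)
    (hPab : ∀ x ∈ P, ∀ y ∈ P, x * y = y * x) {v v' : G} (hv : v ∈ P) (hv' : v' ∈ P) :
    Fus p M P e v v' ↔ ∃ t : G, (t ∈ Subgroup.normalizer (P : Set G) ∧
      StabilizesBlock (Subgroup.centralizer (P : Set G)) e t) ∧ t * v * t⁻¹ = v' := by
  constructor
  · exact exists_stab_of_fus hM hmax hPab hv hv'
  · rintro ⟨t, ⟨ht, hst⟩, rfl⟩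
    exact fus_of_stab hM hmax.1.1 hv ht hst

/-- WAT-[CENTRAL] : for `v ∈ P` central in `G`, `f_v` is the pull-back of `B`. -/
theorem subF_eq_pullBlock_of_central (hM : IsPModular p M)
    (hmax : IsMaximalBrauerPair p M B P e) {v : G} (hv : v ∈ P) (htop : locC v = ⊤) :
    subF p M P e v = pullBlock (topEquivOf htop) B := by
  haveI hMp := isPModular_isPrime hM
  exact (isInducedBlock_iff_of_eq_top htop (subF_spec hM hmax.1.1 hv).1 hmax.1.2.1).mp
    (isInducedBlock_subF hM hmax hv)

theorem blockRank_subF_of_central (hM : IsPModular p M)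
    (hmax : IsMaximalBrauerPair p M B P e) {v : G} (hv : v ∈ P) (htop : locC v = ⊤) :
    blockRank p (subF p M P e v) = blockRank p B := by
  rw [subF_eq_pullBlock_of_central hM hmax hv htop, blockRank_pullBlock]

theorem card_subF_of_central (hM : IsPModular p M)
    (hmax : IsMaximalBrauerPair p M B P e) {v : G} (hv : v ∈ P) (htop : locC v = ⊤) :
    Nat.card (subF p M P e v) = Nat.card B := by
  rw [subF_eq_pullBlock_of_central hM hmax hv htop]
  unfold pullBlock
  exact Nat.card_image_of_injective (irrPull_injective _) B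

theorem locC_eq_top_iff (v : G) : locC v = ⊤ ↔ v ∈ Subgroup.center G := by
  rw [Subgroup.mem_center_iff, eq_top_iff]
  constructor
  · intro h g
    have := h (Subgroup.mem_top g)
    exact (((locC_mem_iff v g).mp this).eq).symm
  · intro h g _
    exact (locC_mem_iff v g).mpr (h g).symm

end Cfsg.Agent.Lib.Helper16.BP
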