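import Cfsg.Agent.Lib.Helper16.PairLocal

/-!
# Maximal Brauer pairs and defect groups (helper16)

* `exists_isNormalSubpair_card_defectGroup`: if `(P, e)` is a Brauer pair and `b` is the block of
  `N_G(P)` with `(P, e)` a `b`-pair, then there is a normal superpair `(R, g)` of `(P, e)` with
  `|R|` the order of the defect groups of `b`.
* `isDefectGroup_of_isMaximalBrauerPair`: the subgroup of a maximal `B`-pair is a defect group of
  `B`.
-/

set_option autoImplicit false

namespace Cfsg.Agent.Lib.Helper16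

open Cfsg MonoidAlgebra Cfsg.Agent.Lib.Helper77
open scoped ComplexConjugate

universe u

variable {G : Type u} [Group G] [Fintype G] {M : Ideal AlgInt}

theorem isPGroup_of_isDefectGroup {K : Type*} [Group K] {p : ℕ} [Fact p.Prime]
    {B : Set (IrrCharacter K)} {D : Subgroup K} (hD : IsDefectGroup p M B D) : IsPGroup p D := by
  obtain ⟨g, _, Q, rfl⟩ := hD
  exact Q.isPGroup'.map _

/-- A normal superpair of `(P, e)` whose subgroup has the order of a defect group of the block of
`N_G(P)` to which `(P, e)` belongs. -/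
theorem exists_isNormalSubpair_card_defectGroup {p : ℕ} [Fact p.Prime] (hM : IsPModular p M)
    (P : Subgroup G) (e : Set (IrrCharacter (Subgroup.centralizer (P : Set G))))
    (hPe : IsBrauerPair p M P e)
    (b : Set (IrrCharacter ↥(Subgroup.normalizer (P : Set G))))
    (hbe' : IsBrauerPairOf p M b (P.subgroupOf (Subgroup.normalizer (P : Set G)))
      (pullBlock (centEquiv P) e))
    (D : Subgroup ↥(Subgroup.normalizer (P : Set G))) (hD : IsDefectGroup p M b D) :
    ∃ (R : Subgroup G) (g : Set (IrrCharacter (Subgroup.centralizer (R : Set G)))),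
      IsNormalSubpair p M P e R g ∧ Nat.card R = Nat.card D := by
  classical
  have hMp := isPModular_isPrime hM
  have hP : IsPGroup p P := hPe.1
  have : Fintype ↥(Subgroup.normalizer (P : Set G)) := Fintype.ofFinite _
  have hP'n : (P.subgroupOf (Subgroup.normalizer (P : Set G))).Normal :=
    Subgroup.normal_subgroupOf_of_le_normalizer le_rfl
  have hP'p : IsPGroup p (P.subgroupOf (Subgroup.normalizer (P : Set G))) := hP.comap_subtype
  have hb : IsPBlock M b := hbe'.2.1
  have hP'D : P.subgroupOf (Subgroup.normalizer (P : Set G)) ≤ D :=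
    normal_pGroup_le_defectGroup hM _ hP'p hb hD
  have hDp : IsPGroup p D := isPGroup_of_isDefectGroup hD
  obtain ⟨x, n₀, hDc, hstab, hcoef⟩ :=
    exists_conj_defectGroup_stabilizing hM _ hP'p b _ hbe' D hD
  set R' : Subgroup ↥(Subgroup.normalizer (P : Set G)) :=
    D.map (MulAut.conj x⁻¹).toMonoidHom with hR'
  set R : Subgroup G := R'.map (Subgroup.normalizer (P : Set G)).subtype with hR
  have hmemR : ∀ r : G, r ∈ R ↔ ∃ d ∈ D, r = ((x⁻¹ * d * x : ↥(Subgroup.normalizer (P : Set G))) : G) := by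
    intro r
    constructor
    · rintro ⟨r', ⟨d, hd, rfl⟩, rfl⟩
      refine ⟨d, hd, ?_⟩
      show ((x⁻¹ * d * x⁻¹⁻¹ : ↥(Subgroup.normalizer (P : Set G))) : G) = _
      rw [inv_inv]
    · rintro ⟨d, hd, rfl⟩
      refine ⟨x⁻¹ * d * x, ⟨d, hd, ?_⟩, rfl⟩
      show x⁻¹ * d * x⁻¹⁻¹ = _
      rw [inv_inv]
  have hRp : IsPGroup p R := (hDp.map _).map _
  have hRN : R ≤ Subgroup.normalizer (P : Set G) := Subgroup.map_subtype_le _
  have hPR : P ≤ R := by
    intro g hg
    rw [hmemR]
    have hgN : g ∈ Subgroup.normalizer (P : Set G) := Subgroup.le_normalizer hg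
    have h1 : (⟨g, hgN⟩ : ↥(Subgroup.normalizer (P : Set G))) ∈
        P.subgroupOf (Subgroup.normalizer (P : Set G)) := by
      rw [Subgroup.mem_subgroupOf]
      exact hg
    have h2 := hP'n.conj_mem _ h1 x
    refine ⟨x * ⟨g, hgN⟩ * x⁻¹, hP'D h2, ?_⟩
    have : x⁻¹ * (x * ⟨g, hgN⟩ * x⁻¹) * x = (⟨g, hgN⟩ : ↥(Subgroup.normalizer (P : Set G))) := by
      group
    rw [this]
  have hstabR : ∀ r ∈ R, StabilizesBlock (Subgroup.centralizer (P : Set G)) e r := by
    intro r hr
    obtain ⟨d, hd, rfl⟩ := (hmemR r).mp hr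
    exact stabilizesBlock_of_pullBlock_centEquiv P e _ (hstab d hd)
  set y : G := ((x⁻¹ * n₀ * x : ↥(Subgroup.normalizer (P : Set G))) : G) with hy
  have hyR : y ∈ Subgroup.centralizer (R : Set G) := by
    rw [Subgroup.mem_centralizer_iff]
    intro r hr
    obtain ⟨d, hd, rfl⟩ := (hmemR r).mp hr
    rw [hy, ← Subgroup.coe_mul, ← Subgroup.coe_mul]
    congr 1
    have h1 := hDc d hd
    calc x⁻¹ * d * x * (x⁻¹ * n₀ * x) = x⁻¹ * (d * n₀) * x := by group
      _ = x⁻¹ * (n₀ * d) * x := by rw [h1]
      _ = x⁻¹ * n₀ * x * (x⁻¹ * d * x) := by group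
  have hycoef : ¬ MemLocalIdeal M
      (subgroupBlockCoeff (Subgroup.centralizer (P : Set G)) e y) := by
    rw [hy, ← subgroupBlockCoeff_pullBlock_centEquiv]
    exact hcoef
  obtain ⟨g, hg⟩ := exists_isNormalSubpair_above hM hPe hRp hPR hRN hstabR y hyR hycoef
  refine ⟨R, g, hg, ?_⟩
  rw [hR, Subgroup.card_map_of_injective (Subgroup.subtype_injective _), hR',
    Subgroup.card_map_of_injective (MulAut.conj x⁻¹).injective]

/-- **The subgroup of a maximal `B`-pair is a defect group of `B`.** -/
theorem isDefectGroup_of_isMaximalBrauerPair {p : ℕ} [Fact p.Prime] (hM : IsPModular p M)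
    (B : Set (IrrCharacter G)) (P : Subgroup G)
    (e : Set (IrrCharacter (Subgroup.centralizer (P : Set G))))
    (hmax : IsMaximalBrauerPair p M B P e) : IsDefectGroup p M B P := by
  classical
  have hMp := isPModular_isPrime hM
  obtain ⟨hBe, hmaxim⟩ := hmax
  have hP : IsPGroup p P := hBe.1.1
  have : Fintype ↥(Subgroup.normalizer (P : Set G)) := Fintype.ofFinite _
  obtain ⟨b, hbe', hind⟩ := exists_local_block_of_isBrauerPairOf hM B P e hBe
  have hb : IsPBlock M b := hbe'.2.1
  obtain ⟨D, hD⟩ := exists_isDefectGroup p hb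
  have hP'n : (P.subgroupOf (Subgroup.normalizer (P : Set G))).Normal :=
    Subgroup.normal_subgroupOf_of_le_normalizer le_rfl
  have hP'p : IsPGroup p (P.subgroupOf (Subgroup.normalizer (P : Set G))) := hP.comap_subtype
  have hP'D : P.subgroupOf (Subgroup.normalizer (P : Set G)) ≤ D :=
    normal_pGroup_le_defectGroup hM _ hP'p hb hD
  obtain ⟨R, g, hg, hcard⟩ := exists_isNormalSubpair_card_defectGroup hM P e hBe.1 b hbe' D hD
  have : Fintype (Subgroup.centralizer (P : Set G)) := Fintype.ofFinite _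
  have : Fintype (Subgroup.centralizer (R : Set G)) := Fintype.ofFinite _
  have hBg : IsBrauerPairOf p M B R g := isBrauerPairOf_of_isNormalSubpair hM hg hBe
  have hRP : R = P := hmaxim R g hBg (Relation.ReflTransGen.single hg)
  have hcardP : Nat.card (P.subgroupOf (Subgroup.normalizer (P : Set G))) = Nat.card P :=
    Nat.card_congr (Subgroup.subgroupOfEquivOfLe Subgroup.le_normalizer).toEquiv
  have hDeq : P.subgroupOf (Subgroup.normalizer (P : Set G)) = D := by
    apply Subgroup.eq_of_le_of_card_ge hP'D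
    rw [hcardP, ← hcard, hRP]
  rw [← hDeq] at hD
  obtain ⟨B', hB', hDB', hind'⟩ := firstMain_exists_induced hM P hP b hb hD
  have := isInducedBlock_unique _ hind' hind
  rw [← this]
  exact hDB'

end Cfsg.Agent.Lib.Helper16
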