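import Cfsg.Agent.Lib.Helper16.MinMax
import Cfsg.Agent.Lib.Helper16.SylowAux
import Cfsg.Agent.Lib.Helper15.NilpotentKer

/-!
# Class sums outside the centralizer of a normal `p`-subgroup (helper16)

If `Q` is a normal `p`-subgroup of `G` and no conjugate of `g` centralizes `Q`, then the central
character of every irreducible character at `g` lies in the local ideal (the class sum of `g` is
nilpotent modulo `p`, by helper15's `NilpotentKer`).  Consequently every defect group contains
`O_p(G)`.
-/

set_option autoImplicit false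

namespace Cfsg.Agent.Lib.Helper16

open Cfsg MonoidAlgebra
open scoped ComplexConjugate

universe u

variable {G : Type u} [Group G] [Fintype G]

section

variable {M : Ideal AlgInt} [hMp : M.IsPrime]

open scoped Classical in
/-- The central character of a central element with coefficients in the local ideal lies in the
local ideal. -/
theorem omega_memLocalIdeal_of_coeffsInIdeal (χ : IrrCharacter G) {z : MonoidAlgebra ℂ G}
    (hz : z ∈ Subalgebra.center ℂ (MonoidAlgebra ℂ G)) (hzI : CoeffsInIdeal M z) :
    MemLocalIdeal M (omega (χ : G → ℂ) z) := by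
  rw [omega_eq_sum_classes _ (irr_conj χ) hz]
  apply memLocalIdeal_sum
  intro c _
  exact memLocalIdeal_mul_right (hzI _)
    (memLocalRing_of_isIntegral hMp.ne_top (Cfsg.Agent.Lib.Helper79.isIntegral_centralChar χ _))

end

/-- The class sum with integer coefficients. -/
noncomputable def classSumZ (g : G) : MonoidAlgebra ℤ G :=
  ∑ y ∈ Cfsg.Agent.Lib.Helper79.conjFinset g, single y 1

theorem mapRingHom_classSumZ (g : G) :
    mapRingHom G (Int.castRingHom ℂ) (classSumZ g) = classSum g := by
  unfold classSumZ classSum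
  rw [map_sum]
  refine Finset.sum_congr rfl fun y _ => ?_
  rw [mapRingHom_single]
  simp

theorem mapRingHom_classSumZ_zmod (p : ℕ) (g : G) :
    mapRingHom G (Int.castRingHom (ZMod p)) (classSumZ g) =
      ∑ᶠ x ∈ ConjClasses.carrier (ConjClasses.mk g), single x (1 : ZMod p) := by
  have hset : ConjClasses.carrier (ConjClasses.mk g) =
      ((Cfsg.Agent.Lib.Helper79.conjFinset g : Finset G) : Set G) := by
    ext x
    rw [ConjClasses.mem_carrier_iff_mk_eq, Finset.mem_coe, Cfsg.Agent.Lib.Helper79.mem_conjFinset,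
      ConjClasses.mk_eq_mk_iff_isConj, isConj_comm]
  rw [hset, finsum_mem_coe_finset]
  unfold classSumZ
  rw [map_sum]
  refine Finset.sum_congr rfl fun y _ => ?_
  rw [mapRingHom_single]
  simp

/-- If the class sum of `g` is nilpotent modulo `p`, all central characters at `g` lie in the
local ideal. -/
theorem centralChar_memLocalIdeal_of_isNilpotent {p : ℕ} {M : Ideal AlgInt}
    (hM : IsPModular p M) (g : G) (χ : IrrCharacter G)
    (h : IsNilpotent (mapRingHom G (Int.castRingHom (ZMod p)) (classSumZ g))) :
    MemLocalIdeal M (centralChar (χ : G → ℂ) g) := by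
  have hMp := isPModular_isPrime hM
  obtain ⟨n, hn⟩ := h
  have hn0 : n ≠ 0 := by
    rintro rfl
    rw [pow_zero] at hn
    have hp : p.Prime := hM.1
    have : Fact p.Prime := ⟨hp⟩
    have h1 := congrArg (fun z : MonoidAlgebra (ZMod p) G => z.coeff 1) hn
    simp [MonoidAlgebra.one_def] at h1
  have h1 : mapRingHom G (Int.castRingHom (ZMod p)) (classSumZ g ^ n) = 0 := by
    rw [map_pow, hn]
  have hdvd : ∀ x : G, (p : ℤ) ∣ (classSumZ g ^ n).coeff x := by
    intro x
    have h2 := congrArg (fun z : MonoidAlgebra (ZMod p) G => z.coeff x) h1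
    simp only [coeff_mapRingHom, coeff_zero, Finsupp.zero_apply, eq_intCast] at h2
    exact (ZMod.intCast_zmod_eq_zero_iff_dvd _ p).mp h2
  have h2 : classSum g ^ n = mapRingHom G (Int.castRingHom ℂ) (classSumZ g ^ n) := by
    rw [map_pow, mapRingHom_classSumZ]
  have hI : CoeffsInIdeal M (classSum g ^ n) := by
    intro x
    rw [h2, coeff_mapRingHom]
    obtain ⟨m, hm⟩ := hdvd x
    rw [hm]
    simp only [eq_intCast, Int.cast_mul, Int.cast_natCast]
    exact memLocalIdeal_mul_right (memLocalIdeal_p hM) (memLocalRing_intCast hMp.ne_top m)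
  have h3 : (centralChar (χ : G → ℂ) g) ^ n = omega (χ : G → ℂ) (classSum g ^ n) := by
    rw [← omegaHom_classSumC χ g, ← map_pow, omegaHom_apply]
    rfl
  have hc : classSum g ^ n ∈ Subalgebra.center ℂ (MonoidAlgebra ℂ G) :=
    Subalgebra.pow_mem _ (classSum_mem_center g) n
  have h4 : MemLocalIdeal M ((centralChar (χ : G → ℂ) g) ^ n) := by
    rw [h3]
    exact omega_memLocalIdeal_of_coeffsInIdeal χ hc hI
  exact (memLocalIdeal_pow_iff
    (memLocalRing_of_isIntegral hMp.ne_top (Cfsg.Agent.Lib.Helper79.isIntegral_centralChar χ g))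
    hn0).mp h4

/-- If `Q` is a normal `p`-subgroup and no conjugate of `g` centralizes `Q`, then every central
character at `g` lies in the local ideal. -/
theorem centralChar_memLocalIdeal_of_normal_pGroup {p : ℕ} [Fact p.Prime] {M : Ideal AlgInt}
    (hM : IsPModular p M) (Q : Subgroup G) [Q.Normal] (hQ : IsPGroup p Q) (g : G)
    (hg : ∀ x : G, IsConj g x → x ∉ Subgroup.centralizer (Q : Set G)) (χ : IrrCharacter G) :
    MemLocalIdeal M (centralChar (χ : G → ℂ) g) := by
  apply centralChar_memLocalIdeal_of_isNilpotent hM g χ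
  rw [mapRingHom_classSumZ_zmod]
  exact Cfsg.Agent.Lib.Helper15.isNilpotent_classSum_of_normal_pGroup (ZMod p) p Q hQ g hg

/-- An element at which some central character is not in the local ideal centralizes every
normal `p`-subgroup. -/
theorem mem_centralizer_of_centralChar_not_memLocalIdeal {p : ℕ} [Fact p.Prime]
    {M : Ideal AlgInt} (hM : IsPModular p M) (Q : Subgroup G) [hQn : Q.Normal]
    (hQ : IsPGroup p Q) (g : G) (χ : IrrCharacter G)
    (h : ¬ MemLocalIdeal M (centralChar (χ : G → ℂ) g)) :
    g ∈ Subgroup.centralizer (Q : Set G) := by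
  by_contra hg
  apply h
  apply centralChar_memLocalIdeal_of_normal_pGroup hM Q hQ g _ χ
  intro x hx hxc
  apply hg
  obtain ⟨c, rfl⟩ := isConj_iff.mp hx
  have hCn : (Subgroup.centralizer (Q : Set G)).Normal := inferInstance
  have := hCn.conj_mem _ hxc c⁻¹
  simpa [mul_assoc] using this

/-- Every defect group of a block contains every normal `p`-subgroup. -/
theorem normal_pGroup_le_defectGroup {p : ℕ} [Fact p.Prime] {M : Ideal AlgInt}
    (hM : IsPModular p M) (Q : Subgroup G) [hQn : Q.Normal] (hQ : IsPGroup p Q)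
    {B : Set (IrrCharacter G)} (hB : IsPBlock M B) {D : Subgroup G}
    (hD : IsDefectGroup p M B D) : Q ≤ D := by
  have hMp := isPModular_isPrime hM
  obtain ⟨g, hg, P, rfl⟩ := hD
  obtain ⟨χ, hχ⟩ := IsPBlock_nonempty hMp.ne_top hB
  have hgc := mem_centralizer_of_centralChar_not_memLocalIdeal hM Q hQ g χ (hg.2.2 χ hχ)
  have hQC : Q ≤ Subgroup.centralizer ({g} : Set G) := by
    intro q hq
    rw [Subgroup.mem_centralizer_singleton_iff]
    exact (Subgroup.mem_centralizer_iff.mp hgc) q hq
  obtain ⟨z, _, hz⟩ := exists_conj_sylow_map_ge (Subgroup.centralizer ({g} : Set G)) P Q hQ hQC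
  intro q hq
  have h1 : z * q * z⁻¹ ∈ Q := hQn.conj_mem q hq z
  have h2 := hz h1
  rw [mem_map_conj_iff] at h2
  have : z⁻¹ * (z * q * z⁻¹) * z = q := by group
  rwa [this] at h2

end Cfsg.Agent.Lib.Helper16
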