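import Cfsg.Agent.Lib.Helper16.Nilpotent
import Cfsg.Agent.Lib.Helper16.Induced

/-!
# The Brauer central character (helper16)

For a `p`-subgroup `P` and `P ≤ H ≤ N_G(P)`, the induced central character of `ξ ∈ Irr(H)` and the
Brauer central character `Cfsg.brauerCentralChar P H ξ` (which only keeps the summands centralizing
`P`) agree modulo the local ideal.
-/

set_option autoImplicit false

namespace Cfsg.Agent.Lib.Helper16

open Cfsg MonoidAlgebra
open scoped ComplexConjugate

universe u

variable {G : Type u} [Group G] [Fintype G]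

/-- The element of the group algebra with prescribed coefficients. -/
noncomputable def ofFun (f : G → ℂ) : MonoidAlgebra ℂ G :=
  ∑ g : G, single g (f g)

omit [Group G] in
theorem coeff_ofFun (f : G → ℂ) (g : G) : (ofFun f).coeff g = f g := by
  classical
  unfold ofFun
  rw [coeff_sum, Finsupp.finsetSum_apply]
  simp only [coeff_single, Finsupp.single_apply]
  rw [Finset.sum_ite_eq' Finset.univ g]
  simp

theorem omega_ofFun (χ : G → ℂ) (f : G → ℂ) :
    omega χ (ofFun f) = (∑ g : G, f g * χ g) / χ 1 := by
  unfold omega
  simp only [coeff_ofFun]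

omit [Fintype G] in
/-- For `P ≤ H ≤ N_G(P)`, centralizing `P` is invariant under conjugation by `H`. -/
theorem conj_mem_centralizer_iff (P H : Subgroup G) (hHN : H ≤ Subgroup.normalizer (P : Set G))
    (h k : H) :
    ((k * h * k⁻¹ : H) : G) ∈ Subgroup.centralizer (P : Set G) ↔
      (h : G) ∈ Subgroup.centralizer (P : Set G) := by
  have key : ∀ (a : G) (x : G), x ∈ Subgroup.normalizer (P : Set G) →
      a ∈ Subgroup.centralizer (P : Set G) → x * a * x⁻¹ ∈ Subgroup.centralizer (P : Set G) := by
    intro a x hx ha
    rw [Subgroup.mem_centralizer_iff] at ha ⊢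
    intro q hq
    have hq' : x⁻¹ * q * x ∈ P := by
      have := (Subgroup.mem_normalizer_iff''.mp hx q).mp hq
      exact this
    have := ha _ hq'
    calc q * (x * a * x⁻¹) = x * ((x⁻¹ * q * x) * a) * x⁻¹ := by group
      _ = x * (a * (x⁻¹ * q * x)) * x⁻¹ := by rw [this]
      _ = x * a * x⁻¹ * q := by group
  constructor
  · intro h1
    have := key _ ((k⁻¹ : H) : G) (hHN (k⁻¹).2) h1
    have e : ((k⁻¹ : H) : G) * ((k * h * k⁻¹ : H) : G) * ((k⁻¹ : H) : G)⁻¹ = (h : G) := by
      push_cast
      group
    rwa [e] at this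
  · intro h1
    have := key _ (k : G) (hHN k.2) h1
    push_cast
    exact this

section

variable {M : Ideal AlgInt}

open scoped Classical in
/-- For `P ≤ H ≤ N_G(P)` with `P` a `p`-group, the induced central character and the Brauer
central character of `ξ ∈ Irr(H)` agree modulo the local ideal. -/
theorem inducedCentralChar_sub_brauerCentralChar_memLocalIdeal {p : ℕ} [Fact p.Prime]
    (hM : IsPModular p M) (P H : Subgroup G) [Fintype H] (hP : IsPGroup p P) (hPH : P ≤ H)
    (hHN : H ≤ Subgroup.normalizer (P : Set G)) (ξ : IrrCharacter H) (g : G) :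
    MemLocalIdeal M (inducedCentralChar H (ξ : H → ℂ) g - brauerCentralChar P H (ξ : H → ℂ) g) := by
  have hMp := isPModular_isPrime hM
  -- the indicator of the elements of `H` conjugate to `g` and not centralizing `P`
  set f : H → ℂ := fun h =>
    if IsConj g (h : G) ∧ (h : G) ∉ Subgroup.centralizer (P : Set G) then 1 else 0 with hf
  have hdiff : inducedCentralChar H (ξ : H → ℂ) g - brauerCentralChar P H (ξ : H → ℂ) g =
      omega (ξ : H → ℂ) (ofFun f) := by
    unfold inducedCentralChar brauerCentralChar
    rw [finsum_mem_eq_sum_of_subset (t := Finset.univ.filter (fun h : H => IsConj g (h : G)))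
        _ (by intro x hx; simpa using hx.1) (by intro x hx; simpa using hx),
      finsum_mem_eq_sum_of_subset (t := Finset.univ.filter (fun h : H => IsConj g (h : G) ∧
        (h : G) ∈ Subgroup.centralizer (P : Set G)))
        _ (by intro x hx; simpa using hx.1) (by intro x hx; simpa using hx),
      omega_ofFun, Finset.sum_div]
    rw [← Finset.sum_filter_add_sum_filter_not (Finset.univ.filter (fun h : H => IsConj g (h : G)))
      (fun h : H => (h : G) ∈ Subgroup.centralizer (P : Set G)), Finset.filter_filter,
      Finset.filter_filter, add_sub_cancel_left, Finset.sum_filter]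
    refine Finset.sum_congr rfl fun h _ => ?_
    simp only [hf]
    split_ifs <;> simp
  rw [hdiff]
  -- `P` as a normal `p`-subgroup of `H`
  have hPn : (P.subgroupOf H).Normal := by
    constructor
    intro n hn k
    rw [Subgroup.mem_subgroupOf] at hn ⊢
    have := (Subgroup.mem_normalizer_iff.mp (hHN k.2) (n : G)).mp hn
    push_cast
    exact this
  have hPp : IsPGroup p (P.subgroupOf H) := hP.comap_subtype
  have hcent : ∀ h : H, h ∈ Subgroup.centralizer ((P.subgroupOf H : Subgroup H) : Set H) ↔
      (h : G) ∈ Subgroup.centralizer (P : Set G) := by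
    intro h
    rw [Subgroup.mem_centralizer_iff, Subgroup.mem_centralizer_iff]
    constructor
    · intro h1 q hq
      have := h1 ⟨q, hPH hq⟩ (by rw [SetLike.mem_coe, Subgroup.mem_subgroupOf]; exact hq)
      exact congrArg Subtype.val this
    · intro h1 q hq
      rw [SetLike.mem_coe, Subgroup.mem_subgroupOf] at hq
      exact Subtype.ext (h1 _ hq)
  have hcen : ofFun f ∈ Subalgebra.center ℂ (MonoidAlgebra ℂ H) := by
    apply mem_center_of_coeff_conj
    intro h k
    rw [coeff_ofFun, coeff_ofFun]
    simp only [hf]
    have h1 : IsConj g ((k * h * k⁻¹ : H) : G) ↔ IsConj g (h : G) := by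
      have hc : IsConj (h : G) ((k * h * k⁻¹ : H) : G) := isConj_iff.mpr ⟨(k : G), by simp⟩
      exact ⟨fun h1 => h1.trans hc.symm, fun h1 => h1.trans hc⟩
    have h2 := conj_mem_centralizer_iff P H hHN h k
    simp only [h1, h2]
  rw [omega_eq_sum_classes _ (irr_conj ξ) hcen]
  apply memLocalIdeal_sum
  intro c _
  rw [coeff_ofFun]
  simp only [hf]
  split_ifs with hc
  · rw [one_mul]
    apply centralChar_memLocalIdeal_of_normal_pGroup hM (P.subgroupOf H) hPp (classRep c) _ ξ
    intro x hx hxc
    apply hc.2
    obtain ⟨k, rfl⟩ := isConj_iff.mp hx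
    rw [hcent] at hxc
    exact (conj_mem_centralizer_iff P H hHN (classRep c) k).mp hxc
  · rw [zero_mul]
    exact memLocalIdeal_zero hMp.ne_top

end

end Cfsg.Agent.Lib.Helper16
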