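import Cfsg.Agent.Lib.Helper16.BrauerHom

/-!
# Blocks induced from local subgroups (helper16)

For a `p`-subgroup `P` and `P C_G(P) ≤ H ≤ N_G(P)`: a block `B` of `G` whose block idempotent has
a coefficient outside the local ideal at an element centralizing `P` is induced from a block of
`H`.
-/

set_option autoImplicit false

namespace Cfsg.Agent.Lib.Helper16

open Cfsg MonoidAlgebra
open scoped ComplexConjugate

universe u

variable {G : Type u} [Group G] [Fintype G]

section

variable {M : Ideal AlgInt}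

/-- If the block idempotent of the block of `χB` has a coefficient outside the ideal at an element
centralizing `P`, then its Brauer image is not annihilated (modulo the ideal) by every central
character of `H`. -/
theorem exists_irr_brauerLam_blockIdem {p : ℕ} [Fact p.Prime] [hMp : M.IsPrime]
    (hM : IsPModular p M) (P H : Subgroup G) [Fintype H] (hP : IsPGroup p P)
    (hCH : Subgroup.centralizer (P : Set G) ≤ H) (hHN : H ≤ Subgroup.normalizer (P : Set G))
    (χB : IrrCharacter G) (g : G) (hg : g ∈ Subgroup.centralizer (P : Set G))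
    (hcoef : ¬ MemLocalIdeal M (blockCoeff (blockOf M (χB : G → ℂ)) g)) :
    ∃ ξ : IrrCharacter H, ¬ MemLocalIdeal M
      (brauerLam P H (ξ : H → ℂ) ((blockIdem M χB : Subalgebra.center ℂ (MonoidAlgebra ℂ G)) :
        MonoidAlgebra ℂ G)) := by
  classical
  set e := blockIdem M χB with he
  have heR : CoeffsInRing M (e : MonoidAlgebra ℂ G) := fun x => blockIdem_mem χB x
  set w := brP P H (e : MonoidAlgebra ℂ G) with hw
  have hwc : w ∈ Subalgebra.center ℂ (MonoidAlgebra ℂ H) := brP_mem_center P H hHN e.2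
  have hwR : CoeffsInRing M w := brP_coeffsInRing P H heR
  by_contra hall
  push Not at hall
  have hWO : (⟨w, hwc⟩ : Subalgebra.center ℂ (MonoidAlgebra ℂ H)) ∈ centerOrder H M :=
    fun x => hwR x
  have hpow := exists_pow_coeffsInIdeal hWO (fun ψ => hall ψ)
  have hee : (e : MonoidAlgebra ℂ G) * (e : MonoidAlgebra ℂ G) = (e : MonoidAlgebra ℂ G) :=
    congrArg Subtype.val (blockIdem_mul_self (M := M) χB)
  have hidem : CoeffsInIdeal M (w * w - w) := by
    have h1 := brP_mul_coeffsInIdeal hM P H hP hCH e.2 e.2 heR heR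
    rw [hee] at h1
    have h2 := h1.neg
    rwa [neg_sub] at h2
  have hind : ∀ n : ℕ, CoeffsInIdeal M (w ^ (n + 1) - w) := by
    intro n
    induction n with
    | zero =>
      rw [zero_add, pow_one, sub_self]
      exact CoeffsInIdeal.zero
    | succ n ih =>
      have e1 : w ^ (n + 1 + 1) - w = (w ^ (n + 1) - w) * w + (w * w - w) := by
        rw [pow_succ w (n + 1), sub_mul]
        abel
      rw [e1]
      exact (CoeffsInIdeal.mul_right ih hwR).add hidem
  have hN : Nat.card (IrrCharacter H) ≠ 0 := by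
    have : Nonempty (IrrCharacter H) := ⟨oneIrr H⟩
    have := finite_irrCharacter (G := H)
    exact Nat.card_pos.ne'
  obtain ⟨n, hn⟩ := Nat.exists_eq_succ_of_ne_zero hN
  rw [hn] at hpow
  have hpow' : CoeffsInIdeal M (w ^ (n + 1)) := by
    have : ((⟨w, hwc⟩ ^ (n + 1) : Subalgebra.center ℂ (MonoidAlgebra ℂ H)) : MonoidAlgebra ℂ H) =
        w ^ (n + 1) := by
      push_cast
      rfl
    rwa [this] at hpow
  have hwI : CoeffsInIdeal M w := by
    have := hpow'.sub (hind n)
    rwa [sub_sub_cancel] at this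
  apply hcoef
  have h3 := hwI ⟨g, hCH hg⟩
  rw [hw, coeff_brP, if_pos hg, coeff_blockIdem] at h3
  exact h3

/-- A block of `G` whose idempotent has a coefficient outside the ideal at an element
centralizing `P` is induced from a block of `H`, for `P C_G(P) ≤ H ≤ N_G(P)`.  The block of `H`
can be taken as the block of any `ξ` with `ω_ξ(Br_P(e_B))` outside the ideal. -/
theorem isInducedBlock_of_brauerLam_blockIdem {p : ℕ} [Fact p.Prime] [hMp : M.IsPrime]
    (hM : IsPModular p M) (P H : Subgroup G) [Fintype H] (hP : IsPGroup p P) (hPH : P ≤ H)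
    (hCH : Subgroup.centralizer (P : Set G) ≤ H) (hHN : H ≤ Subgroup.normalizer (P : Set G))
    (χB : IrrCharacter G) (ξ : IrrCharacter H)
    (hξ : ¬ MemLocalIdeal M
      (brauerLam P H (ξ : H → ℂ) ((blockIdem M χB : Subalgebra.center ℂ (MonoidAlgebra ℂ G)) :
        MonoidAlgebra ℂ G))) :
    IsInducedBlock M H (blockOf M (ξ : H → ℂ)) (blockOf M (χB : G → ℂ)) := by
  classical
  obtain ⟨χ₀, hχ₀⟩ := exists_irr_brauerLam hM P H hP hCH hHN ξ
  have h1 := hχ₀ (blockIdem M χB) (blockIdem_mem χB)
  have h2 : χ₀ ∈ blockOf M (χB : G → ℂ) := by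
    by_contra hcon
    rw [omegaHom_blockIdem_of_not_mem χB hcon, sub_zero] at h1
    exact hξ h1
  rw [← blockOf_eq_of_mem h2]
  apply isInducedBlock_of_brauerCentralChar hM P H hP hPH hHN ξ χ₀
  intro x
  have := hχ₀ (classSumC x) (classSumC_mem_centerOrder x)
  rw [omegaHom_classSumC] at this
  change MemLocalIdeal M (brauerLam P H (ξ : H → ℂ) (classSum x) - _) at this
  rwa [brauerLam_classSum] at this

theorem exists_isInducedBlock_of_coeff {p : ℕ} [Fact p.Prime]
    (hM : IsPModular p M) (P H : Subgroup G) [Fintype H] (hP : IsPGroup p P) (hPH : P ≤ H)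
    (hCH : Subgroup.centralizer (P : Set G) ≤ H) (hHN : H ≤ Subgroup.normalizer (P : Set G))
    {B : Set (IrrCharacter G)} (hB : IsPBlock M B) (g : G)
    (hg : g ∈ Subgroup.centralizer (P : Set G)) (hcoef : ¬ MemLocalIdeal M (blockCoeff B g)) :
    ∃ b : Set (IrrCharacter H), IsInducedBlock M H b B := by
  have hMp := isPModular_isPrime hM
  obtain ⟨χB, rfl⟩ := hB
  obtain ⟨ξ, hξ⟩ := exists_irr_brauerLam_blockIdem hM P H hP hCH hHN χB g hg hcoef
  exact ⟨_, isInducedBlock_of_brauerLam_blockIdem hM P H hP hPH hCH hHN χB ξ hξ⟩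

end

end Cfsg.Agent.Lib.Helper16
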