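import Cfsg.Agent.Lib.Helper16.BrauerFirst
import Cfsg.Agent.Lib.Helper78.DefectOrder
import Cfsg.Agent.S0911
import Cfsg.Agent.S0916
import Cfsg.Agent.S0917

/-!
# Brauer's First Main Theorem (helper16)
-/

set_option autoImplicit false

namespace Cfsg.Agent.Lib.Helper16

open Cfsg MonoidAlgebra
open scoped ComplexConjugate

universe u

variable {G : Type u} [Group G]

/-! ### Sylow subgroups and cardinalities -/

theorem card_sylow_map [Finite G] {p : ℕ} [Fact p.Prime] {K : Subgroup G} (S : Sylow p K) :
    Nat.card ((S : Subgroup K).map K.subtype) = p ^ (Nat.card K).factorization p := by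
  rw [Subgroup.card_map_of_injective (Subgroup.subtype_injective _), Sylow.card_eq_multiplicity]

theorem exists_sylow_map_eq_of_card [Finite G] {p : ℕ} [Fact p.Prime] {K D : Subgroup G}
    (hDK : D ≤ K) (hcard : Nat.card D = p ^ (Nat.card K).factorization p) :
    ∃ S : Sylow p K, (S : Subgroup K).map K.subtype = D := by
  have h1 : Nat.card (D.subgroupOf K) = p ^ (Nat.card K).factorization p := by
    rw [← hcard]
    exact Nat.card_congr (Subgroup.subgroupOfEquivOfLe hDK).toEquiv
  refine ⟨Sylow.ofCard (D.subgroupOf K) h1, ?_⟩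
  rw [Sylow.coe_ofCard, Subgroup.map_subgroupOf_eq_of_le hDK]

theorem card_map_conj (E : Subgroup G) (x : G) :
    Nat.card (E.map (MulAut.conj x).toMonoidHom) = Nat.card E :=
  Subgroup.card_map_of_injective (MulAut.conj x).injective

theorem map_subtype_centralizer_singleton (N : Subgroup G) (n : N) :
    (Subgroup.centralizer ({n} : Set N)).map N.subtype =
      Subgroup.centralizer ({(n : G)} : Set G) ⊓ N := by
  ext y
  constructor
  · rintro ⟨k, hk, rfl⟩
    rw [Subgroup.mem_inf]
    refine ⟨?_, k.2⟩
    rw [SetLike.mem_coe, Subgroup.mem_centralizer_singleton_iff] at hk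
    rw [Subgroup.mem_centralizer_singleton_iff]
    exact congrArg Subtype.val hk
  · intro hy
    rw [Subgroup.mem_inf] at hy
    obtain ⟨h1, h2⟩ := hy
    refine ⟨⟨y, h2⟩, ?_, rfl⟩
    rw [Subgroup.mem_centralizer_singleton_iff] at h1
    rw [SetLike.mem_coe, Subgroup.mem_centralizer_singleton_iff]
    exact Subtype.ext h1

/-- If `D` is (the image of) a Sylow subgroup of `C_N(n)` for `N = N_G(D)`, then `n` centralizes
`D` and `D` is a Sylow subgroup of `C_G(n)`. -/
theorem exists_sylow_centralizer_of_normalizer [Finite G] {p : ℕ} [Fact p.Prime] (D : Subgroup G)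
    (hD : IsPGroup p D) (n : Subgroup.normalizer (D : Set G))
    (Q : Sylow p (Subgroup.centralizer ({n} : Set (Subgroup.normalizer (D : Set G)))))
    (hQ : (Q : Subgroup (Subgroup.centralizer ({n} : Set (Subgroup.normalizer (D : Set G))))).map
      (Subgroup.centralizer ({n} : Set (Subgroup.normalizer (D : Set G)))).subtype =
      D.subgroupOf (Subgroup.normalizer (D : Set G))) :
    (n : G) ∈ Subgroup.centralizer (D : Set G) ∧
      ∃ S : Sylow p (Subgroup.centralizer ({(n : G)} : Set G)),
        (S : Subgroup (Subgroup.centralizer ({(n : G)} : Set G))).map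
          (Subgroup.centralizer ({(n : G)} : Set G)).subtype = D := by
  have hDN : D ≤ Subgroup.normalizer (D : Set G) := Subgroup.le_normalizer
  have hcomm : ∀ d ∈ D, d * (n : G) = (n : G) * d := by
    intro d hd
    have h1 : (⟨d, hDN hd⟩ : Subgroup.normalizer (D : Set G)) ∈
        D.subgroupOf (Subgroup.normalizer (D : Set G)) := by
      rw [Subgroup.mem_subgroupOf]
      exact hd
    rw [← hQ] at h1
    obtain ⟨q, _, hq⟩ := h1
    have h2 : (⟨d, hDN hd⟩ : Subgroup.normalizer (D : Set G)) ∈
        Subgroup.centralizer ({n} : Set (Subgroup.normalizer (D : Set G))) := by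
      rw [← hq]
      exact q.2
    rw [Subgroup.mem_centralizer_singleton_iff] at h2
    exact congrArg Subtype.val h2
  have hn : (n : G) ∈ Subgroup.centralizer (D : Set G) := by
    rw [Subgroup.mem_centralizer_iff]
    intro d hd
    exact hcomm d hd
  refine ⟨hn, ?_⟩
  have hDK : D ≤ Subgroup.centralizer ({(n : G)} : Set G) ⊓ Subgroup.normalizer (D : Set G) := by
    intro d hd
    rw [Subgroup.mem_inf]
    refine ⟨?_, hDN hd⟩
    rw [Subgroup.mem_centralizer_singleton_iff]
    exact hcomm d hd
  have hcard : Nat.card D = p ^ (Nat.card (Subgroup.centralizer ({(n : G)} : Set G) ⊓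
      Subgroup.normalizer (D : Set G) : Subgroup G)).factorization p := by
    have h1 := card_sylow_map Q
    rw [hQ] at h1
    have h2 : Nat.card (D.subgroupOf (Subgroup.normalizer (D : Set G))) = Nat.card D :=
      Nat.card_congr (Subgroup.subgroupOfEquivOfLe hDN).toEquiv
    have h3 : Nat.card (Subgroup.centralizer ({n} : Set (Subgroup.normalizer (D : Set G)))) =
        Nat.card (Subgroup.centralizer ({(n : G)} : Set G) ⊓
          Subgroup.normalizer (D : Set G) : Subgroup G) := by
      rw [← map_subtype_centralizer_singleton,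
        Subgroup.card_map_of_injective (Subgroup.subtype_injective _)]
    rw [← h2, h1, h3]
  obtain ⟨S₀, hS₀⟩ := exists_sylow_map_eq_of_card hDK hcard
  exact (Cfsg.Agent.S0916.result p D hD).2 (n : G) hn ⟨S₀, hS₀⟩

/-! ### The class correspondence and the Brauer map -/

open scoped Classical in
/-- If `D` is a Sylow subgroup of `C_G(n)` for `n ∈ N_G(D)` centralizing `D`, then the Brauer image
of the class sum of `n` in `G` is the class sum of `n` in `N_G(D)`. -/
theorem brP_classSum_of_sylow [Fintype G] {p : ℕ} [Fact p.Prime] (D : Subgroup G)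
    (hD : IsPGroup p D) [Fintype (Subgroup.normalizer (D : Set G))]
    (n : Subgroup.normalizer (D : Set G)) (hn : (n : G) ∈ Subgroup.centralizer (D : Set G))
    (S : Sylow p (Subgroup.centralizer ({(n : G)} : Set G)))
    (hS : (S : Subgroup (Subgroup.centralizer ({(n : G)} : Set G))).map
      (Subgroup.centralizer ({(n : G)} : Set G)).subtype = D) :
    brP D (Subgroup.normalizer (D : Set G)) (classSum (n : G)) = classSum n := by
  ext h
  rw [coeff_brP, coeff_classSum, coeff_classSum]
  have key : ((h : G) ∈ Subgroup.centralizer (D : Set G) ∧ IsConj (n : G) (h : G)) ↔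
      IsConj n h := by
    constructor
    · rintro ⟨h1, h2⟩
      obtain ⟨m, hm, hmn⟩ := ((Cfsg.Agent.S0916.result p D hD).1 (n : G) ⟨S, hS⟩).2 (n : G) (h : G)
        (IsConj.refl _) h2 hn h1
      exact isConj_iff.mpr ⟨⟨m, hm⟩, Subtype.ext hmn⟩
    · intro h1
      obtain ⟨k, rfl⟩ := isConj_iff.mp h1
      refine ⟨(conj_mem_centralizer_iff D _ le_rfl n k).mpr hn, ?_⟩
      exact isConj_iff.mpr ⟨(k : G), by push_cast; rfl⟩
  by_cases h1 : IsConj n h
  · rw [if_pos (key.mpr h1).1, if_pos (key.mpr h1).2, if_pos h1]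
  · rw [if_neg h1]
    by_cases h2 : (h : G) ∈ Subgroup.centralizer (D : Set G)
    · rw [if_pos h2, if_neg (fun hc => h1 (key.mp ⟨h2, hc⟩))]
    · rw [if_neg h2]

/-- Under the hypotheses of `brP_classSum_of_sylow`, the Brauer central character at `n` is the
central character at `n`. -/
theorem brauerCentralChar_of_sylow [Fintype G] {p : ℕ} [Fact p.Prime] (D : Subgroup G)
    (hD : IsPGroup p D) [Fintype (Subgroup.normalizer (D : Set G))]
    (n : Subgroup.normalizer (D : Set G)) (hn : (n : G) ∈ Subgroup.centralizer (D : Set G))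
    (S : Sylow p (Subgroup.centralizer ({(n : G)} : Set G)))
    (hS : (S : Subgroup (Subgroup.centralizer ({(n : G)} : Set G))).map
      (Subgroup.centralizer ({(n : G)} : Set G)).subtype = D)
    (ξ : IrrCharacter (Subgroup.normalizer (D : Set G))) :
    brauerCentralChar D (Subgroup.normalizer (D : Set G))
      (ξ : Subgroup.normalizer (D : Set G) → ℂ) (n : G) =
      centralChar (ξ : Subgroup.normalizer (D : Set G) → ℂ) n := by
  rw [← omega_brP_classSum, brP_classSum_of_sylow D hD n hn S hS, omega_classSum_irr]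


/-! ### First Main Theorem, part (i) -/

section

variable {M : Ideal AlgInt}

/-- **First Main Theorem (i)**: a block of `N_G(D)` with defect group `D` induces a block of `G`
with defect group `D`. -/
theorem firstMain_exists_induced [Fintype G] {p : ℕ} [Fact p.Prime] (hM : IsPModular p M)
    (D : Subgroup G) (hD : IsPGroup p D) [Fintype (Subgroup.normalizer (D : Set G))]
    (b : Set (IrrCharacter (Subgroup.normalizer (D : Set G)))) (hb : IsPBlock M b)
    (hDb : IsDefectGroup p M b (D.subgroupOf (Subgroup.normalizer (D : Set G)))) :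
    ∃ B : Set (IrrCharacter G), IsPBlock M B ∧ IsDefectGroup p M B D ∧
      IsInducedBlock M (Subgroup.normalizer (D : Set G)) b B := by
  classical
  have hMp := isPModular_isPrime hM
  have hDN : D ≤ Subgroup.normalizer (D : Set G) := Subgroup.le_normalizer
  have hCN : Subgroup.centralizer (D : Set G) ≤ Subgroup.normalizer (D : Set G) :=
    Subgroup.centralizer_le_normalizer _
  obtain ⟨n, hn, Q, hQ⟩ := hDb
  obtain ⟨hnc, S, hS⟩ := exists_sylow_centralizer_of_normalizer D hD n Q hQ.symm
  obtain ⟨ξ₀, rfl⟩ := hb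
  obtain ⟨χ₀, hχ₀⟩ := exists_irr_brauerLam hM D (Subgroup.normalizer (D : Set G)) hD hCN le_rfl ξ₀
  have hcc : ∀ g : G, MemLocalIdeal M (brauerCentralChar D (Subgroup.normalizer (D : Set G))
      (ξ₀ : Subgroup.normalizer (D : Set G) → ℂ) g - centralChar (χ₀ : G → ℂ) g) := by
    intro g
    have := hχ₀ (classSumC g) (classSumC_mem_centerOrder g)
    rw [omegaHom_classSumC] at this
    change MemLocalIdeal M (brauerLam D (Subgroup.normalizer (D : Set G))
      (ξ₀ : Subgroup.normalizer (D : Set G) → ℂ) (classSum g) - _) at this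
    rwa [brauerLam_classSum] at this
  have hind := isInducedBlock_of_brauerCentralChar hM D (Subgroup.normalizer (D : Set G)) hD hDN
    le_rfl ξ₀ χ₀ hcc
  refine ⟨blockOf M (χ₀ : G → ℂ), isPBlock_blockOf χ₀, ?_, hind⟩
  obtain ⟨E, hE, hDE⟩ := Cfsg.Agent.S0917.result p M hM (Subgroup.normalizer (D : Set G)) _
    (isPBlock_blockOf ξ₀) _ (isPBlock_blockOf χ₀) hind
    (D.subgroupOf (Subgroup.normalizer (D : Set G))) ⟨n, hn, Q, hQ⟩
  rw [Subgroup.map_subgroupOf_eq_of_le hDN] at hDE
  have h1 : ¬ MemLocalIdeal M (centralChar (χ₀ : G → ℂ) (n : G)) := by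
    have := hcc (n : G)
    rw [brauerCentralChar_of_sylow D hD n hnc S hS ξ₀] at this
    rw [← memLocalIdeal_congr this]
    exact hn.2.2 ξ₀ (self_mem_blockOf hMp.ne_top ξ₀)
  obtain ⟨gE, hgE, QE, rfl⟩ := hE
  obtain ⟨x, Q', hQ'⟩ := (Cfsg.Agent.S0911.result p M hM _ (isPBlock_blockOf χ₀) gE hgE QE
    (n : G)).2 ⟨χ₀, self_mem_blockOf hMp.ne_top χ₀, h1⟩
  have hcard : Nat.card ((QE : Subgroup (Subgroup.centralizer ({gE} : Set G))).map
      (Subgroup.centralizer ({gE} : Set G)).subtype) ≤ Nat.card D := by
    calc Nat.card ((QE : Subgroup (Subgroup.centralizer ({gE} : Set G))).map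
          (Subgroup.centralizer ({gE} : Set G)).subtype)
        = Nat.card (((QE : Subgroup (Subgroup.centralizer ({gE} : Set G))).map
          (Subgroup.centralizer ({gE} : Set G)).subtype).map (MulAut.conj x).toMonoidHom) :=
          (card_map_conj _ x).symm
      _ ≤ Nat.card ((Q' : Subgroup (Subgroup.centralizer ({(n : G)} : Set G))).map
          (Subgroup.centralizer ({(n : G)} : Set G)).subtype) := Subgroup.card_le_of_le hQ'
      _ = Nat.card D := by
          have h2 := card_sylow_map S
          rw [hS] at h2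
          rw [card_sylow_map Q', h2]
  have hEq := Subgroup.eq_of_le_of_card_ge hDE hcard
  exact ⟨gE, hgE, QE, hEq⟩

end


/-! ### First Main Theorem, part (ii) -/

section

variable {M : Ideal AlgInt}

/-- **First Main Theorem (ii), existence**: a block of `G` with defect group `D` is induced from a
block of `N_G(D)` with defect group `D`. -/
theorem firstMain_exists_correspondent [Fintype G] {p : ℕ} [Fact p.Prime] (hM : IsPModular p M)
    (D : Subgroup G) (hD : IsPGroup p D) [Fintype (Subgroup.normalizer (D : Set G))]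
    (B : Set (IrrCharacter G)) (hB : IsPBlock M B) (hDB : IsDefectGroup p M B D) :
    ∃ b : Set (IrrCharacter (Subgroup.normalizer (D : Set G))), IsPBlock M b ∧
      IsDefectGroup p M b (D.subgroupOf (Subgroup.normalizer (D : Set G))) ∧
      IsInducedBlock M (Subgroup.normalizer (D : Set G)) b B := by
  classical
  have hMp := isPModular_isPrime hM
  have hDN : D ≤ Subgroup.normalizer (D : Set G) := Subgroup.le_normalizer
  have hCN : Subgroup.centralizer (D : Set G) ≤ Subgroup.normalizer (D : Set G) :=
    Subgroup.centralizer_le_normalizer _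
  have hcardD := Cfsg.Agent.Lib.Helper78.card_defectGroup hM hB hDB
  obtain ⟨g, hg, Q, hQ⟩ := hDB
  have hgc : g ∈ Subgroup.centralizer (D : Set G) := by
    rw [Subgroup.mem_centralizer_iff]
    intro d hd
    rw [hQ] at hd
    obtain ⟨q, _, rfl⟩ := hd
    have := q.2
    rw [Subgroup.mem_centralizer_singleton_iff] at this
    exact this
  obtain ⟨χB, rfl⟩ := hB
  obtain ⟨ξ, hξ⟩ := exists_irr_brauerLam_blockIdem hM D (Subgroup.normalizer (D : Set G)) hD hCN
    le_rfl χB g hgc hg.2.1
  have hind := isInducedBlock_of_brauerLam_blockIdem hM D (Subgroup.normalizer (D : Set G)) hD hDN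
    hCN le_rfl χB ξ hξ
  refine ⟨_, isPBlock_blockOf ξ, ?_, hind⟩
  obtain ⟨Db, hDb⟩ := exists_isDefectGroup p (isPBlock_blockOf (M := M) ξ)
  have hn : (D.subgroupOf (Subgroup.normalizer (D : Set G))).Normal :=
    Subgroup.normal_subgroupOf_of_le_normalizer le_rfl
  have h1 : D.subgroupOf (Subgroup.normalizer (D : Set G)) ≤ Db :=
    normal_pGroup_le_defectGroup hM (D.subgroupOf (Subgroup.normalizer (D : Set G)))
      hD.comap_subtype (isPBlock_blockOf ξ) hDb
  obtain ⟨E, hE, hDE⟩ := Cfsg.Agent.S0917.result p M hM (Subgroup.normalizer (D : Set G)) _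
    (isPBlock_blockOf ξ) _ (isPBlock_blockOf χB) hind Db hDb
  have hcardE := Cfsg.Agent.Lib.Helper78.card_defectGroup hM (isPBlock_blockOf χB) hE
  have hcard : Nat.card Db ≤ Nat.card (D.subgroupOf (Subgroup.normalizer (D : Set G))) := by
    calc Nat.card Db = Nat.card (Db.map (Subgroup.normalizer (D : Set G)).subtype) :=
          (Subgroup.card_map_of_injective (Subgroup.subtype_injective _)).symm
      _ ≤ Nat.card E := Subgroup.card_le_of_le hDE
      _ = Nat.card D := by rw [hcardE, hcardD]
      _ = Nat.card (D.subgroupOf (Subgroup.normalizer (D : Set G))) :=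
          (Nat.card_congr (Subgroup.subgroupOfEquivOfLe hDN).toEquiv).symm
  have hEq := Subgroup.eq_of_le_of_card_ge h1 hcard
  rw [hEq]
  exact hDb

/-- **First Main Theorem (ii), uniqueness**: two blocks of `N_G(D)` inducing the same block of `G`,
one of them with defect group `D`, are equal. -/
theorem firstMain_unique [Fintype G] {p : ℕ} [Fact p.Prime] (hM : IsPModular p M)
    (D : Subgroup G) (hD : IsPGroup p D) [Fintype (Subgroup.normalizer (D : Set G))]
    (B : Set (IrrCharacter G)) (hB : IsPBlock M B)
    {b₁ b₂ : Set (IrrCharacter (Subgroup.normalizer (D : Set G)))} (hb₁ : IsPBlock M b₁)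
    (hD₁ : IsDefectGroup p M b₁ (D.subgroupOf (Subgroup.normalizer (D : Set G))))
    (hind₁ : IsInducedBlock M (Subgroup.normalizer (D : Set G)) b₁ B) (hb₂ : IsPBlock M b₂)
    (hind₂ : IsInducedBlock M (Subgroup.normalizer (D : Set G)) b₂ B) : b₁ = b₂ := by
  classical
  have hMp := isPModular_isPrime hM
  have hDN : D ≤ Subgroup.normalizer (D : Set G) := Subgroup.le_normalizer
  have hn : (D.subgroupOf (Subgroup.normalizer (D : Set G))).Normal :=
    Subgroup.normal_subgroupOf_of_le_normalizer le_rfl
  have hDp : IsPGroup p (D.subgroupOf (Subgroup.normalizer (D : Set G))) := hD.comap_subtype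
  obtain ⟨ξ₁, rfl⟩ := hb₁
  obtain ⟨ξ₂, hξ₂⟩ := IsPBlock_nonempty hMp.ne_top hb₂
  obtain ⟨χ, hχ⟩ := IsPBlock_nonempty hMp.ne_top hB
  have hξ₁ : ξ₁ ∈ blockOf M (ξ₁ : Subgroup.normalizer (D : Set G) → ℂ) :=
    self_mem_blockOf hMp.ne_top ξ₁
  set e₁ := blockIdem M ξ₁ with he₁
  have hint : ∀ (ξ : IrrCharacter (Subgroup.normalizer (D : Set G)))
      (n : Subgroup.normalizer (D : Set G)),
      MemLocalRing M (centralChar (ξ : Subgroup.normalizer (D : Set G) → ℂ) n) := fun ξ n =>
    memLocalRing_of_isIntegral hMp.ne_top (Cfsg.Agent.Lib.Helper79.isIntegral_centralChar ξ n)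
  -- the two central characters agree on `e₁` modulo the ideal
  have key : MemLocalIdeal M (omegaHom ξ₂ e₁ - omegaHom ξ₁ e₁) := by
    rw [omegaHom_apply, omegaHom_apply, omega_eq_sum_classes _ (irr_conj ξ₂) e₁.2,
      omega_eq_sum_classes _ (irr_conj ξ₁) e₁.2, ← Finset.sum_sub_distrib]
    apply memLocalIdeal_sum
    intro c _
    rw [← mul_sub]
    set n := classRep c with hn'
    have hcoefR : MemLocalRing M ((e₁ : MonoidAlgebra ℂ (Subgroup.normalizer (D : Set G))).coeff n) :=
      blockIdem_mem ξ₁ n
    by_cases hnc : (n : G) ∈ Subgroup.centralizer (D : Set G)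
    · by_cases hco : MemLocalIdeal M
          ((e₁ : MonoidAlgebra ℂ (Subgroup.normalizer (D : Set G))).coeff n)
      · exact memLocalIdeal_mul_right hco (memLocalRing_sub (hint ξ₂ n) (hint ξ₁ n))
      · apply memLocalIdeal_mul_left hcoefR
        rw [he₁, coeff_blockIdem] at hco
        obtain ⟨n₁, hn₁, Q₁, hQ₁⟩ := hD₁
        obtain ⟨x, Q', hQ'⟩ := (Cfsg.Agent.S0911.result p M hM _ (isPBlock_blockOf ξ₁) n₁ hn₁ Q₁
          n).1 (blockCoeff_memLocalRing_blockOf ξ₁ n) hco
        rw [← hQ₁] at hQ'
        have hconj : (D.subgroupOf (Subgroup.normalizer (D : Set G))).map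
            (MulAut.conj x).toMonoidHom = D.subgroupOf (Subgroup.normalizer (D : Set G)) := by
          ext y
          rw [mem_map_conj_iff]
          constructor
          · intro hy
            have := hn.conj_mem _ hy x
            have e : x * (x⁻¹ * y * x) * x⁻¹ = y := by group
            rwa [e] at this
          · intro hy
            have := hn.conj_mem _ hy x⁻¹
            rwa [inv_inv] at this
        rw [hconj] at hQ'
        have hle : D.subgroupOf (Subgroup.normalizer (D : Set G)) ≤
            Subgroup.centralizer ({n} : Set (Subgroup.normalizer (D : Set G))) := by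
          intro d hd
          rw [Subgroup.mem_subgroupOf] at hd
          rw [Subgroup.mem_centralizer_singleton_iff]
          exact Subtype.ext ((Subgroup.mem_centralizer_iff.mp hnc) (d : G) hd)
        obtain ⟨Q'', hQ''⟩ := exists_sylow_map_ge
          (Subgroup.centralizer ({n} : Set (Subgroup.normalizer (D : Set G))))
          (D.subgroupOf (Subgroup.normalizer (D : Set G))) hDp hle
        have hcard : Nat.card (D.subgroupOf (Subgroup.normalizer (D : Set G))) ≤
            Nat.card ((Q' : Subgroup (Subgroup.centralizer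
              ({n} : Set (Subgroup.normalizer (D : Set G))))).map
              (Subgroup.centralizer ({n} : Set (Subgroup.normalizer (D : Set G)))).subtype) := by
          rw [card_sylow_map Q', ← card_sylow_map Q'']
          exact Subgroup.card_le_of_le hQ''
        have hEq := Subgroup.eq_of_le_of_card_ge hQ' hcard
        obtain ⟨_, S, hS⟩ := exists_sylow_centralizer_of_normalizer D hD n Q' hEq
        have hi : ∀ (ξ : IrrCharacter (Subgroup.normalizer (D : Set G)))
            (b : Set (IrrCharacter (Subgroup.normalizer (D : Set G)))), ξ ∈ b →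
            IsInducedBlock M (Subgroup.normalizer (D : Set G)) b B →
            MemLocalIdeal M (centralChar (ξ : Subgroup.normalizer (D : Set G) → ℂ) n -
              centralChar (χ : G → ℂ) (n : G)) := by
          intro ξ b hξ hind
          rw [← brauerCentralChar_of_sylow D hD n hnc S hS ξ]
          have h1 := inducedCentralChar_sub_brauerCentralChar_memLocalIdeal hM D
            (Subgroup.normalizer (D : Set G)) hD hDN le_rfl ξ (n : G)
          exact memLocalIdeal_sub_trans (memLocalIdeal_sub_comm.mp h1) (hind.2.2 ξ hξ χ hχ _)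
        exact memLocalIdeal_sub_trans (hi ξ₂ b₂ hξ₂ hind₂)
          (memLocalIdeal_sub_comm.mp (hi ξ₁ _ hξ₁ hind₁))
    · have hcc : ∀ ξ : IrrCharacter (Subgroup.normalizer (D : Set G)),
          MemLocalIdeal M (centralChar (ξ : Subgroup.normalizer (D : Set G) → ℂ) n) := by
        intro ξ
        by_contra hcon
        apply hnc
        have h1 := mem_centralizer_of_centralChar_not_memLocalIdeal hM
          (D.subgroupOf (Subgroup.normalizer (D : Set G))) hDp n ξ hcon
        rw [Subgroup.mem_centralizer_iff] at h1 ⊢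
        intro d hd
        have := h1 ⟨d, hDN hd⟩ (by rw [SetLike.mem_coe, Subgroup.mem_subgroupOf]; exact hd)
        exact congrArg Subtype.val this
      exact memLocalIdeal_mul_left hcoefR (memLocalIdeal_sub (hcc ξ₂) (hcc ξ₁))
  have h1 : omegaHom ξ₁ e₁ = 1 := omegaHom_blockIdem_of_mem ξ₁ hξ₁
  have hmem : ξ₂ ∈ blockOf M (ξ₁ : Subgroup.normalizer (D : Set G) → ℂ) := by
    by_contra hcon
    rw [h1, omegaHom_blockIdem_of_not_mem ξ₁ hcon, zero_sub, memLocalIdeal_neg_iff] at key
    exact one_not_memLocalIdeal key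
  exact IsPBlock_eq_of_mem (isPBlock_blockOf ξ₁) hb₂ hmem hξ₂

end


end Cfsg.Agent.Lib.Helper16
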