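import Cfsg.Agent.Lib.Helper16.FirstMain
import Cfsg.Agent.Lib.Helper16.PIndex
import Cfsg.Agent.Lib.Helper77.Deflation
import Cfsg.Agent.S0165

/-!
# Blocks with a normal defect group (helper16)

If the block `B` has a normal defect group `D` and a central character of `B` at `x` is not in the
local ideal, then the `p`-part of `x` lies in `D`.
-/

set_option autoImplicit false

namespace Cfsg.Agent.Lib.Helper16

open Cfsg MonoidAlgebra
open scoped ComplexConjugate

universe u

variable {G : Type u} [Group G]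

/-! ### `p`-parts -/

/-- A `p`-part of `g` and the complementary factor are powers of `g`. -/
theorem isPPart_mem_zpowers [Finite G] {p : ℕ} [Fact p.Prime] {g z : G} (h : IsPPart p g z) :
    z ∈ Subgroup.zpowers g ∧ z⁻¹ * g ∈ Subgroup.zpowers g := by
  obtain ⟨y, hzy, hcomm, ⟨k, hk⟩, hy⟩ := h
  have hp : p.Prime := Fact.out
  have hcop : Nat.Coprime (orderOf y) (orderOf z) := by
    rw [hk]
    exact Nat.Coprime.pow_right k ((Nat.Prime.coprime_iff_not_dvd hp).mpr hy).symm
  obtain ⟨t, ht⟩ := exists_pow_eq_self_of_coprime hcop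
  have hg : g ^ orderOf y = z ^ orderOf y := by
    rw [← hzy, hcomm.mul_pow, pow_orderOf_eq_one, mul_one]
  have hz : z ∈ Subgroup.zpowers g := by
    rw [← ht, ← hg]
    exact Subgroup.pow_mem _ (Subgroup.pow_mem _ (Subgroup.mem_zpowers g) _) _
  exact ⟨hz, Subgroup.mul_mem _ (Subgroup.inv_mem _ hz) (Subgroup.mem_zpowers g)⟩

/-- A `p`-part in `G` of an element of a subgroup `N` is a `p`-part in `N`. -/
theorem isPPart_subgroup [Finite G] {p : ℕ} [Fact p.Prime] (N : Subgroup G) (n : N) {z : G}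
    (h : IsPPart p (n : G) z) : ∃ z' : N, (z' : G) = z ∧ IsPPart p n z' := by
  obtain ⟨hz, hy⟩ := isPPart_mem_zpowers h
  have hle : Subgroup.zpowers (n : G) ≤ N := (Subgroup.zpowers_le).mpr n.2
  obtain ⟨y, hzy, hcomm, ⟨k, hk⟩, hyo⟩ := h
  have hy' : y = z⁻¹ * (n : G) := by rw [← hzy]; group
  refine ⟨⟨z, hle hz⟩, rfl, ⟨y, hle (hy' ▸ hy)⟩, Subtype.ext hzy, ?_, ⟨k, ?_⟩, ?_⟩
  · exact Subtype.ext hcomm.eq
  · rw [← hk]
    exact Subgroup.orderOf_mk z (hle hz)
  · rw [Subgroup.orderOf_mk]
    exact hyo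

/-- If `z` is a `p`-part of `x` and `z` is not in the normal subgroup `D`, then the image of `x`
in `G ⧸ D` is `p`-singular. -/
theorem dvd_orderOf_mk_of_isPPart [Finite G] {p : ℕ} [Fact p.Prime] (D : Subgroup G) [D.Normal]
    {x z : G} (h : IsPPart p x z) (hz : z ∉ D) : p ∣ orderOf (x : G ⧸ D) := by
  by_contra hnd
  apply hz
  obtain ⟨y, hzy, hcomm, ⟨k, hk⟩, hy⟩ := h
  have hp : p.Prime := Fact.out
  set r := orderOf (x : G ⧸ D) with hr
  have hxr : x ^ r ∈ D := by
    rw [← QuotientGroup.eq_one_iff, QuotientGroup.mk_pow]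
    exact pow_orderOf_eq_one _
  have hcop : Nat.Coprime (r * orderOf y) (orderOf z) := by
    rw [hk]
    apply Nat.Coprime.pow_right
    exact Nat.Coprime.mul_left ((Nat.Prime.coprime_iff_not_dvd hp).mpr hnd).symm
      ((Nat.Prime.coprime_iff_not_dvd hp).mpr hy).symm
  obtain ⟨t, ht⟩ := exists_pow_eq_self_of_coprime hcop
  have hg : x ^ (r * orderOf y) = z ^ (r * orderOf y) := by
    rw [← hzy, hcomm.mul_pow, mul_comm r, pow_mul y, pow_orderOf_eq_one, one_pow, mul_one]
  rw [← ht, ← hg, pow_mul]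
  exact Subgroup.pow_mem _ (Subgroup.pow_mem _ hxr _) _

/-! ### A character in the block trivial on a normal `p`-subgroup -/

section

variable {M : Ideal AlgInt}

/-- Every block contains a character with a given normal `p`-subgroup in its kernel. -/
theorem exists_mem_block_trivial_on_normal_pGroup [Fintype G] {p : ℕ} [Fact p.Prime]
    (hM : IsPModular p M) (Q : Subgroup G) [hQn : Q.Normal] [Fintype Q] (hQ : IsPGroup p Q)
    {B : Set (IrrCharacter G)} (hB : IsPBlock M B) :
    ∃ χ ∈ B, ∀ q ∈ Q, (χ : G → ℂ) q = (χ : G → ℂ) 1 := by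
  classical
  have hMp := isPModular_isPrime hM
  by_contra hcon
  push Not at hcon
  have h0 : ∀ χ ∈ B, ∑ q : Q, (χ : G → ℂ) q = 0 := by
    intro χ hχ
    by_contra hne
    obtain ⟨q, hq, hq'⟩ := hcon χ hχ
    apply hq'
    have hci : classInner (fun n : Q => (χ : G → ℂ) n) (oneIrr Q : Q → ℂ) ≠ 0 := by
      unfold classInner
      have : ∀ n : Q, (χ : G → ℂ) n * conj ((oneIrr Q : Q → ℂ) n) = (χ : G → ℂ) n := by
        intro n
        show (χ : G → ℂ) n * conj (1 : ℂ) = _
        rw [map_one, mul_one]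
      rw [Finset.sum_congr rfl (fun n _ => this n)]
      exact mul_ne_zero (inv_ne_zero (by exact_mod_cast Nat.card_pos.ne')) hne
    exact eq_apply_one_of_classInner_res_oneIrr_ne_zero Q χ hci ⟨q, hq⟩
  have h1 : ∑ q : Q, blockCoeff B (q : G) = 0 := by
    simp only [blockCoeff_eq_sum]
    rw [← Finset.mul_sum, Finset.sum_comm]
    have : ∀ χ ∈ Finset.univ.filter (fun χ : IrrCharacter G => χ ∈ B),
        ∑ q : Q, (χ : G → ℂ) 1 * conj ((χ : G → ℂ) q) = 0 := by
      intro χ hχ
      rw [← Finset.mul_sum, ← map_sum, h0 χ (Finset.mem_filter.mp hχ).2, map_zero, mul_zero]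
    rw [Finset.sum_congr rfl this, Finset.sum_const_zero, mul_zero]
  have h2 : ∑ q : Q, blockCoeff B (q : G) = blockCoeff B 1 := by
    rw [Finset.sum_eq_single (1 : Q)]
    · rfl
    · intro q _ hq1
      apply blockCoeff_eq_zero_of_singular hM hB
      obtain ⟨k, hk⟩ := (IsPGroup.iff_orderOf.mp hQ) q
      rw [Subgroup.orderOf_coe, hk]
      cases k with
      | zero =>
        exfalso
        apply hq1
        rw [pow_zero, orderOf_eq_one_iff] at hk
        exact hk
      | succ k => exact dvd_pow_self p (Nat.succ_ne_zero k)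
    · intro h
      exact absurd (Finset.mem_univ _) h
  have h3 : blockCoeff B 1 ≠ 0 := by
    rw [blockCoeff_eq_sum]
    apply mul_ne_zero (inv_ne_zero (by exact_mod_cast Nat.card_pos.ne'))
    have hsq : ∀ χ : IrrCharacter G, (χ : G → ℂ) 1 * conj ((χ : G → ℂ) 1) =
        ((charDegree (χ : G → ℂ) ^ 2 : ℕ) : ℂ) := by
      intro χ
      rw [Cfsg.Agent.Lib.Helper79.irr_apply_one_eq_charDegree, Complex.conj_natCast]
      push_cast
      ring
    simp only [hsq]
    rw [← Nat.cast_sum, Nat.cast_ne_zero]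
    obtain ⟨χ, hχ⟩ := IsPBlock_nonempty hMp.ne_top hB
    apply ne_of_gt
    apply Finset.sum_pos' (fun _ _ => Nat.zero_le _)
    exact ⟨χ, Finset.mem_filter.mpr ⟨Finset.mem_univ _, hχ⟩,
      pow_pos (Cfsg.Agent.Lib.Helper79.irr_charDegree_pos χ) 2⟩
  exact h3 (h2 ▸ h1)

end


/-! ### Normal defect groups -/

section

variable {M : Ideal AlgInt}

/-- If the block `B` has the normal defect group `D` and some central character of `B` at `x` is
not in the local ideal, then every `p`-part of `x` lies in `D`. -/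
theorem pPart_mem_of_normal_defectGroup [Fintype G] {p : ℕ} [Fact p.Prime]
    (hM : IsPModular p M) {B : Set (IrrCharacter G)} (hB : IsPBlock M B) (D : Subgroup G)
    [hDn : D.Normal] (hD : IsDefectGroup p M B D) (x : G) {χ₀ : IrrCharacter G} (hχ₀ : χ₀ ∈ B)
    (hx : ¬ MemLocalIdeal M (centralChar (χ₀ : G → ℂ) x)) {z : G} (hz : IsPPart p x z) :
    z ∈ D := by
  classical
  have hMp := isPModular_isPrime hM
  have hp : p.Prime := Fact.out
  by_contra hzD
  have : Fintype D := Fintype.ofFinite D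
  have hDp : IsPGroup p D := by
    obtain ⟨g, _, Q, rfl⟩ := hD
    exact Q.2.map _
  obtain ⟨χ, hχB, hχD⟩ := exists_mem_block_trivial_on_normal_pGroup hM D hDp hB
  have hsing := dvd_orderOf_mk_of_isPPart D hz hzD
  -- the exponent of `p` in `|G/D|`
  obtain ⟨g, hg, S, hS⟩ := hD
  have hle := Cfsg.Agent.Lib.Helper78.factorization_index_le_charDegree hM hg hχB
  have hcardD : Nat.card D = p ^ (Nat.card (Subgroup.centralizer ({g} : Set G))).factorization p := by
    have h1 := card_sylow_map S
    rwa [← hS] at h1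
  have h1 : Nat.card G = Nat.card (G ⧸ D) * Nat.card D :=
    Subgroup.card_eq_card_quotient_mul_card_subgroup D
  have h2 : (Subgroup.centralizer ({g} : Set G)).index *
      Nat.card (Subgroup.centralizer ({g} : Set G)) = Nat.card G := Subgroup.index_mul_card _
  have hq0 : Nat.card (G ⧸ D) ≠ 0 := Nat.card_pos.ne'
  have hD0 : Nat.card D ≠ 0 := Nat.card_pos.ne'
  have hi0 : (Subgroup.centralizer ({g} : Set G)).index ≠ 0 := Subgroup.index_ne_zero_of_finite
  have hc0 : Nat.card (Subgroup.centralizer ({g} : Set G)) ≠ 0 := Nat.card_pos.ne'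
  have h3 : (Nat.card G).factorization p = (Nat.card (G ⧸ D)).factorization p +
      (Nat.card (Subgroup.centralizer ({g} : Set G))).factorization p := by
    rw [h1, Nat.factorization_mul hq0 hD0, Finsupp.add_apply, hcardD,
      Nat.Prime.factorization_pow hp, Finsupp.single_eq_same]
  have h4 : (Nat.card G).factorization p =
      ((Subgroup.centralizer ({g} : Set G)).index).factorization p +
      (Nat.card (Subgroup.centralizer ({g} : Set G))).factorization p := by
    rw [← h2, Nat.factorization_mul hi0 hc0, Finsupp.add_apply]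
  have ha : (Nat.card (G ⧸ D)).factorization p ≤ (charDegree (χ : G → ℂ)).factorization p := by
    omega
  -- deflate `χ` to `G ⧸ D`
  set χbar := Cfsg.Agent.Lib.Helper77.deflate D χ hχD with hχbar
  obtain ⟨n', ρ, hirr, hρ⟩ := χbar.2
  have hdeg1 : charDegree (χbar : G ⧸ D → ℂ) = charDegree (χ : G → ℂ) := by
    unfold charDegree
    have : (χbar : G ⧸ D → ℂ) 1 = (χ : G → ℂ) 1 :=
      Cfsg.Agent.Lib.Helper77.deflate_mk D χ hχD 1
    rw [this]
  have hn' : n' = charDegree (χ : G → ℂ) := by
    rw [← hdeg1, ← hρ, Cfsg.Agent.Lib.Helper79.charDegree_of_rep ρ]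
  have hdvd : p ^ (Nat.card (G ⧸ D)).factorization p ∣ Module.finrank ℂ (Fin n' → ℂ) := by
    rw [Module.finrank_fin_fun, hn']
    exact (pow_dvd_pow p ha).trans (Nat.ordProj_dvd _ _)
  have hzero : ρ.character (x : G ⧸ D) = 0 := by
    haveI := hirr
    exact Cfsg.Agent.S0165.result ρ p _ hp (Nat.ordProj_dvd _ _)
      (Nat.pow_succ_factorization_not_dvd hq0 hp) hdvd (x : G ⧸ D) hsing
  have hχx : (χ : G → ℂ) x = 0 := by
    rw [← Cfsg.Agent.Lib.Helper77.deflate_mk D χ hχD x, ← hχbar, ← hρ]
    exact hzero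
  apply hx
  have hsame : MemLocalIdeal M (centralChar (χ₀ : G → ℂ) x - centralChar (χ : G → ℂ) x) :=
    sameBlock_of_mem hB hχ₀ hχB x
  rw [memLocalIdeal_congr hsame]
  unfold centralChar
  rw [hχx, mul_zero, zero_div]
  exact memLocalIdeal_zero hMp.ne_top

end


/-! ### General defect groups -/

section

variable {M : Ideal AlgInt}

/-- If `P` is a defect group of `B` and some central character of `B` at `g` is not in the local
ideal, then some conjugate `x` of `g` centralizes `P` and has its `p`-part in `Z(P)`. -/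
theorem exists_conj_centralizing_defectGroup [Fintype G] {p : ℕ} [Fact p.Prime]
    (hM : IsPModular p M) {B : Set (IrrCharacter G)} (hB : IsPBlock M B) (P : Subgroup G)
    (hP : IsDefectGroup p M B P) (g : G) {χ₀ : IrrCharacter G} (hχ₀ : χ₀ ∈ B)
    (hg : ¬ MemLocalIdeal M (centralChar (χ₀ : G → ℂ) g)) :
    ∃ x : G, IsConj g x ∧ x ∈ Subgroup.centralizer (P : Set G) ∧
      ∀ z : G, IsPPart p x z → z ∈ P ∧ ∀ w ∈ P, z * w = w * z := by
  classical
  have hMp := isPModular_isPrime hM
  have : Fintype (Subgroup.normalizer (P : Set G)) := Fintype.ofFinite _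
  have hPN : P ≤ Subgroup.normalizer (P : Set G) := Subgroup.le_normalizer
  have hPp : IsPGroup p P := by
    obtain ⟨g, _, Q, rfl⟩ := hP
    exact Q.2.map _
  obtain ⟨b, hb, hPb, hind⟩ := firstMain_exists_correspondent hM P hPp B hB hP
  obtain ⟨ξ, hξ⟩ := IsPBlock_nonempty hMp.ne_top hb
  have h1 : ¬ MemLocalIdeal M (brauerCentralChar P (Subgroup.normalizer (P : Set G))
      (ξ : Subgroup.normalizer (P : Set G) → ℂ) g) := by
    have h2 := inducedCentralChar_sub_brauerCentralChar_memLocalIdeal hM P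
      (Subgroup.normalizer (P : Set G)) hPp hPN le_rfl ξ g
    have h3 := memLocalIdeal_sub_trans (memLocalIdeal_sub_comm.mp h2) (hind.2.2 ξ hξ χ₀ hχ₀ g)
    rwa [memLocalIdeal_congr h3]
  rw [← omega_brP_classSum, omega_eq_sum_classes _ (irr_conj ξ)
    (brP_mem_center P (Subgroup.normalizer (P : Set G)) le_rfl (classSum_mem_center g))] at h1
  obtain ⟨c, hc⟩ : ∃ c : ConjClasses (Subgroup.normalizer (P : Set G)), ¬ MemLocalIdeal M
      ((brP P (Subgroup.normalizer (P : Set G)) (classSum g)).coeff (classRep c) *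
        centralChar (ξ : Subgroup.normalizer (P : Set G) → ℂ) (classRep c)) := by
    by_contra hall
    push Not at hall
    exact h1 (memLocalIdeal_sum _ _ fun c _ => hall c)
  rw [coeff_brP, coeff_classSum] at hc
  have hcc : ((classRep c : Subgroup.normalizer (P : Set G)) : G) ∈
      Subgroup.centralizer (P : Set G) := by
    by_contra hcon
    rw [if_neg hcon, zero_mul] at hc
    exact hc (memLocalIdeal_zero hMp.ne_top)
  rw [if_pos hcc] at hc
  have hconj : IsConj g ((classRep c : Subgroup.normalizer (P : Set G)) : G) := by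
    by_contra hcon
    rw [if_neg hcon, zero_mul] at hc
    exact hc (memLocalIdeal_zero hMp.ne_top)
  rw [if_pos hconj, one_mul] at hc
  refine ⟨_, hconj, hcc, fun z hz => ?_⟩
  obtain ⟨z', hz'eq, hz'⟩ := isPPart_subgroup (Subgroup.normalizer (P : Set G)) (classRep c) hz
  have hn : (P.subgroupOf (Subgroup.normalizer (P : Set G))).Normal :=
    Subgroup.normal_subgroupOf_of_le_normalizer le_rfl
  have h4 := pPart_mem_of_normal_defectGroup hM hb (P.subgroupOf (Subgroup.normalizer (P : Set G)))
    hPb (classRep c) hξ hc hz'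
  rw [Subgroup.mem_subgroupOf, hz'eq] at h4
  refine ⟨h4, fun w hw => ?_⟩
  have h5 : z ∈ Subgroup.centralizer (P : Set G) :=
    (Subgroup.zpowers_le.mpr hcc) (isPPart_mem_zpowers hz).1
  exact ((Subgroup.mem_centralizer_iff.mp h5) w hw).symm

end


end Cfsg.Agent.Lib.Helper16
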