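import Cfsg.Agent.Lib.Helper16.BlockBasic
import Cfsg.Agent.Lib.Helper79.Schur
import Cfsg.Agent.S4969

/-!
# Central characters on the group algebra (helper16)

For a finite group `G` we work in `A = MonoidAlgebra ℂ G`.  For a function `χ : G → ℂ` the linear
functional `omega χ : A → ℂ`, `z ↦ (∑ g, z g * χ g) / χ 1`, is the central character of `χ`:
it is multiplicative on central elements when `χ` is an irreducible character, takes the value
`Cfsg.centralChar χ g` on the class sum of `g`, and maps central elements with coefficients in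
the local ring at `M` into the local ring.
-/

set_option autoImplicit false

namespace Cfsg.Agent.Lib.Helper16

open Cfsg MonoidAlgebra
open scoped ComplexConjugate

variable {G : Type*} [Group G] [Fintype G]

/-- The central character of `χ` as a functional on the group algebra. -/
noncomputable def omega (χ : G → ℂ) (z : MonoidAlgebra ℂ G) : ℂ :=
  (∑ g : G, z.coeff g * χ g) / χ 1

theorem omega_add (χ : G → ℂ) (z w : MonoidAlgebra ℂ G) :
    omega χ (z + w) = omega χ z + omega χ w := by
  unfold omega
  rw [← add_div, ← Finset.sum_add_distrib]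
  congr 1
  refine Finset.sum_congr rfl fun g _ => ?_
  rw [coeff_add, Finsupp.add_apply, add_mul]

theorem omega_zero (χ : G → ℂ) : omega χ (0 : MonoidAlgebra ℂ G) = 0 := by
  unfold omega
  simp

theorem omega_smul (χ : G → ℂ) (c : ℂ) (z : MonoidAlgebra ℂ G) :
    omega χ (c • z) = c * omega χ z := by
  unfold omega
  rw [mul_div_assoc', Finset.mul_sum]
  congr 1
  refine Finset.sum_congr rfl fun g _ => ?_
  rw [coeff_smul_apply, smul_eq_mul, mul_assoc]

theorem omega_neg (χ : G → ℂ) (z : MonoidAlgebra ℂ G) : omega χ (-z) = -omega χ z := by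
  have := omega_smul χ (-1) z
  simpa using this

theorem omega_sub (χ : G → ℂ) (z w : MonoidAlgebra ℂ G) :
    omega χ (z - w) = omega χ z - omega χ w := by
  rw [sub_eq_add_neg, omega_add, omega_neg, sub_eq_add_neg]

theorem omega_sum {ι : Type*} (χ : G → ℂ) (s : Finset ι) (f : ι → MonoidAlgebra ℂ G) :
    omega χ (∑ i ∈ s, f i) = ∑ i ∈ s, omega χ (f i) := by
  classical
  induction s using Finset.induction_on with
  | empty => simp [omega_zero]
  | insert a s ha ih => rw [Finset.sum_insert ha, Finset.sum_insert ha, omega_add, ih]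

theorem omega_single (χ : G → ℂ) (g : G) (c : ℂ) :
    omega χ (single g c) = c * χ g / χ 1 := by
  classical
  unfold omega
  congr 1
  rw [Finset.sum_eq_single g]
  · simp
  · intro b _ hb
    simp [hb.symm]
  · intro h; exact absurd (Finset.mem_univ g) h

theorem omega_one (χ : G → ℂ) (h1 : χ 1 ≠ 0) : omega χ (1 : MonoidAlgebra ℂ G) = 1 := by
  rw [one_def, omega_single, one_mul, div_self h1]

/-! ### Multiplicativity on the centre -/

/-- The trace of the action of a group algebra element in a representation. -/
theorem trace_asAlgebraHom {n : ℕ} (ρ : Representation ℂ G (Fin n → ℂ))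
    (z : MonoidAlgebra ℂ G) :
    LinearMap.trace ℂ (Fin n → ℂ) (ρ.asAlgebraHom z) = ∑ g : G, z.coeff g * ρ.character g := by
  classical
  rw [Representation.asAlgebraHom_def, lift_apply, Finsupp.sum_fintype _ _ (by simp), map_sum]
  refine Finset.sum_congr rfl fun g _ => ?_
  rw [map_smul, smul_eq_mul]
  rfl

omit [Fintype G] in
theorem asAlgebraHom_comm_of_mem_center {n : ℕ} (ρ : Representation ℂ G (Fin n → ℂ))
    {z : MonoidAlgebra ℂ G} (hz : z ∈ Subalgebra.center ℂ (MonoidAlgebra ℂ G)) (g : G) :
    ρ.asAlgebraHom z ∘ₗ ρ g = ρ g ∘ₗ ρ.asAlgebraHom z := by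
  rw [← Representation.asAlgebraHom_single_one ρ g, ← Module.End.mul_eq_comp,
    ← Module.End.mul_eq_comp, ← map_mul, ← map_mul]
  congr 1
  exact ((Subalgebra.mem_center_iff.mp hz) (single g 1)).symm

/-- Schur: a central element acts in an irreducible representation as the scalar `omega χ z`. -/
theorem asAlgebraHom_eq_omega_smul {n : ℕ} (ρ : Representation ℂ G (Fin n → ℂ))
    [ρ.IsIrreducible] {z : MonoidAlgebra ℂ G}
    (hz : z ∈ Subalgebra.center ℂ (MonoidAlgebra ℂ G)) :
    ρ.asAlgebraHom z = omega ρ.character z • LinearMap.id := by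
  have h := Cfsg.Agent.Lib.Helper79.eq_smul_id_of_comm ρ (ρ.asAlgebraHom z)
    (asAlgebraHom_comm_of_mem_center ρ hz)
  rw [h, trace_asAlgebraHom]
  unfold omega
  rw [Representation.char_one]

theorem omega_mul_of_rep {n : ℕ} (ρ : Representation ℂ G (Fin n → ℂ))
    [ρ.IsIrreducible] {z : MonoidAlgebra ℂ G}
    (hz : z ∈ Subalgebra.center ℂ (MonoidAlgebra ℂ G))
    (w : MonoidAlgebra ℂ G) :
    omega ρ.character (z * w) = omega ρ.character z * omega ρ.character w := by
  have h1 : LinearMap.trace ℂ (Fin n → ℂ) (ρ.asAlgebraHom (z * w)) =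
      omega ρ.character z * LinearMap.trace ℂ (Fin n → ℂ) (ρ.asAlgebraHom w) := by
    rw [map_mul, asAlgebraHom_eq_omega_smul ρ hz, smul_mul_assoc, map_smul, smul_eq_mul]
    rfl
  rw [trace_asAlgebraHom, trace_asAlgebraHom] at h1
  unfold omega at h1 ⊢
  rw [h1]
  ring

/-- The central character of an irreducible character is multiplicative on central elements. -/
theorem omega_mul (χ : IrrCharacter G) {z : MonoidAlgebra ℂ G}
    (hz : z ∈ Subalgebra.center ℂ (MonoidAlgebra ℂ G)) (w : MonoidAlgebra ℂ G) :
    omega (χ : G → ℂ) (z * w) = omega (χ : G → ℂ) z * omega (χ : G → ℂ) w := by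
  obtain ⟨n, ρ, hirr, hχ⟩ := χ.2
  rw [← hχ]
  exact omega_mul_of_rep ρ hz w

theorem omega_one_irr (χ : IrrCharacter G) : omega (χ : G → ℂ) (1 : MonoidAlgebra ℂ G) = 1 :=
  omega_one _ (Cfsg.Agent.Lib.Helper79.irr_apply_one_ne_zero χ)

/-- The central character of an irreducible character `χ`, as an algebra homomorphism from the
centre of the group algebra to `ℂ`. -/
noncomputable def omegaHom (χ : IrrCharacter G) :
    Subalgebra.center ℂ (MonoidAlgebra ℂ G) →ₐ[ℂ] ℂ where
  toFun z := omega (χ : G → ℂ) (z : MonoidAlgebra ℂ G)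
  map_one' := omega_one_irr χ
  map_mul' z w := omega_mul χ z.2 w
  map_zero' := omega_zero _
  map_add' z w := omega_add _ _ _
  commutes' c := by
    show omega (χ : G → ℂ) (algebraMap ℂ (MonoidAlgebra ℂ G) c) = c
    rw [Algebra.algebraMap_eq_smul_one, omega_smul, omega_one_irr, mul_one]

theorem omegaHom_apply (χ : IrrCharacter G) (z : Subalgebra.center ℂ (MonoidAlgebra ℂ G)) :
    omegaHom χ z = omega (χ : G → ℂ) (z : MonoidAlgebra ℂ G) := rfl

/-! ### Central elements, class functions and class sums -/

omit [Fintype G] in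
/-- An element commuting with all group elements is central. -/
theorem mem_center_of_forall_single {z : MonoidAlgebra ℂ G}
    (h : ∀ g : G, single g (1 : ℂ) * z = z * single g 1) :
    z ∈ Subalgebra.center ℂ (MonoidAlgebra ℂ G) := by
  rw [Subalgebra.mem_center_iff]
  intro b
  induction b using MonoidAlgebra.induction_linear with
  | zero => simp
  | add x y hx hy => rw [add_mul, mul_add, hx, hy]
  | single g c =>
    have : single g c = c • single g (1 : ℂ) := by
      rw [smul_single, smul_eq_mul, mul_one]
    rw [this, smul_mul_assoc, mul_smul_comm, h g]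

omit [Fintype G] in
/-- The coefficient function of a central element is a class function. -/
theorem coeff_conj_of_mem_center {z : MonoidAlgebra ℂ G}
    (hz : z ∈ Subalgebra.center ℂ (MonoidAlgebra ℂ G)) (g h : G) :
    z.coeff (h * g * h⁻¹) = z.coeff g := by
  have h1 := (Subalgebra.mem_center_iff.mp hz) (single h 1)
  have h2 : (single h (1 : ℂ) * z).coeff (h * g) = z.coeff g := by
    rw [coeff_single_mul_mul, one_mul]
  have h3 : (z * single h (1 : ℂ)).coeff (h * g * h⁻¹ * h) = z.coeff (h * g * h⁻¹) := by
    rw [coeff_mul_single_mul, mul_one]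
  rw [← h3, ← h1, inv_mul_cancel_right, h2]

omit [Fintype G] in
/-- An element whose coefficient function is a class function is central. -/
theorem mem_center_of_coeff_conj {z : MonoidAlgebra ℂ G}
    (hz : ∀ g h : G, z.coeff (h * g * h⁻¹) = z.coeff g) :
    z ∈ Subalgebra.center ℂ (MonoidAlgebra ℂ G) := by
  apply mem_center_of_forall_single
  intro h
  ext x
  have h2 : (single h (1 : ℂ) * z).coeff (h * (h⁻¹ * x)) = z.coeff (h⁻¹ * x) := by
    rw [coeff_single_mul_mul, one_mul]
  have h3 : (z * single h (1 : ℂ)).coeff (x * h⁻¹ * h) = z.coeff (x * h⁻¹) := by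
    rw [coeff_mul_single_mul, mul_one]
  rw [mul_inv_cancel_left] at h2
  rw [inv_mul_cancel_right] at h3
  rw [h2, h3, ← hz (h⁻¹ * x) h]
  congr 1
  group

/-- The class sum of `g` in the group algebra. -/
noncomputable def classSum (g : G) : MonoidAlgebra ℂ G :=
  ∑ y ∈ Cfsg.Agent.Lib.Helper79.conjFinset g, single y 1

theorem coeff_classSum (g x : G) [Decidable (IsConj g x)] :
    (classSum g).coeff x = if IsConj g x then 1 else 0 := by
  classical
  unfold classSum
  rw [coeff_sum, Finsupp.finsetSum_apply]
  simp only [coeff_single, Finsupp.single_apply]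
  rw [Finset.sum_ite_eq' (Cfsg.Agent.Lib.Helper79.conjFinset g) x]
  simp only [Cfsg.Agent.Lib.Helper79.mem_conjFinset]

theorem classSum_mem_center (g : G) :
    classSum g ∈ Subalgebra.center ℂ (MonoidAlgebra ℂ G) := by
  classical
  apply mem_center_of_coeff_conj
  intro x h
  rw [coeff_classSum, coeff_classSum]
  have : IsConj g (h * x * h⁻¹) ↔ IsConj g x := by
    constructor
    · intro h1
      exact h1.trans (isConj_iff.mpr ⟨h⁻¹, by group⟩)
    · intro h1
      exact h1.trans (isConj_iff.mpr ⟨h, rfl⟩)
  simp only [this]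

/-- The central character on a class sum, for a class function `χ`. -/
theorem omega_classSum (χ : G → ℂ) (hχ : ∀ g h : G, χ (h * g * h⁻¹) = χ g) (g : G) :
    omega χ (classSum g) = centralChar χ g := by
  classical
  unfold classSum
  rw [omega_sum]
  simp only [omega_single, one_mul]
  have : ∀ y ∈ Cfsg.Agent.Lib.Helper79.conjFinset g, χ y / χ 1 = χ g / χ 1 := by
    intro y hy
    rw [Cfsg.Agent.Lib.Helper79.mem_conjFinset, isConj_iff] at hy
    obtain ⟨c, rfl⟩ := hy
    rw [hχ]
  rw [Finset.sum_congr rfl this, Finset.sum_const, Cfsg.Agent.Lib.Helper79.card_conjFinset,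
    nsmul_eq_mul]
  unfold centralChar
  ring

omit [Fintype G] in
theorem irr_conj (χ : IrrCharacter G) (g h : G) :
    (χ : G → ℂ) (h * g * h⁻¹) = (χ : G → ℂ) g := by
  obtain ⟨n, ρ, _, hχ⟩ := χ.2
  rw [← hχ]
  exact ρ.char_conj g h

theorem omega_classSum_irr (χ : IrrCharacter G) (g : G) :
    omega (χ : G → ℂ) (classSum g) = centralChar (χ : G → ℂ) g :=
  omega_classSum _ (irr_conj χ) g

/-! ### Grouping a sum over the group by conjugacy classes -/

omit [Fintype G] in
/-- A chosen representative of a conjugacy class. -/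
noncomputable def classRep (c : ConjClasses G) : G := Classical.choose c.exists_rep

omit [Fintype G] in
theorem mk_classRep (c : ConjClasses G) : ConjClasses.mk (classRep c) = c :=
  Classical.choose_spec c.exists_rep

omit [Fintype G] in
theorem isConj_classRep_mk (g : G) : IsConj (classRep (ConjClasses.mk g)) g :=
  ConjClasses.mk_eq_mk_iff_isConj.mp (mk_classRep _)

open scoped Classical in
/-- The sum of a class function over the group, grouped by conjugacy classes. -/
theorem sum_eq_sum_classes (F : G → ℂ) (hF : ∀ g h : G, F (h * g * h⁻¹) = F g) :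
    ∑ g : G, F g = ∑ c : ConjClasses G,
      ((Subgroup.centralizer ({classRep c} : Set G)).index : ℂ) * F (classRep c) := by
  rw [← Finset.sum_fiberwise Finset.univ (ConjClasses.mk : G → ConjClasses G) F]
  refine Finset.sum_congr rfl fun c _ => ?_
  have hfil : (Finset.univ.filter fun g : G => ConjClasses.mk g = c) =
      Cfsg.Agent.Lib.Helper79.conjFinset (classRep c) := by
    ext g
    rw [Cfsg.Agent.Lib.Helper79.mem_conjFinset]
    simp only [Finset.mem_filter, Finset.mem_univ, true_and]
    conv_lhs => rw [← mk_classRep c]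
    rw [ConjClasses.mk_eq_mk_iff_isConj, isConj_comm]
  rw [hfil]
  have : ∀ y ∈ Cfsg.Agent.Lib.Helper79.conjFinset (classRep c), F y = F (classRep c) := by
    intro y hy
    rw [Cfsg.Agent.Lib.Helper79.mem_conjFinset, isConj_iff] at hy
    obtain ⟨d, rfl⟩ := hy
    rw [hF]
  rw [Finset.sum_congr rfl this, Finset.sum_const, Cfsg.Agent.Lib.Helper79.card_conjFinset,
    nsmul_eq_mul]

open scoped Classical in
/-- The central character of a central element, as a combination of central character values. -/
theorem omega_eq_sum_classes (χ : G → ℂ) (hχ : ∀ g h : G, χ (h * g * h⁻¹) = χ g)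
    {z : MonoidAlgebra ℂ G} (hz : z ∈ Subalgebra.center ℂ (MonoidAlgebra ℂ G)) :
    omega χ z = ∑ c : ConjClasses G, z.coeff (classRep c) * centralChar χ (classRep c) := by
  unfold omega
  rw [sum_eq_sum_classes (fun g => z.coeff g * χ g)
    (fun g h => by simp only [coeff_conj_of_mem_center hz, hχ]), Finset.sum_div]
  refine Finset.sum_congr rfl fun c _ => ?_
  unfold centralChar
  ring

/-- A central element with coefficients in the local ring has its central characters (for
irreducible characters) in the local ring. -/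
theorem omega_memLocalRing {M : Ideal AlgInt} [hMp : M.IsPrime] (χ : IrrCharacter G)
    {z : MonoidAlgebra ℂ G} (hz : z ∈ Subalgebra.center ℂ (MonoidAlgebra ℂ G))
    (hzR : ∀ g : G, MemLocalRing M (z.coeff g)) : MemLocalRing M (omega (χ : G → ℂ) z) := by
  classical
  rw [omega_eq_sum_classes _ (irr_conj χ) hz]
  apply memLocalRing_sum
  intro c _
  exact memLocalRing_mul (hzR _)
    (memLocalRing_of_isIntegral hMp.ne_top (Cfsg.Agent.Lib.Helper79.isIntegral_centralChar χ _))

/-! ### The order of central elements with coefficients in the local ring -/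

theorem coeff_mul_eq_sum (z w : MonoidAlgebra ℂ G) (g : G) [DecidableEq G] :
    (z * w).coeff g =
      ∑ p ∈ (Finset.univ.filter fun p : G × G => p.1 * p.2 = g), z.coeff p.1 * w.coeff p.2 :=
  coeff_mul_antidiag z w g _ (by intro p; simp)

omit [Fintype G] in
theorem coeff_one_apply (g : G) [Decidable (g = 1)] :
    (1 : MonoidAlgebra ℂ G).coeff g = if g = 1 then 1 else 0 := by
  classical
  rw [one_def, coeff_single, Finsupp.single_apply]
  simp only [eq_comm]

omit [Fintype G] in
theorem coeff_algebraMap_apply (c : ℂ) (g : G) [Decidable (g = 1)] :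
    (algebraMap ℂ (MonoidAlgebra ℂ G) c).coeff g = if g = 1 then c else 0 := by
  classical
  rw [Algebra.algebraMap_eq_smul_one, coeff_smul_apply, coeff_one_apply]
  split_ifs <;> simp

/-- The subring of the centre of the group algebra consisting of the elements whose
coefficients lie in the local ring at `M`. -/
noncomputable def centerOrder (G : Type*) [Group G] [Fintype G] (M : Ideal AlgInt)
    [hMp : M.IsPrime] : Subring (Subalgebra.center ℂ (MonoidAlgebra ℂ G)) where
  carrier := {z | ∀ g : G, MemLocalRing M ((z : MonoidAlgebra ℂ G).coeff g)}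
  one_mem' g := by
    classical
    show MemLocalRing M ((1 : MonoidAlgebra ℂ G).coeff g)
    rw [coeff_one_apply]
    split_ifs
    · exact memLocalRing_one hMp.ne_top
    · exact memLocalRing_zero hMp.ne_top
  mul_mem' {z w} hz hw g := by
    classical
    show MemLocalRing M (((z : MonoidAlgebra ℂ G) * (w : MonoidAlgebra ℂ G)).coeff g)
    rw [coeff_mul_eq_sum]
    exact memLocalRing_sum _ _ fun p _ => memLocalRing_mul (hz _) (hw _)
  zero_mem' g := by
    show MemLocalRing M ((0 : MonoidAlgebra ℂ G).coeff g)
    simpa using memLocalRing_zero hMp.ne_top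
  add_mem' {z w} hz hw g := by
    show MemLocalRing M (((z : MonoidAlgebra ℂ G) + (w : MonoidAlgebra ℂ G)).coeff g)
    rw [coeff_add, Finsupp.add_apply]
    exact memLocalRing_add (hz g) (hw g)
  neg_mem' {z} hz g := by
    show MemLocalRing M ((-(z : MonoidAlgebra ℂ G)).coeff g)
    rw [coeff_neg, Finsupp.neg_apply]
    exact memLocalRing_neg (hz g)

variable {M : Ideal AlgInt} [hMp : M.IsPrime]

theorem mem_centerOrder {z : Subalgebra.center ℂ (MonoidAlgebra ℂ G)} :
    z ∈ centerOrder G M ↔ ∀ g : G, MemLocalRing M ((z : MonoidAlgebra ℂ G).coeff g) := Iff.rfl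

theorem algebraMap_mem_centerOrder {c : ℂ} (hc : MemLocalRing M c) :
    algebraMap ℂ (Subalgebra.center ℂ (MonoidAlgebra ℂ G)) c ∈ centerOrder G M := by
  classical
  intro g
  show MemLocalRing M ((algebraMap ℂ (MonoidAlgebra ℂ G) c).coeff g)
  rw [coeff_algebraMap_apply]
  split_ifs
  · exact hc
  · exact memLocalRing_zero hMp.ne_top

/-- The class sum as an element of the centre. -/
noncomputable def classSumC (g : G) : Subalgebra.center ℂ (MonoidAlgebra ℂ G) :=
  ⟨classSum g, classSum_mem_center g⟩

theorem classSumC_mem_centerOrder (g : G) : classSumC g ∈ centerOrder G M := by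
  classical
  intro x
  show MemLocalRing M ((classSum g).coeff x)
  rw [coeff_classSum]
  split_ifs
  · exact memLocalRing_one hMp.ne_top
  · exact memLocalRing_zero hMp.ne_top

theorem omegaHom_classSumC (χ : IrrCharacter G) (g : G) :
    omegaHom χ (classSumC g) = centralChar (χ : G → ℂ) g :=
  omega_classSum_irr χ g

theorem omegaHom_memLocalRing (χ : IrrCharacter G)
    {z : Subalgebra.center ℂ (MonoidAlgebra ℂ G)} (hz : z ∈ centerOrder G M) :
    MemLocalRing M (omegaHom χ z) :=
  omega_memLocalRing χ z.2 hz

end Cfsg.Agent.Lib.Helper16
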