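import Mathlib
import Cfsg.Agent.Lib.Helper16.PFNineNB
import Cfsg.Agent.Lib.Helper59.PFNineG3a
import Cfsg.Agent.Lib.Helper62.PFNineG3b

/-!
# Peterfalvi (9.8)(c): module [NC] `axis_exists_irreducible` (helper16)

In the non-Galois case, `S(H₀C)` contains an irreducible member of degree `q u` induced from a
linear character of `HC`.

Construction: let `lam` be a `W₁`-invariant linear character of `A = HC` (trivial on `H₀C`,
nontrivial on `H`), `v₀ ∈ H₁` outside the join `X'` of the other axes, and `ν` a linear character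
of `A` trivial on `X'C` with `ν v₀ ≠ 1`.  For a suitable `t`, `μ = lam ν ^ t` equals `lam` on the
other axes and `lam⁻¹` on `H₁`.  It has full support, so `θ' = Ind_A^K μ` is irreducible of degree
`u`; if `θ'` were `W₁`-invariant, some `U`-conjugate of `μ` would be `W₁`-invariant, and an
element of `U` (of odd order) would invert `v₀` modulo `H₀`.
-/

set_option autoImplicit false

namespace Cfsg.Agent.Lib.Helper16.PFNineNC

open Cfsg Cfsg.Agent.Lib.Helper58.PF9 Cfsg.Agent.Lib.Helper16.PFNineNB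

universe u

section GroupTheory

variable {L : Type u} [Group L] {K H U W₁ W₂ H₀ : Subgroup L} {p q : ℕ}

/-- `H₀C` is normal in `L` -/
theorem sup_H₀_coreC_normal (c : Ctx K H U W₁ W₂ H₀ p q) : (H₀ ⊔ coreC U H H₀).Normal := by
  have hH := c.H_normal
  have hH₀ := c.H₀_normal
  constructor
  intro n hn g
  rw [← SetLike.mem_coe, Subgroup.normal_mul] at hn
  obtain ⟨h, hh, x, hx, rfl⟩ := Set.mem_mul.mp hn
  obtain ⟨h', hh', y, hy, w, hw, rfl⟩ := exists_decomp c g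
  have hyw : y * w ∈ Subgroup.normalizer (U : Set L) :=
    Subgroup.mul_mem _ (Subgroup.le_normalizer hy) (c.W₁_norm_U hw)
  have h2 := conj_mem_coreC hyw hx
  set x' := y * w * x * (y * w)⁻¹ with hx'
  have h3 : x' * h' * x'⁻¹ * h'⁻¹ ∈ H₀ := (mem_coreC_of_normal.mp h2).2 h' hh'
  have h1 : h' * y * w * (h * x) * (h' * y * w)⁻¹ =
      (h' * y * w * h * (h' * y * w)⁻¹) * (x' * h' * x'⁻¹ * h'⁻¹)⁻¹ * x' := by
    rw [hx']; group
  rw [h1]
  exact Subgroup.mul_mem _ (Subgroup.mul_mem _ (Subgroup.mem_sup_left (hH₀.conj_mem h hh _))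
    (Subgroup.mem_sup_left (H₀.inv_mem h3))) (Subgroup.mem_sup_right h2)

theorem sup_H₀_coreC_le (c : Ctx K H U W₁ W₂ H₀ p q) : H₀ ⊔ coreC U H H₀ ≤ K :=
  le_trans (sup_le_sup_right c.H₀_le _) (sup_coreC_le c)

/-- `H₀C ∩ H = H₀` -/
theorem sup_H₀_coreC_inf (c : Ctx K H U W₁ W₂ H₀ p q) : (H₀ ⊔ coreC U H H₀) ⊓ H = H₀ := by
  have hH₀ := c.H₀_normal
  apply le_antisymm
  · intro x hx
    have hx1 : x ∈ H₀ ⊔ coreC U H H₀ := hx.1
    have hx2 : x ∈ H := hx.2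
    rw [← SetLike.mem_coe, Subgroup.normal_mul] at hx1
    obtain ⟨h, hh, y, hy, rfl⟩ := Set.mem_mul.mp hx1
    have hyH : y ∈ H := by
      have := H.mul_mem (H.inv_mem (c.H₀_le hh)) hx2
      simpa using this
    have hy1 : y ∈ H ⊓ U := ⟨hyH, coreC_le U H H₀ hy⟩
    rw [c.HU_inf, Subgroup.mem_bot] at hy1
    rw [hy1, mul_one]
    exact hh
  · exact le_inf le_sup_left c.H₀_le

/-- commutators of elements of `HC` lie in `H₀C` -/
theorem comm_mem_sup_H₀_coreC (c : Ctx K H U W₁ W₂ H₀ p q) {a b : L}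
    (ha : a ∈ H ⊔ coreC U H H₀) (hb : b ∈ H ⊔ coreC U H H₀) :
    a * b * a⁻¹ * b⁻¹ ∈ H₀ ⊔ coreC U H H₀ := by
  have hH := c.H_normal
  haveI hM := sup_H₀_coreC_normal c
  rw [← SetLike.mem_coe, Subgroup.normal_mul] at ha hb
  obtain ⟨h₁, hh₁, c₁, hc₁, rfl⟩ := Set.mem_mul.mp ha
  obtain ⟨h₂, hh₂, c₂, hc₂, rfl⟩ := Set.mem_mul.mp hb
  rw [← QuotientGroup.eq_one_iff]
  have e1 : ((c₁ : L) : L ⧸ (H₀ ⊔ coreC U H H₀)) = 1 :=
    (QuotientGroup.eq_one_iff _).mpr (Subgroup.mem_sup_right hc₁)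
  have e2 : ((c₂ : L) : L ⧸ (H₀ ⊔ coreC U H H₀)) = 1 :=
    (QuotientGroup.eq_one_iff _).mpr (Subgroup.mem_sup_right hc₂)
  have e3 : ((h₁ * h₂ * h₁⁻¹ * h₂⁻¹ : L) : L ⧸ (H₀ ⊔ coreC U H H₀)) = 1 := by
    rw [QuotientGroup.eq_one_iff]
    apply Subgroup.mem_sup_left
    apply c.comm_le
    rw [← commutatorElement_def]
    exact Subgroup.commutator_mem_commutator hh₁ hh₂
  simp only [QuotientGroup.mk_mul, QuotientGroup.mk_inv, e1, e2, mul_one] at e3 ⊢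
  exact e3

/-- a subgroup `B` between `H₀` and `H₁` of prime index is one of them -/
theorem le_or_le_of_relIndex_prime {H₀ H₁ B : Subgroup L} (hp : p.Prime)
    (hrel : H₀.relIndex H₁ = p) (h1 : H₀ ≤ B) (h2 : B ≤ H₁) : B ≤ H₀ ∨ H₁ ≤ B := by
  have h3 := Subgroup.relIndex_mul_relIndex H₀ B H₁ h1 h2
  rw [hrel] at h3
  rcases (Nat.dvd_prime hp).mp (Dvd.intro _ h3) with h4 | h4
  · exact Or.inl (Subgroup.relIndex_eq_one.mp h4)
  · right
    rw [h4] at h3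
    have h5 : B.relIndex H₁ = 1 := by
      have : p * B.relIndex H₁ = p * 1 := by rw [h3, mul_one]
      exact Nat.eq_of_mul_eq_mul_left hp.pos this
    exact Subgroup.relIndex_eq_one.mp h5

/-- `H` normalizes every subgroup of `H` containing `⁅H, H⁆` -/
theorem le_normalizer_of_commutator_le {H Y : Subgroup L} (hYH : Y ≤ H) (hcomm : ⁅H, H⁆ ≤ Y) :
    H ≤ Subgroup.normalizer (Y : Set L) := by
  have key : ∀ h ∈ H, ∀ y ∈ Y, h * y * h⁻¹ ∈ Y := by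
    intro h hh y hy
    have h1 : h * y * h⁻¹ * y⁻¹ ∈ Y := by
      apply hcomm
      rw [← commutatorElement_def]
      exact Subgroup.commutator_mem_commutator hh (hYH hy)
    have h2 : h * y * h⁻¹ = (h * y * h⁻¹ * y⁻¹) * y := by group
    rw [h2]
    exact Y.mul_mem h1 hy
  intro h hh
  rw [Subgroup.mem_normalizer_iff]
  intro y
  constructor
  · exact key h hh y
  · intro hy
    have := key h⁻¹ (H.inv_mem hh) _ hy
    have e : h⁻¹ * (h * y * h⁻¹) * h⁻¹⁻¹ = y := by group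
    rwa [e] at this

/-- the axis `w H₁ w⁻¹` -/
abbrev axis (H₁ : Subgroup L) (w : L) : Subgroup L := H₁.map (MulAut.conj w).toMonoidHom

theorem mem_axis {H₁ : Subgroup L} {w g : L} : g ∈ axis H₁ w ↔ ∃ h ∈ H₁, w * h * w⁻¹ = g := by
  rw [Subgroup.mem_map]
  rfl

theorem axis_one (H₁ : Subgroup L) : axis H₁ 1 = H₁ := by
  ext g
  rw [mem_axis]
  constructor
  · rintro ⟨h, hh, rfl⟩
    simpa using hh
  · intro hg
    exact ⟨g, hg, by simp⟩

theorem le_axis [hH₀ : H₀.Normal] {H₁ : Subgroup L} (h : H₀ ≤ H₁) (w : L) : H₀ ≤ axis H₁ w := by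
  intro x hx
  rw [mem_axis]
  refine ⟨w⁻¹ * x * w, h ?_, by group⟩
  have := hH₀.conj_mem x hx w⁻¹
  simpa using this

theorem axis_le [hH : H.Normal] {H₁ : Subgroup L} (h : H₁ ≤ H) (w : L) : axis H₁ w ≤ H := by
  intro g hg
  obtain ⟨x, hx, rfl⟩ := mem_axis.mp hg
  exact hH.conj_mem x (h hx) w

theorem relIndex_axis [hH₀ : H₀.Normal] (H₁ : Subgroup L) (w : L) :
    H₀.relIndex (axis H₁ w) = H₀.relIndex H₁ := by
  have h1 : H₀.map (MulAut.conj w).toMonoidHom = H₀ := by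
    ext g
    rw [Subgroup.mem_map]
    constructor
    · rintro ⟨x, hx, rfl⟩
      exact hH₀.conj_mem x hx w
    · intro hg
      refine ⟨w⁻¹ * g * w, ?_, ?_⟩
      · have := hH₀.conj_mem g hg w⁻¹
        simpa using this
      · show w * (w⁻¹ * g * w) * w⁻¹ = g
        group
  have h2 := Subgroup.relIndex_map_map_of_injective H₀ H₁
    (f := (MulAut.conj w).toMonoidHom) (MulAut.conj w).injective
  rw [h1] at h2
  exact h2

/-- `U` normalizes every axis -/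
theorem U_le_normalizer_axis (c : Ctx K H U W₁ W₂ H₀ p q) {H₁ : Subgroup L}
    (hA : IsAxis H U W₁ H₀ H₁ p) {w : L} (hw : w ∈ W₁) {x : L} (hx : x ∈ U) {g : L}
    (hg : g ∈ axis H₁ w) : x * g * x⁻¹ ∈ axis H₁ w := by
  obtain ⟨h, hh, rfl⟩ := mem_axis.mp hg
  have hx'U : w⁻¹ * x * w ∈ U := by
    have := (Subgroup.mem_normalizer_iff.mp (c.W₁_norm_U (W₁.inv_mem hw)) x).mp hx
    simpa using this
  have hd1 : (w⁻¹ * x * w) * h * (w⁻¹ * x * w)⁻¹ ∈ H₁ :=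
    (Subgroup.mem_normalizer_iff.mp (hA.U_norm hx'U) h).mp hh
  rw [mem_axis]
  exact ⟨_, hd1, by group⟩

/-- the join of `H₀` and the axes indexed by a finite subset of `W₁` -/
def Yax (H₀ H₁ W₁ : Subgroup L) (J : Finset ↥W₁) : Subgroup L :=
  H₀ ⊔ ⨆ w ∈ J, axis H₁ (w : L)

theorem le_Yax (H₀ H₁ W₁ : Subgroup L) (J : Finset ↥W₁) : H₀ ≤ Yax H₀ H₁ W₁ J := le_sup_left

theorem axis_le_Yax (H₀ H₁ W₁ : Subgroup L) {J : Finset ↥W₁} {w : ↥W₁} (hw : w ∈ J) :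
    axis H₁ (w : L) ≤ Yax H₀ H₁ W₁ J :=
  le_trans (le_iSup₂ (f := fun (w : ↥W₁) (_ : w ∈ J) => axis H₁ (w : L)) w hw) le_sup_right

theorem Yax_le (c : Ctx K H U W₁ W₂ H₀ p q) {H₁ : Subgroup L}
    (hA : IsAxis H U W₁ H₀ H₁ p) (J : Finset ↥W₁) : Yax H₀ H₁ W₁ J ≤ H := by
  have hH := c.H_normal
  apply sup_le c.H₀_le
  apply iSup₂_le
  intro w _
  exact axis_le hA.le_H _

theorem Yax_insert [DecidableEq ↥W₁] (H₀ H₁ : Subgroup L) (J : Finset ↥W₁) (w : ↥W₁) :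
    Yax H₀ H₁ W₁ (insert w J) = axis H₁ (w : L) ⊔ Yax H₀ H₁ W₁ J := by
  unfold Yax
  rw [Finset.iSup_insert, sup_left_comm]

/-- the index of `H₀` in a join of `k` axes divides `p ^ k` -/
theorem relIndex_Yax_dvd [Finite L] (c : Ctx K H U W₁ W₂ H₀ p q) {H₁ : Subgroup L}
    (hA : IsAxis H U W₁ H₀ H₁ p) (J : Finset ↥W₁) :
    H₀.relIndex (Yax H₀ H₁ W₁ J) ∣ p ^ J.card := by
  classical
  have hH := c.H_normal
  have hH₀ := c.H₀_normal
  induction J using Finset.induction_on with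
  | empty =>
    have h0 : Yax H₀ H₁ W₁ ∅ = H₀ := by
      unfold Yax
      simp
    rw [h0, Subgroup.relIndex_self]
    simp
  | insert w J hw ih =>
    rw [Yax_insert, Finset.card_insert_of_notMem hw, pow_succ]
    set Y := Yax H₀ H₁ W₁ J with hY
    have hYH : Y ≤ H := Yax_le c hA J
    have hH₀Y : H₀ ≤ Y := le_Yax H₀ H₁ W₁ J
    have hnorm : axis H₁ (w : L) ≤ Subgroup.normalizer (Y : Set L) :=
      le_trans (axis_le hA.le_H _)
        (le_normalizer_of_commutator_le hYH (le_trans c.comm_le hH₀Y))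
    have h1 := Subgroup.relIndex_mul_relIndex H₀ Y (axis H₁ (w : L) ⊔ Y) hH₀Y le_sup_right
    have h2 := Cfsg.Agent.Lib.Helper54.relIndex_sup_of_le_normalizer hnorm
    have h3 : Y.relIndex (axis H₁ (w : L)) ∣ H₀.relIndex (axis H₁ (w : L)) :=
      Subgroup.relIndex_dvd_of_le_left _ hH₀Y
    rw [relIndex_axis (H₀ := H₀) H₁ (w : L), hA.relIndex] at h3
    rw [← h1, h2]
    exact Nat.mul_dvd_mul ih h3

/-- **directness**: some element of `H₁` lies outside the join of the other axes -/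
theorem exists_mem_not_mem_Yax [Finite L] (c : Ctx K H U W₁ W₂ H₀ p q) {H₁ : Subgroup L}
    (hA : IsAxis H U W₁ H₀ H₁ p) [Fintype ↥W₁] [DecidableEq ↥W₁] :
    ∃ v ∈ H₁, v ∉ Yax H₀ H₁ W₁ (Finset.univ.erase 1) := by
  have hH := c.H_normal
  by_contra hcon
  push Not at hcon
  set X' := Yax H₀ H₁ W₁ (Finset.univ.erase 1) with hX'
  have h1 : H ≤ X' := by
    rw [← hA.iSup_eq]
    apply iSup_le
    intro w
    by_cases hw : w = 1
    · rw [hw]
      have : axis H₁ ((1 : ↥W₁) : L) = H₁ := axis_one H₁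
      exact le_trans this.le hcon
    · exact axis_le_Yax H₀ H₁ W₁ (Finset.mem_erase.mpr ⟨hw, Finset.mem_univ w⟩)
  have h2 : X' = H := le_antisymm (Yax_le c hA _) h1
  have h3 := relIndex_Yax_dvd c hA (Finset.univ.erase (1 : ↥W₁))
  rw [← hX', h2, c.relIndex_H₀, Finset.card_erase_of_mem (Finset.mem_univ _), Finset.card_univ,
    ← Nat.card_eq_fintype_card, c.card_W₁] at h3
  have hq := c.q_prime.pos
  have h4 := (Nat.pow_dvd_pow_iff_le_right c.p_prime.one_lt).mp h3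
  omega

/-- stabilizer step, axis form: if `Λ` meets every axis in `H₀` and `x ∈ U` acts trivially on
`H/Λ`, then `x` centralizes `H/H₀`. -/
theorem mem_coreC_of_axes (c : Ctx K H U W₁ W₂ H₀ p q) {H₁ : Subgroup L}
    (hA : IsAxis H U W₁ H₀ H₁ p) (Λ : Subgroup L)
    (hΛax : ∀ w : ↥W₁, axis H₁ (w : L) ⊓ Λ ≤ H₀) {x : L} (hx : x ∈ U)
    (hxΛ : ∀ h ∈ H, x * h * x⁻¹ * h⁻¹ ∈ Λ) : x ∈ coreC U H H₀ := by
  have hH := c.H_normal
  have hH₀ := c.H₀_normal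
  have hall : H ≤ centMod H₀ x := by
    rw [← hA.iSup_eq]
    apply iSup_le
    intro w g hg
    rw [mem_centMod]
    have hg' : g ∈ axis H₁ (w : L) := hg
    have h1 : x * g * x⁻¹ ∈ axis H₁ (w : L) := U_le_normalizer_axis c hA w.2 hx hg'
    have h2 : x * g * x⁻¹ * g⁻¹ ∈ axis H₁ (w : L) :=
      Subgroup.mul_mem _ h1 (Subgroup.inv_mem _ hg')
    exact hΛax w ⟨h2, hxΛ g (axis_le hA.le_H _ hg')⟩
  rw [mem_coreC_of_normal]
  exact ⟨hx, fun h hh => mem_centMod.mp (hall hh)⟩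

/-- a proper `W₁`-invariant `Λ ≥ H₀` meets every axis in `H₀` -/
theorem axis_inf_le_of_W1_inv (c : Ctx K H U W₁ W₂ H₀ p q) {H₁ : Subgroup L}
    (hA : IsAxis H U W₁ H₀ H₁ p) (Λ : Subgroup L) (hΛ₀ : H₀ ≤ Λ)
    (hΛW : ∀ w ∈ W₁, ∀ h ∈ Λ, w * h * w⁻¹ ∈ Λ) (hΛH : ¬ H ≤ Λ) (w : ↥W₁) :
    axis H₁ (w : L) ⊓ Λ ≤ H₀ := by
  have hH₀ := c.H₀_normal
  have hB : H₁ ⊓ Λ ≤ H₀ := by
    rcases le_or_le_of_relIndex_prime c.p_prime hA.relIndex (le_inf hA.H₀_le hΛ₀)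
      (inf_le_left : H₁ ⊓ Λ ≤ H₁) with h | h
    · exact h
    · exfalso
      apply hΛH
      rw [← hA.iSup_eq]
      apply iSup_le
      rintro w' g ⟨h', hh', rfl⟩
      exact hΛW w' w'.2 h' (h hh').2
  intro g hg
  obtain ⟨h, hh, rfl⟩ := mem_axis.mp hg.1
  have h1 := hΛW _ (W₁.inv_mem w.2) _ hg.2
  have e : (w : L)⁻¹ * ((w : L) * h * (w : L)⁻¹) * (w : L)⁻¹⁻¹ = h := by group
  rw [e] at h1
  exact hH₀.conj_mem h (hB ⟨hh, h1⟩) _

/-- an element of odd order cannot invert a nontrivial element of odd prime-power order -/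
theorem mul_self_eq_one_of_inverted {Q : Type*} [Group Q] {a b : Q} (h : b * a * b⁻¹ = a⁻¹)
    {n : ℕ} (hn : Odd n) (hb : b ^ n = 1) : a * a = 1 := by
  have h1 : SemiconjBy b a a⁻¹ := by
    unfold SemiconjBy
    rw [← h]
    group
  have h2 : SemiconjBy b a⁻¹ a := by
    have := h1.inv_right
    rwa [inv_inv] at this
  have h3 : Commute (b * b) a := h2.mul_left h1
  obtain ⟨m, rfl⟩ := hn
  have h4 : Commute ((b * b) ^ m) a := h3.pow_left m
  have h5 : b = ((b * b) ^ m)⁻¹ := by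
    rw [eq_inv_iff_mul_eq_one, ← hb, pow_succ, pow_mul, pow_two]
    exact ((Commute.refl b).mul_right (Commute.refl b) |>.pow_right m).eq
  have h6 : Commute b a := by
    rw [h5]
    exact h4.inv_left
  have h7 : b * a * b⁻¹ = a := by
    rw [h6.eq, mul_inv_cancel_right]
  rw [h7] at h
  calc a * a = a * a⁻¹ := by rw [← h]
    _ = 1 := mul_inv_cancel a

end GroupTheory

section Characters

open Cfsg.Agent.Lib.Helper75 Cfsg.Agent.Lib.Helper78
open scoped commutatorElement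

variable {L : Type u} [Group L] {K H U W₁ W₂ H₀ : Subgroup L} {p q : ℕ}

/-- the kernel of a linear character of `A`, as a subgroup of `L` -/
def kerL {A : Subgroup L} (f : ↥A →* ℂˣ) : Subgroup L := f.ker.map A.subtype

theorem mem_kerL {A : Subgroup L} (f : ↥A →* ℂˣ) (a : ↥A) : (a : L) ∈ kerL f ↔ f a = 1 := by
  unfold kerL
  rw [Subgroup.mem_map]
  constructor
  · rintro ⟨b, hb, hba⟩
    have hba' : b = a := Subtype.ext hba
    rw [← hba']
    exact MonoidHom.mem_ker.mp hb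
  · intro h
    exact ⟨a, MonoidHom.mem_ker.mpr h, rfl⟩

theorem kerL_le {A : Subgroup L} (f : ↥A →* ℂˣ) : kerL f ≤ A := by
  rintro _ ⟨b, -, rfl⟩
  exact b.2

/-- the function `↥A → ℂ` of a linear character -/
def homFun {A : Subgroup L} (f : ↥A →* ℂˣ) : ↥A → ℂ := fun a => ((f a : ℂˣ) : ℂ)

theorem homFun_apply {A : Subgroup L} (f : ↥A →* ℂˣ) (a : ↥A) :
    homFun f a = ((f a : ℂˣ) : ℂ) := rfl

theorem homFun_one {A : Subgroup L} (f : ↥A →* ℂˣ) : homFun f 1 = 1 := by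
  rw [homFun_apply, map_one]
  rfl

theorem isIrrCharacter_homFun {A : Subgroup L} (f : ↥A →* ℂˣ) : IsIrrCharacter ↥A (homFun f) :=
  Cfsg.Agent.Lib.Helper77.isIrrCharacter_of_monoidHom f

variable [Fintype L]

/-- a `W₁`-invariant linear character of `HC`, trivial on `H₀C` and nontrivial on `H` -/
theorem exists_W1_inv_linear (c : Ctx K H U W₁ W₂ H₀ p q) :
    ∃ ψ : ↥(H ⊔ coreC U H H₀) →* ℂˣ,
      (∀ a : ↥(H ⊔ coreC U H H₀), (a : L) ∈ H₀ ⊔ coreC U H H₀ → ψ a = 1) ∧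
      (∀ w ∈ W₁, letI := sup_coreC_normal c
        Helper75.conjFun (H ⊔ coreC U H H₀) w (homFun ψ) = homFun ψ) ∧
      ¬ H ≤ kerL ψ := by
  classical
  have hAn : (H ⊔ coreC U H H₀).Normal := sup_coreC_normal c
  have hAK : H ⊔ coreC U H H₀ ≤ K := sup_coreC_le c
  have hKn : K.Normal := c.K_normal
  have hHn : H.Normal := c.H_normal
  have hH₀n : H₀.Normal := c.H₀_normal
  -- a `W₁`-invariant member of `X(H₀C)`
  have hcount := Cfsg.Agent.Lib.Helper62.PF9G3.ncard_W1Inv_Xset c (H₀ ⊔ coreC U H H₀)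
    (sup_H₀_coreC_normal c) (sup_H₀_coreC_le c) (sup_H₀_coreC_inf c)
  have hpos : 0 < p - 1 := by
    have := c.p_prime.two_le
    omega
  rw [← hcount] at hpos
  obtain ⟨θ, hθX, hinv⟩ := Set.nonempty_of_ncard_ne_zero hpos.ne'
  obtain ⟨hθirr, hθker, h₀, hh₀H, hh₀⟩ := hθX
  set A := H ⊔ coreC U H H₀ with hAdef
  letI : Fintype A := Fintype.ofFinite _
  letI : Fintype K := Fintype.ofFinite _
  have hθch : IsCharacter K θ := IsIrrCharacter.isCharacter hθirr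
  obtain ⟨lam, hlamS, hlamW⟩ := exists_W1_fixed_constituent c A hAK hθirr hinv
  set θA : A → ℂ := resNT A K hAK θ with hθA
  have hθAch : IsCharacter A θA := isCharacter_resNT A K hAK hθch
  have hlamch : IsCharacter A (lam : A → ℂ) := IsIrrCharacter.isCharacter lam.2
  have hkerA : ∀ a : A, (a : L) ∈ H₀ ⊔ coreC U H H₀ →
      (lam : A → ℂ) a = (lam : A → ℂ) 1 := by
    intro a ha
    apply Helper75.constituent_ker hθAch lam hlamS a
    exact hθker ⟨a, hAK a.2⟩ ha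
  obtain ⟨Kl, hKln, hKlmem, -, -⟩ := Cfsg.Agent.Lib.Helper77.exists_kernel hlamch
  have hKlM : ∀ a : A, (a : L) ∈ H₀ ⊔ coreC U H H₀ → a ∈ Kl :=
    fun a ha => (hKlmem a).mpr (hkerA a ha)
  have hcomm : ∀ a b : A ⧸ Kl, a * b = b * a := by
    intro a b
    induction a using QuotientGroup.induction_on with | H a => ?_
    induction b using QuotientGroup.induction_on with | H b => ?_
    rw [← QuotientGroup.mk_mul, ← QuotientGroup.mk_mul]
    apply QuotientGroup.eq.mpr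
    apply hKlM
    have h3 : (((a * b)⁻¹ * (b * a) : A) : L) =
        (b : L)⁻¹ * (a : L)⁻¹ * (b : L)⁻¹⁻¹ * (a : L)⁻¹⁻¹ := by
      push_cast
      group
    rw [h3]
    exact comm_mem_sup_H₀_coreC c (Subgroup.inv_mem _ b.2) (Subgroup.inv_mem _ a.2)
  have hdeg : charDegree (lam : A → ℂ) = 1 :=
    Cfsg.Agent.S4768.degree_eq_one_of_comm_image (QuotientGroup.mk' Kl)
      (QuotientGroup.mk'_surjective Kl) hcomm lam.2
      (fun k hk => (hKlmem k).mp ((QuotientGroup.eq_one_iff k).mp hk))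
  have hlam1 : (lam : A → ℂ) 1 = 1 := by
    rw [IsCharacter.apply_one_eq_charDegree hlamch, hdeg]
    simp
  obtain ⟨ψ, hψ⟩ := Cfsg.Agent.Lib.Helper77.exists_monoidHom_of_degree_one hlamch hlam1
  have hψf : homFun ψ = (lam : A → ℂ) := by
    funext a
    rw [homFun_apply, ← hψ a]
  refine ⟨ψ, ?_, ?_, ?_⟩
  · intro a ha
    apply Units.ext
    rw [← hψ a, hkerA a ha, hlam1]
    rfl
  · intro w hw
    rw [hψf]
    exact hlamW w hw
  · intro hle
    apply hh₀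
    have hsum := IsCharacter.eq_sum_irr hθAch
    have hΛmem : ∀ a : A, (a : L) ∈ kerL ψ → (lam : A → ℂ) a = 1 := by
      intro a ha
      rw [hψ a, (mem_kerL ψ a).mp ha]
      rfl
    have hval : ∀ φ : IrrCharacter A, classInner θA (φ : A → ℂ) ≠ 0 → ∀ h : A, (h : L) ∈ H →
        (φ : A → ℂ) h = (φ : A → ℂ) 1 := by
      intro φ hφ h hh
      obtain ⟨k, hk⟩ := clifford_conj_lift A K hAK hθirr lam.2 φ.2 hlamS hφ
      rw [← hk, conjFun_apply, conjFun_apply]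
      have e1 := hΛmem ⟨(k : L) * h * (k : L)⁻¹, hAn.conj_mem h h.2 k⟩
        (hle (hHn.conj_mem _ hh k))
      have e2 := hΛmem ⟨(k : L) * ((1 : A) : L) * (k : L)⁻¹, hAn.conj_mem _ (1 : A).2 k⟩
        (hle (hHn.conj_mem _ H.one_mem k))
      rw [e1, e2]
    have hh₀A : (h₀ : L) ∈ A := Subgroup.mem_sup_left hh₀H
    have hA0 : θA ⟨h₀, hh₀A⟩ = θA 1 := by
      have e := congrFun hsum ⟨h₀, hh₀A⟩
      have e' := congrFun hsum 1
      calc θA ⟨h₀, hh₀A⟩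
          = (∑ φ : IrrCharacter A, classInner θA (φ : A → ℂ) • (φ : A → ℂ)) ⟨h₀, hh₀A⟩ := e
        _ = (∑ φ : IrrCharacter A, classInner θA (φ : A → ℂ) • (φ : A → ℂ)) 1 := by
            simp only [Finset.sum_apply, Pi.smul_apply]
            apply Finset.sum_congr rfl
            intro φ _
            by_cases hφ : classInner θA (φ : A → ℂ) = 0
            · rw [hφ]; simp
            · rw [hval φ hφ ⟨h₀, hh₀A⟩ hh₀H]
        _ = θA 1 := e'.symm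
    exact hA0

/-- **the twisted character**: a linear character `μ` of `HC`, trivial on `H₀C`, equal to `ψ` on
the axes `w H₁ w⁻¹` (`w ≠ 1`) and to `ψ⁻¹` on `H₁`. -/
theorem exists_twist (c : Ctx K H U W₁ W₂ H₀ p q) {H₁ : Subgroup L}
    (hA : IsAxis H U W₁ H₀ H₁ p) {A : Subgroup L} (hAdef : A = H ⊔ coreC U H H₀)
    (ψ : ↥A →* ℂˣ)
    (hψM : ∀ a : ↥A, (a : L) ∈ H₀ ⊔ coreC U H H₀ → ψ a = 1) :
    ∃ μ : ↥A →* ℂˣ,
      (∀ a : ↥A, (a : L) ∈ H₀ ⊔ coreC U H H₀ → μ a = 1) ∧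
      (∀ w : ↥W₁, w ≠ 1 → ∀ a : ↥A, (a : L) ∈ axis H₁ (w : L) → μ a = ψ a) ∧
      (∀ a : ↥A, (a : L) ∈ H₁ → μ a = (ψ a)⁻¹) := by
  classical
  have hHn : H.Normal := c.H_normal
  have hH₀n : H₀.Normal := c.H₀_normal
  haveI hMn : (H₀ ⊔ coreC U H H₀).Normal := sup_H₀_coreC_normal c
  letI : Fintype ↥W₁ := Fintype.ofFinite _
  obtain ⟨v₀, hv₀, hv₀X'⟩ := exists_mem_not_mem_Yax c hA
  set X' := Yax H₀ H₁ W₁ (Finset.univ.erase 1) with hX'
  set M := H₀ ⊔ coreC U H H₀ with hM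
  have hX'H : X' ≤ H := Yax_le c hA _
  have hv₀H₀ : v₀ ∉ H₀ := fun h => hv₀X' (le_Yax H₀ H₁ W₁ _ h)
  have hHA : H ≤ A := by rw [hAdef]; exact le_sup_left
  have hv₀A : v₀ ∈ A := hHA (hA.le_H hv₀)
  set a₀ : ↥A := ⟨v₀, hv₀A⟩ with ha₀
  -- the quotient `A / (X' M ∩ A)`
  set N : Subgroup ↥A := (X' ⊔ M).subgroupOf A with hN
  have hcommN : ∀ a b : ↥A, a * b * a⁻¹ * b⁻¹ ∈ N := by
    intro a b
    rw [hN, Subgroup.mem_subgroupOf]
    have ha : (a : L) ∈ H ⊔ coreC U H H₀ := hAdef ▸ a.2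
    have hb : (b : L) ∈ H ⊔ coreC U H H₀ := hAdef ▸ b.2
    exact Subgroup.mem_sup_right (comm_mem_sup_H₀_coreC c ha hb)
  haveI hNn : N.Normal := by
    constructor
    intro n hn g
    have h1 := N.mul_mem (hcommN g n) hn
    have e : g * n * g⁻¹ * n⁻¹ * n = g * n * g⁻¹ := by group
    rwa [e] at h1
  letI instCG : CommGroup (↥A ⧸ N) :=
    { (inferInstance : Group (↥A ⧸ N)) with
      mul_comm := by
        intro x y
        induction x using QuotientGroup.induction_on with | H a => ?_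
        induction y using QuotientGroup.induction_on with | H b => ?_
        rw [← QuotientGroup.mk_mul, ← QuotientGroup.mk_mul]
        apply QuotientGroup.eq.mpr
        have h1 := hcommN b⁻¹ a⁻¹
        have e : (a * b)⁻¹ * (b * a) = b⁻¹ * a⁻¹ * b⁻¹⁻¹ * a⁻¹⁻¹ := by group
        rw [e]
        exact h1 }
  have hv₀N : (QuotientGroup.mk a₀ : ↥A ⧸ N) ≠ 1 := by
    intro h
    rw [QuotientGroup.eq_one_iff, hN, Subgroup.mem_subgroupOf] at h
    have h' : v₀ ∈ X' ⊔ M := h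
    rw [← SetLike.mem_coe, Subgroup.mul_normal] at h'
    obtain ⟨x', hx', m, hm, e⟩ := Set.mem_mul.mp h'
    have hmH : m ∈ H := by
      have e' : m = x'⁻¹ * v₀ := by rw [← e]; group
      rw [e']
      exact H.mul_mem (H.inv_mem (hX'H hx')) (hA.le_H hv₀)
    have hmH₀ : m ∈ H₀ := by
      rw [← sup_H₀_coreC_inf c]
      exact ⟨hm, hmH⟩
    apply hv₀X'
    rw [← e]
    exact X'.mul_mem hx' (le_Yax H₀ H₁ W₁ _ hmH₀)
  haveI hne : NeZero ((Monoid.exponent (↥A ⧸ N) : ℕ) : ℂ) :=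
    ⟨by exact_mod_cast Monoid.exponent_ne_zero_of_finite⟩
  obtain ⟨φ, hφ⟩ := CommGroup.exists_apply_ne_one_of_hasEnoughRootsOfUnity (↥A ⧸ N) ℂ hv₀N
  set ν : ↥A →* ℂˣ := φ.comp (QuotientGroup.mk' N) with hν
  have hν1 : ∀ a : ↥A, (a : L) ∈ X' ⊔ M → ν a = 1 := by
    intro a ha
    have h1 : (QuotientGroup.mk' N) a = 1 := by
      rw [QuotientGroup.mk'_apply, QuotientGroup.eq_one_iff, hN, Subgroup.mem_subgroupOf]
      exact ha
    rw [hν, MonoidHom.comp_apply, h1, map_one]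
  have hνa₀ : ν a₀ ≠ 1 := hφ
  -- `p`-th powers
  have hpow : ∀ f : ↥A →* ℂˣ, (∀ a : ↥A, (a : L) ∈ M → f a = 1) → (f a₀) ^ p = 1 := by
    intro f hf
    rw [← map_pow]
    apply hf
    have : ((a₀ ^ p : ↥A) : L) = v₀ ^ p := by
      rw [Subgroup.coe_pow]
    rw [this]
    exact Subgroup.mem_sup_left (c.pow_mem v₀ (hA.le_H hv₀))
  have hνM : ∀ a : ↥A, (a : L) ∈ M → ν a = 1 := fun a ha => hν1 a (Subgroup.mem_sup_right ha)
  haveI : NeZero p := ⟨c.p_prime.ne_zero⟩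
  have hprim : IsPrimitiveRoot ((ν a₀ : ℂˣ) : ℂ) p := by
    have h1 : orderOf (ν a₀) = p := by
      have hdvd := orderOf_dvd_of_pow_eq_one (hpow ν hνM)
      rcases (Nat.dvd_prime c.p_prime).mp hdvd with h | h
      · exact absurd (orderOf_eq_one_iff.mp h) hνa₀
      · exact h
    have h2 := IsPrimitiveRoot.orderOf (ν a₀)
    rw [h1] at h2
    exact IsPrimitiveRoot.coe_units_iff.mpr h2
  have hξ : ((((ψ a₀)⁻¹ ^ 2 : ℂˣ) : ℂˣ) : ℂ) ^ p = 1 := by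
    have h1 : ((ψ a₀)⁻¹ ^ 2 : ℂˣ) ^ p = 1 := by
      rw [← pow_mul, mul_comm, pow_mul, inv_pow, hpow ψ hψM]
      simp
    have h2 := congrArg (fun u : ℂˣ => (u : ℂ)) h1
    simpa using h2
  obtain ⟨t, -, ht⟩ := hprim.eq_pow_of_pow_eq_one hξ
  have ht' : (ν a₀) ^ t = (ψ a₀)⁻¹ ^ 2 := by
    apply Units.ext
    rw [← ht]
    simp
  refine ⟨ψ * ν ^ t, ?_, ?_, ?_⟩
  · intro a ha
    rw [MonoidHom.mul_apply, MonoidHom.pow_apply, hψM a ha, hνM a ha]
    simp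
  · intro w hw a ha
    have h1 : (a : L) ∈ X' ⊔ M := Subgroup.mem_sup_left
      (axis_le_Yax H₀ H₁ W₁ (Finset.mem_erase.mpr ⟨hw, Finset.mem_univ w⟩) ha)
    rw [MonoidHom.mul_apply, MonoidHom.pow_apply, hν1 a h1]
    simp
  · -- on `H₁`
    set f : ↥A →* ℂˣ := (ψ * ν ^ t) * ψ with hf
    have hfa₀ : f a₀ = 1 := by
      rw [hf, MonoidHom.mul_apply, MonoidHom.mul_apply, MonoidHom.pow_apply, ht']
      group
    have hfM : ∀ a : ↥A, (a : L) ∈ M → f a = 1 := by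
      intro a ha
      rw [hf, MonoidHom.mul_apply, MonoidHom.mul_apply, MonoidHom.pow_apply, hψM a ha, hνM a ha]
      simp
    have hB : H₁ ≤ H₁ ⊓ kerL f := by
      rcases le_or_le_of_relIndex_prime c.p_prime hA.relIndex
        (le_inf hA.H₀_le (fun x hx => by
          have hxA : x ∈ A := hHA (c.H₀_le hx)
          exact (mem_kerL f ⟨x, hxA⟩).mpr (hfM ⟨x, hxA⟩ (Subgroup.mem_sup_left hx))))
        (inf_le_left : H₁ ⊓ kerL f ≤ H₁) with h | h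
      · exfalso
        apply hv₀H₀
        exact h ⟨hv₀, (mem_kerL f a₀).mpr hfa₀⟩
      · exact h
    intro a ha
    have h1 : f a = 1 := (mem_kerL f a).mp (hB ha).2
    rw [hf, MonoidHom.mul_apply] at h1
    exact eq_inv_of_mul_eq_one_left h1

/-- **Peterfalvi (9.8)(c)**, module [NC]: in the non-Galois (axis) case, `S(H₀C)` contains an
irreducible member of degree `q u` induced from a linear character of `HC`. -/
theorem axis_exists_irreducible (c : Ctx K H U W₁ W₂ H₀ p q) {H₁ : Subgroup L}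
    (hA : IsAxis H U W₁ H₀ H₁ p) :
    ∃ φ ∈ Sbook K H (H₀ ⊔ coreC U H H₀), IsIrrCharacter L φ ∧
      φ 1 = ((q * (coreC U H H₀).relIndex U : ℕ) : ℂ) ∧ IsIndLinear (H ⊔ coreC U H H₀) φ := by
  classical
  have hAn : (H ⊔ coreC U H H₀).Normal := sup_coreC_normal c
  have hAK : H ⊔ coreC U H H₀ ≤ K := sup_coreC_le c
  have hKn : K.Normal := c.K_normal
  have hHn : H.Normal := c.H_normal
  have hH₀n : H₀.Normal := c.H₀_normal
  haveI hMn : (H₀ ⊔ coreC U H H₀).Normal := sup_H₀_coreC_normal c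
  have hrel := relIndex_sup_coreC c
  have hHA : H ≤ H ⊔ coreC U H H₀ := le_sup_left
  obtain ⟨ψ, hψM, hψW, hψH⟩ := exists_W1_inv_linear c
  obtain ⟨μ, hμM, hμax, hμH₁⟩ := exists_twist c hA rfl ψ hψM
  letI : Fintype ↥(H ⊔ coreC U H H₀) := Fintype.ofFinite _
  letI : Fintype K := Fintype.ofFinite _
  letI : Fintype ((H ⊔ coreC U H H₀).subgroupOf K) := Fintype.ofFinite _
  -- `Λ = ker ψ`
  have hΛ₀ : H₀ ≤ kerL ψ := by
    intro x hx
    have hxA : x ∈ H ⊔ coreC U H H₀ := hHA (c.H₀_le hx)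
    exact (mem_kerL ψ ⟨x, hxA⟩).mpr (hψM ⟨x, hxA⟩ (Subgroup.mem_sup_left hx))
  have hψconj : ∀ w ∈ W₁, ∀ (a : ↥(H ⊔ coreC U H H₀)) (ha' : w * (a : L) * w⁻¹ ∈ H ⊔ coreC U H H₀),
      ψ ⟨w * (a : L) * w⁻¹, ha'⟩ = ψ a := by
    intro w hw a ha'
    have h2 := congrFun (hψW w hw) a
    rw [conjFun_apply] at h2
    apply Units.ext
    exact h2
  have hΛW : ∀ w ∈ W₁, ∀ h ∈ kerL ψ, w * h * w⁻¹ ∈ kerL ψ := by
    intro w hw h hh
    have hhA := kerL_le ψ hh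
    have h1 := (mem_kerL ψ ⟨h, hhA⟩).mp hh
    have ha' : w * h * w⁻¹ ∈ H ⊔ coreC U H H₀ := hAn.conj_mem h hhA w
    exact (mem_kerL ψ ⟨w * h * w⁻¹, ha'⟩).mpr (by rw [hψconj w hw ⟨h, hhA⟩ ha', h1])
  have hΛax := axis_inf_le_of_W1_inv c hA (kerL ψ) hΛ₀ hΛW hψH
  -- an element of `H₁` outside `H₀`
  obtain ⟨v₀, hv₀, hv₀H₀⟩ : ∃ v ∈ H₁, v ∉ H₀ := by
    by_contra hcon
    push Not at hcon
    have h1 : H₀.relIndex H₁ = 1 := Subgroup.relIndex_eq_one.mpr hcon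
    rw [hA.relIndex] at h1
    exact c.p_prime.one_lt.ne' h1
  have hv₀A : v₀ ∈ H ⊔ coreC U H H₀ := hHA (hA.le_H hv₀)
  set a₀ : ↥(H ⊔ coreC U H H₀) := ⟨v₀, hv₀A⟩ with ha₀
  have hψa₀ : ψ a₀ ≠ 1 := by
    intro h
    apply hv₀H₀
    have h1 := hΛax 1
    rw [show axis H₁ ((1 : ↥W₁) : L) = H₁ from axis_one H₁] at h1
    exact h1 ⟨hv₀, (mem_kerL ψ a₀).mpr h⟩
  have hμa₀ : μ a₀ ≠ 1 := by
    rw [hμH₁ a₀ hv₀]
    intro h
    exact hψa₀ (inv_eq_one.mp h)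
  -- full support of `μ`
  have hΛ'ax : ∀ w : ↥W₁, axis H₁ (w : L) ⊓ kerL μ ≤ H₀ := by
    intro w
    by_cases hw : w = 1
    · rw [hw, show axis H₁ ((1 : ↥W₁) : L) = H₁ from axis_one H₁]
      rcases le_or_le_of_relIndex_prime c.p_prime hA.relIndex
        (le_inf hA.H₀_le (fun x hx => by
          have hxA : x ∈ H ⊔ coreC U H H₀ := hHA (c.H₀_le hx)
          exact (mem_kerL μ ⟨x, hxA⟩).mpr (hμM ⟨x, hxA⟩ (Subgroup.mem_sup_left hx))))
        (inf_le_left : H₁ ⊓ kerL μ ≤ H₁) with h | h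
      · exact h
      · exfalso
        exact hμa₀ ((mem_kerL μ a₀).mp (h hv₀).2)
    · intro g hg
      have hgA := kerL_le μ hg.2
      have h1 := (mem_kerL μ ⟨g, hgA⟩).mp hg.2
      rw [hμax w hw ⟨g, hgA⟩ hg.1] at h1
      exact hΛax w ⟨hg.1, (mem_kerL ψ ⟨g, hgA⟩).mpr h1⟩
  -- the inertia group of `μ` in `K` is `A`
  have hμcl : IsClassFunction ↥(H ⊔ coreC U H H₀) (homFun μ) :=
    IsCharacter.isClassFunction (IsIrrCharacter.isCharacter (isIrrCharacter_homFun μ))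
  have hconjμ : ∀ (g : L) (a : ↥(H ⊔ coreC U H H₀)),
      Helper75.conjFun (H ⊔ coreC U H H₀) g (homFun μ) = homFun μ →
      ∀ ha' : g * (a : L) * g⁻¹ ∈ H ⊔ coreC U H H₀, μ ⟨g * (a : L) * g⁻¹, ha'⟩ = μ a := by
    intro g a hg ha'
    have h2 := congrFun hg a
    rw [conjFun_apply] at h2
    apply Units.ext
    exact h2
  have hstab : ∀ g : L, g ∈ K →
      Helper75.conjFun (H ⊔ coreC U H H₀) g (homFun μ) = homFun μ → g ∈ H ⊔ coreC U H H₀ := by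
    intro g hgK hg
    obtain ⟨h, hh, y, hy, rfl⟩ := exists_decomp_K c hgK
    have hhA : h ∈ H ⊔ coreC U H H₀ := hHA hh
    have e0 := conjFun_of_mem (H ⊔ coreC U H H₀) hμcl ⟨h, hhA⟩
    change Helper75.conjFun (H ⊔ coreC U H H₀) h (homFun μ) = homFun μ at e0
    rw [conjFun_mul, e0] at hg
    have hyC : y ∈ coreC U H H₀ := by
      apply mem_coreC_of_axes c hA (kerL μ) hΛ'ax hy
      intro x hx
      have hxA : x ∈ H ⊔ coreC U H H₀ := hHA hx
      have hyx : y * x * y⁻¹ ∈ H ⊔ coreC U H H₀ := hAn.conj_mem x hxA y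
      have e1 := hconjμ y ⟨x, hxA⟩ hg hyx
      have hmemA : y * x * y⁻¹ * x⁻¹ ∈ H ⊔ coreC U H H₀ :=
        Subgroup.mul_mem _ hyx (Subgroup.inv_mem _ hxA)
      apply (mem_kerL μ ⟨_, hmemA⟩).mpr
      have e2 : (⟨y * x * y⁻¹ * x⁻¹, hmemA⟩ : ↥(H ⊔ coreC U H H₀)) =
          ⟨y * x * y⁻¹, hyx⟩ * ⟨x, hxA⟩⁻¹ := rfl
      rw [e2, map_mul, map_inv, e1, mul_inv_cancel]
    exact Subgroup.mul_mem _ hhA (Subgroup.mem_sup_right hyC)
  -- the induced character `θ'`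
  set N' : Subgroup K := (H ⊔ coreC U H H₀).subgroupOf K with hN'
  set μ' : N' → ℂ := liftNT (H ⊔ coreC U H H₀) K (homFun μ) with hμ'
  have hμ'irr : IsIrrCharacter N' μ' :=
    isIrrCharacter_liftNT (H ⊔ coreC U H H₀) K hAK (isIrrCharacter_homFun μ)
  have hμ'ch : IsCharacter N' μ' := IsIrrCharacter.isCharacter hμ'irr
  have hT : ∀ g : K, g ∈ N' ↔ Helper75.conjFun N' g μ' = μ' := by
    intro g
    constructor
    · intro hg
      exact conjFun_of_mem N' (IsCharacter.isClassFunction hμ'ch) ⟨g, hg⟩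
    · intro hg
      rw [hN', Subgroup.mem_subgroupOf]
      apply hstab g g.2
      exact liftNT_injective (H ⊔ coreC U H H₀) K hAK hg
  have hres : resNT N' N' le_rfl μ' = μ' := by
    funext n
    rfl
  have hover0 : classInner (resNT N' N' le_rfl μ') μ' ≠ 0 := by
    rw [hres, classInner_irr_self hμ'irr]
    exact one_ne_zero
  set θ' : K → ℂ := indFun N' μ' with hθ'
  have hθ'irr : IsIrrCharacter K θ' :=
    isIrrCharacter_indFun_of_over N' N' le_rfl hμ'irr hT hμ'irr hover0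
  have hμ'1 : μ' 1 = 1 := homFun_one μ
  have hθ'1 : θ' 1 = (((coreC U H H₀).relIndex U : ℕ) : ℂ) := by
    rw [hθ', indFun_one, hμ'1, mul_one]
    have e1 : N'.index = (H ⊔ coreC U H H₀).relIndex K := rfl
    rw [e1, hrel]
  -- membership in `X(H₀C)`
  have hθ'X : θ' ∈ Xset K H (H₀ ⊔ coreC U H H₀) := by
    refine ⟨hθ'irr, ?_, ⟨v₀, hAK hv₀A⟩, hA.le_H hv₀, ?_⟩
    · intro a ha
      have hMA : (H₀ ⊔ coreC U H H₀).subgroupOf K ≤ N' := by
        intro x hx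
        rw [hN', Subgroup.mem_subgroupOf]
        rw [Subgroup.mem_subgroupOf] at hx
        exact (sup_le_sup_right c.H₀_le _) hx
      apply indFun_eq_of_forall_eq N' ((H₀ ⊔ coreC U H H₀).subgroupOf K) hMA μ' _ a
        (Subgroup.mem_subgroupOf.mpr ha)
      intro b hb
      rw [hμ'1]
      have hb' : ((b : K) : L) ∈ H₀ ⊔ coreC U H H₀ := Subgroup.mem_subgroupOf.mp hb
      have h1 := hμM ⟨((b : K) : L), Subgroup.mem_subgroupOf.mp b.2⟩ hb'
      show homFun μ ⟨((b : K) : L), _⟩ = 1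
      rw [homFun_apply, h1]
      rfl
    · intro heq
      have hv₀N' : (⟨v₀, hAK hv₀A⟩ : K) ∈ N' := by
        rw [hN', Subgroup.mem_subgroupOf]
        exact hv₀A
      have h1 := eq_of_indFun_eq N' hμ'ch ⟨⟨v₀, hAK hv₀A⟩, hv₀N'⟩ heq
      rw [hμ'1] at h1
      apply hμa₀
      apply Units.ext
      exact h1
  -- `θ'` is not `W₁`-invariant
  have hpodd : Odd p := by
    have h1 : p ∣ Nat.card L := by
      have h2 : H₀.relIndex H₁ ∣ Nat.card H₁ := Subgroup.relIndex_dvd_card _ _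
      rw [hA.relIndex] at h2
      exact dvd_trans h2 (Subgroup.card_subgroup_dvd_card H₁)
    exact Odd.of_dvd_nat c.odd h1
  have hnotinv : ¬ IsW1Inv K W₁ c.K_normal θ' := by
    intro hinv'
    obtain ⟨lam₂, hlam₂S, hlam₂W⟩ :=
      exists_W1_fixed_constituent c (H ⊔ coreC U H H₀) hAK hθ'irr hinv'
    have hμS : classInner (resNT (H ⊔ coreC U H H₀) K hAK θ') (homFun μ) ≠ 0 := by
      rw [← classInner_res_liftNT (H ⊔ coreC U H H₀) K hAK θ' (homFun μ)]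
      have h1 := frobenius_reciprocity N' μ'
        (IsCharacter.isClassFunction (IsIrrCharacter.isCharacter hθ'irr))
      rw [← hθ', classInner_irr_self hθ'irr] at h1
      intro h0
      have h2 := classInner_conj_symm (fun n : N' => θ' n) μ'
      rw [h0, map_zero] at h2
      rw [← h2] at h1
      exact one_ne_zero h1
    obtain ⟨k, hk⟩ := clifford_conj_lift (H ⊔ coreC U H H₀) K hAK hθ'irr
      (isIrrCharacter_homFun μ) lam₂.2 hμS hlam₂S
    obtain ⟨h, hh, x, hx, hkx⟩ := exists_decomp_K c k.2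
    have hhA : h ∈ H ⊔ coreC U H H₀ := hHA hh
    have e0 := conjFun_of_mem (H ⊔ coreC U H H₀) hμcl ⟨h, hhA⟩
    change Helper75.conjFun (H ⊔ coreC U H H₀) h (homFun μ) = homFun μ at e0
    rw [hkx, conjFun_mul, e0] at hk
    obtain ⟨w, hw, hw1⟩ := Cfsg.Agent.Lib.Helper62.PF9G3.ctx_exists_ne_one c
    have hinvx := hlam₂W w hw
    rw [← hk] at hinvx
    have e1 := congrFun hinvx a₀
    rw [conjFun_apply, conjFun_apply, conjFun_apply] at e1
    -- the three relevant elements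
    set x' := w⁻¹ * x * w with hx'
    have hx'U : x' ∈ U := by
      have := (Subgroup.mem_normalizer_iff.mp (c.W₁_norm_U (W₁.inv_mem hw)) x).mp hx
      simpa using this
    have hg₁ax : x * (w * v₀ * w⁻¹) * x⁻¹ ∈ axis H₁ w :=
      U_le_normalizer_axis c hA hw hx (mem_axis.mpr ⟨v₀, hv₀, rfl⟩)
    have hg₁A : x * (w * v₀ * w⁻¹) * x⁻¹ ∈ H ⊔ coreC U H H₀ := hHA (axis_le hA.le_H _ hg₁ax)
    have hg₂H₁ : x * v₀ * x⁻¹ ∈ H₁ := (Subgroup.mem_normalizer_iff.mp (hA.U_norm hx) v₀).mp hv₀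
    have hg₂A : x * v₀ * x⁻¹ ∈ H ⊔ coreC U H H₀ := hHA (hA.le_H hg₂H₁)
    have hg₃H₁ : x' * v₀ * x'⁻¹ ∈ H₁ :=
      (Subgroup.mem_normalizer_iff.mp (hA.U_norm hx'U) v₀).mp hv₀
    have hg₃A : x' * v₀ * x'⁻¹ ∈ H ⊔ coreC U H H₀ := hHA (hA.le_H hg₃H₁)
    have e2 : μ ⟨x * (w * v₀ * w⁻¹) * x⁻¹, hg₁A⟩ = μ ⟨x * v₀ * x⁻¹, hg₂A⟩ := by
      apply Units.ext
      exact e1
    have hw' : (⟨w, hw⟩ : ↥W₁) ≠ 1 := fun h => hw1 (congrArg Subtype.val h)
    rw [hμax ⟨w, hw⟩ hw' ⟨_, hg₁A⟩ hg₁ax, hμH₁ ⟨_, hg₂A⟩ hg₂H₁] at e2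
    have e3 : ψ ⟨x * (w * v₀ * w⁻¹) * x⁻¹, hg₁A⟩ = ψ ⟨x' * v₀ * x'⁻¹, hg₃A⟩ := by
      have eg : x * (w * v₀ * w⁻¹) * x⁻¹ = w * (x' * v₀ * x'⁻¹) * w⁻¹ := by
        rw [hx']; group
      have hA' : w * (x' * v₀ * x'⁻¹) * w⁻¹ ∈ H ⊔ coreC U H H₀ := eg ▸ hg₁A
      have e4 : (⟨x * (w * v₀ * w⁻¹) * x⁻¹, hg₁A⟩ : ↥(H ⊔ coreC U H H₀)) =
          ⟨w * (x' * v₀ * x'⁻¹) * w⁻¹, hA'⟩ := Subtype.ext eg
      rw [e4]
      exact hψconj w hw ⟨x' * v₀ * x'⁻¹, hg₃A⟩ hA'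
    rw [e3] at e2
    -- `g₃ g₂ ∈ H₀`
    have hprod : (x * v₀ * x⁻¹) * (x' * v₀ * x'⁻¹) ∈ H₀ := by
      have h1 := hΛax 1
      rw [show axis H₁ ((1 : ↥W₁) : L) = H₁ from axis_one H₁] at h1
      apply h1
      refine ⟨H₁.mul_mem hg₂H₁ hg₃H₁, ?_⟩
      have hmem : (x * v₀ * x⁻¹) * (x' * v₀ * x'⁻¹) ∈ H ⊔ coreC U H H₀ :=
        Subgroup.mul_mem _ hg₂A hg₃A
      apply (mem_kerL ψ ⟨_, hmem⟩).mpr
      have e5 : (⟨(x * v₀ * x⁻¹) * (x' * v₀ * x'⁻¹), hmem⟩ : ↥(H ⊔ coreC U H H₀)) =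
          ⟨x * v₀ * x⁻¹, hg₂A⟩ * ⟨x' * v₀ * x'⁻¹, hg₃A⟩ := rfl
      rw [e5, map_mul, e2, mul_inv_cancel]
    -- inversion modulo `H₀`
    set z := x⁻¹ * x' with hz
    have hinvz : (QuotientGroup.mk z : L ⧸ H₀) * QuotientGroup.mk v₀ * (QuotientGroup.mk z)⁻¹ =
        (QuotientGroup.mk v₀)⁻¹ := by
      rw [← QuotientGroup.mk_inv, ← QuotientGroup.mk_mul, ← QuotientGroup.mk_mul,
        ← QuotientGroup.mk_inv, QuotientGroup.eq]
      have e6 : (z * v₀ * z⁻¹)⁻¹ * v₀⁻¹ =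
          x⁻¹ * ((x * v₀ * x⁻¹) * (x' * v₀ * x'⁻¹))⁻¹ * x⁻¹⁻¹ := by
        rw [hz]; group
      rw [e6]
      exact hH₀n.conj_mem _ (H₀.inv_mem hprod) _
    have hzodd : Odd (orderOf z) := Odd.of_dvd_nat c.odd (orderOf_dvd_natCard z)
    have hzpow : (QuotientGroup.mk z : L ⧸ H₀) ^ orderOf z = 1 := by
      rw [← QuotientGroup.mk_pow, pow_orderOf_eq_one]
      rfl
    have hsq := mul_self_eq_one_of_inverted hinvz hzodd hzpow
    have hpp : (QuotientGroup.mk v₀ : L ⧸ H₀) ^ p = 1 := by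
      rw [← QuotientGroup.mk_pow, QuotientGroup.eq_one_iff]
      exact c.pow_mem v₀ (hA.le_H hv₀)
    obtain ⟨m, hm⟩ := hpodd
    rw [hm, pow_succ, pow_mul, pow_two, hsq, one_pow, one_mul] at hpp
    exact hv₀H₀ ((QuotientGroup.eq_one_iff v₀).mp hpp)
  -- assembly
  have hidx : K.index = q := by
    have h1 : Nat.card (K ⊔ W₁ : Subgroup L) = Nat.card K * Nat.card W₁ :=
      Cfsg.Agent.Lib.Helper54.card_sup_of_le_normalizer
        (by rw [Subgroup.normalizer_eq_top]; exact le_top) c.KW_inf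
    rw [c.KW_sup, Subgroup.card_top, c.card_W₁, ← K.card_mul_index] at h1
    exact Nat.eq_of_mul_eq_mul_left Nat.card_pos h1
  refine ⟨indFun K θ', ⟨θ', hθ'X, rfl⟩, ?_, ?_, ?_⟩
  · exact ((Cfsg.Agent.Lib.Helper59.PF9.irr_iff_not_W1Inv c _ hθ'X).1).mpr hnotinv
  · rw [indFun_one, hθ'1, hidx]
    push_cast
    ring
  · refine ⟨homFun μ, isIrrCharacter_homFun μ, homFun_one μ, ?_⟩
    rw [indFun_eq_indFun_indFun_liftNT (H ⊔ coreC U H H₀) K hAK (homFun μ)]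

end Characters

end Cfsg.Agent.Lib.Helper16.PFNineNC
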