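import Mathlib
import Cfsg.Agent.Lib.Helper16.PFNineNC
import Cfsg.Agent.Lib.Helper58.PFNineGA
import Cfsg.Agent.Lib.Helper64.SibleyCount

/-!
# Peterfalvi (9.9)(c): module [GC] `galois_all_reducible` (helper16)

In the Galois case, if every member of `S(H₀C')` is reducible then `C = 1`,
`|U| (p - 1) = p ^ q - 1` and `U` acts semiregularly on `(H/H₀) \ 1`.

Counting proof.  By [G3a] every `θ ∈ X(H₀C')` is `W₁`-invariant; by [G3b] (for `H₀C'` and for
`H₀C`) both `X(H₀C')` and `X(H₀C)` have exactly `p - 1` `W₁`-invariant members, hence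
`X(H₀C') = X(H₀C)`.  Summing squares of degrees of the irreducible characters of `K` trivial on
`H₀C'`, `HC'`, `H₀C`, `HC` gives `|K : HC'| (p ^ q - 1) = |K : HC| (p ^ q - 1)`, so `HC' = HC`,
`C = C'`, and `C = 1` by nilpotency.  All members of `X(H₀C)` have degree `u` ([GA]), hence
`(p - 1) u ^ 2 = u (p ^ q - 1)`.
-/

set_option autoImplicit false

namespace Cfsg.Agent.Lib.Helper16.PFNineGC

open Cfsg Cfsg.Agent.Lib.Helper58.PF9 Cfsg.Agent.Lib.Helper16.PFNineNB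
  Cfsg.Agent.Lib.Helper16.PFNineNC

universe u

section GroupTheory

variable {L : Type u} [Group L] {K H U W₁ W₂ H₀ : Subgroup L} {p q : ℕ}

/-- `H₀C' = H₀ (H₀C)'` -/
theorem sup_H₀_commC_eq (c : Ctx K H U W₁ W₂ H₀ p q) :
    H₀ ⊔ ⁅coreC U H H₀, coreC U H H₀⁆ =
      H₀ ⊔ ⁅H₀ ⊔ coreC U H H₀, H₀ ⊔ coreC U H H₀⁆ := by
  have hH₀n : H₀.Normal := c.H₀_normal
  set C := coreC U H H₀ with hC
  apply le_antisymm
  · exact sup_le_sup_left (Subgroup.commutator_mono le_sup_right le_sup_right) _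
  · apply sup_le le_sup_left
    have h1 : ⁅H₀ ⊔ C, H₀ ⊔ C⁆ ≤
        Subgroup.comap (QuotientGroup.mk' H₀)
          (Subgroup.map (QuotientGroup.mk' H₀) ⁅H₀ ⊔ C, H₀ ⊔ C⁆) := Subgroup.le_comap_map _ _
    have h2 : Subgroup.map (QuotientGroup.mk' H₀) (H₀ ⊔ C) =
        Subgroup.map (QuotientGroup.mk' H₀) C := by
      rw [Subgroup.map_sup]
      have : Subgroup.map (QuotientGroup.mk' H₀) H₀ = ⊥ := by
        rw [Subgroup.map_eq_bot_iff, QuotientGroup.ker_mk']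
      rw [this, bot_sup_eq]
    rw [Subgroup.map_commutator, h2, ← Subgroup.map_commutator,
      QuotientGroup.comap_map_mk'] at h1
    exact h1

/-- `H₀C'` is normal in `L` -/
theorem sup_H₀_commC_normal (c : Ctx K H U W₁ W₂ H₀ p q) :
    (H₀ ⊔ ⁅coreC U H H₀, coreC U H H₀⁆).Normal := by
  rw [sup_H₀_commC_eq c]
  have hH₀n : H₀.Normal := c.H₀_normal
  have := sup_H₀_coreC_normal c
  infer_instance

theorem sup_H₀_commC_le_sup_H₀_coreC :
    H₀ ⊔ ⁅coreC U H H₀, coreC U H H₀⁆ ≤ H₀ ⊔ coreC U H H₀ := by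
  refine sup_le_sup_left ?_ _
  rw [Subgroup.commutator_le]
  intro g₁ h₁ g₂ h₂
  exact Subgroup.mul_mem _ (Subgroup.mul_mem _ (Subgroup.mul_mem _ h₁ h₂) (Subgroup.inv_mem _ h₁))
    (Subgroup.inv_mem _ h₂)

theorem sup_H₀_commC_le (c : Ctx K H U W₁ W₂ H₀ p q) :
    H₀ ⊔ ⁅coreC U H H₀, coreC U H H₀⁆ ≤ K :=
  le_trans sup_H₀_commC_le_sup_H₀_coreC (sup_H₀_coreC_le c)

theorem sup_H₀_commC_inf (c : Ctx K H U W₁ W₂ H₀ p q) :
    (H₀ ⊔ ⁅coreC U H H₀, coreC U H H₀⁆) ⊓ H = H₀ := by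
  apply le_antisymm
  · have h1 : (H₀ ⊔ ⁅coreC U H H₀, coreC U H H₀⁆) ⊓ H ≤ (H₀ ⊔ coreC U H H₀) ⊓ H :=
      inf_le_inf_right _ sup_H₀_commC_le_sup_H₀_coreC
    rwa [sup_H₀_coreC_inf c] at h1
  · exact le_inf le_sup_left c.H₀_le

/-- `|HN : N| = p ^ q` for a normal `N` with `N ∩ H = H₀` -/
theorem relIndex_sup_of_inf (c : Ctx K H U W₁ W₂ H₀ p q) {N : Subgroup L} (hN : N.Normal)
    (hNH : N ⊓ H = H₀) : N.relIndex (H ⊔ N) = p ^ q := by
  have := hN
  rw [Subgroup.relIndex_sup_right, ← Subgroup.inf_relIndex_right, hNH, c.relIndex_H₀]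

/-- `|K : N| = p ^ q |K : HN|` -/
theorem relIndex_eq_mul (c : Ctx K H U W₁ W₂ H₀ p q) {N : Subgroup L} (hN : N.Normal)
    (hNK : N ≤ K) (hNH : N ⊓ H = H₀) :
    N.relIndex K = p ^ q * (H ⊔ N).relIndex K := by
  have hHK : H ≤ K := by rw [← c.HU_sup]; exact le_sup_left
  rw [← relIndex_sup_of_inf c hN hNH]
  exact (Subgroup.relIndex_mul_relIndex N (H ⊔ N) K le_sup_right (sup_le hHK hNK)).symm

end GroupTheory

section Sums

open Cfsg.Agent.Lib.Helper75 Cfsg.Agent.Lib.Helper78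

variable {L : Type u} [Group L] [Fintype L] {K H U W₁ W₂ H₀ : Subgroup L} {p q : ℕ}

open Classical in
/-- the sum of the squared degrees of the irreducible characters of `K` trivial on `Z` -/
noncomputable def sumTriv (K Z : Subgroup L) : ℂ :=
  ∑ ξ ∈ Finset.univ.filter
      (fun ξ : Cfsg.IrrCharacter ↥K => ∀ a : ↥K, (a : L) ∈ Z → (ξ : ↥K → ℂ) a = (ξ : ↥K → ℂ) 1),
    ((ξ : ↥K → ℂ) 1) ^ 2

open Classical in
/-- the sum of the squared degrees of the members of `X(N)` -/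
noncomputable def sumX (K H N : Subgroup L) : ℂ :=
  ∑ ξ ∈ Finset.univ.filter
      (fun ξ : Cfsg.IrrCharacter ↥K => (ξ : ↥K → ℂ) ∈ Xset K H N),
    ((ξ : ↥K → ℂ) 1) ^ 2

theorem sumTriv_eq (K Z : Subgroup L) (hZ : Z.Normal) :
    sumTriv K Z = (Z.relIndex K : ℂ) := by
  classical
  let : Fintype ↥K := Fintype.ofFinite _
  have : (Z.subgroupOf K).Normal := Subgroup.Normal.subgroupOf hZ K
  have h := Cfsg.Agent.Lib.Helper64.sum_sq_degree_trivial_on (L := ↥K) (Z.subgroupOf K)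
  unfold sumTriv Subgroup.relIndex
  rw [← h]
  apply Finset.sum_congr _ (fun _ _ => rfl)
  ext ξ
  simp only [Finset.mem_filter, Finset.mem_univ, true_and, Subgroup.mem_subgroupOf]

theorem sumTriv_split {K H N : Subgroup L} (hHK : H ≤ K) (hNK : N ≤ K) :
    sumTriv K N = sumTriv K (H ⊔ N) + sumX K H N := by
  classical
  unfold sumTriv sumX
  rw [Finset.sum_filter, Finset.sum_filter, Finset.sum_filter, ← Finset.sum_add_distrib]
  apply Finset.sum_congr rfl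
  intro ξ _
  have hker : (∀ a : ↥K, (a : L) ∈ H ⊔ N → (ξ : ↥K → ℂ) a = (ξ : ↥K → ℂ) 1) ↔
      ((∀ a : ↥K, (a : L) ∈ N → (ξ : ↥K → ℂ) a = (ξ : ↥K → ℂ) 1) ∧
        ∀ h : ↥K, (h : L) ∈ H → (ξ : ↥K → ℂ) h = (ξ : ↥K → ℂ) 1) := by
    constructor
    · intro h
      exact ⟨fun a ha => h a (Subgroup.mem_sup_right ha),
        fun a ha => h a (Subgroup.mem_sup_left ha)⟩
    · rintro ⟨hN, hH⟩ a ha
      obtain ⟨Kl, -, hKlmem, -, -⟩ :=
        Cfsg.Agent.Lib.Helper77.exists_kernel (IsIrrCharacter.isCharacter ξ.2)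
      have hle : H ⊔ N ≤ Kl.map K.subtype := by
        apply sup_le
        · intro x hx
          exact ⟨⟨x, hHK hx⟩, (hKlmem _).mpr (hH ⟨x, hHK hx⟩ hx), rfl⟩
        · intro x hx
          exact ⟨⟨x, hNK hx⟩, (hKlmem _).mpr (hN ⟨x, hNK hx⟩ hx), rfl⟩
      obtain ⟨b, hb, hba⟩ := hle ha
      have : b = a := Subtype.ext hba
      rw [← this]
      exact (hKlmem b).mp hb
  have hX : (ξ : ↥K → ℂ) ∈ Xset K H N ↔
      ((∀ a : ↥K, (a : L) ∈ N → (ξ : ↥K → ℂ) a = (ξ : ↥K → ℂ) 1) ∧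
        ¬ ∀ h : ↥K, (h : L) ∈ H → (ξ : ↥K → ℂ) h = (ξ : ↥K → ℂ) 1) := by
    simp only [Xset, Set.mem_ofPred_eq]
    constructor
    · rintro ⟨-, hN, h, hh, hne⟩
      refine ⟨hN, ?_⟩
      push Not
      exact ⟨h, hh, hne⟩
    · rintro ⟨hN, hH⟩
      push Not at hH
      obtain ⟨h, hh, hne⟩ := hH
      exact ⟨ξ.2, hN, h, hh, hne⟩
  by_cases h1 : ∀ a : ↥K, (a : L) ∈ N → (ξ : ↥K → ℂ) a = (ξ : ↥K → ℂ) 1
  · by_cases h2 : ∀ h : ↥K, (h : L) ∈ H → (ξ : ↥K → ℂ) h = (ξ : ↥K → ℂ) 1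
    · rw [if_pos h1, if_pos (hker.mpr ⟨h1, h2⟩), if_neg (fun h => (hX.mp h).2 h2), add_zero]
    · rw [if_pos h1, if_neg (fun h => h2 (hker.mp h).2), if_pos (hX.mpr ⟨h1, h2⟩), zero_add]
  · rw [if_neg h1, if_neg (fun h => h1 (hker.mp h).1), if_neg (fun h => h1 (hX.mp h).1), add_zero]

/-- if all members of `X(N)` have degree `d` then `sumX = |X(N)| d ^ 2` -/
theorem sumX_eq_of_const (K H N : Subgroup L) (d : ℂ)
    (hd : ∀ θ ∈ Xset K H N, θ 1 = d) :
    sumX K H N = ((Xset K H N).ncard : ℂ) * d ^ 2 := by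
  classical
  unfold sumX
  set F := Finset.univ.filter
      (fun ξ : Cfsg.IrrCharacter ↥K => (ξ : ↥K → ℂ) ∈ Xset K H N) with hF
  have h1 : ∑ ξ ∈ F, ((ξ : ↥K → ℂ) 1) ^ 2 = ∑ _ξ ∈ F, d ^ 2 := by
    apply Finset.sum_congr rfl
    intro ξ hξ
    rw [hF, Finset.mem_filter] at hξ
    rw [hd _ hξ.2]
  rw [h1, Finset.sum_const, nsmul_eq_mul]
  congr 2
  have h2 : Xset K H N = ↑(F.image (fun ξ : Cfsg.IrrCharacter ↥K => (ξ : ↥K → ℂ))) := by
    ext θ
    simp only [Finset.coe_image, Set.mem_image, Finset.mem_coe, hF, Finset.mem_filter,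
      Finset.mem_univ, true_and]
    constructor
    · intro hθ
      exact ⟨⟨θ, hθ.1⟩, hθ, rfl⟩
    · rintro ⟨ξ, hξ, rfl⟩
      exact hξ
  rw [h2, Set.ncard_coe_finset, Finset.card_image_of_injective]
  intro a b hab
  exact Subtype.ext hab

end Sums

section Main

open Cfsg.Agent.Lib.Helper75 Cfsg.Agent.Lib.Helper78

variable {L : Type u} [Group L] [Fintype L] {K H U W₁ W₂ H₀ : Subgroup L} {p q : ℕ}

/-- **Peterfalvi (9.9)(c)**, module [GC] of board #2851. -/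
theorem galois_all_reducible (c : Ctx K H U W₁ W₂ H₀ p q) (hG : IsGaloisLike H U H₀)
    (hred : ∀ φ ∈ Sbook K H (H₀ ⊔ ⁅coreC U H H₀, coreC U H H₀⁆), ¬ IsIrrCharacter L φ) :
    coreC U H H₀ = ⊥ ∧ Nat.card U * (p - 1) = p ^ q - 1 ∧
      ∀ x ∈ U, x ≠ 1 → ∀ h ∈ H, x * h * x⁻¹ * h⁻¹ ∈ H₀ → h ∈ H₀ := by
  classical
  have hKn : K.Normal := c.K_normal
  have hHn : H.Normal := c.H_normal
  have hH₀n : H₀.Normal := c.H₀_normal
  have hHK : H ≤ K := by rw [← c.HU_sup]; exact le_sup_left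
  set C := coreC U H H₀ with hCdef
  set N' := H₀ ⊔ ⁅C, C⁆ with hN'def
  set N := H₀ ⊔ C with hNdef
  have hN'n : N'.Normal := sup_H₀_commC_normal c
  have hNn : N.Normal := sup_H₀_coreC_normal c
  have hN'K : N' ≤ K := sup_H₀_commC_le c
  have hNK : N ≤ K := sup_H₀_coreC_le c
  have hN'H : N' ⊓ H = H₀ := sup_H₀_commC_inf c
  have hNH : N ⊓ H = H₀ := sup_H₀_coreC_inf c
  have hN'N : N' ≤ N := sup_H₀_commC_le_sup_H₀_coreC
  -- Step 1: every member of `X(N')` is `W₁`-invariant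
  have hinv : ∀ θ ∈ Xset K H N', IsW1Inv K W₁ c.K_normal θ := by
    intro θ hθ
    by_contra hn
    exact hred (indFun K θ) ⟨θ, hθ, rfl⟩
      ((Cfsg.Agent.Lib.Helper59.PF9.irr_iff_not_W1Inv c N' hθ).1.mpr hn)
  -- Step 2/3: `X(N') = X(N)`, of cardinality `p - 1`
  have hc' := Cfsg.Agent.Lib.Helper62.PF9G3.ncard_W1Inv_Xset c N' hN'n hN'K hN'H
  have hc := Cfsg.Agent.Lib.Helper62.PF9G3.ncard_W1Inv_Xset c N hNn hNK hNH
  have hpos : 0 < p - 1 := by
    have := c.p_prime.two_le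
    omega
  have hA' : {θ : ↥K → ℂ | θ ∈ Xset K H N' ∧ IsW1Inv K W₁ c.K_normal θ} = Xset K H N' := by
    ext θ
    exact ⟨fun h => h.1, fun h => ⟨h, hinv θ h⟩⟩
  rw [hA'] at hc'
  have hfin : (Xset K H N').Finite := by
    apply Set.finite_of_ncard_pos
    rw [hc']; exact hpos
  have hsub : {θ : ↥K → ℂ | θ ∈ Xset K H N ∧ IsW1Inv K W₁ c.K_normal θ} ⊆ Xset K H N' :=
    fun θ hθ => Xset_anti N' N hN'N hθ.1
  have hAeq := Set.eq_of_subset_of_ncard_le hsub (by rw [hc, hc']) hfin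
  have hXeq : Xset K H N' = Xset K H N := by
    apply Set.Subset.antisymm
    · intro θ hθ
      rw [← hAeq] at hθ
      exact hθ.1
    · exact Xset_anti N' N hN'N
  -- degrees
  set u := C.relIndex U with hu
  have hdeg : ∀ θ ∈ Xset K H N', θ 1 = (u : ℂ) := fun θ hθ => (galois_core_theta c hG hθ).1
  have hsX' : sumX K H N' = ((p - 1 : ℕ) : ℂ) * (u : ℂ) ^ 2 := by
    rw [sumX_eq_of_const K H N' (u : ℂ) hdeg, hc']
  have hsX : sumX K H N = ((p - 1 : ℕ) : ℂ) * (u : ℂ) ^ 2 := by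
    rw [← hsX']
    unfold sumX
    rw [hXeq]
  -- the four sums
  have e1 := sumTriv_split (H := H) hHK hN'K
  have e2 := sumTriv_split (H := H) hHK hNK
  have hHN'n : (H ⊔ N').Normal := inferInstance
  have hHNn : (H ⊔ N).Normal := inferInstance
  rw [sumTriv_eq K N' hN'n, sumTriv_eq K (H ⊔ N') hHN'n, hsX',
    relIndex_eq_mul c hN'n hN'K hN'H] at e1
  rw [sumTriv_eq K N hNn, sumTriv_eq K (H ⊔ N) hHNn, hsX,
    relIndex_eq_mul c hNn hNK hNH] at e2
  set a₂ := (H ⊔ N').relIndex K with ha₂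
  set b₂ := (H ⊔ N).relIndex K with hb₂
  have e1' : p ^ q * a₂ = a₂ + (p - 1) * u ^ 2 := by exact_mod_cast e1
  have e2' : p ^ q * b₂ = b₂ + (p - 1) * u ^ 2 := by exact_mod_cast e2
  have hpq : 2 ≤ p ^ q := by
    calc 2 ≤ p := c.p_prime.two_le
      _ = p ^ 1 := (pow_one p).symm
      _ ≤ p ^ q := Nat.pow_le_pow_right c.p_prime.pos c.q_prime.pos
  have hab : a₂ = b₂ := by
    have h1 : (p ^ q - 1) * a₂ = (p - 1) * u ^ 2 := by
      have : (p ^ q - 1) * a₂ + a₂ = p ^ q * a₂ := by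
        rw [← Nat.succ_mul, Nat.succ_eq_add_one, Nat.sub_add_cancel (by omega)]
      omega
    have h2 : (p ^ q - 1) * b₂ = (p - 1) * u ^ 2 := by
      have : (p ^ q - 1) * b₂ + b₂ = p ^ q * b₂ := by
        rw [← Nat.succ_mul, Nat.succ_eq_add_one, Nat.sub_add_cancel (by omega)]
      omega
    exact Nat.eq_of_mul_eq_mul_left (by omega) (h1.trans h2.symm)
  have hHNeq : H ⊔ N = H ⊔ C := by
    rw [hNdef, ← sup_assoc, sup_eq_left.mpr c.H₀_le]
  have hHN'eq : H ⊔ N' = H ⊔ ⁅C, C⁆ := by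
    rw [hN'def, ← sup_assoc, sup_eq_left.mpr c.H₀_le]
  have hb₂u : b₂ = u := by
    rw [hb₂, hHNeq, hu]
    exact relIndex_sup_coreC c
  have hupos : 0 < u := by
    rw [hu]
    apply Nat.pos_of_ne_zero
    unfold Subgroup.relIndex
    exact Subgroup.index_ne_zero_of_finite
  -- `H ⊔ N ≤ H ⊔ N'`
  have hle : H ⊔ N ≤ H ⊔ N' := by
    have h1 := Subgroup.relIndex_mul_relIndex (H ⊔ N') (H ⊔ N) K
      (sup_le_sup_left hN'N H) (sup_le hHK hNK)
    rw [← ha₂, ← hb₂, hab] at h1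
    have h2 : (H ⊔ N').relIndex (H ⊔ N) = 1 := by
      have hb₂pos : 0 < b₂ := by rw [hb₂u]; exact hupos
      exact Nat.eq_of_mul_eq_mul_right hb₂pos (by rw [h1, one_mul])
    exact Subgroup.relIndex_eq_one.mp h2
  -- `C ≤ C'`
  have hCle : C ≤ ⁅C, C⁆ := by
    intro x hx
    have hx' : x ∈ H ⊔ ⁅C, C⁆ := by
      rw [← hHN'eq]
      apply hle
      rw [hHNeq]
      exact Subgroup.mem_sup_right hx
    obtain ⟨h, hh, y, hy, rfl⟩ := Subgroup.mem_sup_of_normal_left.mp hx'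
    have hyC : y ∈ C := Subgroup.commutator_le_self C hy
    have hhU : h ∈ U := by
      have : h = h * y * y⁻¹ := by group
      rw [this]
      exact U.mul_mem (coreC_le U H H₀ hx) (U.inv_mem (coreC_le U H H₀ hyC))
    have hh1 : h = 1 := by
      have : h ∈ H ⊓ U := ⟨hh, hhU⟩
      rw [c.HU_inf] at this
      exact Subgroup.mem_bot.mp this
    rw [hh1, one_mul]
    exact hy
  -- `C = ⊥`
  have hCbot : C = ⊥ := by
    by_contra hne
    have hnil : Group.IsNilpotent ↥U := c.U_nilpotent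
    have hsolvU : Group.IsSolvable ↥U := inferInstance
    have hsolvC : Group.IsSolvable ↥C :=
      Group.isSolvable_of_isSolvable_injective
        (Subgroup.inclusion_injective (coreC_le U H H₀))
    have hnt : Nontrivial ↥C := (Subgroup.nontrivial_iff_ne_bot C).mpr hne
    have hlt := Group.IsSolvable.commutator_lt_top_of_nontrivial ↥C
    apply hlt.ne
    apply Subgroup.map_injective C.subtype_injective
    rw [Subgroup.map_subtype_commutator, ← MonoidHom.range_eq_map, Subgroup.range_subtype]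
    exact le_antisymm (Subgroup.commutator_le_self C) hCle
  refine ⟨hCbot, ?_, ?_⟩
  · have hucard : u = Nat.card U := by
      rw [hu, hCbot]
      exact Subgroup.relIndex_bot_left U
    rw [hb₂u] at e2'
    rw [← hucard]
    have h1 : (p ^ q - 1) * u = (p - 1) * u * u := by
      have : (p ^ q - 1) * u + u = p ^ q * u := by
        rw [← Nat.succ_mul, Nat.succ_eq_add_one, Nat.sub_add_cancel (by omega)]
      have h3 : (p - 1) * u ^ 2 = (p - 1) * u * u := by ring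
      omega
    have h2 := Nat.eq_of_mul_eq_mul_right hupos h1
    rw [h2, mul_comm]
  · intro x hxU hx1 h hh hcomm
    apply hG x hxU _ h hh hcomm
    rw [← hCdef, hCbot, Subgroup.mem_bot]
    exact hx1

end Main

end Cfsg.Agent.Lib.Helper16.PFNineGC
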