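import Mathlib
import Cfsg.Agent.Lib.Helper16.PFNineDI
import Cfsg.Agent.Lib.Helper16.PFNineGC
import Cfsg.Agent.Lib.Helper16.PFNineNC
import Cfsg.Agent.Lib.Helper58.PFNineGA
import Cfsg.Agent.Lib.Helper58.PFNineT

/-!
# Peterfalvi (9.10), assembled (helper16)

`reducible_core_cases`: in the setting `Ctx` with `H/H₀` a chief factor, either `S(H₀C')`
contains an irreducible member of degree `q u` induced from a linear character of `HC`, or we are
in the extremal Galois case (`C = 1`, `|U| (p - 1) = p ^ q - 1`, `U` semiregular on `(H/H₀) \ 1`).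
Assembly of the modules [DI], [NC], [GC] (helper16) and [GA] (helper58) through helper58's
`reducible_core_cases_of`.
-/

set_option autoImplicit false

namespace Cfsg.Agent.Lib.Helper16.PFNineTen

open Cfsg Cfsg.Agent.Lib.Helper58.PF9

universe u

variable {L : Type u} [Group L] [Fintype L] {K H U W₁ W₂ H₀ : Subgroup L} {p q : ℕ}

/-- **Peterfalvi (9.10)**. -/
theorem reducible_core_cases (c : Ctx K H U W₁ W₂ H₀ p q)
    (hchief : ∀ N : Subgroup L, N.Normal → H₀ ≤ N → N ≤ H → N = H₀ ∨ N = H) :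
    (∃ φ ∈ Sbook K H (H₀ ⊔ ⁅coreC U H H₀, coreC U H H₀⁆), IsIrrCharacter L φ ∧
        φ 1 = ((q * (coreC U H H₀).relIndex U : ℕ) : ℂ) ∧ IsIndLinear (H ⊔ coreC U H H₀) φ) ∨
      (IsGaloisLike H U H₀ ∧ coreC U H H₀ = ⊥ ∧ Nat.card U * (p - 1) = p ^ q - 1 ∧
        ∀ x ∈ U, x ≠ 1 → ∀ h ∈ H, x * h * x⁻¹ * h⁻¹ ∈ H₀ → h ∈ H₀) :=
  reducible_core_cases_of
    (Cfsg.Agent.Lib.Helper16.PFNineDI.galois_or_axis c hchief)
    (fun _ hA => Cfsg.Agent.Lib.Helper16.PFNineNC.axis_exists_irreducible c hA)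
    (fun hG _ hφ => galois_core_member c hG hφ)
    (fun hG hred => Cfsg.Agent.Lib.Helper16.PFNineGC.galois_all_reducible c hG hred)

end Cfsg.Agent.Lib.Helper16.PFNineTen
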