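import Mathlib
import Cfsg.Agent.Lib.Helper75.BrauerHalfC

/-!
# S4503 module [BH-EXT] (helper16, for helper75 #3420)

Brauer's second main theorem off the `N_G(P)`-orbit of the root, and conjugation on the orbit.
-/

set_option autoImplicit false

namespace Cfsg.Agent.Lib.Helper16.BHExt
open Cfsg Cfsg.Agent.Lib.Helper78 Cfsg.Agent.Lib.Helper16 Cfsg.Agent.Lib.Helper3.DefOneGen
  Cfsg.Agent.Lib.Helper75.McKayOne Cfsg.Agent.Lib.Helper75.BrauerHalf
open scoped ComplexConjugate IsMulCommutative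

universe u

variable {G : Type u} [Group G] [Fintype G] {p : ℕ} [hp : Fact p.Prime] (P : Sylow p G)
  (hP : Nat.card P = p)
variable [Fintype ↥(Subgroup.centralizer ((P : Subgroup G) : Set G))] [Fintype ↥(P : Subgroup G)]
  [IsMulCommutative ↥(P : Subgroup G)] [Fintype (↥(P : Subgroup G) →* ℂˣ)]
  [Fintype ↥(Subgroup.normalizer ((P : Subgroup G) : Set G))]
variable {M : Ideal AlgInt}

local notation "CP" => Subgroup.centralizer ((P : Subgroup G) : Set G)
local notation "NP" => Subgroup.normalizer ((P : Subgroup G) : Set G)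

attribute [local instance] nAct

section EXT
-- [BH-EXT]
include hP in
open scoped Classical in
/-- Brauer's second main theorem + `N_G(P)`-conjugation: off the orbit of the root the parts
vanish, on the orbit they are conjugates. -/
theorem fpart_eq_zero_off_orbit (hM : IsPModular p M) (θ : IrrCharacter ↥CP) (hθ : θ ∈ Theta P)
    {B : Set (IrrCharacter G)} (hind : IsInducedBlock M CP (blockOf M (θ : ↥CP → ℂ)) B)
    {Ξ : IrrCharacter G} (hΞ : Ξ ∈ B) (θ' : IrrCharacter ↥CP) (hθ' : θ' ∈ Theta P)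
    (hoff : θ' ∉ MulAction.orbit ↥NP θ) (y : ↥(P : Subgroup G)) (hy : y ≠ 1) :
    fpart p CP (Ξ : G → ℂ) (θ' : ↥CP → ℂ) (y : G) = 0 := by
  have hθk := (mem_Theta P θ).mp hθ
  have hθ'k := (mem_Theta P θ').mp hθ'
  have hB : IsPBlock M B := hind.2.1
  have hd : 0 < blockDefect p B := pos_defect_of_induced P hM hP θ hθk hind
  apply fpart_eq_zero_of_not_induced P hP hM y.2 _ hB θ' _ hΞ
  · intro h
    apply hy
    exact Subtype.ext h
  · intro hind'
    exact hoff (mem_orbit_of_isInducedBlock P hM hP hB hd θ θ' hθk hθ'k hind hind')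

include hP in
open scoped Classical in
theorem gq_of_root (hM : IsPModular p M) (θ : IrrCharacter ↥CP) (hθ : θ ∈ Theta P)
    {B : Set (IrrCharacter G)} (hind : IsInducedBlock M CP (blockOf M (θ : ↥CP → ℂ)) B)
    {Ξ : IrrCharacter G} (hΞ : Ξ ∈ B) :
    ∀ θ' ∈ Theta P, gq P (Ξ : G → ℂ) (θ' : ↥CP → ℂ) =
      if θ' ∈ MulAction.orbit ↥NP θ then gq P (Ξ : G → ℂ) (θ : ↥CP → ℂ) else 0 := by
  intro θ' hθ'
  have hcl : IsClassFunction G (Ξ : G → ℂ) := isClassFunction_irr Ξ
  by_cases horb : θ' ∈ MulAction.orbit ↥NP θ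
  · rw [if_pos horb]
    obtain ⟨n, hn, rfl⟩ := (mem_orbit_iff P θ θ').mp horb
    exact gq_thetaConj P hcl n hn θ
  · rw [if_neg horb]
    unfold gq
    apply Finset.sum_eq_zero
    intro y hy
    rw [Finset.mem_filter] at hy
    exact fpart_eq_zero_off_orbit P hP hM θ hθ hind hΞ θ' hθ' horb y hy.2

include hP in
open scoped Classical in
theorem fpart_of_root_const (hM : IsPModular p M) (θ : IrrCharacter ↥CP) (hθ : θ ∈ Theta P)
    {B : Set (IrrCharacter G)} (hind : IsInducedBlock M CP (blockOf M (θ : ↥CP → ℂ)) B)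
    {Ξ : IrrCharacter G} (hΞ : Ξ ∈ B) (a : ℂ)
    (ha : ∀ y : G, y ∈ (P : Subgroup G) → y ≠ 1 →
      fpart p CP (Ξ : G → ℂ) (θ : ↥CP → ℂ) y = a) :
    ∀ θ' ∈ Theta P, ∀ y : ↥(P : Subgroup G), y ≠ 1 →
      fpart p CP (Ξ : G → ℂ) (θ' : ↥CP → ℂ) (y : G) =
        if θ' ∈ MulAction.orbit ↥NP θ then a else 0 := by
  intro θ' hθ' y hy
  have hcl : IsClassFunction G (Ξ : G → ℂ) := isClassFunction_irr Ξ
  by_cases horb : θ' ∈ MulAction.orbit ↥NP θ
  · rw [if_pos horb]
    obtain ⟨n, hn, rfl⟩ := (mem_orbit_iff P θ θ').mp horb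
    rw [fpart_thetaConj P hcl n hn θ (y : G)]
    apply ha
    · exact (Subgroup.mem_normalizer_iff.mp hn (y : G)).mp y.2
    · intro h
      apply hy
      apply Subtype.ext
      have h1 : (y : G) = n⁻¹ * (n * (y : G) * n⁻¹) * n := by group
      rw [h1, h]
      simp
  · rw [if_neg horb]
    exact fpart_eq_zero_off_orbit P hP hM θ hθ hind hΞ θ' hθ' horb y hy

end EXT

end Cfsg.Agent.Lib.Helper16.BHExt
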