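import Mathlib
import Cfsg.Agent.Lib.Helper76.Galois
import Cfsg.Agent.Lib.Helper78.CharOrtho

/-!
# PROJECT BP, layer 5: a positive generalized character with `⟨w, 1⟩ = 1` is trivial (helper16)

`eq_one_of_pos_of_sum`: if `w = ∑ n_μ μ` (`n_μ ∈ ℤ`) is a generalized character of the finite group
`P` all of whose values are positive reals and `∑_v w v = |P|`, then `w = 1`.
(The product of the Galois conjugates of each value is a positive integer; `log x ≤ x - 1`.)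
-/

set_option autoImplicit false
set_option linter.unusedSectionVars false

namespace Cfsg.Agent.Lib.Helper16.BP

open Cfsg Finset IntermediateField Cfsg.Agent.Lib.Helper76

/-- Positive reals with product `≥ 1` and sum `≤` their number are all `1`. -/
theorem eq_one_of_prod_ge_of_sum_le {ι : Type*} [Fintype ι] (y : ι → ℝ) (hy : ∀ i, 0 < y i)
    (hprod : 1 ≤ ∏ i, y i) (hsum : ∑ i, y i ≤ Fintype.card ι) : ∀ i, y i = 1 := by
  by_contra hcon
  rw [not_forall] at hcon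
  obtain ⟨j, hj⟩ := hcon
  have h1 : ∑ i, Real.log (y i) < ∑ i, (y i - 1) := by
    apply Finset.sum_lt_sum
    · intro i _
      exact Real.log_le_sub_one_of_pos (hy i)
    · exact ⟨j, Finset.mem_univ j, Real.log_lt_sub_one_of_pos (hy j) hj⟩
  have h2 : ∑ i, Real.log (y i) = Real.log (∏ i, y i) := by
    rw [Real.log_prod]
    intro i _
    exact (hy i).ne'
  have h3 : 0 ≤ Real.log (∏ i, y i) := Real.log_nonneg hprod
  have h4 : ∑ i, (y i - 1) = ∑ i, y i - Fintype.card ι := by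
    rw [Finset.sum_sub_distrib]
    simp
  linarith

section Galois

variable {P : Type*} [Group P] [Fintype P]

/-- Every embedding of `ℚ(ζ_N)` acts on all character values of `P` (`N = |P|`) through one power
map `g ↦ g ^ u`. -/
theorem exists_pow_of_embedding_all (N : ℕ) (hN : 0 < N) (hG : ∀ g : P, g ^ N = 1) (ζ : ℂ)
    (hζ : IsPrimitiveRoot ζ N) (σ : adjoin ℚ ({ζ} : Set ℂ) →ₐ[ℚ] ℂ) :
    ∃ u : ℕ, u.Coprime N ∧ ∀ (n : ℕ) (ρ : Representation ℂ P (Fin n → ℂ)) (g : P)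
      (h : ρ.character g ∈ adjoin ℚ ({ζ} : Set ℂ)),
      σ ⟨ρ.character g, h⟩ = ρ.character (g ^ u) := by
  have : NeZero N := ⟨hN.ne'⟩
  obtain ⟨ζK, hζK⟩ : ∃ z : adjoin ℚ ({ζ} : Set ℂ), (z : ℂ) = ζ :=
    ⟨⟨ζ, mem_adjoin_simple_self ℚ ζ⟩, rfl⟩
  have hζKprim : IsPrimitiveRoot ζK N := by
    have : IsPrimitiveRoot ((algebraMap (adjoin ℚ ({ζ} : Set ℂ)) ℂ) ζK) N := by
      rw [IntermediateField.algebraMap_apply, hζK]; exact hζ
    exact IsPrimitiveRoot.of_map_of_injective (f := algebraMap (adjoin ℚ ({ζ} : Set ℂ)) ℂ) this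
      (algebraMap (adjoin ℚ ({ζ} : Set ℂ)) ℂ).injective
  have hσprim : IsPrimitiveRoot (σ ζK) N := hζKprim.map_of_injective σ.injective
  obtain ⟨u, -, hu⟩ := hζ.eq_pow_of_pow_eq_one hσprim.pow_eq_one
  have hucop : u.Coprime N := by
    rw [← hζ.pow_iff_coprime hN u, hu]; exact hσprim
  refine ⟨u, hucop, fun n ρ g h => ?_⟩
  obtain ⟨μ, hμ, hk⟩ := exists_character_pow_eq_sum ρ g N hN (hG g)
  have h1 := hk 1
  rw [pow_one] at h1
  choose a ha using fun i => hζ.eq_pow_of_pow_eq_one (hμ i)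
  have hsum : (⟨ρ.character g, h⟩ : adjoin ℚ ({ζ} : Set ℂ)) = ∑ i, ζK ^ a i := by
    apply Subtype.ext
    rw [AddSubmonoidClass.coe_finsetSum]
    change ρ.character g = _
    rw [h1]
    refine Finset.sum_congr rfl fun i _ => ?_
    simp [hζK, (ha i).2]
  rw [hsum, map_sum, hk u]
  refine Finset.sum_congr rfl fun i _ => ?_
  rw [map_pow, ← hu, ← (ha i).2, ← pow_mul, ← pow_mul, mul_comm]

/-- Character values are algebraic integers. -/
theorem isIntegral_character {n : ℕ} (ρ : Representation ℂ P (Fin n → ℂ)) (g : P) :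
    IsIntegral ℤ (ρ.character g) := by
  have hN : 0 < Fintype.card P := Fintype.card_pos
  obtain ⟨μ, hμ, hk⟩ := exists_character_pow_eq_sum ρ g (Fintype.card P) hN pow_card_eq_one
  have h1 := hk 1
  rw [pow_one] at h1
  rw [h1]
  refine IsIntegral.sum _ fun i _ => ?_
  rw [pow_one]
  exact IsIntegral.of_pow hN (by rw [hμ i]; exact isIntegral_one)

/-- **A positive generalized character with `⟨w, 1⟩ = 1` is the trivial character.** -/
theorem eq_one_of_pos_of_sum (w : P → ℂ) (n : IrrCharacter P → ℤ)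
    (hw : ∀ v, w v = ∑ μ : IrrCharacter P, (n μ : ℂ) * (μ : P → ℂ) v)
    (r : P → ℝ) (hr : ∀ v, 0 < r v) (hwr : ∀ v, w v = (r v : ℂ))
    (hsum : ∑ v, r v = (Fintype.card P : ℝ)) : ∀ v, r v = 1 := by
  classical
  set N := Fintype.card P with hNdef
  have hN : 0 < N := Fintype.card_pos
  have hG : ∀ g : P, g ^ N = 1 := fun g => pow_card_eq_one
  set ζ : ℂ := Complex.exp (2 * Real.pi * Complex.I / (N : ℂ)) with hζdef
  have hζ : IsPrimitiveRoot ζ N := Complex.isPrimitiveRoot_exp N hN.ne'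
  have hζint : IsIntegral ℚ ζ := (hζ.isIntegral hN).tower_top
  have hfd : FiniteDimensional ℚ (adjoin ℚ ({ζ} : Set ℂ)) := adjoin.finiteDimensional hζint
  choose dμ ρ hirr hchar using fun μ : IrrCharacter P => μ.2
  have hw' : ∀ v, w v = ∑ μ : IrrCharacter P, (n μ : ℂ) * (ρ μ).character v := by
    intro v
    rw [hw v]
    refine Finset.sum_congr rfl fun μ _ => ?_
    rw [hchar μ]
  have hmemρ : ∀ (μ : IrrCharacter P) (v : P), (ρ μ).character v ∈ adjoin ℚ ({ζ} : Set ℂ) :=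
    fun μ v => character_mem_adjoin (ρ μ) N hN ζ hζ v (hG v)
  have hmem : ∀ v : P, w v ∈ adjoin ℚ ({ζ} : Set ℂ) := by
    intro v
    rw [hw' v]
    refine sum_mem fun μ _ => ?_
    exact mul_mem (intCast_mem _ _) (hmemρ μ v)
  have hint : ∀ v : P, IsIntegral ℤ (w v) := by
    intro v
    rw [hw' v]
    refine IsIntegral.sum _ fun μ _ => ?_
    have hz : IsIntegral ℤ ((n μ : ℤ) : ℂ) := by
      have := isIntegral_algebraMap (R := ℤ) (A := ℂ) (x := n μ)
      simpa using this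
    exact IsIntegral.mul hz (isIntegral_character (ρ μ) v)
  choose u hucop hu using fun σ : adjoin ℚ ({ζ} : Set ℂ) →ₐ[ℚ] ℂ =>
    exists_pow_of_embedding_all N hN hG ζ hζ σ
  have hσw : ∀ (σ : adjoin ℚ ({ζ} : Set ℂ) →ₐ[ℚ] ℂ) (v : P),
      σ ⟨w v, hmem v⟩ = w (v ^ u σ) := by
    intro σ v
    have h1 : (⟨w v, hmem v⟩ : adjoin ℚ ({ζ} : Set ℂ)) =
        ∑ μ : IrrCharacter P, ((n μ : ℤ) : adjoin ℚ ({ζ} : Set ℂ)) *
          ⟨(ρ μ).character v, hmemρ μ v⟩ := by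
      apply Subtype.ext
      rw [AddSubmonoidClass.coe_finsetSum]
      change w v = _
      rw [hw' v]
      refine Finset.sum_congr rfl fun μ _ => ?_
      simp
    rw [h1, map_sum, hw' (v ^ u σ)]
    refine Finset.sum_congr rfl fun μ _ => ?_
    rw [map_mul, map_intCast, hu σ (dμ μ) (ρ μ) v (hmemρ μ v)]
  -- the product of the conjugates of each value
  have hprod1 : ∀ v : P, 1 ≤ ∏ σ : adjoin ℚ ({ζ} : Set ℂ) →ₐ[ℚ] ℂ, r (v ^ u σ) := by
    intro v
    have hne : (⟨w v, hmem v⟩ : adjoin ℚ ({ζ} : Set ℂ)) ≠ 0 := by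
      intro h0
      have h2 : w v = 0 := by
        have := congrArg Subtype.val h0
        simpa using this
      rw [hwr v] at h2
      have : r v = 0 := by exact_mod_cast h2
      exact (hr v).ne' this
    have h3 := one_le_norm_prod_embeddings (adjoin ℚ ({ζ} : Set ℂ)) ⟨w v, hmem v⟩ (hint v) hne
    have h4 : ∏ σ : adjoin ℚ ({ζ} : Set ℂ) →ₐ[ℚ] ℂ, σ ⟨w v, hmem v⟩ =
        ((∏ σ : adjoin ℚ ({ζ} : Set ℂ) →ₐ[ℚ] ℂ, r (v ^ u σ) : ℝ) : ℂ) := by
      rw [Complex.ofReal_prod]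
      refine Finset.prod_congr rfl fun σ _ => ?_
      rw [hσw σ v, hwr]
    rw [h4, Complex.norm_real, Real.norm_eq_abs, abs_of_nonneg
      (Finset.prod_nonneg fun σ _ => (hr _).le)] at h3
    exact h3
  set Y : ℝ := ∏ v : P, r v with hY
  have hYpos : 0 < Y := Finset.prod_pos fun v _ => hr v
  have hswap : ∏ v : P, ∏ σ : adjoin ℚ ({ζ} : Set ℂ) →ₐ[ℚ] ℂ, r (v ^ u σ) =
      Y ^ Fintype.card (adjoin ℚ ({ζ} : Set ℂ) →ₐ[ℚ] ℂ) := by
    rw [Finset.prod_comm]
    have : ∀ σ : adjoin ℚ ({ζ} : Set ℂ) →ₐ[ℚ] ℂ, ∏ v : P, r (v ^ u σ) = Y := by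
      intro σ
      have hc : (Nat.card P).Coprime (u σ) := by
        rw [Nat.card_eq_fintype_card]; exact (hucop σ).symm
      exact Equiv.prod_comp (powCoprime hc) r
    simp_rw [this]
    rw [Finset.prod_const, Finset.card_univ]
  have hge : 1 ≤ Y ^ Fintype.card (adjoin ℚ ({ζ} : Set ℂ) →ₐ[ℚ] ℂ) := by
    rw [← hswap]
    calc (1 : ℝ) = ∏ _v : P, (1 : ℝ) := by simp
      _ ≤ ∏ v : P, ∏ σ : adjoin ℚ ({ζ} : Set ℂ) →ₐ[ℚ] ℂ, r (v ^ u σ) :=
        Finset.prod_le_prod (fun _ _ => zero_le_one) (fun v _ => hprod1 v)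
  have hE : Fintype.card (adjoin ℚ ({ζ} : Set ℂ) →ₐ[ℚ] ℂ) ≠ 0 := by
    have : Nonempty (adjoin ℚ ({ζ} : Set ℂ) →ₐ[ℚ] ℂ) := ⟨(adjoin ℚ ({ζ} : Set ℂ)).val⟩
    exact Fintype.card_ne_zero
  have hY1 : 1 ≤ Y := by
    by_contra hlt
    rw [not_le] at hlt
    have := pow_lt_one₀ hYpos.le hlt hE
    linarith
  exact eq_one_of_prod_ge_of_sum_le r hr hY1 hsum.le

end Galois

end Cfsg.Agent.Lib.Helper16.BP
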