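import Mathlib
import Cfsg.Agent.Lib.Helper16.BPInstFus
import Cfsg.Agent.Lib.Helper16.NormConj
import Cfsg.Agent.Lib.Helper80.CharBasic
import Cfsg.Agent.S4660

/-!
# PROJECT BP, [INST-LS]: `locSysOf` is a local system (helper16)
-/

set_option autoImplicit false
set_option linter.unusedSectionVars false
set_option linter.style.haveILetI false

namespace Cfsg.Agent.Lib.Helper16.BP

open Cfsg Cfsg.Agent.Lib.Helper16 Cfsg.Agent.Lib.Helper78 Cfsg.Agent.Lib.Helper92.BP

universe u

variable {G : Type u} [Group G] [Fintype G] {M : Ideal AlgInt} {p : ℕ} [Fact p.Prime]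
  {B : Set (IrrCharacter G)} {P : Subgroup G}
  {e : Set (IrrCharacter (Subgroup.centralizer (P : Set G)))}

/-- some conjugate of the pair lies below `(P, e)` -/
def Below (p : ℕ) (M : Ideal AlgInt) (P : Subgroup G)
    (e : Set (IrrCharacter (Subgroup.centralizer (P : Set G)))) (a : BrauerPairIdx G) : Prop :=
  ∃ x : G, Relation.ReflTransGen (NormalSubpairRel p M) (conjPair x a) ⟨P, e⟩

theorem below_iff {Q : Subgroup G} {f : Set (IrrCharacter (Subgroup.centralizer (Q : Set G)))} :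
    Below p M P e ⟨Q, f⟩ ↔
      ∃ x : G, SubpairLE p M (Q.map (MulAut.conj x).toMonoidHom) (conjBlock Q x f) P e :=
  Iff.rfl

theorem below_conjPair_iff (g : G) (a : BrauerPairIdx G) :
    Below p M P e (conjPair g a) ↔ Below p M P e a := by
  constructor
  · rintro ⟨x, hx⟩
    refine ⟨x * g, ?_⟩
    rwa [conjPair_conjPair] at hx
  · rintro ⟨x, hx⟩
    refine ⟨x * g⁻¹, ?_⟩
    rwa [conjPair_conjPair, inv_mul_cancel_right]

theorem below_of_le {a b : BrauerPairIdx G}
    (hab : Relation.ReflTransGen (NormalSubpairRel p M) a b) (hb : Below p M P e b) :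
    Below p M P e a := by
  obtain ⟨x, hx⟩ := hb
  exact ⟨x, Relation.ReflTransGen.trans (subpairLE_conjPair (M := M) hab x) hx⟩

theorem below_of_ge (hM : IsPModular p M) (hmax : IsMaximalBrauerPair p M B P e)
    {a b : BrauerPairIdx G} (hab : Relation.ReflTransGen (NormalSubpairRel p M) a b)
    (hb : IsBrauerPair p M b.1 b.2) (ha : Below p M P e a) : Below p M P e b := by
  obtain ⟨Q', f'⟩ := a
  obtain ⟨Q, f⟩ := b
  have hPe : IsBrauerPair p M P e := hmax.1.1
  have hB : IsPBlock M B := hmax.1.2.1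
  obtain ⟨y, hy⟩ := ha
  -- `(Q', f')^y` is a `B`-pair
  have h1 : IsBrauerPair p M (conjPair y ⟨Q', f'⟩).1 (conjPair y ⟨Q', f'⟩).2 :=
    Cfsg.Agent.S4655.le_pair_left hy hPe
  have h2 : IsBrauerPairOf p M B (conjPair y ⟨Q', f'⟩).1 (conjPair y ⟨Q', f'⟩).2 :=
    (Cfsg.Agent.S4658.result p M hM P _ e _ hPe h1 hy B hB).mp hmax.1
  -- so `(Q', f')` is
  have h3 := isBrauerPairOf_conj h2 y⁻¹
  have h4 : (⟨(conjPair y ⟨Q', f'⟩).1.map (MulAut.conj y⁻¹).toMonoidHom,
      conjBlock (conjPair y ⟨Q', f'⟩).1 y⁻¹ (conjPair y ⟨Q', f'⟩).2⟩ : BrauerPairIdx G) =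
      ⟨Q', f'⟩ := conjPair_inv_conjPair y ⟨Q', f'⟩
  have h5 : IsBrauerPairOf p M B Q' f' := by
    have : ∀ c : BrauerPairIdx G, c = ⟨Q', f'⟩ → IsBrauerPairOf p M B c.1 c.2 →
        IsBrauerPairOf p M B Q' f' := by
      rintro c rfl h
      exact h
    exact this _ h4 h3
  -- so `(Q, f)` is
  have h6 : IsBrauerPairOf p M B Q f :=
    (Cfsg.Agent.S4658.result p M hM Q Q' f f' hb h5.1 hab B hB).mpr h5
  exact Cfsg.Agent.S4660.result p M hM B P Q e f hmax h6

theorem isGeneralizedCharacter_zero' (H : Type u) [Group H] :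
    IsGeneralizedCharacter H (0 : H → ℂ) :=
  ⟨0, 0, Cfsg.Agent.Lib.Helper80.isCharacter_zero, Cfsg.Agent.Lib.Helper80.isCharacter_zero,
    (sub_zero _).symm⟩

theorem isGeneralizedCharacter_comp' {H K : Type u} [Group H] [Group K] (φ : H →* K)
    {η : K → ℂ} (hη : IsGeneralizedCharacter K η) :
    IsGeneralizedCharacter H (fun h => η (φ h)) := by
  obtain ⟨χ, ψ, hχ, hψ, rfl⟩ := hη
  exact ⟨_, _, Cfsg.Agent.Lib.Helper80.isCharacter_comp φ hχ,
    Cfsg.Agent.Lib.Helper80.isCharacter_comp φ hψ, rfl⟩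

/-- BP-[INST-LS] : `locSysOf` is a local system. -/
theorem isLocalSystem_locSysOf (hM : IsPModular p M) (hmax : IsMaximalBrauerPair p M B P e)
    {η : P → ℂ} (hηg : IsGeneralizedCharacter P η) (hη : IsFusionStable p M P e η) :
    IsLocalSystem p M (locSysOf p M P e η) := by
  have hPe : IsBrauerPair p M P e := hmax.1.1
  refine ⟨?_, ?_, ?_⟩
  · -- conjugation
    intro Q f g u hQf hu
    by_cases h : ∃ x : G, SubpairLE p M (Q.map (MulAut.conj x).toMonoidHom) (conjBlock Q x f) P e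
    · obtain ⟨x, hx⟩ := h
      have hmem : x * u * x⁻¹ ∈ P := by
        have h1 : Q.map (MulAut.conj x).toMonoidHom ≤ P := Cfsg.Agent.S4655.le_le hx
        exact h1 ⟨u, hu, rfl⟩
      have hx' : SubpairLE p M
          ((Q.map (MulAut.conj g).toMonoidHom).map (MulAut.conj (x * g⁻¹)).toMonoidHom)
          (conjBlock (Q.map (MulAut.conj g).toMonoidHom) (x * g⁻¹) (conjBlock Q g f)) P e := by
        show Relation.ReflTransGen (NormalSubpairRel p M)
          (conjPair (x * g⁻¹) (conjPair g ⟨Q, f⟩)) ⟨P, e⟩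
        rw [conjPair_conjPair, inv_mul_cancel_right]
        exact hx
      have hu' : g * u * g⁻¹ ∈ Q.map (MulAut.conj g).toMonoidHom := ⟨u, hu, rfl⟩
      have heq : x * g⁻¹ * (g * u * g⁻¹) * (x * g⁻¹)⁻¹ = x * u * x⁻¹ := by group
      have hmem' : x * g⁻¹ * (g * u * g⁻¹) * (x * g⁻¹)⁻¹ ∈ P := by rw [heq]; exact hmem
      rw [locSysOf_eq hM hPe hη hx' hu' hmem', locSysOf_eq hM hPe hη hx hu hmem]
      exact congrArg η (Subtype.ext heq)
    · have h' : ¬ ∃ x : G, SubpairLE p M
          ((Q.map (MulAut.conj g).toMonoidHom).map (MulAut.conj x).toMonoidHom)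
          (conjBlock (Q.map (MulAut.conj g).toMonoidHom) x (conjBlock Q g f)) P e := by
        intro hc
        exact h ((below_conjPair_iff (p := p) (M := M) (P := P) (e := e) g ⟨Q, f⟩).mp hc)
      rw [locSysOf_eq_zero η _ h, locSysOf_eq_zero η _ h']
  · -- restriction
    intro Q' Q f' f hQf hf' hle u hu
    have huQ : u ∈ Q := (Cfsg.Agent.S4655.le_le hle : Q' ≤ Q) hu
    by_cases h : ∃ x : G, SubpairLE p M (Q.map (MulAut.conj x).toMonoidHom) (conjBlock Q x f) P e
    · obtain ⟨x, hx⟩ := h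
      have hmem : x * u * x⁻¹ ∈ P := by
        have h1 : Q.map (MulAut.conj x).toMonoidHom ≤ P := Cfsg.Agent.S4655.le_le hx
        exact h1 ⟨u, huQ, rfl⟩
      have hx' : SubpairLE p M (Q'.map (MulAut.conj x).toMonoidHom) (conjBlock Q' x f') P e :=
        Relation.ReflTransGen.trans (subpairLE_conjPair (M := M) hle x) hx
      rw [locSysOf_eq hM hPe hη hx' hu hmem, locSysOf_eq hM hPe hη hx huQ hmem]
    · have h' : ¬ ∃ x : G, SubpairLE p M (Q'.map (MulAut.conj x).toMonoidHom)
          (conjBlock Q' x f') P e := by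
        intro hc
        exact h (below_of_ge hM hmax (a := ⟨Q', f'⟩) (b := ⟨Q, f⟩) hle hQf hc)
      rw [locSysOf_eq_zero η _ h, locSysOf_eq_zero η _ h']
  · -- generalized characters
    intro Q f hQf
    by_cases h : ∃ x : G, SubpairLE p M (Q.map (MulAut.conj x).toMonoidHom) (conjBlock Q x f) P e
    · obtain ⟨x, hx⟩ := h
      have hmem : ∀ u : Q, x * (u : G) * x⁻¹ ∈ P := by
        intro u
        have h1 : Q.map (MulAut.conj x).toMonoidHom ≤ P := Cfsg.Agent.S4655.le_le hx
        exact h1 ⟨u, u.2, rfl⟩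
      let φ : Q →* P :=
        { toFun := fun u => ⟨x * (u : G) * x⁻¹, hmem u⟩
          map_one' := Subtype.ext (by simp)
          map_mul' := fun a b => Subtype.ext (by simp [mul_assoc]) }
      have hfun : (fun u : Q => locSysOf p M P e η Q f (u : G)) = fun u : Q => η (φ u) := by
        funext u
        exact locSysOf_eq hM hPe hη hx u.2 (hmem u)
      rw [hfun]
      exact isGeneralizedCharacter_comp' φ hηg
    · have hfun : (fun u : Q => locSysOf p M P e η Q f (u : G)) = 0 := by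
        funext u
        exact locSysOf_eq_zero η _ h
      rw [hfun]
      exact isGeneralizedCharacter_zero' _

end Cfsg.Agent.Lib.Helper16.BP
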