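import Mathlib
import Cfsg.Agent.Lib.Helper16.BPNilLocal
import Cfsg.Agent.Lib.Helper16.BPGalois
import Cfsg.Agent.S4428

/-!
# PROJECT BP, layer 5: the weights of a height zero character of a nilpotent block (helper16)

`B` nilpotent with maximal pair `(P, e)`, `χ₀ ∈ B` of height zero, and the `*`-theorem `BPIrr`.
Then `|v^P|⁻¹ · mv v χ₀ χ₀ = |P|⁻¹` for every `v ∈ P` (`key_weight`): the class function
`w v = |P| |v^P|⁻¹ mv v χ₀ χ₀` of `P` is a generalized character (by `BPIrr` and the norm formula),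
positive (S4428) with `⟨w, 1⟩ = ⟨χ₀, χ₀⟩ = 1`, hence `w = 1`.
-/

set_option autoImplicit false
set_option linter.unusedSectionVars false
set_option linter.style.haveILetI false

namespace Cfsg.Agent.Lib.Helper16.BP

open Cfsg Finset Cfsg.Agent.Lib.Helper16 Cfsg.Agent.Lib.Helper78 Cfsg.Agent.Lib.Helper82
open scoped ComplexConjugate

universe u

variable {G : Type u} [Group G] [Fintype G] {M : Ideal AlgInt}

attribute [local instance 2000] locCFintype

variable {p : ℕ} [Fact p.Prime] {B : Set (IrrCharacter G)} {P : Subgroup G}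
  {e : Set (IrrCharacter (Subgroup.centralizer (P : Set G)))}

open scoped Classical in
/-- The real number whose cast is the diagonal contribution. -/
noncomputable def mvReal (p : ℕ) (M : Ideal AlgInt) (P : Subgroup G)
    (e : Set (IrrCharacter (Subgroup.centralizer (P : Set G)))) (v : G) (δ : G → ℂ) : ℝ :=
  ((Nat.card (locC v) : ℝ))⁻¹ * ∑ s ∈ Finset.univ.filter (fun s : locC v => ¬ p ∣ orderOf s),
    Complex.normSq (secPart v (locC v) (subF p M P e v) δ s)

theorem mv_self_eq_ofReal (v : G) (δ : G → ℂ) :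
    mv p M P e v δ δ = ((mvReal p M P e v δ : ℝ) : ℂ) := by
  classical
  unfold mv secM mvReal
  push_cast
  congr 1
  apply Finset.sum_congr rfl
  intro s _
  exact Complex.mul_conj _

theorem mvReal_nonneg (v : G) (δ : G → ℂ) : 0 ≤ mvReal p M P e v δ := by
  classical
  unfold mvReal
  apply mul_nonneg
  · exact inv_nonneg.mpr (Nat.cast_nonneg _)
  · exact Finset.sum_nonneg fun s _ => Complex.normSq_nonneg _

/-- Positivity of the diagonal contributions of a height zero character (S4428). -/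
theorem mvReal_pos_of_height_zero (hM : IsPModular p M) (hmax : IsMaximalBrauerPair p M B P e)
    {χ₀ : IrrCharacter G} (hχ₀ : χ₀ ∈ B) (h0 : blockHeight p B (χ₀ : G → ℂ) = 0) {v : G}
    (hv : v ∈ P) : 0 < mvReal p M P e v (χ₀ : G → ℂ) := by
  classical
  have hPe : IsBrauerPair p M P e := hmax.1.1
  have hvH : v ∈ locC v := (locC_mem_iff v v).mpr (Commute.refl v)
  obtain ⟨k, hk⟩ := exists_orderOf_of_mem hPe.1 hv
  have hcomm : ∀ c : locC v, (⟨v, hvH⟩ : locC v) * c = c * ⟨v, hvH⟩ := by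
    intro c
    apply Subtype.ext
    exact ((locC_mem_iff v c).mp c.2).eq
  have hpow : (⟨v, hvH⟩ : locC v) ^ (p ^ k) = 1 := by
    apply Subtype.ext
    simp only [Subgroup.coe_pow, Subgroup.coe_one]
    rw [← hk]
    exact pow_orderOf_eq_one v
  obtain ⟨y, hy, hne⟩ := Cfsg.Agent.S4428.main p M hM B χ₀ hχ₀ h0 (locC v) ⟨v, hvH⟩ hcomm k hpow
    (subF p M P e v) (isInducedBlock_subF hM hmax hv)
  unfold mvReal
  apply mul_pos
  · exact inv_pos.mpr (by exact_mod_cast Nat.card_pos)
  · apply Finset.sum_pos'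
    · intro s _
      exact Complex.normSq_nonneg _
    · refine ⟨y, by simp [hy], ?_⟩
      apply Complex.normSq_pos.mpr
      exact hne

/-- The inverse class size of `v` in `P`. -/
noncomputable def clsW (v : P) : ℂ := ((Nat.card {v' : P // IsConj v v'} : ℂ))⁻¹

theorem clsW_conj (v d : P) : clsW (d * v * d⁻¹) = clsW v := by
  unfold clsW
  congr 2
  apply Nat.card_congr
  refine Equiv.subtypeEquivRight ?_
  intro v'
  have h : IsConj v (d * v * d⁻¹) := isConj_iff.mpr ⟨d, rfl⟩
  exact ⟨fun h' => h.trans h', fun h' => h.symm.trans h'⟩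

theorem clsW_one : clsW (1 : P) = 1 := by
  unfold clsW
  have : Nat.card {v' : P // IsConj (1 : P) v'} = 1 := by
    rw [Nat.card_eq_one_iff_unique]
    refine ⟨⟨?_⟩, ⟨⟨1, IsConj.refl 1⟩⟩⟩
    rintro ⟨a, ha⟩ ⟨b, hb⟩
    apply Subtype.ext
    simp only
    rw [isConj_one_right.mp ha, isConj_one_right.mp hb]
  rw [this]
  simp

theorem mv_conj_mem (hM : IsPModular p M) (hPe : IsBrauerPair p M P e) (v d : P) {α β : G → ℂ}
    (hα : IsClassFunction G α) (hβ : IsClassFunction G β) :
    mv p M P e ((d * v * d⁻¹ : P) : G) α β = mv p M P e (v : G) α β := by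
  have h := fus_of_mem hM hPe v.2 d.2
  have h2 : ((d * v * d⁻¹ : P) : G) = (d : G) * (v : G) * (d : G)⁻¹ := by simp
  rw [h2]
  exact (mv_eq_of_fus hM hPe v.2 (h2 ▸ (d * v * d⁻¹).2) h hα hβ).symm

open scoped Classical in
/-- The norm formula in `clsW` form. -/
theorem classInner_eq_sum_clsW (hM : IsPModular p M) (hmax : IsMaximalBrauerPair p M B P e)
    (hnil : IsNilpotentBlock p M B) {θ θ' : G → ℂ} (hθ : IsClassFunction G θ)
    (hθB : ∀ ψ : IrrCharacter G, ψ ∉ B → classInner θ (ψ : G → ℂ) = 0)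
    (hθ' : IsClassFunction G θ') :
    classInner θ θ' = ∑ v : P, clsW v * mv p M P e (v : G) θ θ' :=
  classInner_eq_sum_mv_nil hM hmax hnil hθ hθB hθ'

theorem classInner_irr_eq_zero_of_not_mem {χ : IrrCharacter G} (hχ : χ ∈ B) (ψ : IrrCharacter G)
    (hψ : ψ ∉ B) : classInner (χ : G → ℂ) (ψ : G → ℂ) = 0 :=
  classInner_irr_ne χ.2 ψ.2 (fun h => hψ (by
    have : χ = ψ := Subtype.ext h
    rwa [← this]))

open scoped Classical in
/-- **The weights of a height zero character.** -/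
theorem key_weight (hM : IsPModular p M) (hmax : IsMaximalBrauerPair p M B P e)
    (hnil : IsNilpotentBlock p M B) (hBP : BPIrr p M B P e) {χ₀ : IrrCharacter G} (hχ₀ : χ₀ ∈ B)
    (h0 : blockHeight p B (χ₀ : G → ℂ) = 0) (v : P) :
    clsW v * mv p M P e (v : G) (χ₀ : G → ℂ) (χ₀ : G → ℂ) = ((Nat.card P : ℂ))⁻¹ := by
  have hPe : IsBrauerPair p M P e := hmax.1.1
  have hcardP : (0 : ℝ) < (Nat.card P : ℝ) := by exact_mod_cast Nat.card_pos
  have hcardPC : (Nat.card P : ℂ) ≠ 0 := by exact_mod_cast Nat.card_pos.ne'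
  have hcls : ∀ v : P, (0 : ℝ) < (Nat.card {v' : P // IsConj v v'} : ℝ) := by
    intro v
    haveI : Nonempty {v' : P // IsConj v v'} := ⟨⟨v, IsConj.refl v⟩⟩
    exact_mod_cast Nat.card_pos
  set wC : P → ℂ := fun v => (Nat.card P : ℂ) * clsW v *
    mv p M P e (v : G) (χ₀ : G → ℂ) (χ₀ : G → ℂ) with hwC
  set r : P → ℝ := fun v => (Nat.card P : ℝ) * ((Nat.card {v' : P // IsConj v v'} : ℝ))⁻¹ *
    mvReal p M P e (v : G) (χ₀ : G → ℂ) with hrdef
  have hwr : ∀ v, wC v = ((r v : ℝ) : ℂ) := by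
    intro v
    rw [hwC, hrdef]
    simp only
    rw [mv_self_eq_ofReal]
    unfold clsW
    push_cast
    ring
  have hr : ∀ v, 0 < r v := by
    intro v
    rw [hrdef]
    exact mul_pos (mul_pos hcardP (inv_pos.mpr (hcls v)))
      (mvReal_pos_of_height_zero hM hmax hχ₀ h0 v.2)
  have hχcf : IsClassFunction G (χ₀ : G → ℂ) := isClassFunction_irr χ₀
  have hχB : ∀ ψ : IrrCharacter G, ψ ∉ B → classInner (χ₀ : G → ℂ) (ψ : G → ℂ) = 0 :=
    classInner_irr_eq_zero_of_not_mem hχ₀
  have hcf : IsClassFunction P wC := by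
    intro g h
    rw [hwC]
    simp only
    rw [clsW_conj, mv_conj_mem hM hPe g h hχcf hχcf]
  -- the sum of the weights
  have hnorm := classInner_eq_sum_clsW hM hmax hnil hχcf hχB hχcf
  rw [classInner_irr_self χ₀.2] at hnorm
  have hsumC : ∑ v : P, wC v = (Nat.card P : ℂ) := by
    rw [hwC]
    simp only
    simp_rw [mul_assoc]
    rw [← Finset.mul_sum, ← hnorm, mul_one]
  have hsum : ∑ v : P, r v = (Fintype.card P : ℝ) := by
    have h1 : ((∑ v : P, r v : ℝ) : ℂ) = ((Fintype.card P : ℝ) : ℂ) := by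
      push_cast
      simp_rw [← hwr]
      rw [hsumC, Nat.card_eq_fintype_card]
    exact_mod_cast h1
  -- integrality
  have hint : ∀ μ : IrrCharacter P, ∃ z : ℤ, classInner wC (μ : P → ℂ) = (z : ℂ) := by
    intro μ
    obtain ⟨θμ, hz, hstar⟩ := hBP μ χ₀ hχ₀
    obtain ⟨z, hzz⟩ := IsZSpan.classInner_int (isZSpan_irr hχ₀) hz
    refine ⟨z, ?_⟩
    rw [← hzz, classInner_eq_sum_clsW hM hmax hnil hχcf hχB hz.isClassFunction]
    unfold classInner
    rw [Finset.mul_sum]
    apply Finset.sum_congr rfl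
    intro v _
    rw [mv_star hM hPe (isStarOf_one (χ₀ : G → ℂ)) hstar v, hwC]
    simp only
    field_simp
  choose n hn using hint
  have hw : ∀ v, wC v = ∑ μ : IrrCharacter P, (n μ : ℂ) * (μ : P → ℂ) v := by
    intro v
    have h := congrFun (classFunction_eq_sum_irr hcf) v
    rw [Finset.sum_apply] at h
    simp only [Pi.smul_apply, smul_eq_mul] at h
    rw [h]
    apply Finset.sum_congr rfl
    intro μ _
    rw [hn μ]
  have hone := eq_one_of_pos_of_sum wC n hw r hr hwr hsum v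
  have h2 := hwr v
  rw [hone, hwC] at h2
  simp only [Complex.ofReal_one] at h2
  rw [mul_assoc] at h2
  exact eq_inv_of_mul_eq_one_right h2

end Cfsg.Agent.Lib.Helper16.BP
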