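import Mathlib
import Cfsg.Agent.Lib.Helper16.BPNilW
import Cfsg.Agent.Lib.Helper78.CharValues
import Cfsg.Agent.S4426

/-!
# PROJECT BP, layer 5: the structure of a nilpotent block from the `*`-theorem (helper16)

`B` nilpotent with maximal pair `(P, e)`, `χ₀ ∈ B` of height zero, and `BPIrr p M B P e`.
`nil_structure`: there is a bijection `Ψ : Irr(P) → B` with `Ψ λ = λ(1) χ₀` on the `p`-regular
elements.
-/

set_option autoImplicit false
set_option linter.unusedSectionVars false
set_option linter.style.haveILetI false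

namespace Cfsg.Agent.Lib.Helper16.BP

open Cfsg Finset Cfsg.Agent.Lib.Helper16 Cfsg.Agent.Lib.Helper78 Cfsg.Agent.Lib.Helper82
open scoped ComplexConjugate

universe u

variable {G : Type u} [Group G] [Fintype G] {M : Ideal AlgInt}

attribute [local instance 2000] locCFintype

variable {p : ℕ} [Fact p.Prime] {B : Set (IrrCharacter G)} {P : Subgroup G}
  {e : Set (IrrCharacter (Subgroup.centralizer (P : Set G)))}

/-- An integer vector of norm one is `±` a unit vector. -/
theorem exists_unit_of_sum_sq_eq_one {ι : Type*} [Fintype ι] [DecidableEq ι] (n : ι → ℤ)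
    (h : ∑ i, n i ^ 2 = 1) :
    ∃ i₀, (n i₀ = 1 ∨ n i₀ = -1) ∧ ∀ i, i ≠ i₀ → n i = 0 := by
  have hex : ∃ i₀, n i₀ ≠ 0 := by
    by_contra hcon
    rw [not_exists] at hcon
    have : ∑ i, n i ^ 2 = 0 := Finset.sum_eq_zero fun i _ => by
      have := not_not.mp (hcon i)
      rw [this]; rfl
    omega
  obtain ⟨i₀, hi₀⟩ := hex
  have hsplit : n i₀ ^ 2 + ∑ i ∈ Finset.univ.erase i₀, n i ^ 2 = 1 := by
    rw [Finset.add_sum_erase Finset.univ (fun i => n i ^ 2) (Finset.mem_univ i₀)]
    exact h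
  have hrest : 0 ≤ ∑ i ∈ Finset.univ.erase i₀, n i ^ 2 :=
    Finset.sum_nonneg fun i _ => sq_nonneg _
  have hsq : 1 ≤ n i₀ ^ 2 := by
    have : 0 < n i₀ ^ 2 := by positivity
    omega
  have hsq1 : n i₀ ^ 2 = 1 := by omega
  have hrest0 : ∑ i ∈ Finset.univ.erase i₀, n i ^ 2 = 0 := by omega
  refine ⟨i₀, ?_, ?_⟩
  · have : (n i₀ - 1) * (n i₀ + 1) = 0 := by ring_nf; omega
    rcases mul_eq_zero.mp this with h1 | h1
    · left; omega
    · right; omega
  · intro i hi
    have := (Finset.sum_eq_zero_iff_of_nonneg (fun i _ => sq_nonneg (n i))).mp hrest0 i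
      (Finset.mem_erase.mpr ⟨hi, Finset.mem_univ i⟩)
    exact pow_eq_zero_iff (two_ne_zero) |>.mp this

open scoped Classical in
/-- An integer combination of irreducible characters of norm one is `±` an irreducible
character in `B`. -/
theorem IsZSpan.eq_or_neg_of_norm_one {θ : G → ℂ} (h : IsZSpan B θ)
    (hnorm : classInner θ θ = 1) :
    ∃ ψ : IrrCharacter G, ψ ∈ B ∧ (θ = (ψ : G → ℂ) ∨ θ = -(ψ : G → ℂ)) := by
  obtain ⟨n, hnB, rfl⟩ := h.exists_sum
  have h1 : classInner (∑ ψ : IrrCharacter G, (n ψ : ℂ) • (ψ : G → ℂ))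
      (∑ ψ : IrrCharacter G, (n ψ : ℂ) • (ψ : G → ℂ)) = ((∑ ψ : IrrCharacter G, n ψ ^ 2 : ℤ) : ℂ) := by
    rw [classInner_sum_left]
    push_cast
    apply Finset.sum_congr rfl
    intro ψ _
    rw [classInner_smul_left, ← classInner_conj_symm, classInner_sum_int_smul]
    simp [sq]
  rw [h1] at hnorm
  have h2 : ∑ ψ : IrrCharacter G, n ψ ^ 2 = 1 := by exact_mod_cast hnorm
  obtain ⟨ψ₀, hψ₀, hrest⟩ := exists_unit_of_sum_sq_eq_one n h2
  have hψ₀B : ψ₀ ∈ B := by
    by_contra hcon
    have := hnB ψ₀ hcon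
    rcases hψ₀ with h | h <;> omega
  refine ⟨ψ₀, hψ₀B, ?_⟩
  have hsum : ∑ ψ : IrrCharacter G, (n ψ : ℂ) • (ψ : G → ℂ) = (n ψ₀ : ℂ) • (ψ₀ : G → ℂ) := by
    rw [Finset.sum_eq_single ψ₀]
    · intro ψ _ hne
      rw [hrest ψ hne]
      simp
    · intro h; exact absurd (Finset.mem_univ ψ₀) h
  rw [hsum]
  rcases hψ₀ with h | h
  · left; rw [h]; simp
  · right; rw [h]; simp

/-- Values on the `p`-regular elements of a function with the local data of `η * χ`. -/
theorem star_apply_of_regular (hM : IsPModular p M) (hmax : IsMaximalBrauerPair p M B P e)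
    {η : P → ℂ} {χ θ : G → ℂ} (hχ : IsClassFunction G χ)
    (hχB : ∀ ψ : IrrCharacter G, ψ ∉ B → classInner χ (ψ : G → ℂ) = 0)
    (hθ : IsClassFunction G θ)
    (hθB : ∀ ψ : IrrCharacter G, ψ ∉ B → classInner θ (ψ : G → ℂ) = 0)
    (hstar : IsStarOf p M P e η χ θ) (g : G) (hg : ¬ p ∣ orderOf g) :
    θ g = η 1 * χ g := by
  have hPe : IsBrauerPair p M P e := hmax.1.1
  have hgH : g ∈ locC (1 : G) := by rw [locC_one_eq_top]; exact Subgroup.mem_top g
  have hs : ¬ p ∣ orderOf (⟨g, hgH⟩ : locC (1 : G)) := by rwa [Subgroup.orderOf_mk]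
  have h1 := hstar 1 (one_mem P) (subF p M P e 1) (subF_spec hM hPe (one_mem P)).2 ⟨g, hgH⟩ hs
  rw [local_one hM hmax hθ hθB, local_one hM hmax hχ hχB] at h1
  exact h1

open scoped Classical in
/-- The contribution of `(1, f_1)` is the inner product over the `p`-regular elements. -/
theorem mv_one_eq (hM : IsPModular p M) (hmax : IsMaximalBrauerPair p M B P e) {α β : G → ℂ}
    (hα : IsClassFunction G α)
    (hαB : ∀ ψ : IrrCharacter G, ψ ∉ B → classInner α (ψ : G → ℂ) = 0)
    (hβ : IsClassFunction G β)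
    (hβB : ∀ ψ : IrrCharacter G, ψ ∉ B → classInner β (ψ : G → ℂ) = 0) :
    mv p M P e (1 : G) α β = ((Nat.card G : ℂ))⁻¹ *
      ∑ g ∈ Finset.univ.filter (fun g : G => ¬ p ∣ orderOf g), α g * conj (β g) := by
  unfold mv secM
  rw [Nat.card_congr (topEquivOf (locC_one_eq_top (G := G))).toEquiv]
  congr 1
  apply Finset.sum_bij (fun s _ => (topEquivOf (locC_one_eq_top (G := G))) s)
  · intro s hs
    simp only [Finset.mem_filter, Finset.mem_univ, true_and] at hs ⊢
    rwa [MulEquiv.orderOf_eq]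
  · intro s _ t _ h
    exact (topEquivOf (locC_one_eq_top (G := G))).injective h
  · intro g hg
    simp only [Finset.mem_filter, Finset.mem_univ, true_and] at hg
    refine ⟨(topEquivOf (locC_one_eq_top (G := G))).symm g, ?_, MulEquiv.apply_symm_apply _ g⟩
    simp only [Finset.mem_filter, Finset.mem_univ, true_and]
    rwa [MulEquiv.orderOf_eq]
  · intro s _
    unfold secPart
    rw [local_one hM hmax hα hαB, local_one hM hmax hβ hβB]
    rfl

open scoped Classical in
/-- **The structure of a nilpotent block** (from the `*`-theorem for `Irr(P)`). -/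
theorem nil_structure (hM : IsPModular p M) (hmax : IsMaximalBrauerPair p M B P e)
    (hnil : IsNilpotentBlock p M B) (hBP : BPIrr p M B P e) {χ₀ : IrrCharacter G} (hχ₀ : χ₀ ∈ B)
    (h0 : blockHeight p B (χ₀ : G → ℂ) = 0) :
    ∃ Ψ : IrrCharacter P → IrrCharacter G, Function.Injective Ψ ∧ (∀ lam, Ψ lam ∈ B) ∧
      (∀ ξ ∈ B, ∃ lam, Ψ lam = ξ) ∧
      ∀ (lam : IrrCharacter P) (g : G), ¬ p ∣ orderOf g →
        (Ψ lam : G → ℂ) g = (lam : P → ℂ) 1 * (χ₀ : G → ℂ) g := by
  have hPe : IsBrauerPair p M P e := hmax.1.1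
  have hB : IsPBlock M B := hmax.1.2.1
  have hχcf : IsClassFunction G (χ₀ : G → ℂ) := isClassFunction_irr χ₀
  have hχB : ∀ ψ : IrrCharacter G, ψ ∉ B → classInner (χ₀ : G → ℂ) (ψ : G → ℂ) = 0 :=
    classInner_irr_eq_zero_of_not_mem hχ₀
  choose θ hz hstar using fun lam : IrrCharacter P => hBP lam χ₀ hχ₀
  have hθcf : ∀ lam, IsClassFunction G (θ lam) := fun lam => (hz lam).isClassFunction
  have hθB : ∀ lam, ∀ ψ : IrrCharacter G, ψ ∉ B → classInner (θ lam) (ψ : G → ℂ) = 0 :=
    fun lam => (hz lam).classInner_eq_zero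
  -- the isometry
  have hiso : ∀ lam mu : IrrCharacter P,
      classInner (θ lam) (θ mu) = classInner (lam : P → ℂ) (mu : P → ℂ) := by
    intro lam mu
    rw [classInner_eq_sum_clsW hM hmax hnil (hθcf lam) (hθB lam) (hθcf mu)]
    unfold classInner
    rw [Finset.mul_sum]
    apply Finset.sum_congr rfl
    intro v _
    rw [mv_star hM hPe (hstar lam) (hstar mu) v]
    have hk := key_weight hM hmax hnil hBP hχ₀ h0 v
    calc clsW v * ((lam : P → ℂ) v * conj ((mu : P → ℂ) v) *
          mv p M P e (v : G) (χ₀ : G → ℂ) (χ₀ : G → ℂ))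
        = (lam : P → ℂ) v * conj ((mu : P → ℂ) v) *
          (clsW v * mv p M P e (v : G) (χ₀ : G → ℂ) (χ₀ : G → ℂ)) := by ring
      _ = ((Nat.card P : ℂ))⁻¹ * ((lam : P → ℂ) v * conj ((mu : P → ℂ) v)) := by rw [hk]; ring
  have hval : ∀ (lam : IrrCharacter P) (g : G), ¬ p ∣ orderOf g →
      θ lam g = (lam : P → ℂ) 1 * (χ₀ : G → ℂ) g := fun lam g hg =>
    star_apply_of_regular hM hmax hχcf hχB (hθcf lam) (hθB lam) (hstar lam) g hg
  have hp1 : ¬ p ∣ orderOf (1 : G) := by
    rw [orderOf_one]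
    exact (Fact.out : p.Prime).one_lt.ne' ∘ Nat.dvd_one.mp
  -- each `θ lam` is an irreducible character in `B`
  have hirr : ∀ lam : IrrCharacter P, ∃ ψ : IrrCharacter G, ψ ∈ B ∧ θ lam = (ψ : G → ℂ) := by
    intro lam
    have hn : classInner (θ lam) (θ lam) = 1 := by
      rw [hiso lam lam, classInner_irr_self lam.2]
    obtain ⟨ψ, hψB, h | h⟩ := (hz lam).eq_or_neg_of_norm_one hn
    · exact ⟨ψ, hψB, h⟩
    · exfalso
      have h1 := hval lam 1 hp1
      rw [h] at h1
      simp only [Pi.neg_apply] at h1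
      rw [IsCharacter.apply_one_eq_charDegree (IsIrrCharacter.isCharacter ψ.2),
        IsCharacter.apply_one_eq_charDegree (IsIrrCharacter.isCharacter lam.2),
        IsCharacter.apply_one_eq_charDegree (IsIrrCharacter.isCharacter χ₀.2)] at h1
      have h2 : -((charDegree (ψ : G → ℂ) : ℤ)) =
          (charDegree (lam : P → ℂ) : ℤ) * (charDegree (χ₀ : G → ℂ) : ℤ) := by
        exact_mod_cast h1
      have h3 := IsIrrCharacter.charDegree_pos ψ.2
      have h4 : (0 : ℤ) ≤ (charDegree (lam : P → ℂ) : ℤ) * (charDegree (χ₀ : G → ℂ) : ℤ) := by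
        positivity
      omega
  choose Ψ hΨB hΨ using hirr
  refine ⟨Ψ, ?_, hΨB, ?_, ?_⟩
  · -- injective
    intro lam mu hlm
    by_contra hne
    have h1 : classInner (θ lam) (θ mu) = 0 := by
      rw [hiso lam mu]
      exact classInner_irr_ne lam.2 mu.2 (fun h => hne (Subtype.ext h))
    have h2 : classInner (θ lam) (θ lam) = 1 := by
      rw [hiso lam lam, classInner_irr_self lam.2]
    rw [hΨ mu, ← hlm, ← hΨ lam, h2] at h1
    exact one_ne_zero h1
  · -- surjective
    intro ξ hξ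
    by_contra hcon
    rw [not_exists] at hcon
    have hξcf : IsClassFunction G (ξ : G → ℂ) := isClassFunction_irr ξ
    have hξB : ∀ ψ : IrrCharacter G, ψ ∉ B → classInner (ξ : G → ℂ) (ψ : G → ℂ) = 0 :=
      classInner_irr_eq_zero_of_not_mem hξ
    have horth : ∀ lam : IrrCharacter P, classInner (θ lam) (ξ : G → ℂ) = 0 := by
      intro lam
      rw [hΨ lam]
      exact classInner_irr_ne (Ψ lam).2 ξ.2 (fun h => hcon lam (Subtype.ext h))
    have hexp : ∀ lam : IrrCharacter P, classInner (θ lam) (ξ : G → ℂ) =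
        ∑ v : P, clsW v * ((lam : P → ℂ) v *
          mv p M P e (v : G) (χ₀ : G → ℂ) (ξ : G → ℂ)) := by
      intro lam
      rw [classInner_eq_sum_clsW hM hmax hnil (hθcf lam) (hθB lam) hξcf]
      apply Finset.sum_congr rfl
      intro v _
      rw [mv_star hM hPe (hstar lam) (isStarOf_one (ξ : G → ℂ)) v]
      simp
    have hsum : ∑ lam : IrrCharacter P, conj ((lam : P → ℂ) 1) *
        classInner (θ lam) (ξ : G → ℂ) = 0 :=
      Finset.sum_eq_zero fun lam _ => by rw [horth lam, mul_zero]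
    simp_rw [hexp, Finset.mul_sum] at hsum
    rw [Finset.sum_comm] at hsum
    have hcol : ∀ v : P, ∑ lam : IrrCharacter P, conj ((lam : P → ℂ) 1) *
        (clsW v * ((lam : P → ℂ) v * mv p M P e (v : G) (χ₀ : G → ℂ) (ξ : G → ℂ))) =
        clsW v * mv p M P e (v : G) (χ₀ : G → ℂ) (ξ : G → ℂ) *
          ∑ lam : IrrCharacter P, (lam : P → ℂ) v * conj ((lam : P → ℂ) 1) := by
      intro v
      rw [Finset.mul_sum]
      apply Finset.sum_congr rfl
      intro lam _
      ring
    simp_rw [hcol] at hsum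
    rw [Finset.sum_eq_single (1 : P)] at hsum
    · rw [second_orthogonality_of_isConj (IsConj.refl (1 : P)), clsW_one, one_mul] at hsum
      have hc : (Nat.card (Subgroup.centralizer ({(1 : P)} : Set P)) : ℂ) ≠ 0 := by
        exact_mod_cast Nat.card_pos.ne'
      have hm0 : mv p M P e ((1 : P) : G) (χ₀ : G → ℂ) (ξ : G → ℂ) = 0 :=
        (mul_eq_zero.mp hsum).resolve_right hc
      rw [Subgroup.coe_one, mv_one_eq hM hmax hχcf hχB hξcf hξB] at hm0
      obtain ⟨n, hn, hn0, -⟩ :=
        ((Cfsg.Agent.S4426.result p M hM B hB χ₀ hχ₀).2.mp h0) ξ hξ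
      apply hn0
      have h5 : classInner (fun x : G => if p ∣ orderOf x then (0 : ℂ) else
          ((p ^ (Nat.card G).factorization p : ℕ) : ℂ) * (χ₀ : G → ℂ) x) (ξ : G → ℂ) =
          ((p ^ (Nat.card G).factorization p : ℕ) : ℂ) * (((Nat.card G : ℂ))⁻¹ *
            ∑ g ∈ Finset.univ.filter (fun g : G => ¬ p ∣ orderOf g),
              (χ₀ : G → ℂ) g * conj ((ξ : G → ℂ) g)) := by
        unfold classInner
        rw [Finset.sum_filter, Finset.mul_sum, Finset.mul_sum, Finset.mul_sum]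
        apply Finset.sum_congr rfl
        intro g _
        by_cases hg : p ∣ orderOf g
        · simp [hg]
        · simp only [hg, if_false, not_false_eq_true, if_true]
          ring
      rw [h5, hm0, mul_zero] at hn
      exact_mod_cast hn.symm
    · intro v _ hv
      rw [second_orthogonality_of_not_isConj (fun h => hv (isConj_one_left.mp h)), mul_zero]
    · intro h
      exact absurd (Finset.mem_univ _) h
  · intro lam g hg
    rw [← hΨ lam]
    exact hval lam g hg

end Cfsg.Agent.Lib.Helper16.BP
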