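import Cfsg.Agent.Lib.Helper16.FirstMain

/-!
# The Brauer image of a block idempotent (helper16)

* `coeffsInIdeal_of_idem`: a central element with locally integral coefficients that is idempotent
  modulo the ideal and killed (modulo the ideal) by every central character has all coefficients
  in the ideal.
* `brP_blockIdem_sub_blockIdem`: if `β` is the block of `N_G(P)` with defect group `P` inducing
  the block `B` of `G`, then `Br_P(e_B) ≡ e_β` modulo the ideal.
* `block_eq_of_blockCoeff_congr`: two blocks of a group with a normal `p`-subgroup `Q` whose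
  idempotents are congruent on `C(Q)` coincide.
* `isInducedBlock_unique`: a block induces at most one block.
-/

set_option autoImplicit false

namespace Cfsg.Agent.Lib.Helper16

open Cfsg MonoidAlgebra
open scoped ComplexConjugate

universe u

section Idem

variable {K : Type u} [Group K] [Fintype K] {M : Ideal AlgInt} [hMp : M.IsPrime]

/-- A central element of the order which is idempotent modulo the ideal and all of whose central
character values lie in the ideal has all its coefficients in the ideal. -/
theorem coeffsInIdeal_of_idem {z : Subalgebra.center ℂ (MonoidAlgebra ℂ K)}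
    (hz : z ∈ centerOrder K M)
    (hidem : CoeffsInIdeal M (((z * z - z : Subalgebra.center ℂ (MonoidAlgebra ℂ K))) :
      MonoidAlgebra ℂ K))
    (hω : ∀ ψ : IrrCharacter K, MemLocalIdeal M (omegaHom ψ z)) :
    CoeffsInIdeal M (z : MonoidAlgebra ℂ K) := by
  classical
  have hpow := exists_pow_coeffsInIdeal hz hω
  set w : MonoidAlgebra ℂ K := (z : MonoidAlgebra ℂ K) with hw
  have hwR : CoeffsInRing M w := fun g => hz g
  have hidem' : CoeffsInIdeal M (w * w - w) := by
    have : (((z * z - z : Subalgebra.center ℂ (MonoidAlgebra ℂ K))) : MonoidAlgebra ℂ K) =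
        w * w - w := by
      push_cast
      rfl
    rwa [this] at hidem
  have hind : ∀ n : ℕ, CoeffsInIdeal M (w ^ (n + 1) - w) := by
    intro n
    induction n with
    | zero =>
      rw [zero_add, pow_one, sub_self]
      exact CoeffsInIdeal.zero
    | succ n ih =>
      have e1 : w ^ (n + 1 + 1) - w = (w ^ (n + 1) - w) * w + (w * w - w) := by
        rw [pow_succ w (n + 1), sub_mul]
        abel
      rw [e1]
      exact (CoeffsInIdeal.mul_right ih hwR).add hidem'
  have hN : Nat.card (IrrCharacter K) ≠ 0 := by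
    have : Nonempty (IrrCharacter K) :=
      ⟨⟨fun _ => 1, Cfsg.Agent.Lib.Helper78.isIrrCharacter_one⟩⟩
    have := finite_irrCharacter (G := K)
    exact Nat.card_pos.ne'
  obtain ⟨n, hn⟩ := Nat.exists_eq_succ_of_ne_zero hN
  rw [hn] at hpow
  have hpow' : CoeffsInIdeal M (w ^ (n + 1)) := by
    have : ((z ^ (n + 1) : Subalgebra.center ℂ (MonoidAlgebra ℂ K)) : MonoidAlgebra ℂ K) =
        w ^ (n + 1) := by
      push_cast
      rfl
    rwa [this] at hpow
  have := hpow'.sub (hind n)
  rwa [sub_sub_cancel] at this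

end Idem

section BrauerImage

theorem idem_aux_one {R : Type*} [CommRing R] (W E : R) (hEE : E * E = E) :
    (W - W * E) * (W - W * E) - (W - W * E) = (W * W - W) - (W * W - W) * E := by
  linear_combination (W * W) * hEE

theorem idem_aux_two {R : Type*} [CommRing R] (W E : R) (hEE : E * E = E) :
    (E - W * E) * (E - W * E) - (E - W * E) = (W * W - W) * E := by
  linear_combination (1 - 2 * W + W * W) * hEE

variable {G : Type u} [Group G] [Fintype G] {M : Ideal AlgInt}

/-- **The Brauer image of a block idempotent.**  If the block of `ξβ` of `N_G(P)` has defect group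
`P` and induces the block of `χB` of `G`, then `Br_P(e_B) ≡ e_β` modulo the ideal. -/
theorem brP_blockIdem_sub_blockIdem {p : ℕ} [Fact p.Prime] [hMp : M.IsPrime]
    (hM : IsPModular p M) (P : Subgroup G) (hP : IsPGroup p P)
    [Fintype (Subgroup.normalizer (P : Set G))]
    (χB : IrrCharacter G) (ξβ : IrrCharacter (Subgroup.normalizer (P : Set G)))
    (hDβ : IsDefectGroup p M (blockOf M (ξβ : Subgroup.normalizer (P : Set G) → ℂ))
      (P.subgroupOf (Subgroup.normalizer (P : Set G))))
    (hind : IsInducedBlock M (Subgroup.normalizer (P : Set G))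
      (blockOf M (ξβ : Subgroup.normalizer (P : Set G) → ℂ)) (blockOf M (χB : G → ℂ))) :
    CoeffsInIdeal M (brP P (Subgroup.normalizer (P : Set G))
      ((blockIdem M χB : Subalgebra.center ℂ (MonoidAlgebra ℂ G)) : MonoidAlgebra ℂ G) -
      ((blockIdem M ξβ :
        Subalgebra.center ℂ (MonoidAlgebra ℂ (Subgroup.normalizer (P : Set G)))) :
        MonoidAlgebra ℂ (Subgroup.normalizer (P : Set G)))) := by
  classical
  have hPN : P ≤ Subgroup.normalizer (P : Set G) := Subgroup.le_normalizer
  have hCN : Subgroup.centralizer (P : Set G) ≤ Subgroup.normalizer (P : Set G) :=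
    Subgroup.centralizer_le_normalizer _
  set e := blockIdem M χB with he
  set E := blockIdem M ξβ with hE
  have heR : CoeffsInRing M (e : MonoidAlgebra ℂ G) := fun x => blockIdem_mem χB x
  have hwc : brP P (Subgroup.normalizer (P : Set G)) (e : MonoidAlgebra ℂ G) ∈
      Subalgebra.center ℂ (MonoidAlgebra ℂ (Subgroup.normalizer (P : Set G))) :=
    brP_mem_center P _ le_rfl e.2
  set W : Subalgebra.center ℂ (MonoidAlgebra ℂ (Subgroup.normalizer (P : Set G))) :=
    ⟨brP P (Subgroup.normalizer (P : Set G)) (e : MonoidAlgebra ℂ G), hwc⟩ with hW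
  have hWO : W ∈ centerOrder (Subgroup.normalizer (P : Set G)) M :=
    fun x => brP_coeffsInRing P _ heR x
  have hEO : E ∈ centerOrder (Subgroup.normalizer (P : Set G)) M := blockIdem_mem ξβ
  have hee : (e : MonoidAlgebra ℂ G) * (e : MonoidAlgebra ℂ G) = (e : MonoidAlgebra ℂ G) :=
    congrArg Subtype.val (blockIdem_mul_self (M := M) χB)
  have hEE : E * E = E := blockIdem_mul_self ξβ
  have hδ : CoeffsInIdeal M (((W * W - W :
      Subalgebra.center ℂ (MonoidAlgebra ℂ (Subgroup.normalizer (P : Set G))))) :
      MonoidAlgebra ℂ (Subgroup.normalizer (P : Set G))) := by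
    have h1 := brP_mul_coeffsInIdeal hM P (Subgroup.normalizer (P : Set G)) hP hCN e.2 e.2 heR heR
    rw [hee] at h1
    have h2 := h1.neg
    rw [neg_sub] at h2
    exact h2
  have hχB : χB ∈ blockOf M (χB : G → ℂ) := self_mem_blockOf hMp.ne_top χB
  -- central character values of `W`
  have hωin : ∀ ξ ∈ blockOf M (ξβ : Subgroup.normalizer (P : Set G) → ℂ),
      MemLocalIdeal M (omegaHom ξ W - 1) := by
    intro ξ hξ
    have := brauerLam_sub_omegaHom_of_isInducedBlock hM P (Subgroup.normalizer (P : Set G)) hP hPN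
      le_rfl hind hξ hχB (blockIdem_mem χB)
    rw [omegaHom_blockIdem_of_mem χB hχB] at this
    exact this
  have hωout : ∀ ξ : IrrCharacter (Subgroup.normalizer (P : Set G)),
      ξ ∉ blockOf M (ξβ : Subgroup.normalizer (P : Set G) → ℂ) →
      MemLocalIdeal M (omegaHom ξ W) := by
    intro ξ hξ
    obtain ⟨χ₀, hχ₀⟩ := exists_irr_brauerLam hM P (Subgroup.normalizer (P : Set G)) hP hCN le_rfl ξ
    have h1 := hχ₀ e (blockIdem_mem χB)
    have h2 : χ₀ ∉ blockOf M (χB : G → ℂ) := by
      intro hmem
      apply hξ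
      have hind' : IsInducedBlock M (Subgroup.normalizer (P : Set G))
          (blockOf M (ξ : Subgroup.normalizer (P : Set G) → ℂ)) (blockOf M (χ₀ : G → ℂ)) := by
        apply isInducedBlock_of_brauerCentralChar hM P _ hP hPN le_rfl ξ χ₀
        intro x
        have := hχ₀ (classSumC x) (classSumC_mem_centerOrder x)
        rw [omegaHom_classSumC] at this
        change MemLocalIdeal M (brauerLam P _ (ξ : Subgroup.normalizer (P : Set G) → ℂ)
          (classSum x) - _) at this
        rwa [brauerLam_classSum] at this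
      rw [blockOf_eq_of_mem hmem] at hind'
      have := firstMain_unique hM P hP (blockOf M (χB : G → ℂ)) (isPBlock_blockOf χB)
        (isPBlock_blockOf ξβ) hDβ hind (isPBlock_blockOf ξ) hind'
      rw [this]
      exact self_mem_blockOf hMp.ne_top ξ
    rw [omegaHom_blockIdem_of_not_mem χB h2, sub_zero] at h1
    exact h1
  have hU : CoeffsInIdeal M (((W - W * E :
      Subalgebra.center ℂ (MonoidAlgebra ℂ (Subgroup.normalizer (P : Set G))))) :
      MonoidAlgebra ℂ (Subgroup.normalizer (P : Set G))) := by
    apply coeffsInIdeal_of_idem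
    · exact Subring.sub_mem _ hWO (Subring.mul_mem _ hWO hEO)
    · have e1 : (W - W * E) * (W - W * E) - (W - W * E) = (W * W - W) - (W * W - W) * E :=
        idem_aux_one W E hEE
      rw [e1]
      have e2 : (((W * W - W - (W * W - W) * E :
          Subalgebra.center ℂ (MonoidAlgebra ℂ (Subgroup.normalizer (P : Set G))))) :
          MonoidAlgebra ℂ (Subgroup.normalizer (P : Set G))) =
          (((W * W - W : Subalgebra.center ℂ (MonoidAlgebra ℂ (Subgroup.normalizer (P : Set G))))) :
            MonoidAlgebra ℂ (Subgroup.normalizer (P : Set G))) -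
          (((W * W - W : Subalgebra.center ℂ (MonoidAlgebra ℂ (Subgroup.normalizer (P : Set G))))) :
            MonoidAlgebra ℂ (Subgroup.normalizer (P : Set G))) *
            (E : MonoidAlgebra ℂ (Subgroup.normalizer (P : Set G))) := by
        push_cast
        rfl
      rw [e2]
      exact hδ.sub (hδ.mul_right (fun g => hEO g))
    · intro ψ
      rw [map_sub, map_mul]
      by_cases hψ : ψ ∈ blockOf M (ξβ : Subgroup.normalizer (P : Set G) → ℂ)
      · rw [omegaHom_blockIdem_of_mem ξβ hψ, mul_one, sub_self]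
        exact memLocalIdeal_zero hMp.ne_top
      · rw [omegaHom_blockIdem_of_not_mem ξβ hψ, mul_zero, sub_zero]
        exact hωout ψ hψ
  have hV : CoeffsInIdeal M (((E - W * E :
      Subalgebra.center ℂ (MonoidAlgebra ℂ (Subgroup.normalizer (P : Set G))))) :
      MonoidAlgebra ℂ (Subgroup.normalizer (P : Set G))) := by
    apply coeffsInIdeal_of_idem
    · exact Subring.sub_mem _ hEO (Subring.mul_mem _ hWO hEO)
    · have e1 : (E - W * E) * (E - W * E) - (E - W * E) = (W * W - W) * E :=
        idem_aux_two W E hEE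
      rw [e1]
      have e2 : ((((W * W - W) * E :
          Subalgebra.center ℂ (MonoidAlgebra ℂ (Subgroup.normalizer (P : Set G))))) :
          MonoidAlgebra ℂ (Subgroup.normalizer (P : Set G))) =
          (((W * W - W : Subalgebra.center ℂ (MonoidAlgebra ℂ (Subgroup.normalizer (P : Set G))))) :
            MonoidAlgebra ℂ (Subgroup.normalizer (P : Set G))) *
            (E : MonoidAlgebra ℂ (Subgroup.normalizer (P : Set G))) := by
        push_cast
        rfl
      rw [e2]
      exact hδ.mul_right (fun g => hEO g)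
    · intro ψ
      rw [map_sub, map_mul]
      by_cases hψ : ψ ∈ blockOf M (ξβ : Subgroup.normalizer (P : Set G) → ℂ)
      · rw [omegaHom_blockIdem_of_mem ξβ hψ, mul_one]
        exact memLocalIdeal_sub_comm.mp (hωin ψ hψ)
      · rw [omegaHom_blockIdem_of_not_mem ξβ hψ, mul_zero, sub_self]
        exact memLocalIdeal_zero hMp.ne_top
  have hfin := hU.sub hV
  have e3 : (((W - W * E :
      Subalgebra.center ℂ (MonoidAlgebra ℂ (Subgroup.normalizer (P : Set G))))) :
      MonoidAlgebra ℂ (Subgroup.normalizer (P : Set G))) -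
      (((E - W * E : Subalgebra.center ℂ (MonoidAlgebra ℂ (Subgroup.normalizer (P : Set G))))) :
      MonoidAlgebra ℂ (Subgroup.normalizer (P : Set G))) =
      brP P (Subgroup.normalizer (P : Set G)) (e : MonoidAlgebra ℂ G) -
        (E : MonoidAlgebra ℂ (Subgroup.normalizer (P : Set G))) := by
    push_cast
    rw [hW]
    abel
  rwa [e3] at hfin

/-- Coefficient form: if the block `β` of `N_G(P)` with defect group `P` induces the block `B` of
`G`, the idempotent coefficients of `B` and `β` are congruent at the elements centralizing `P`. -/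
theorem blockCoeff_sub_blockCoeff_of_isInducedBlock {p : ℕ} [Fact p.Prime]
    (hM : IsPModular p M) (P : Subgroup G) (hP : IsPGroup p P)
    [Fintype (Subgroup.normalizer (P : Set G))]
    {B : Set (IrrCharacter G)} {β : Set (IrrCharacter (Subgroup.normalizer (P : Set G)))}
    (hDβ : IsDefectGroup p M β (P.subgroupOf (Subgroup.normalizer (P : Set G))))
    (hind : IsInducedBlock M (Subgroup.normalizer (P : Set G)) β B)
    (n : Subgroup.normalizer (P : Set G))
    (hn : (n : G) ∈ Subgroup.centralizer (P : Set G)) :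
    MemLocalIdeal M (blockCoeff B (n : G) - blockCoeff β n) := by
  have hMp := isPModular_isPrime hM
  obtain ⟨ξβ, rfl⟩ := hind.1
  obtain ⟨χB, rfl⟩ := hind.2.1
  have := brP_blockIdem_sub_blockIdem hM P hP χB ξβ hDβ hind n
  rw [coeff_sub, Finsupp.sub_apply, coeff_brP, if_pos hn, coeff_blockIdem, coeff_blockIdem] at this
  exact this

end BrauerImage

section Unique

variable {K : Type u} [Group K] [Fintype K] {M : Ideal AlgInt}

/-- Two blocks of a group with a normal `p`-subgroup `Q` whose idempotent coefficients are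
congruent at every element centralizing `Q` coincide. -/
theorem block_eq_of_blockCoeff_congr {p : ℕ} [Fact p.Prime] (hM : IsPModular p M)
    (Q : Subgroup K) [hQn : Q.Normal] (hQ : IsPGroup p Q) {β₁ β₂ : Set (IrrCharacter K)}
    (h₁ : IsPBlock M β₁) (h₂ : IsPBlock M β₂)
    (h : ∀ k : K, k ∈ Subgroup.centralizer (Q : Set K) →
      MemLocalIdeal M (blockCoeff β₁ k - blockCoeff β₂ k)) : β₁ = β₂ := by
  classical
  have hMp := isPModular_isPrime hM
  obtain ⟨ξ₁, rfl⟩ := h₁
  obtain ⟨ξ₂, rfl⟩ := h₂
  have hξ₁ : ξ₁ ∈ blockOf M (ξ₁ : K → ℂ) := self_mem_blockOf hMp.ne_top ξ₁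
  set e₁ := blockIdem M ξ₁ with he₁
  set e₂ := blockIdem M ξ₂ with he₂
  have hint : ∀ k : K, MemLocalRing M (centralChar (ξ₁ : K → ℂ) k) := fun k =>
    memLocalRing_of_isIntegral hMp.ne_top (Cfsg.Agent.Lib.Helper79.isIntegral_centralChar ξ₁ k)
  have key : MemLocalIdeal M (omegaHom ξ₁ e₁ - omegaHom ξ₁ e₂) := by
    rw [omegaHom_apply, omegaHom_apply, omega_eq_sum_classes _ (irr_conj ξ₁) e₁.2,
      omega_eq_sum_classes _ (irr_conj ξ₁) e₂.2, ← Finset.sum_sub_distrib]
    apply memLocalIdeal_sum
    intro c _
    rw [← sub_mul]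
    set k := classRep c with hk
    by_cases hkc : k ∈ Subgroup.centralizer (Q : Set K)
    · apply memLocalIdeal_mul_right _ (hint k)
      rw [he₁, he₂, coeff_blockIdem, coeff_blockIdem]
      exact h k hkc
    · apply memLocalIdeal_mul_left
      · exact memLocalRing_sub (blockIdem_mem ξ₁ k) (blockIdem_mem ξ₂ k)
      · by_contra hcon
        exact hkc (mem_centralizer_of_centralChar_not_memLocalIdeal hM Q hQ k ξ₁ hcon)
  have h1 : omegaHom ξ₁ e₁ = 1 := omegaHom_blockIdem_of_mem ξ₁ hξ₁
  have hmem : ξ₁ ∈ blockOf M (ξ₂ : K → ℂ) := by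
    by_contra hcon
    rw [h1, omegaHom_blockIdem_of_not_mem ξ₂ hcon, sub_zero] at key
    exact one_not_memLocalIdeal key
  exact blockOf_eq_of_mem hmem

end Unique

section InducedUnique

variable {G : Type u} [Group G] {M : Ideal AlgInt}

/-- A block induces at most one block. -/
theorem isInducedBlock_unique [hMp : M.IsPrime] (H : Subgroup G) {b : Set (IrrCharacter H)}
    {B₁ B₂ : Set (IrrCharacter G)} (h₁ : IsInducedBlock M H b B₁)
    (h₂ : IsInducedBlock M H b B₂) : B₁ = B₂ := by
  obtain ⟨ξ, hξ⟩ := IsPBlock_nonempty hMp.ne_top h₁.1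
  obtain ⟨χ₁, hχ₁⟩ := IsPBlock_nonempty hMp.ne_top h₁.2.1
  obtain ⟨χ₂, hχ₂⟩ := IsPBlock_nonempty hMp.ne_top h₂.2.1
  apply IsPBlock_eq_of_mem h₁.2.1 h₂.2.1 hχ₁
  have hs : SameBlock M (χ₂ : G → ℂ) (χ₁ : G → ℂ) := by
    intro g
    exact memLocalIdeal_sub_trans (memLocalIdeal_sub_comm.mp (h₂.2.2 ξ hξ χ₂ hχ₂ g))
      (h₁.2.2 ξ hξ χ₁ hχ₁ g)
  obtain ⟨χ, rfl⟩ := h₂.2.1
  exact sameBlock_trans hχ₂ hs

end InducedUnique

end Cfsg.Agent.Lib.Helper16
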