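import Cfsg.Agent.Lib.Helper16.BlockTransport
import Cfsg.Agent.Lib.Helper16.BrauerIdem

/-!
# The Brauer correspondence via idempotent coefficients (helper16)

For a `p`-subgroup `Q` of `K`, an isomorphism `φ : N₀ ≃* N_K(Q)` and blocks `B` of `K`, `β` of `N₀`,
`BrauerRel M Q φ B β` says that the idempotent coefficients of `B` and `β` are congruent at the
elements of `N₀` mapping into `C_K(Q)`.  This relation realises the First Main Theorem bijection
between blocks of `K` with defect group `Q` and blocks of `N₀` with defect group (the preimage of)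
`Q`.
-/

set_option autoImplicit false

namespace Cfsg.Agent.Lib.Helper16

open Cfsg MonoidAlgebra
open scoped ComplexConjugate

universe u

section

variable {K N₀ : Type u} [Group K] [Group N₀]

/-- The idempotent coefficients of `B` (a set of characters of `K`) and `β` (of `N₀ ≅ N_K(Q)`) are
congruent at the elements mapping into `C_K(Q)`. -/
def BrauerRel (M : Ideal AlgInt) (Q : Subgroup K)
    (φ : N₀ ≃* ↥(Subgroup.normalizer (Q : Set K))) (B : Set (IrrCharacter K))
    (β : Set (IrrCharacter N₀)) : Prop :=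
  ∀ n : N₀, ((φ n : ↥(Subgroup.normalizer (Q : Set K))) : K) ∈ Subgroup.centralizer (Q : Set K) →
    MemLocalIdeal M (blockCoeff B ((φ n : ↥(Subgroup.normalizer (Q : Set K))) : K) - blockCoeff β n)

theorem pullBlock_pullBlock_symm {K₁ K₂ : Type u} [Group K₁] [Group K₂] (φ : K₁ ≃* K₂)
    (β : Set (IrrCharacter K₁)) : pullBlock φ (pullBlock φ.symm β) = β := by
  ext ξ
  rw [mem_pullBlock_iff, mem_pullBlock_iff, MulEquiv.symm_symm, irrPull_irrPull_symm]

theorem coe_mem_centralizer_of_mem_centralizer_subgroupOf (Q : Subgroup K)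
    (m : ↥(Subgroup.normalizer (Q : Set K)))
    (hm : m ∈ Subgroup.centralizer
      ((Q.subgroupOf (Subgroup.normalizer (Q : Set K)) :
        Subgroup ↥(Subgroup.normalizer (Q : Set K))) :
        Set ↥(Subgroup.normalizer (Q : Set K)))) :
    (m : K) ∈ Subgroup.centralizer (Q : Set K) := by
  rw [Subgroup.mem_centralizer_iff] at hm ⊢
  intro q hq
  have := hm ⟨q, Subgroup.le_normalizer hq⟩
    (by rw [SetLike.mem_coe, Subgroup.mem_subgroupOf]; exact hq)
  exact congrArg Subtype.val this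

end

section Main

variable {K N₀ : Type u} [Group K] [Fintype K] [Group N₀] [Finite N₀] {M : Ideal AlgInt}

/-- (K1) Every block of `K` with defect group `Q` is related to a block of `N₀` with defect group
the preimage of `Q`. -/
theorem exists_brauerRel_of_block {p : ℕ} [Fact p.Prime] (hM : IsPModular p M)
    (Q : Subgroup K) (hQ : IsPGroup p Q) (φ : N₀ ≃* ↥(Subgroup.normalizer (Q : Set K)))
    {B : Set (IrrCharacter K)} (hB : IsPBlock M B) (hDB : IsDefectGroup p M B Q) :
    ∃ β : Set (IrrCharacter N₀), IsPBlock M β ∧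
      IsDefectGroup p M β
        ((Q.subgroupOf (Subgroup.normalizer (Q : Set K))).comap φ.toMonoidHom) ∧
      BrauerRel M Q φ B β := by
  classical
  have : Fintype ↥(Subgroup.normalizer (Q : Set K)) := Fintype.ofFinite _
  obtain ⟨β₀, hβ₀, hDβ₀, hind⟩ := firstMain_exists_correspondent hM Q hQ B hB hDB
  refine ⟨pullBlock φ β₀, isPBlock_pullBlock φ hβ₀, isDefectGroup_pullBlock φ hDβ₀, ?_⟩
  intro n hn
  rw [blockCoeff_pullBlock]
  exact blockCoeff_sub_blockCoeff_of_isInducedBlock hM Q hQ hDβ₀ hind (φ n) hn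

/-- (K2) Every block of `N₀` with defect group the preimage of `Q` is related to a block of `K` with
defect group `Q`. -/
theorem exists_block_of_brauerRel {p : ℕ} [Fact p.Prime] (hM : IsPModular p M)
    (Q : Subgroup K) (hQ : IsPGroup p Q) (φ : N₀ ≃* ↥(Subgroup.normalizer (Q : Set K)))
    {β : Set (IrrCharacter N₀)} (hβ : IsPBlock M β)
    (hDβ : IsDefectGroup p M β
      ((Q.subgroupOf (Subgroup.normalizer (Q : Set K))).comap φ.toMonoidHom)) :
    ∃ B : Set (IrrCharacter K), IsPBlock M B ∧ IsDefectGroup p M B Q ∧ BrauerRel M Q φ B β := by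
  classical
  have : Fintype ↥(Subgroup.normalizer (Q : Set K)) := Fintype.ofFinite _
  have hβ₀ : IsPBlock M (pullBlock φ.symm β) := isPBlock_pullBlock φ.symm hβ
  have hDβ₀ : IsDefectGroup p M (pullBlock φ.symm β)
      (Q.subgroupOf (Subgroup.normalizer (Q : Set K))) := by
    have h1 := isDefectGroup_pullBlock φ.symm hDβ
    have h2 : (((Q.subgroupOf (Subgroup.normalizer (Q : Set K))).comap φ.toMonoidHom).comap
        φ.symm.toMonoidHom) = Q.subgroupOf (Subgroup.normalizer (Q : Set K)) := by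
      ext x
      rw [Subgroup.mem_comap, Subgroup.mem_comap]
      show φ (φ.symm x) ∈ _ ↔ _
      rw [MulEquiv.apply_symm_apply]
    rwa [h2] at h1
  obtain ⟨B, hB, hDB, hind⟩ := firstMain_exists_induced hM Q hQ (pullBlock φ.symm β) hβ₀ hDβ₀
  refine ⟨B, hB, hDB, ?_⟩
  intro n hn
  have := blockCoeff_sub_blockCoeff_of_isInducedBlock hM Q hQ hDβ₀ hind (φ n) hn
  rwa [blockCoeff_pullBlock, MulEquiv.symm_apply_apply] at this

/-- (K3) Two blocks of `N₀` whose idempotent coefficients are congruent at the elements mapping into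
`C_K(Q)` coincide. -/
theorem block_eq_of_congr_on_centralizer {p : ℕ} [Fact p.Prime] (hM : IsPModular p M)
    (Q : Subgroup K) (hQ : IsPGroup p Q) (φ : N₀ ≃* ↥(Subgroup.normalizer (Q : Set K)))
    {β₁ β₂ : Set (IrrCharacter N₀)} (h₁ : IsPBlock M β₁) (h₂ : IsPBlock M β₂)
    (h : ∀ n : N₀,
      ((φ n : ↥(Subgroup.normalizer (Q : Set K))) : K) ∈ Subgroup.centralizer (Q : Set K) →
      MemLocalIdeal M (blockCoeff β₁ n - blockCoeff β₂ n)) : β₁ = β₂ := by
  classical
  have : Fintype N₀ := Fintype.ofFinite _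
  have hn : (Q.subgroupOf (Subgroup.normalizer (Q : Set K))).Normal :=
    Subgroup.normal_subgroupOf_of_le_normalizer le_rfl
  have hn' : ((Q.subgroupOf (Subgroup.normalizer (Q : Set K))).comap φ.toMonoidHom).Normal :=
    hn.comap _
  have hQ' : IsPGroup p ((Q.subgroupOf (Subgroup.normalizer (Q : Set K))).comap φ.toMonoidHom) :=
    (hQ.comap_subtype).comap_of_injective φ.toMonoidHom φ.injective
  apply block_eq_of_blockCoeff_congr hM _ hQ' h₁ h₂
  intro k hk
  apply h k
  apply coe_mem_centralizer_of_mem_centralizer_subgroupOf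
  rw [Subgroup.mem_centralizer_iff] at hk ⊢
  intro q hq
  have := hk (φ.symm q) (by
    rw [SetLike.mem_coe, Subgroup.mem_comap]
    show φ (φ.symm q) ∈ _
    rw [MulEquiv.apply_symm_apply]
    exact hq)
  have h2 := congrArg φ this
  rwa [map_mul, map_mul, MulEquiv.apply_symm_apply] at h2

/-- (K4) Two blocks of `K` with defect group `Q` related to the same block of `N₀` coincide. -/
theorem block_eq_of_brauerRel {p : ℕ} [Fact p.Prime] (hM : IsPModular p M)
    (Q : Subgroup K) (hQ : IsPGroup p Q) (φ : N₀ ≃* ↥(Subgroup.normalizer (Q : Set K)))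
    {B₁ B₂ : Set (IrrCharacter K)} (hB₁ : IsPBlock M B₁) (hD₁ : IsDefectGroup p M B₁ Q)
    (hB₂ : IsPBlock M B₂) (hD₂ : IsDefectGroup p M B₂ Q) {β : Set (IrrCharacter N₀)}
    (h₁ : BrauerRel M Q φ B₁ β) (h₂ : BrauerRel M Q φ B₂ β) : B₁ = B₂ := by
  classical
  have hMp := isPModular_isPrime hM
  have : Fintype ↥(Subgroup.normalizer (Q : Set K)) := Fintype.ofFinite _
  obtain ⟨β₁, hβ₁, hDβ₁, hind₁⟩ := firstMain_exists_correspondent hM Q hQ B₁ hB₁ hD₁
  obtain ⟨β₂, hβ₂, hDβ₂, hind₂⟩ := firstMain_exists_correspondent hM Q hQ B₂ hB₂ hD₂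
  have hn : (Q.subgroupOf (Subgroup.normalizer (Q : Set K))).Normal :=
    Subgroup.normal_subgroupOf_of_le_normalizer le_rfl
  have hQ' : IsPGroup p (Q.subgroupOf (Subgroup.normalizer (Q : Set K))) := hQ.comap_subtype
  have heq : β₁ = β₂ := by
    apply block_eq_of_blockCoeff_congr hM _ hQ' hβ₁ hβ₂
    intro m hm
    have hmc := coe_mem_centralizer_of_mem_centralizer_subgroupOf Q m hm
    have a1 := blockCoeff_sub_blockCoeff_of_isInducedBlock hM Q hQ hDβ₁ hind₁ m hmc
    have a2 := blockCoeff_sub_blockCoeff_of_isInducedBlock hM Q hQ hDβ₂ hind₂ m hmc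
    have r1 := h₁ (φ.symm m)
    have r2 := h₂ (φ.symm m)
    rw [MulEquiv.apply_symm_apply] at r1 r2
    have r1' := r1 hmc
    have r2' := r2 hmc
    -- β₁ m ≡ B₁ m ≡ β (φ⁻¹ m) ≡ B₂ m ≡ β₂ m
    exact memLocalIdeal_sub_trans
      (memLocalIdeal_sub_trans (memLocalIdeal_sub_comm.mp a1) r1')
      (memLocalIdeal_sub_trans (memLocalIdeal_sub_comm.mp r2') a2)
  rw [heq] at hind₁
  exact isInducedBlock_unique _ hind₁ hind₂

end Main

end Cfsg.Agent.Lib.Helper16
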