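import Cfsg.Agent.Lib.Helper16.CentPair
import Cfsg.Agent.S4660

/-!
# Defect groups of the block `f` of `C_G(Q)` for `(Q, f) ≤ (P, e)` (helper16)

* `subpairLE_of_le_of_subpairLE`, `isNormalSubpair_of_subpairLE`: order-theoretic consequences of the
  uniqueness of subpairs.
* `exists_isDefectGroup_ge_centralizerIn`: `C_P(Q)` lies in a defect group of `f`.
* `exists_conj_isDefectGroup_centralizerIn`: for a maximal pair `(P, e)` some conjugate
  `(Q, f)^x ≤ (P, e)` has `C_P(Q^x)` as a defect group of `f^x`.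
-/

set_option autoImplicit false

namespace Cfsg.Agent.Lib.Helper16

open Cfsg MonoidAlgebra Cfsg.Agent.Lib.Helper77
open scoped ComplexConjugate

universe u

variable {G : Type u} [Group G] [Fintype G] {M : Ideal AlgInt}

/-- If `(Q, f) ≤ (P, e)`, `(S, g) ≤ (P, e)` and `Q ≤ S`, then `(Q, f) ≤ (S, g)`. -/
theorem subpairLE_of_le_of_subpairLE {p : ℕ} [Fact p.Prime] (hM : IsPModular p M)
    {P S Q : Subgroup G} {e : Set (IrrCharacter (Subgroup.centralizer (P : Set G)))}
    {g : Set (IrrCharacter (Subgroup.centralizer (S : Set G)))}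
    {f : Set (IrrCharacter (Subgroup.centralizer (Q : Set G)))}
    (hPe : IsBrauerPair p M P e) (hSP : SubpairLE p M S g P e) (hQP : SubpairLE p M Q f P e)
    (hQS : Q ≤ S) : SubpairLE p M Q f S g := by
  have hSg : IsBrauerPair p M S g := Cfsg.Agent.S4655.le_pair_left hSP hPe
  obtain ⟨f', _, hf'⟩ := Cfsg.Agent.S4655.exists_le hM (Nat.card S - Nat.card Q)
    (⟨S, g⟩ : BrauerPairIdx G) hSg Q hQS le_rfl
  have h1 : SubpairLE p M Q f' P e := Relation.ReflTransGen.trans hf' hSP
  have hQP' : Q ≤ P := Cfsg.Agent.S4655.le_le hQP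
  have : f' = f := Cfsg.Agent.S4655.unique_le hM (Nat.card P - Nat.card Q)
    (⟨P, e⟩ : BrauerPairIdx G) hPe Q hQP' le_rfl f' f h1 hQP
  rw [← this]
  exact hf'

/-- If `(Q, f) ≤ (S, g)` and `S` normalizes `Q`, then `(Q, f) ⊴ (S, g)`. -/
theorem isNormalSubpair_of_subpairLE {p : ℕ} [Fact p.Prime] (hM : IsPModular p M)
    {S Q : Subgroup G} {g : Set (IrrCharacter (Subgroup.centralizer (S : Set G)))}
    {f : Set (IrrCharacter (Subgroup.centralizer (Q : Set G)))}
    (hSg : IsBrauerPair p M S g) (hle : SubpairLE p M Q f S g)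
    (hSN : S ≤ Subgroup.normalizer (Q : Set G)) : IsNormalSubpair p M Q f S g := by
  have hQS : Q ≤ S := Cfsg.Agent.S4655.le_le hle
  obtain ⟨f'', hf'', _⟩ := Cfsg.Agent.S4656.result p M hM S Q g hSg hQS hSN
  have h1 : SubpairLE p M Q f'' S g := Relation.ReflTransGen.single hf''
  have : f'' = f := Cfsg.Agent.S4655.unique_le hM (Nat.card S - Nat.card Q)
    (⟨S, g⟩ : BrauerPairIdx G) hSg Q hQS le_rfl f'' f h1 hle
  rw [← this]
  exact hf''

/-- If `(Q, f) ≤ (P, e)` then `C_P(Q)` is contained in the subgroup of a maximal Brauer pair of the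
block `f` of the group `C_G(Q)`. -/
theorem exists_isMaximalBrauerPair_ge_centralizerIn {p : ℕ} [Fact p.Prime] (hM : IsPModular p M)
    {P Q : Subgroup G} {e : Set (IrrCharacter (Subgroup.centralizer (P : Set G)))}
    {f : Set (IrrCharacter (Subgroup.centralizer (Q : Set G)))}
    (hPe : IsBrauerPair p M P e) (hle : SubpairLE p M Q f P e) :
    ∃ (D : Subgroup ↥(Subgroup.centralizer (Q : Set G)))
      (d : Set (IrrCharacter (Subgroup.centralizer
        (D : Set ↥(Subgroup.centralizer (Q : Set G)))))),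
      IsMaximalBrauerPair p M f D d ∧
      (P ⊓ Subgroup.centralizer (Q : Set G)).subgroupOf (Subgroup.centralizer (Q : Set G)) ≤ D := by
  classical
  have : Fintype ↥(Subgroup.centralizer (Q : Set G)) := Fintype.ofFinite _
  have hQP : Q ≤ P := Cfsg.Agent.S4655.le_le hle
  set R' := (P ⊓ Subgroup.centralizer (Q : Set G)).subgroupOf (Subgroup.centralizer (Q : Set G))
    with hR'
  have hSP : supCent Q R' ≤ P := by
    apply sup_le hQP
    rw [hR', Subgroup.map_subgroupOf_eq_of_le inf_le_right]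
    exact inf_le_left
  obtain ⟨g, _, hg⟩ := Cfsg.Agent.S4655.exists_le hM (Nat.card P - Nat.card (supCent Q R'))
    (⟨P, e⟩ : BrauerPairIdx G) hPe (supCent Q R') hSP le_rfl
  have hSg : IsBrauerPair p M (supCent Q R') g := Cfsg.Agent.S4655.le_pair_left hg hPe
  have h1 : SubpairLE p M Q f (supCent Q R') g :=
    subpairLE_of_le_of_subpairLE hM hPe hg hle (le_supCent Q R')
  have h2 : IsNormalSubpair p M Q f (supCent Q R') g :=
    isNormalSubpair_of_subpairLE hM hSg h1 (supCent_le_normalizer Q R')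
  have h3 := isBrauerPairOf_of_isNormalSubpair_supCent Q R' h2
  obtain ⟨D, d, hmax, hRD⟩ := exists_isMaximalBrauerPair_ge hM f
    (Nat.card ↥(Subgroup.centralizer (Q : Set G)) - Nat.card R') R' _ h3 le_rfl
  exact ⟨D, d, hmax, Cfsg.Agent.S4655.le_le hRD⟩

/-- If `(Q, f) ≤ (P, e)` then `C_P(Q)` is contained in a defect group of the block `f` of
`C_G(Q)`. -/
theorem exists_isDefectGroup_ge_centralizerIn {p : ℕ} [Fact p.Prime] (hM : IsPModular p M)
    {P Q : Subgroup G} {e : Set (IrrCharacter (Subgroup.centralizer (P : Set G)))}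
    {f : Set (IrrCharacter (Subgroup.centralizer (Q : Set G)))}
    (hPe : IsBrauerPair p M P e) (hle : SubpairLE p M Q f P e) :
    ∃ D : Subgroup ↥(Subgroup.centralizer (Q : Set G)), IsDefectGroup p M f D ∧
      (P ⊓ Subgroup.centralizer (Q : Set G)).subgroupOf (Subgroup.centralizer (Q : Set G)) ≤ D := by
  classical
  have : Fintype ↥(Subgroup.centralizer (Q : Set G)) := Fintype.ofFinite _
  obtain ⟨D, d, hmax, hle'⟩ := exists_isMaximalBrauerPair_ge_centralizerIn hM hPe hle
  exact ⟨D, isDefectGroup_of_isMaximalBrauerPair hM f D d hmax, hle'⟩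

/-- For a maximal `B`-pair `(P, e)` and `(Q, f) ≤ (P, e)`, some conjugate `(Q, f)^x` lies below
`(P, e)` and has `C_P(Q^x)` as a defect group of `f^x`. -/
theorem exists_conj_isDefectGroup_centralizerIn {p : ℕ} [Fact p.Prime] (hM : IsPModular p M)
    {B : Set (IrrCharacter G)} {P Q : Subgroup G}
    {e : Set (IrrCharacter (Subgroup.centralizer (P : Set G)))}
    {f : Set (IrrCharacter (Subgroup.centralizer (Q : Set G)))}
    (hmax : IsMaximalBrauerPair p M B P e) (hle : SubpairLE p M Q f P e) :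
    ∃ x : G, SubpairLE p M (Q.map (MulAut.conj x).toMonoidHom) (conjBlock Q x f) P e ∧
      IsDefectGroup p M (conjBlock Q x f)
        ((P ⊓ Subgroup.centralizer ((Q.map (MulAut.conj x).toMonoidHom : Subgroup G) :
          Set G)).subgroupOf
          (Subgroup.centralizer ((Q.map (MulAut.conj x).toMonoidHom : Subgroup G) : Set G))) := by
  classical
  have hMp := isPModular_isPrime hM
  have hPe : IsBrauerPair p M P e := hmax.1.1
  have hQf : IsBrauerPair p M Q f := Cfsg.Agent.S4655.le_pair_left hle hPe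
  have hBQ : IsBrauerPairOf p M B Q f :=
    (Cfsg.Agent.S4658.chain_iff p M hM B ⟨Q, f⟩ ⟨P, e⟩ hle).mp hmax.1
  have : Fintype ↥(Subgroup.centralizer (Q : Set G)) := Fintype.ofFinite _
  obtain ⟨D, d, hDmax, _⟩ := exists_isMaximalBrauerPair_ge_centralizerIn hM hPe hle
  have hDdef : IsDefectGroup p M f D := isDefectGroup_of_isMaximalBrauerPair hM f D d hDmax
  have hN := isNormalSubpair_supCent_of_isBrauerPairOf (M := M) Q hQf.1 D hDmax.1
  have : Fintype ↥(Subgroup.centralizer (supCent Q D : Set G)) := Fintype.ofFinite _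
  have hBS := isBrauerPairOf_of_isNormalSubpair hM hN hBQ
  obtain ⟨x, hx⟩ := Cfsg.Agent.S4660.result p M hM B P (supCent Q D) e _ hmax hBS
  have hstep : NormalSubpairRel p M
      (⟨Q.map (MulAut.conj x).toMonoidHom, conjBlock Q x f⟩ : BrauerPairIdx G)
      ⟨(supCent Q D).map (MulAut.conj x).toMonoidHom,
        conjBlock (supCent Q D) x (pullBlock (centSupEquiv Q D).symm d)⟩ :=
    isNormalSubpair_conj hN x
  have hxle : SubpairLE p M (Q.map (MulAut.conj x).toMonoidHom) (conjBlock Q x f) P e :=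
    Relation.ReflTransGen.head hstep hx
  refine ⟨x, hxle, ?_⟩
  have : Fintype ↥(Subgroup.centralizer ((Q.map (MulAut.conj x).toMonoidHom : Subgroup G) :
    Set G)) := Fintype.ofFinite _
  have hfx : IsPBlock M (conjBlock Q x f) := by
    rw [conjBlock_eq_pullBlock]
    exact isPBlock_pullBlock _ hQf.2
  have hD' : IsDefectGroup p M (conjBlock Q x f) (D.comap (conjCent Q x).toMonoidHom) := by
    rw [conjBlock_eq_pullBlock]
    exact isDefectGroup_pullBlock _ hDdef
  have hle1 : D.comap (conjCent Q x).toMonoidHom ≤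
      (P ⊓ Subgroup.centralizer ((Q.map (MulAut.conj x).toMonoidHom : Subgroup G) :
        Set G)).subgroupOf
        (Subgroup.centralizer ((Q.map (MulAut.conj x).toMonoidHom : Subgroup G) : Set G)) := by
    intro c hc
    rw [Subgroup.mem_comap] at hc
    rw [Subgroup.mem_subgroupOf]
    refine ⟨?_, c.2⟩
    have h1 : x⁻¹ * (c : G) * x ∈ supCent Q D := coe_mem_supCent Q D hc
    have h2 : (c : G) ∈ (supCent Q D).map (MulAut.conj x).toMonoidHom :=
      (mem_map_conj_iff _ _ _).mpr h1
    exact Cfsg.Agent.S4655.le_le hx h2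
  obtain ⟨D₂, hD₂, hle2⟩ := exists_isDefectGroup_ge_centralizerIn hM hPe hxle
  have hcard : Nat.card D₂ = Nat.card (D.comap (conjCent Q x).toMonoidHom) := by
    rw [Cfsg.Agent.Lib.Helper78.card_defectGroup hM hfx hD₂,
      Cfsg.Agent.Lib.Helper78.card_defectGroup hM hfx hD']
  have heq : D.comap (conjCent Q x).toMonoidHom = D₂ :=
    Subgroup.eq_of_le_of_card_ge (hle1.trans hle2) (le_of_eq hcard)
  have hfin : (P ⊓ Subgroup.centralizer ((Q.map (MulAut.conj x).toMonoidHom : Subgroup G) :
        Set G)).subgroupOf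
        (Subgroup.centralizer ((Q.map (MulAut.conj x).toMonoidHom : Subgroup G) : Set G)) = D₂ :=
    le_antisymm hle2 (heq ▸ hle1)
  rw [hfin]
  exact hD₂

end Cfsg.Agent.Lib.Helper16
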