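import Cfsg.Agent.Lib.Helper16.PairConj
import Cfsg.Agent.S0911

/-!
# Defect groups of a block are conjugate (helper16)
-/

set_option autoImplicit false

namespace Cfsg.Agent.Lib.Helper16

open Cfsg MonoidAlgebra Cfsg.Agent.Lib.Helper77
open scoped ComplexConjugate

universe u

variable {G : Type u} [Group G] [Fintype G] {M : Ideal AlgInt}

/-- Any two defect groups of a block are conjugate. -/
theorem exists_conj_eq_of_isDefectGroup {p : ℕ} [Fact p.Prime] (hM : IsPModular p M)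
    {B : Set (IrrCharacter G)} (hB : IsPBlock M B) {D₁ D₂ : Subgroup G}
    (hD₁ : IsDefectGroup p M B D₁) (hD₂ : IsDefectGroup p M B D₂) :
    ∃ z : G, D₁.map (MulAut.conj z).toMonoidHom = D₂ := by
  have hc₁ := Cfsg.Agent.Lib.Helper78.card_defectGroup hM hB hD₁
  have hc₂ := Cfsg.Agent.Lib.Helper78.card_defectGroup hM hB hD₂
  obtain ⟨g₁, hg₁, S₁, rfl⟩ := hD₁
  obtain ⟨g₂, hg₂, S₂, rfl⟩ := hD₂
  obtain ⟨x, Q', hQ'⟩ := (Cfsg.Agent.S0911.result p M hM B hB g₁ hg₁ S₁ g₂).1 hg₂.1 hg₂.2.1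
  set T := ((S₁ : Subgroup (Subgroup.centralizer ({g₁} : Set G))).map
    (Subgroup.centralizer ({g₁} : Set G)).subtype).map (MulAut.conj x).toMonoidHom with hT
  have hcT : Nat.card T = p ^ blockDefect p B := by
    rw [hT, card_map_conj, hc₁]
  have hcQ' : Nat.card ((Q' : Subgroup (Subgroup.centralizer ({g₂} : Set G))).map
      (Subgroup.centralizer ({g₂} : Set G)).subtype) = p ^ blockDefect p B := by
    rw [card_sylow_map, ← hc₂, card_sylow_map]
  have hQT : (Q' : Subgroup (Subgroup.centralizer ({g₂} : Set G))).map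
      (Subgroup.centralizer ({g₂} : Set G)).subtype = T :=
    Subgroup.eq_of_le_of_card_ge hQ' (by rw [hcT, hcQ'])
  have hTle : T ≤ Subgroup.centralizer ({g₂} : Set G) := by
    rw [← hQT]
    rintro _ ⟨c, _, rfl⟩
    exact c.2
  have hTp : IsPGroup p T := IsPGroup.of_card hcT
  obtain ⟨z, _, hz⟩ := exists_conj_sylow_map_ge (Subgroup.centralizer ({g₂} : Set G)) S₂ T hTp hTle
  have hTz : T = ((S₂ : Subgroup (Subgroup.centralizer ({g₂} : Set G))).map
      (Subgroup.centralizer ({g₂} : Set G)).subtype).map (MulAut.conj z).toMonoidHom :=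
    Subgroup.eq_of_le_of_card_ge hz (by rw [card_map_conj, hc₂, hcT])
  refine ⟨z⁻¹ * x, ?_⟩
  rw [← map_conj_map_conj, ← hT, hTz, map_conj_map_conj]
  ext y
  rw [mem_map_conj_iff]
  have : (z⁻¹ * z)⁻¹ * y * (z⁻¹ * z) = y := by group
  rw [this]
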