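import Cfsg.Agent.Lib.Helper16.MaxPair
import Cfsg.Agent.S4655
import Cfsg.Agent.S4658
import Cfsg.Agent.S4691

/-!
# Brauer's Third Main Theorem for Brauer pairs (helper16)

* `exists_isMaximalBrauerPair_ge`: every `B`-pair lies below a maximal `B`-pair.
* `isDefectGroup_local_of_isMaximalBrauerPair`: for a maximal pair `(P, e)`, the block of `N_G(P)`
  to which `(P, e)` belongs has defect group `P`.
* `eq_principal_of_isMaximalBrauerPair_principal`: a maximal pair of the principal block is
  principal.
* `eq_principal_of_subpairLE_principal`: pairs below a principal pair are principal.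
* `eq_principal_of_isBrauerPairOf_principal`: every pair of the principal block is principal.
-/

set_option autoImplicit false

namespace Cfsg.Agent.Lib.Helper16

open Cfsg MonoidAlgebra Cfsg.Agent.Lib.Helper77
open scoped ComplexConjugate

universe u

variable {G : Type u} [Group G] [Fintype G] {M : Ideal AlgInt}

/-- Every `B`-pair lies below a maximal `B`-pair. -/
theorem exists_isMaximalBrauerPair_ge {p : ℕ} [Fact p.Prime] (hM : IsPModular p M)
    (B : Set (IrrCharacter G)) :
    ∀ (n : ℕ) (Q : Subgroup G) (f : Set (IrrCharacter (Subgroup.centralizer (Q : Set G)))),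
      IsBrauerPairOf p M B Q f → Nat.card G - Nat.card Q ≤ n →
      ∃ (P : Subgroup G) (e : Set (IrrCharacter (Subgroup.centralizer (P : Set G)))),
        IsMaximalBrauerPair p M B P e ∧ SubpairLE p M Q f P e := by
  intro n
  induction n with
  | zero =>
    intro Q f hQf hn
    refine ⟨Q, f, ⟨hQf, ?_⟩, Relation.ReflTransGen.refl⟩
    intro R g _ hle
    have h1 : Q ≤ R := Cfsg.Agent.S4655.le_le hle
    have h2 : Nat.card G ≤ Nat.card Q := Nat.sub_eq_zero_iff_le.mp (Nat.le_zero.mp hn)
    have h3 : Nat.card R ≤ Nat.card Q := (Subgroup.card_le_card_group R).trans h2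
    exact (Subgroup.eq_of_le_of_card_ge h1 h3).symm
  | succ n ih =>
    intro Q f hQf hn
    by_cases hmax : IsMaximalBrauerPair p M B Q f
    · exact ⟨Q, f, hmax, Relation.ReflTransGen.refl⟩
    · have : ∃ (R : Subgroup G) (g : Set (IrrCharacter (Subgroup.centralizer (R : Set G)))),
          IsBrauerPairOf p M B R g ∧ SubpairLE p M Q f R g ∧ R ≠ Q := by
        by_contra hcon
        apply hmax
        refine ⟨hQf, ?_⟩
        intro R g hRg hle
        by_contra hne
        exact hcon ⟨R, g, hRg, hle, hne⟩
      obtain ⟨R, g, hRg, hle, hne⟩ := this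
      have h1 : Q ≤ R := Cfsg.Agent.S4655.le_le hle
      have h2 : Q < R := lt_of_le_of_ne h1 (Ne.symm hne)
      have h3 : Nat.card Q < Nat.card R := Cfsg.Agent.S4655.card_lt_card_of_lt h2
      have h4 : Nat.card R ≤ Nat.card G := Subgroup.card_le_card_group R
      obtain ⟨P, e, hPe, hle'⟩ := ih R g hRg (by omega)
      exact ⟨P, e, hPe, Relation.ReflTransGen.trans hle hle'⟩

/-- For a maximal `B`-pair `(P, e)`, the block of `N_G(P)` to which `(P, e)` belongs has defect
group `P`. -/
theorem isDefectGroup_local_of_isMaximalBrauerPair {p : ℕ} [Fact p.Prime] (hM : IsPModular p M)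
    (B : Set (IrrCharacter G)) (P : Subgroup G)
    (e : Set (IrrCharacter (Subgroup.centralizer (P : Set G))))
    (hmax : IsMaximalBrauerPair p M B P e)
    (b : Set (IrrCharacter ↥(Subgroup.normalizer (P : Set G))))
    (hbe' : IsBrauerPairOf p M b (P.subgroupOf (Subgroup.normalizer (P : Set G)))
      (pullBlock (centEquiv P) e)) :
    IsDefectGroup p M b (P.subgroupOf (Subgroup.normalizer (P : Set G))) := by
  classical
  have hMp := isPModular_isPrime hM
  obtain ⟨hBe, hmaxim⟩ := hmax
  have hP : IsPGroup p P := hBe.1.1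
  have : Fintype ↥(Subgroup.normalizer (P : Set G)) := Fintype.ofFinite _
  have hb : IsPBlock M b := hbe'.2.1
  obtain ⟨D, hD⟩ := exists_isDefectGroup p hb
  have hP'n : (P.subgroupOf (Subgroup.normalizer (P : Set G))).Normal :=
    Subgroup.normal_subgroupOf_of_le_normalizer le_rfl
  have hP'p : IsPGroup p (P.subgroupOf (Subgroup.normalizer (P : Set G))) := hP.comap_subtype
  have hP'D : P.subgroupOf (Subgroup.normalizer (P : Set G)) ≤ D :=
    normal_pGroup_le_defectGroup hM _ hP'p hb hD
  obtain ⟨R, g, hg, hcard⟩ := exists_isNormalSubpair_card_defectGroup hM P e hBe.1 b hbe' D hD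
  have : Fintype (Subgroup.centralizer (P : Set G)) := Fintype.ofFinite _
  have : Fintype (Subgroup.centralizer (R : Set G)) := Fintype.ofFinite _
  have hBg : IsBrauerPairOf p M B R g := isBrauerPairOf_of_isNormalSubpair hM hg hBe
  have hRP : R = P := hmaxim R g hBg (Relation.ReflTransGen.single hg)
  have hcardP : Nat.card (P.subgroupOf (Subgroup.normalizer (P : Set G))) = Nat.card P :=
    Nat.card_congr (Subgroup.subgroupOfEquivOfLe Subgroup.le_normalizer).toEquiv
  have hDeq : P.subgroupOf (Subgroup.normalizer (P : Set G)) = D := by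
    apply Subgroup.eq_of_le_of_card_ge hP'D
    rw [hcardP, ← hcard, hRP]
  rw [hDeq]
  exact hD

section Principal

omit [Fintype G] in
/-- The principal block of a normal subgroup is stable under conjugation. -/
theorem isGStable_principalBlock (N : Subgroup G) [hN : N.Normal] :
    IsGStable N (principalBlock M N) := by
  intro θ hθ g
  have h1 : SameBlock M (oneIrr N : N → ℂ) (θ : N → ℂ) := hθ
  have h2 := sameBlock_conjIrrN N g h1
  have h3 : conjIrrN N g (oneIrr N) = oneIrr N := Subtype.ext rfl
  rw [h3] at h2
  exact h2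

/-- A maximal pair of the principal block is principal. -/
theorem eq_principal_of_isMaximalBrauerPair_principal {p : ℕ} [Fact p.Prime]
    (hM : IsPModular p M) (P : Subgroup G)
    (e : Set (IrrCharacter (Subgroup.centralizer (P : Set G))))
    (hmax : IsMaximalBrauerPair p M (principalBlock M G) P e) :
    e = principalBlock M (Subgroup.centralizer (P : Set G)) := by
  classical
  have hMp := isPModular_isPrime hM
  have hBe := hmax.1
  have hP : IsPGroup p P := hBe.1.1
  have he : IsPBlock M e := hBe.1.2
  have hB₀ : IsPBlock M (principalBlock M G) := hBe.2.1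
  have : Fintype ↥(Subgroup.normalizer (P : Set G)) := Fintype.ofFinite _
  have hP'n : (P.subgroupOf (Subgroup.normalizer (P : Set G))).Normal :=
    Subgroup.normal_subgroupOf_of_le_normalizer le_rfl
  have hP'p : IsPGroup p (P.subgroupOf (Subgroup.normalizer (P : Set G))) := hP.comap_subtype
  have hCn : (Subgroup.centralizer ((P.subgroupOf (Subgroup.normalizer (P : Set G)) :
      Subgroup ↥(Subgroup.normalizer (P : Set G))) :
      Set ↥(Subgroup.normalizer (P : Set G)))).Normal :=
    Cfsg.Agent.S4653.centralizer_normal_of_normal _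
  have : Fintype ↥(Subgroup.centralizer ((P.subgroupOf (Subgroup.normalizer (P : Set G)) :
      Subgroup ↥(Subgroup.normalizer (P : Set G))) :
      Set ↥(Subgroup.normalizer (P : Set G)))) := Fintype.ofFinite _
  -- the local block of `(P, e)`
  obtain ⟨b, hbe', hind⟩ := exists_local_block_of_isBrauerPairOf hM _ P e hBe
  have hb : IsPBlock M b := hbe'.2.1
  have hDb := isDefectGroup_local_of_isMaximalBrauerPair hM _ P e hmax b hbe'
  -- the local block of the principal pair
  have hBe₀ : IsBrauerPairOf p M (principalBlock M G) P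
      (principalBlock M (Subgroup.centralizer (P : Set G))) :=
    Cfsg.Agent.S4691.isBrauerPairOf_principal hM P hP
  obtain ⟨b₀, hbe₀', hind₀⟩ := exists_local_block_of_isBrauerPairOf hM _ P _ hBe₀
  have hb₀ : IsPBlock M b₀ := hbe₀'.2.1
  have hbb₀ : b = b₀ := firstMain_unique hM P hP _ hB₀ hb hDb hind hb₀ hind₀
  rw [← hbb₀] at hbe₀'
  -- the principal character of `N_G(P)` lies in `b`
  have hone : (oneIrr (Subgroup.centralizer (P : Set G)) :
      IrrCharacter (Subgroup.centralizer (P : Set G))) ∈
      principalBlock M (Subgroup.centralizer (P : Set G)) :=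
    sameBlock_refl hMp.ne_top _
  have hpull_one : irrPull (centEquiv P) (oneIrr (Subgroup.centralizer (P : Set G))) =
      oneIrr (Subgroup.centralizer ((P.subgroupOf (Subgroup.normalizer (P : Set G)) :
        Subgroup ↥(Subgroup.normalizer (P : Set G))) :
        Set ↥(Subgroup.normalizer (P : Set G)))) := Subtype.ext rfl
  set C' := Subgroup.centralizer ((P.subgroupOf (Subgroup.normalizer (P : Set G)) :
      Subgroup ↥(Subgroup.normalizer (P : Set G))) :
      Set ↥(Subgroup.normalizer (P : Set G))) with hC'
  set ζ₀ : IrrCharacter ↥(Subgroup.normalizer (P : Set G)) :=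
    Cfsg.Agent.S4691.oneIrr ↥(Subgroup.normalizer (P : Set G)) with hζ₀
  have hover₀ : classInner (fun n : C' => (ζ₀ : ↥(Subgroup.normalizer (P : Set G)) → ℂ) n)
      (oneIrr C' : C' → ℂ) ≠ 0 :=
    classInner_res_oneIrr_ne_zero C' ζ₀ (fun n _ => rfl)
  have hζ₀b : ζ₀ ∈ b := by
    apply Cfsg.Agent.S4654.mem_of_over hM _ hP'p hb _ hover₀
    have := hbe₀'.2.2 _ (irrPull_mem_pullBlock (centEquiv P) hone)
    rw [hpull_one] at this
    exact this
  -- a character of `N_G(P)` over a member of `e`
  obtain ⟨ξ, hξ⟩ := IsPBlock_nonempty hMp.ne_top he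
  obtain ⟨ζ, hover⟩ := exists_irr_over C' (irrPull (centEquiv P) ξ)
  have hζb : ζ ∈ b := Cfsg.Agent.S4654.mem_of_over hM _ hP'p hb
    (hbe'.2.2 _ (irrPull_mem_pullBlock _ hξ)) hover
  have hsame : SameBlock M (ζ₀ : ↥(Subgroup.normalizer (P : Set G)) → ℂ)
      (ζ : ↥(Subgroup.normalizer (P : Set G)) → ℂ) := sameBlock_of_mem hb hζ₀b hζb
  have hU : IsGStable C' (principalBlock M C') := isGStable_principalBlock C'
  have hUR : ∀ n : C', MemLocalRing M (blockCoeff (principalBlock M C') n) :=
    fun n => blockCoeff_memLocalRing Cfsg.Agent.S4691.isPBlock_principalBlock n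
  have hiff := constituent_mem_iff_of_sameBlock C' hU hUR hsame hover₀ hover
  have hξ' : irrPull (centEquiv P) ξ ∈ principalBlock M C' :=
    hiff.mp (sameBlock_refl hMp.ne_top _)
  -- back to `C_G(P)`
  have hξp : ξ ∈ principalBlock M (Subgroup.centralizer (P : Set G)) := by
    have h1 : SameBlock M (fun _ : C' => (1 : ℂ)) (irrPull (centEquiv P) ξ : C' → ℂ) := hξ'
    have h2 : (fun _ : C' => (1 : ℂ)) =
        (fun _ : Subgroup.centralizer (P : Set G) => (1 : ℂ)) ∘ (centEquiv P) := rfl
    have h3 : (irrPull (centEquiv P) ξ : C' → ℂ) =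
        (ξ : Subgroup.centralizer (P : Set G) → ℂ) ∘ (centEquiv P) := rfl
    rw [h2, h3, sameBlock_comp_mulEquiv_iff] at h1
    exact h1
  exact IsPBlock_eq_of_mem he Cfsg.Agent.S4691.isPBlock_principalBlock hξ hξp

/-- A pair normally below a principal pair is principal. -/
theorem eq_principal_of_isNormalSubpair_principal {p : ℕ} [Fact p.Prime] (hM : IsPModular p M)
    {Q R : Subgroup G} {f : Set (IrrCharacter (Subgroup.centralizer (Q : Set G)))}
    (h : IsNormalSubpair p M Q f R (principalBlock M (Subgroup.centralizer (R : Set G)))) :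
    f = principalBlock M (Subgroup.centralizer (Q : Set G)) := by
  classical
  have hMp := isPModular_isPrime hM
  obtain ⟨hQf, hRg, hQR, hRN, hstab, hω⟩ := h
  have hf : IsPBlock M f := hQf.2
  have : Fintype (Subgroup.centralizer (Q : Set G)) := Fintype.ofFinite _
  have : Fintype (Subgroup.centralizer (R : Set G)) := Fintype.ofFinite _
  set F : G → ℂ := subgroupBlockCoeff (Subgroup.centralizer (Q : Set G)) f with hF
  have hFinv : ∀ u ∈ R, ∀ x : G, F (u * x * u⁻¹) = F x := fun u hu x =>
    subgroupBlockCoeff_conj_of_stabilizes _ f u (hstab u hu) x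
  have hFR : ∀ x, MemLocalRing M (F x) := by
    intro x
    show MemLocalRing M (subgroupBlockCoeff _ f x)
    unfold subgroupBlockCoeff
    split_ifs
    · exact blockCoeff_memLocalRing hf _
    · exact memLocalRing_zero hMp.ne_top
  have h1 := Cfsg.Agent.S4691.sum_sub_sum_centralizer_memLocalIdeal hM R hRg.1 F hFinv hFR
  -- the sum over `C_G(R)` is congruent to `1`
  have h2 : MemLocalIdeal M (∑ c : Subgroup.centralizer (R : Set G), F (c : G) - 1) := by
    have := hω (oneIrr (Subgroup.centralizer (R : Set G))) (sameBlock_refl hMp.ne_top _)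
    unfold brauerOmega at this
    rw [finsum_eq_sum_of_fintype] at this
    have e1 : ∑ x : Subgroup.centralizer (R : Set G), F (x : G) *
        (oneIrr (Subgroup.centralizer (R : Set G))).1 x /
        (oneIrr (Subgroup.centralizer (R : Set G))).1 1 =
        ∑ c : Subgroup.centralizer (R : Set G), F (c : G) := by
      refine Finset.sum_congr rfl fun x _ => ?_
      show F (x : G) * 1 / 1 = _
      rw [mul_one, div_one]
    rw [e1] at this
    exact this
  -- the sum over `G` is `1` or `0`
  have h3 : ∑ x : G, F x = if oneIrr (Subgroup.centralizer (Q : Set G)) ∈ f then 1 else 0 := by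
    have e1 := sum_blockCoeff_mul f (oneIrr (Subgroup.centralizer (Q : Set G)))
    have e2 : ∑ x : G, F x = ∑ c : Subgroup.centralizer (Q : Set G), blockCoeff f c := by
      have : ∑ c : Subgroup.centralizer (Q : Set G), blockCoeff f c =
          ∑ c : Subgroup.centralizer (Q : Set G), F (c : G) := by
        refine Finset.sum_congr rfl fun c _ => ?_
        show _ = subgroupBlockCoeff _ f (c : G)
        unfold subgroupBlockCoeff
        rw [dif_pos c.2]
      rw [this]
      apply sum_eq_sum_subgroup_of_support (Subgroup.centralizer (Q : Set G)) F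
      intro g hg
      show subgroupBlockCoeff _ f g = 0
      unfold subgroupBlockCoeff
      rw [dif_neg hg]
    rw [e2]
    have e3 : ∑ c : Subgroup.centralizer (Q : Set G), blockCoeff f c =
        ∑ c : Subgroup.centralizer (Q : Set G), blockCoeff f c *
          (oneIrr (Subgroup.centralizer (Q : Set G))).1 c := by
      refine Finset.sum_congr rfl fun c _ => ?_
      show _ = blockCoeff f c * 1
      rw [mul_one]
    rw [e3, e1]
    rfl
  have hmem : oneIrr (Subgroup.centralizer (Q : Set G)) ∈ f := by
    by_contra hcon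
    rw [h3, if_neg hcon, zero_sub, memLocalIdeal_neg_iff] at h1
    have h4 := memLocalIdeal_sub h1 h2
    rw [sub_sub_cancel] at h4
    exact one_not_memLocalIdeal h4
  exact IsPBlock_eq_of_mem hf Cfsg.Agent.S4691.isPBlock_principalBlock hmem
    (sameBlock_refl hMp.ne_top _)

/-- Pairs below a principal pair are principal. -/
theorem eq_principal_of_subpairLE_principal {p : ℕ} [Fact p.Prime] (hM : IsPModular p M)
    {a b : BrauerPairIdx G} (h : Relation.ReflTransGen (NormalSubpairRel p M) a b)
    (hb : b.2 = principalBlock M (Subgroup.centralizer (b.1 : Set G))) :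
    a.2 = principalBlock M (Subgroup.centralizer (a.1 : Set G)) := by
  induction h using Relation.ReflTransGen.head_induction_on with
  | refl => exact hb
  | head hac _ ih =>
    have h1 : IsNormalSubpair p M _ _ _ _ := hac
    rw [ih] at h1
    exact eq_principal_of_isNormalSubpair_principal hM h1

/-- **Third Main Theorem for Brauer pairs**: every Brauer pair of the principal block is
principal. -/
theorem eq_principal_of_isBrauerPairOf_principal {p : ℕ} [Fact p.Prime] (hM : IsPModular p M)
    (Q : Subgroup G) (f : Set (IrrCharacter (Subgroup.centralizer (Q : Set G))))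
    (h : IsBrauerPairOf p M (principalBlock M G) Q f) :
    f = principalBlock M (Subgroup.centralizer (Q : Set G)) := by
  obtain ⟨P, e, hmax, hle⟩ := exists_isMaximalBrauerPair_ge hM _ _ Q f h le_rfl
  have he := eq_principal_of_isMaximalBrauerPair_principal hM P e hmax
  exact eq_principal_of_subpairLE_principal hM (a := ⟨Q, f⟩) (b := ⟨P, e⟩) hle he

end Principal

end Cfsg.Agent.Lib.Helper16
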