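import Cfsg.Agent.Lib.Helper16.InducedPair
import Cfsg.Agent.Lib.Helper16.NilFusion
import Cfsg.Agent.Lib.Helper16.BrauerFirst
import Cfsg.Agent.Lib.Helper16.BrauerIdem
import Cfsg.Agent.Lib.Helper16.CentDefect
import Cfsg.Agent.Lib.Helper16.DefectConj
import Cfsg.Agent.Lib.Helper16.ThirdMain
import Cfsg.Agent.Lib.Helper16.BrauerOver

/-!
# Blocks of a subgroup containing the centralizer of a defect group (helper16)

For a block `b` of `H ≤ G` with defect group `D₀` and `C_G(D₀) ≤ H`: `b^G` is defined, a maximal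
`b`-pair `(D₀, e₀)` is a `b^G`-pair, and a maximal `b^G`-pair `(D, e)` above it has `D ∩ H = D₀`.
-/

set_option autoImplicit false

namespace Cfsg.Agent.Lib.Helper16

open Cfsg MonoidAlgebra Cfsg.Agent.Lib.Helper77
open scoped ComplexConjugate

universe u

section Pairs

variable {G : Type u} [Group G] [Fintype G] {M : Ideal AlgInt}

/-- `ω_ξ(Br_P z)` for `ξ` on `C_G(P)` is `brauerOmega` of the coefficient function of `z`. -/
theorem brauerLam_centralizer (P : Subgroup G) [Fintype ↥(Subgroup.centralizer (P : Set G))]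
    (ξ : ↥(Subgroup.centralizer (P : Set G)) → ℂ) (z : MonoidAlgebra ℂ G) :
    brauerLam P (Subgroup.centralizer (P : Set G)) ξ z =
      brauerOmega P (fun g : G => z.coeff g) ξ := by
  rw [brauerLam_apply]
  unfold brauerOmega omega
  rw [finsum_eq_sum_of_fintype, Finset.sum_div]
  refine Finset.sum_congr rfl fun x _ => ?_
  rw [coeff_brP, if_pos x.2]

/-- The Brauer functionals of characters in the same block of `H` are congruent on the order. -/
theorem brauerLam_congr_of_sameBlock [hMp : M.IsPrime] (P H : Subgroup G) [Fintype H]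
    (hHN : H ≤ Subgroup.normalizer (P : Set G)) {ξ ξ' : IrrCharacter H}
    (h : SameBlock M (ξ : H → ℂ) (ξ' : H → ℂ)) {z : Subalgebra.center ℂ (MonoidAlgebra ℂ G)}
    (hz : z ∈ centerOrder G M) :
    MemLocalIdeal M (brauerLam P H (ξ : H → ℂ) (z : MonoidAlgebra ℂ G) -
      brauerLam P H (ξ' : H → ℂ) (z : MonoidAlgebra ℂ G)) := by
  have hc : brP P H (z : MonoidAlgebra ℂ G) ∈ Subalgebra.center ℂ (MonoidAlgebra ℂ H) :=
    brP_mem_center P H hHN z.2
  have hO : (⟨brP P H (z : MonoidAlgebra ℂ G), hc⟩ : Subalgebra.center ℂ (MonoidAlgebra ℂ H)) ∈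
      centerOrder H M := by
    intro x
    exact brP_coeffsInRing P H (fun y => hz y) x
  have := sameBlock_omegaHom_congr h hO
  rw [omegaHom_apply, omegaHom_apply] at this
  exact this

/-- For a `B`-pair `(P, c)`, the Brauer functional of `ξ ∈ c` is congruent to the central character
of `χ ∈ B` on the order of the centre. -/
theorem brauerLam_sub_omegaHom_of_isBrauerPairOf {p : ℕ} [Fact p.Prime] (hM : IsPModular p M)
    [hMp : M.IsPrime]
    {B : Set (IrrCharacter G)} {P : Subgroup G} [Fintype ↥(Subgroup.centralizer (P : Set G))]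
    {c : Set (IrrCharacter (Subgroup.centralizer (P : Set G)))}
    (hpair : IsBrauerPairOf p M B P c)
    {ξ : IrrCharacter ↥(Subgroup.centralizer (P : Set G))} (hξ : ξ ∈ c)
    {χ : IrrCharacter G} (hχ : χ ∈ B) {z : Subalgebra.center ℂ (MonoidAlgebra ℂ G)}
    (hz : z ∈ centerOrder G M) :
    MemLocalIdeal M (brauerLam P (Subgroup.centralizer (P : Set G))
      (ξ : ↥(Subgroup.centralizer (P : Set G)) → ℂ) (z : MonoidAlgebra ℂ G) - omegaHom χ z) := by
  classical
  obtain ⟨⟨hP, hc⟩, hB, hbr⟩ := hpair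
  have hCN : Subgroup.centralizer (P : Set G) ≤ Subgroup.normalizer (P : Set G) :=
    Subgroup.centralizer_le_normalizer _
  obtain ⟨χ₀, hχ₀⟩ := exists_irr_brauerLam hM P (Subgroup.centralizer (P : Set G)) hP le_rfl hCN ξ
  have hχ₀B : χ₀ ∈ B := by
    by_contra hcon
    have h1 := hχ₀ (idemC B) (idemC_mem_centerOrder hB)
    rw [omegaHom_idemC, if_neg hcon, sub_zero] at h1
    have h4 : brauerLam P (Subgroup.centralizer (P : Set G))
        (ξ : ↥(Subgroup.centralizer (P : Set G)) → ℂ)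
        ((idemC B : Subalgebra.center ℂ (MonoidAlgebra ℂ G)) : MonoidAlgebra ℂ G) =
        brauerOmega P (blockCoeff B) (ξ : Subgroup.centralizer (P : Set G) → ℂ) := by
      rw [brauerLam_centralizer]
      have hfun : (fun g : G => ((idemC B : Subalgebra.center ℂ (MonoidAlgebra ℂ G)) :
          MonoidAlgebra ℂ G).coeff g) = blockCoeff B := by
        funext g
        exact coeff_idemOf B g
      rw [hfun]
    rw [h4] at h1
    have h5 := memLocalIdeal_sub (hbr ξ hξ) h1
    have h6 : brauerOmega P (blockCoeff B) (ξ : Subgroup.centralizer (P : Set G) → ℂ) - 1 -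
        brauerOmega P (blockCoeff B) (ξ : Subgroup.centralizer (P : Set G) → ℂ) = -1 := by ring
    rw [h6, memLocalIdeal_neg_iff] at h5
    exact one_not_memLocalIdeal h5
  have h2 := hχ₀ z hz
  have h3 := sameBlock_omegaHom_congr (sameBlock_of_mem hB hχ₀B hχ) hz
  exact memLocalIdeal_sub_trans h2 h3

/-- A block whose idempotent has a coefficient outside the ideal at an element centralizing the
`p`-subgroup `P` has a Brauer pair at `P`. -/
theorem exists_isBrauerPairOf_of_coeff {p : ℕ} [Fact p.Prime] (hM : IsPModular p M)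
    {B : Set (IrrCharacter G)} (hB : IsPBlock M B) {P : Subgroup G} (hP : IsPGroup p P) {g : G}
    (hg : g ∈ Subgroup.centralizer (P : Set G)) (hcoef : ¬ MemLocalIdeal M (blockCoeff B g)) :
    ∃ c : Set (IrrCharacter (Subgroup.centralizer (P : Set G))), IsBrauerPairOf p M B P c := by
  classical
  have hMp := isPModular_isPrime hM
  have : Fintype ↥(Subgroup.centralizer (P : Set G)) := Fintype.ofFinite _
  have hCN : Subgroup.centralizer (P : Set G) ≤ Subgroup.normalizer (P : Set G) :=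
    Subgroup.centralizer_le_normalizer _
  obtain ⟨χB, rfl⟩ := hB
  obtain ⟨ξ, hξ⟩ := exists_irr_brauerLam_blockIdem hM P (Subgroup.centralizer (P : Set G)) hP
    le_rfl hCN χB g hg hcoef
  obtain ⟨χ₀, hχ₀⟩ := exists_irr_brauerLam hM P (Subgroup.centralizer (P : Set G)) hP le_rfl hCN ξ
  have h1 := hχ₀ (blockIdem M χB) (blockIdem_mem χB)
  have h2 : χ₀ ∈ blockOf M (χB : G → ℂ) := by
    by_contra hcon
    rw [omegaHom_blockIdem_of_not_mem χB hcon, sub_zero] at h1
    exact hξ h1
  rw [omegaHom_blockIdem_of_mem χB h2] at h1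
  refine ⟨blockOf M (ξ : ↥(Subgroup.centralizer (P : Set G)) → ℂ), ⟨hP, isPBlock_blockOf ξ⟩,
    isPBlock_blockOf χB, ?_⟩
  intro ξ' hξ'
  have h3 := brauerLam_congr_of_sameBlock P (Subgroup.centralizer (P : Set G)) hCN
    (sameBlock_symm (mem_blockOf_iff.mp hξ')) (blockIdem_mem (M := M) χB)
  have h4 : brauerLam P (Subgroup.centralizer (P : Set G))
      (ξ' : ↥(Subgroup.centralizer (P : Set G)) → ℂ)
      ((blockIdem M χB : Subalgebra.center ℂ (MonoidAlgebra ℂ G)) : MonoidAlgebra ℂ G) =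
      brauerOmega P (blockCoeff (blockOf M (χB : G → ℂ)))
        (ξ' : Subgroup.centralizer (P : Set G) → ℂ) := by
    rw [brauerLam_centralizer]
    have hfun : (fun g : G => ((blockIdem M χB : Subalgebra.center ℂ (MonoidAlgebra ℂ G)) :
        MonoidAlgebra ℂ G).coeff g) = blockCoeff (blockOf M (χB : G → ℂ)) := by
      funext g
      exact coeff_blockIdem χB g
    rw [hfun]
  rw [← h4]
  exact memLocalIdeal_sub_trans h3 h1

/-- Every defect group is the first component of a maximal Brauer pair. -/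
theorem exists_isMaximalBrauerPair_of_isDefectGroup {p : ℕ} [Fact p.Prime] (hM : IsPModular p M)
    {B : Set (IrrCharacter G)} (hB : IsPBlock M B) {D : Subgroup G}
    (hD : IsDefectGroup p M B D) :
    ∃ d : Set (IrrCharacter (Subgroup.centralizer (D : Set G))),
      IsMaximalBrauerPair p M B D d := by
  have hD' := hD
  obtain ⟨g, hg, S, hS⟩ := hD
  have hDp : IsPGroup p D := by
    rw [hS]
    exact S.isPGroup'.map _
  have hgD : g ∈ Subgroup.centralizer (D : Set G) := by
    rw [Subgroup.mem_centralizer_iff]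
    intro d hd
    rw [hS] at hd
    obtain ⟨s, _, rfl⟩ := hd
    exact Subgroup.mem_centralizer_singleton_iff.mp s.2
  obtain ⟨d, hd⟩ := exists_isBrauerPairOf_of_coeff hM hB hDp hgD hg.2.1
  exact ⟨d, isMaximalBrauerPair_of_isDefectGroup hM hd hD'⟩

end Pairs

section Sub

variable {G : Type u} [Group G] [Fintype G] {M : Ideal AlgInt}

/-- Transport of the Brauer functional from `H` to `G` when `C_G(P) ≤ H`. -/
theorem brauerLam_centEquivIn (H P : Subgroup G) (hPH : P ≤ H)
    (hC : Subgroup.centralizer (P : Set G) ≤ H) [Fintype ↥H]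
    [Fintype ↥(Subgroup.centralizer (P : Set G))]
    [Fintype ↥(Subgroup.centralizer ((P.subgroupOf H : Subgroup ↥H) : Set ↥H))]
    (ξ : IrrCharacter ↥(Subgroup.centralizer (P : Set G))) (z : MonoidAlgebra ℂ G) :
    brauerLam (P.subgroupOf H) (Subgroup.centralizer ((P.subgroupOf H : Subgroup ↥H) : Set ↥H))
      (irrPull (centEquivIn H P hPH hC) ξ :
        ↥(Subgroup.centralizer ((P.subgroupOf H : Subgroup ↥H) : Set ↥H)) → ℂ) (resAlg H z) =
    brauerLam P (Subgroup.centralizer (P : Set G))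
      (ξ : ↥(Subgroup.centralizer (P : Set G)) → ℂ) z := by
  rw [brauerLam_centralizer, brauerLam_centralizer]
  have hfun : (fun n : ↥H => (resAlg H z).coeff n) =
      fun n : ↥H => (fun g : G => z.coeff g) (n : G) := by
    funext n
    exact coeff_resAlg H z n
  rw [hfun]
  exact brauerOmega_centEquivIn H P hPH hC _ ξ

/-- If `(P, e)` restricted to `H ⊇ C_G(P)` is a `b`-pair, then `b^G` is defined and `(P, e)` is a
`b^G`-pair. -/
theorem exists_isInducedBlock_of_centralizer_le {p : ℕ} [Fact p.Prime] (hM : IsPModular p M)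
    (H P : Subgroup G) (hPH : P ≤ H) (hC : Subgroup.centralizer (P : Set G) ≤ H)
    {b : Set (IrrCharacter ↥H)} {e : Set (IrrCharacter (Subgroup.centralizer (P : Set G)))}
    (hpair : IsBrauerPairOf p M b (P.subgroupOf H) (pullBlock (centEquivIn H P hPH hC) e)) :
    ∃ B : Set (IrrCharacter G), IsInducedBlock M H b B ∧ IsBrauerPairOf p M B P e := by
  classical
  have hMp := isPModular_isPrime hM
  have : Fintype ↥H := Fintype.ofFinite _
  have : Fintype ↥(Subgroup.centralizer (P : Set G)) := Fintype.ofFinite _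
  have : Fintype ↥(Subgroup.centralizer ((P.subgroupOf H : Subgroup ↥H) : Set ↥H)) :=
    Fintype.ofFinite _
  have hCN : Subgroup.centralizer (P : Set G) ≤ Subgroup.normalizer (P : Set G) :=
    Subgroup.centralizer_le_normalizer _
  have hP : IsPGroup p P := hpair.1.1.of_equiv (Subgroup.subgroupOfEquivOfLe hPH)
  have he : IsPBlock M e := by
    have := isPBlock_pullBlock (centEquivIn H P hPH hC).symm hpair.1.2
    rwa [pullBlock_symm_pullBlock] at this
  obtain ⟨ξ, hξ⟩ := IsPBlock_nonempty hMp.ne_top he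
  obtain ⟨χ₀, hχ₀⟩ := exists_irr_brauerLam hM P (Subgroup.centralizer (P : Set G)) hP le_rfl hCN ξ
  have key : ∀ ζ ∈ b, ∀ z : Subalgebra.center ℂ (MonoidAlgebra ℂ G), z ∈ centerOrder G M →
      MemLocalIdeal M (omega (ζ : ↥H → ℂ) (resAlg H (z : MonoidAlgebra ℂ G)) -
        omegaHom χ₀ z) := by
    intro ζ hζ z hz
    have h1 := brauerLam_sub_omegaHom_of_isBrauerPairOf hM hpair
      (irrPull_mem_pullBlock (centEquivIn H P hPH hC) hξ) hζ (resAlgC_mem_centerOrder H hz)
    have h2 : ((resAlgC H z : Subalgebra.center ℂ (MonoidAlgebra ℂ ↥H)) : MonoidAlgebra ℂ ↥H) =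
        resAlg H (z : MonoidAlgebra ℂ G) := rfl
    rw [omegaHom_apply, h2, brauerLam_centEquivIn H P hPH hC ξ] at h1
    exact memLocalIdeal_sub_trans (memLocalIdeal_sub_comm.mp h1) (hχ₀ z hz)
  refine ⟨blockOf M (χ₀ : G → ℂ), ⟨hpair.2.1, isPBlock_blockOf χ₀, ?_⟩, ⟨hP, he⟩,
    isPBlock_blockOf χ₀, ?_⟩
  · intro ζ hζ χ hχ g
    have h1 := key ζ hζ (classSumC g) (classSumC_mem_centerOrder g)
    have h2 : ((classSumC g : Subalgebra.center ℂ (MonoidAlgebra ℂ G)) : MonoidAlgebra ℂ G) =
        classSum g := rfl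
    rw [omegaHom_classSumC, h2, omega_resAlg_classSum] at h1
    exact memLocalIdeal_sub_trans h1 (mem_blockOf_iff.mp hχ g)
  · intro ξ' hξ'
    have hB₀ : IsPBlock M (blockOf M (χ₀ : G → ℂ)) := isPBlock_blockOf χ₀
    have h3 := brauerLam_congr_of_sameBlock P (Subgroup.centralizer (P : Set G)) hCN
      (sameBlock_of_mem he hξ' hξ) (idemC_mem_centerOrder hB₀)
    have h4 : brauerLam P (Subgroup.centralizer (P : Set G))
        (ξ' : ↥(Subgroup.centralizer (P : Set G)) → ℂ)
        ((idemC (blockOf M (χ₀ : G → ℂ)) : Subalgebra.center ℂ (MonoidAlgebra ℂ G)) :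
          MonoidAlgebra ℂ G) =
        brauerOmega P (blockCoeff (blockOf M (χ₀ : G → ℂ)))
          (ξ' : Subgroup.centralizer (P : Set G) → ℂ) := by
      rw [brauerLam_centralizer]
      have hfun : (fun g : G => ((idemC (blockOf M (χ₀ : G → ℂ)) :
          Subalgebra.center ℂ (MonoidAlgebra ℂ G)) : MonoidAlgebra ℂ G).coeff g) =
          blockCoeff (blockOf M (χ₀ : G → ℂ)) := by
        funext g
        exact coeff_idemOf _ g
      rw [hfun]
    rw [← h4]
    have h5 := hχ₀ (idemC (blockOf M (χ₀ : G → ℂ))) (idemC_mem_centerOrder hB₀)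
    rw [omegaHom_idemC, if_pos (self_mem_blockOf hMp.ne_top χ₀)] at h5
    exact memLocalIdeal_sub_trans h3 h5

/-- If `(P, e)` restricted to `H ⊇ C_G(P)` is a maximal `b`-pair and `(P, e) ≤ (D, d)`, then
`D ∩ H = P`. -/
theorem inf_eq_of_isMaximalBrauerPair_restrict {p : ℕ} [Fact p.Prime] (hM : IsPModular p M)
    (H P : Subgroup G) (hPH : P ≤ H) (hC : Subgroup.centralizer (P : Set G) ≤ H)
    {b : Set (IrrCharacter ↥H)} {e : Set (IrrCharacter (Subgroup.centralizer (P : Set G)))}
    (hmax : IsMaximalBrauerPair p M b (P.subgroupOf H)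
      (pullBlock (centEquivIn H P hPH hC) e))
    {D : Subgroup G} {d : Set (IrrCharacter (Subgroup.centralizer (D : Set G)))}
    (hD : IsBrauerPair p M D d) (hle : SubpairLE p M P e D d) : D ⊓ H = P := by
  classical
  have : Fintype ↥H := Fintype.ofFinite _
  have hPD : P ≤ D := Cfsg.Agent.S4655.le_le hle
  have hPR : P ≤ D ⊓ H := le_inf hPD hPH
  obtain ⟨r, _, hrle⟩ := Cfsg.Agent.S4655.exists_le hM (Nat.card D - Nat.card (D ⊓ H : Subgroup G))
    (⟨D, d⟩ : BrauerPairIdx G) hD (D ⊓ H) inf_le_left le_rfl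
  have hPRle : SubpairLE p M P e (D ⊓ H) r := subpairLE_of_le_of_subpairLE hM hD hrle hle hPR
  have h1 := restrictPair_subpairLE (M := M) (L := H) (a := ⟨P, e⟩) hC hPRle inf_le_right
  have h2 : IsBrauerPairOf p M b _ _ :=
    (Cfsg.Agent.S4658.chain_iff p M hM b _ _ h1).mpr hmax.1
  have h3 := hmax.2 _ _ h2 h1
  exact subgroupOf_injective_of_le inf_le_right hPH h3

/-- A block `b` of `H` with a defect group `D₀` such that `C_G(D₀) ≤ H` induces a block of `G`,
and each block it induces has a defect group `D` with `D₀ ≤ D` and `D ∩ H = D₀`. -/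
theorem induced_of_centralizer_defectGroup_le {p : ℕ} [Fact p.Prime] (hM : IsPModular p M)
    (H : Subgroup G) {b : Set (IrrCharacter ↥H)} (hb : IsPBlock M b) {D₀ : Subgroup ↥H}
    (hD₀ : IsDefectGroup p M b D₀)
    (hC : Subgroup.centralizer ((D₀.map H.subtype : Subgroup G) : Set G) ≤ H) :
    InducedBlockDefined M H b ∧ ∀ B : Set (IrrCharacter G), IsInducedBlock M H b B →
      ∃ D : Subgroup G, IsDefectGroup p M B D ∧ D₀.map H.subtype ≤ D ∧
        D ⊓ H = D₀.map H.subtype := by
  classical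
  have hMp := isPModular_isPrime hM
  have : Fintype ↥H := Fintype.ofFinite _
  obtain ⟨d₀, hmax₀⟩ := exists_isMaximalBrauerPair_of_isDefectGroup hM hb hD₀
  obtain ⟨P, hPH, rfl⟩ : ∃ P : Subgroup G, P ≤ H ∧ D₀ = P.subgroupOf H := by
    refine ⟨D₀.map H.subtype, ?_, ?_⟩
    · rintro _ ⟨t, _, rfl⟩
      exact t.2
    · exact (Subgroup.comap_map_eq_self_of_injective (Subgroup.subtype_injective H) D₀).symm
  rw [Subgroup.map_subgroupOf_eq_of_le hPH] at hC ⊢
  have hd₀ : d₀ = pullBlock (centEquivIn H P hPH hC)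
      (pullBlock (centEquivIn H P hPH hC).symm d₀) := (pullBlock_pullBlock_symm _ _).symm
  rw [hd₀] at hmax₀
  obtain ⟨B₀, hind₀, hpair₀⟩ := exists_isInducedBlock_of_centralizer_le hM H P hPH hC hmax₀.1
  refine ⟨⟨B₀, hind₀⟩, ?_⟩
  intro B hind
  have hBB : B = B₀ := isInducedBlock_unique H hind hind₀
  subst hBB
  obtain ⟨D, d, hmax, hle⟩ := exists_isMaximalBrauerPair_ge hM B (Nat.card G - Nat.card P) P _
    hpair₀ le_rfl
  exact ⟨D, isDefectGroup_of_isMaximalBrauerPair hM B D d hmax, Cfsg.Agent.S4655.le_le hle,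
    inf_eq_of_isMaximalBrauerPair_restrict hM H P hPH hC hmax₀ hmax.1.1 hle⟩

end Sub

end Cfsg.Agent.Lib.Helper16
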