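import Mathlib
import Cfsg.Agent.Lib.Helper16.BPNilMain
import Cfsg.Agent.Lib.Helper16.BrauerHom
import Cfsg.Agent.Lib.Helper16.InducedCent
import Cfsg.Agent.Lib.Helper78.WBORank

/-!
# PROJECT BP, layer 5: the two nilpotent rows from the `*`-theorem (helper16)

`stmt4689_of_BP` and `stmt4690_of_BP`: the statements S4689 (a nilpotent block has `p`-regular
rank one with a unit row) and S4690 (height preserving bijection with `Irr(P)`) from the hypothesis
that the Broué–Puig `*`-theorem `BPIrr` holds for the maximal pairs of `B`.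
-/

set_option autoImplicit false
set_option linter.unusedSectionVars false
set_option linter.style.haveILetI false

namespace Cfsg.Agent.Lib.Helper16.BP

open Cfsg Finset Cfsg.Agent.Lib.Helper16 Cfsg.Agent.Lib.Helper78 Cfsg.Agent.Lib.Helper82
open scoped ComplexConjugate

universe u

variable {G : Type u} [Group G] [Fintype G] {M : Ideal AlgInt}

variable {p : ℕ} [Fact p.Prime] {B : Set (IrrCharacter G)}

/-- The minimal `p`-part of the degrees in `B`. -/
theorem exists_height_zero (hB : B.Nonempty) :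
    ∃ χ₀ : IrrCharacter G, χ₀ ∈ B ∧ blockHeight p B (χ₀ : G → ℂ) = 0 := by
  have hne : ((fun ψ : IrrCharacter G => (charDegree (ψ : G → ℂ)).factorization p) '' B).Nonempty :=
    hB.image _
  obtain ⟨χ₀, hχ₀, hmin⟩ := Nat.sInf_mem hne
  refine ⟨χ₀, hχ₀, ?_⟩
  unfold blockHeight
  simp only at hmin
  rw [hmin]
  exact Nat.sub_self _

/-- The height of a member of `B` whose degree is `d` times the degree of a height zero
character. -/
theorem blockHeight_of_degree_mul {χ₀ χ : IrrCharacter G} (hχ₀ : χ₀ ∈ B)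
    (h0 : blockHeight p B (χ₀ : G → ℂ) = 0) {d : ℕ} (hd : 0 < d)
    (hdeg : charDegree (χ : G → ℂ) = d * charDegree (χ₀ : G → ℂ)) :
    blockHeight p B (χ : G → ℂ) = d.factorization p := by
  have hle : sInf ((fun ψ : IrrCharacter G => (charDegree (ψ : G → ℂ)).factorization p) '' B) ≤
      (charDegree (χ₀ : G → ℂ)).factorization p := Nat.sInf_le ⟨χ₀, hχ₀, rfl⟩
  unfold blockHeight at h0 ⊢
  have hpos := IsIrrCharacter.charDegree_pos χ₀.2
  rw [hdeg, Nat.factorization_mul hd.ne' hpos.ne']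
  simp only [Finsupp.coe_add, Pi.add_apply]
  omega

section Rows

variable (hM : IsPModular p M)

open scoped Classical in
/-- **S4689 from the `*`-theorem.** -/
theorem stmt4689_of_BP (hM : IsPModular p M) (hnil : IsNilpotentBlock p M B)
    (hBP : ∀ (P : Subgroup G) (e : Set (IrrCharacter (Subgroup.centralizer (P : Set G)))),
      IsMaximalBrauerPair p M B P e → BPIrr p M B P e) :
    blockRank p B = 1 ∧ ∃ χ₀ ∈ B, ∀ χ ∈ B, ∃ d : ℕ, ∀ x : G,
      pRegularPart p (χ : G → ℂ) x = (d : ℂ) * pRegularPart p (χ₀ : G → ℂ) x := by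
  haveI hMp := isPModular_isPrime hM
  have hB : IsPBlock M B := hnil.1
  obtain ⟨P, hP⟩ := exists_isDefectGroup p hB
  obtain ⟨e, hmax⟩ := exists_isMaximalBrauerPair_of_isDefectGroup hM hB hP
  obtain ⟨χ₀, hχ₀, h0⟩ := exists_height_zero (p := p) (IsPBlock_nonempty hMp.ne_top hB)
  obtain ⟨Ψ, -, -, hsurj, hval⟩ := nil_structure hM hmax hnil (hBP P e hmax) hχ₀ h0
  have hrow : ∀ χ ∈ B, ∃ d : ℕ, ∀ x : G,
      pRegularPart p (χ : G → ℂ) x = (d : ℂ) * pRegularPart p (χ₀ : G → ℂ) x := by
    intro χ hχ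
    obtain ⟨lam, rfl⟩ := hsurj χ hχ
    refine ⟨charDegree (lam : P → ℂ), fun x => ?_⟩
    by_cases hx : p ∣ orderOf x
    · rw [pRegularPart_apply_of_singular p _ hx, pRegularPart_apply_of_singular p _ hx, mul_zero]
    · rw [pRegularPart_apply_of_regular p _ hx, pRegularPart_apply_of_regular p _ hx,
        hval lam x hx, IsCharacter.apply_one_eq_charDegree (IsIrrCharacter.isCharacter lam.2)]
  refine ⟨?_, χ₀, hχ₀, hrow⟩
  -- the rank
  have hx₀ : pRegularPart p (χ₀ : G → ℂ) ≠ 0 := by
    intro h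
    have h1 := congrFun h 1
    have hp1 : ¬ p ∣ orderOf (1 : G) := by
      rw [orderOf_one]
      exact (Fact.out : p.Prime).one_lt.ne' ∘ Nat.dvd_one.mp
    rw [pRegularPart_apply_of_regular p _ hp1,
      IsCharacter.apply_one_eq_charDegree (IsIrrCharacter.isCharacter χ₀.2)] at h1
    have := IsIrrCharacter.charDegree_pos χ₀.2
    simp only [Pi.zero_apply, Nat.cast_eq_zero] at h1
    omega
  have hspan : Submodule.span ℂ ((fun χ : IrrCharacter G => pRegularPart p (χ : G → ℂ)) '' B) =
      Submodule.span ℂ {pRegularPart p (χ₀ : G → ℂ)} := by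
    apply le_antisymm
    · rw [Submodule.span_le]
      rintro _ ⟨χ, hχ, rfl⟩
      obtain ⟨d, hd⟩ := hrow χ hχ
      have : pRegularPart p (χ : G → ℂ) = (d : ℂ) • pRegularPart p (χ₀ : G → ℂ) := by
        funext x
        rw [hd x]
        rfl
      simp only
      rw [this]
      exact Submodule.smul_mem _ _ (Submodule.mem_span_singleton_self _)
    · rw [Submodule.span_le]
      intro y hy
      rw [Set.mem_singleton_iff] at hy
      rw [hy]
      exact Submodule.subset_span ⟨χ₀, hχ₀, rfl⟩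
  unfold blockRank
  rw [hspan]
  exact finrank_span_singleton hx₀

open scoped Classical in
/-- **S4690 from the `*`-theorem.** -/
theorem stmt4690_of_BP (hM : IsPModular p M) (hnil : IsNilpotentBlock p M B)
    (hBP : ∀ (P : Subgroup G) (e : Set (IrrCharacter (Subgroup.centralizer (P : Set G)))),
      IsMaximalBrauerPair p M B P e → BPIrr p M B P e)
    (P : Subgroup G) (hP : IsDefectGroup p M B P) :
    ∃ Φ : B ≃ IrrCharacter P, ∀ χ : B,
      blockHeight p B ((χ : IrrCharacter G) : G → ℂ) =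
        (charDegree ((Φ χ : IrrCharacter P) : P → ℂ)).factorization p := by
  haveI hMp := isPModular_isPrime hM
  have hB : IsPBlock M B := hnil.1
  obtain ⟨e, hmax⟩ := exists_isMaximalBrauerPair_of_isDefectGroup hM hB hP
  obtain ⟨χ₀, hχ₀, h0⟩ := exists_height_zero (p := p) (IsPBlock_nonempty hMp.ne_top hB)
  obtain ⟨Ψ, hinj, hmem, hsurj, hval⟩ := nil_structure hM hmax hnil (hBP P e hmax) hχ₀ h0
  have hbij : Function.Bijective (fun lam : IrrCharacter P => (⟨Ψ lam, hmem lam⟩ : B)) := by
    constructor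
    · intro lam mu h
      exact hinj (congrArg Subtype.val h)
    · rintro ⟨ξ, hξ⟩
      obtain ⟨lam, hl⟩ := hsurj ξ hξ
      exact ⟨lam, Subtype.ext hl⟩
  refine ⟨(Equiv.ofBijective _ hbij).symm, ?_⟩
  intro χ
  obtain ⟨lam, rfl⟩ := hbij.2 χ
  have hsymm : (Equiv.ofBijective _ hbij).symm (⟨Ψ lam, hmem lam⟩ : B) = lam :=
    (Equiv.ofBijective _ hbij).symm_apply_apply lam
  rw [hsymm]
  have hp1 : ¬ p ∣ orderOf (1 : G) := by
    rw [orderOf_one]
    exact (Fact.out : p.Prime).one_lt.ne' ∘ Nat.dvd_one.mp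
  have hdeg : charDegree ((Ψ lam : IrrCharacter G) : G → ℂ) =
      charDegree (lam : P → ℂ) * charDegree (χ₀ : G → ℂ) := by
    have h1 := hval lam 1 hp1
    rw [IsCharacter.apply_one_eq_charDegree (IsIrrCharacter.isCharacter (Ψ lam).2),
      IsCharacter.apply_one_eq_charDegree (IsIrrCharacter.isCharacter lam.2),
      IsCharacter.apply_one_eq_charDegree (IsIrrCharacter.isCharacter χ₀.2)] at h1
    exact_mod_cast h1
  exact blockHeight_of_degree_mul hχ₀ h0 (IsIrrCharacter.charDegree_pos lam.2) hdeg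

end Rows

end Cfsg.Agent.Lib.Helper16.BP
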