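import Mathlib
import Cfsg.Agent.Lib.Helper82.FusionControl
import Cfsg.Agent.Lib.Helper82.ExtFirstMain
import Cfsg.Agent.Lib.Helper16.CentDefect
import Cfsg.Agent.Lib.Helper16.InducedCent
import Cfsg.Agent.Lib.Helper16.InducedPair
import Cfsg.Agent.Lib.Helper16.NilFusion
import Cfsg.Agent.Lib.Helper78.DefectOrder
import Cfsg.Agent.S0917
import Cfsg.Agent.S4657

/-!
# Major subsections attached to the central elements of a defect group (helper16)

Let `B` be a block with defect group `D`, `H = D C_G(D)`, `b` a block of `H` with `b^G = B` and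
`T` the stabilizer of `b` in `N_G(D)`.  For every subgroup `Q ≤ Z(D)` (that is `Q ≤ D ≤ C_G(Q)`)
there is a block `f Q` of `C_G(Q)` with `(f Q)^G = B` of the same defect as `B`, and two such
subsections that are conjugate in `G` are already conjugate under `T`
(`exists_center_family`).  This is the group theoretic half of Brauer's bound
`p^(h + c - d) ≤ e` for the heights.
-/

set_option autoImplicit false
set_option linter.unusedSectionVars false
set_option linter.style.haveILetI false

namespace Cfsg.Agent.Lib.Helper16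

open Cfsg MonoidAlgebra Cfsg.Agent.Lib.Helper77
open scoped ComplexConjugate

universe u

section Self

variable {G : Type u} [Group G] [Fintype G] {M : Ideal AlgInt}

/-- The central character of `ξ ∈ β` at the idempotent of `β` is `1`. -/
theorem brauerOmega_subgroupBlockCoeff_self (P : Subgroup G)
    (β : Set (IrrCharacter (Subgroup.centralizer (P : Set G))))
    {ξ : IrrCharacter (Subgroup.centralizer (P : Set G))} (hξ : ξ ∈ β) :
    brauerOmega P (subgroupBlockCoeff (Subgroup.centralizer (P : Set G)) β)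
      (ξ : Subgroup.centralizer (P : Set G) → ℂ) = 1 := by
  classical
  have : Fintype ↥(Subgroup.centralizer (P : Set G)) := Fintype.ofFinite _
  have h1 := omegaHom_idemC β ξ
  rw [if_pos hξ, omegaHom_apply] at h1
  rw [← h1]
  unfold brauerOmega omega
  rw [finsum_eq_sum_of_fintype, Finset.sum_div]
  refine Finset.sum_congr rfl fun x _ => ?_
  have h2 : subgroupBlockCoeff (Subgroup.centralizer (P : Set G)) β (x : G) = blockCoeff β x := by
    unfold subgroupBlockCoeff
    rw [dif_pos x.2]
  rw [h2]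
  show blockCoeff β x * _ / _ = (idemOf β).coeff x * _ / _
  rw [coeff_idemOf]

/-- Every Brauer pair is normally contained in itself. -/
theorem isNormalSubpair_self {p : ℕ} {P : Subgroup G}
    {β : Set (IrrCharacter (Subgroup.centralizer (P : Set G)))} (h : IsBrauerPair p M P β)
    (hM : M ≠ ⊤) : IsNormalSubpair p M P β P β := by
  refine ⟨h, h, le_rfl, Subgroup.le_normalizer, ?_, ?_⟩
  · intro x hx
    exact stabilizesBlock_of_mem_sup_centralizer P β (Subgroup.mem_sup_left hx)
  · intro ξ hξ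
    rw [brauerOmega_subgroupBlockCoeff_self P β hξ, sub_self]
    exact memLocalIdeal_zero hM

end Self

section Under

variable {G : Type u} [Group G] [Fintype G] {M : Ideal AlgInt}

/-- If `b^G = B`, where `b` is a block of `H` with `D C_G(D) ≤ H ≤ N_G(D)` and `D` is a defect
group of `B`, then some maximal `B`-pair `(D, β)` restricts to a `b`-pair. -/
theorem exists_isMaximalBrauerPair_under {p : ℕ} [Fact p.Prime] (hM : IsPModular p M)
    {B : Set (IrrCharacter G)} (hB : IsPBlock M B) {D : Subgroup G}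
    (hBD : IsDefectGroup p M B D) (H : Subgroup G) (hDH : D ≤ H)
    (hCH : Subgroup.centralizer (D : Set G) ≤ H)
    (hHN : H ≤ Subgroup.normalizer (D : Set G)) {b : Set (IrrCharacter H)}
    (hind : IsInducedBlock M H b B) :
    ∃ β : Set (IrrCharacter (Subgroup.centralizer (D : Set G))),
      IsMaximalBrauerPair p M B D β ∧
      IsBrauerPairOf p M b (D.subgroupOf H) (pullBlock (centEquivIn H D hDH hCH) β) := by
  classical
  have hMp := isPModular_isPrime hM
  have : Fintype ↥H := Fintype.ofFinite _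
  have hb : IsPBlock M b := hind.1
  have hDb := Cfsg.Agent.Lib.Helper82.isDefectGroup_subgroupOf_of_isInducedBlock hM D H hDH hHN
    hB hBD hind
  obtain ⟨d₀, hmax₀⟩ := exists_isMaximalBrauerPair_of_isDefectGroup hM hb hDb
  have hd₀ : d₀ = pullBlock (centEquivIn H D hDH hCH)
      (pullBlock (centEquivIn H D hDH hCH).symm d₀) := (pullBlock_pullBlock_symm _ _).symm
  rw [hd₀] at hmax₀
  obtain ⟨B₀, hind₀, hpair₀⟩ := exists_isInducedBlock_of_centralizer_le hM H D hDH hCH hmax₀.1
  have hBB : B = B₀ := Cfsg.Agent.Lib.Helper16.isInducedBlock_unique H hind hind₀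
  subst hBB
  exact ⟨_, isMaximalBrauerPair_of_isDefectGroup hM hpair₀ hBD, hmax₀.1⟩

/-- The idempotent of the block of `D C_G(D)` above the block `β` of `C_G(D)` is the idempotent
of `β`. -/
theorem blockCoeff_eq_subgroupBlockCoeff_of_pair {p : ℕ} [Fact p.Prime] (hM : IsPModular p M)
    {D : Subgroup G} {β : Set (IrrCharacter (Subgroup.centralizer (D : Set G)))}
    (hDβ : IsBrauerPair p M D β)
    {b : Set (IrrCharacter ↥(D ⊔ Subgroup.centralizer (D : Set G)))}
    (hpair : IsBrauerPairOf p M b (D.subgroupOf (D ⊔ Subgroup.centralizer (D : Set G)))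
      (pullBlock (centEquivIn (D ⊔ Subgroup.centralizer (D : Set G)) D le_sup_left le_sup_right)
        β)) :
    ∀ t : ↥(D ⊔ Subgroup.centralizer (D : Set G)),
      blockCoeff b t = subgroupBlockCoeff (Subgroup.centralizer (D : Set G)) β (t : G) := by
  classical
  have hMp := isPModular_isPrime hM
  have : Fintype ↥(D ⊔ Subgroup.centralizer (D : Set G)) := Fintype.ofFinite _
  have hLN : D ⊔ Subgroup.centralizer (D : Set G) ≤ Subgroup.normalizer (D : Set G) :=
    sup_le Subgroup.le_normalizer (Subgroup.centralizer_le_normalizer _)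
  obtain ⟨F', hF', hF'f⟩ := exists_block_of_stable hM D (D ⊔ Subgroup.centralizer (D : Set G))
    hDβ.1 le_sup_left hLN le_sup_right β hDβ.2
    (fun y hy => stabilizesBlock_of_mem_sup_centralizer D β hy)
  have hN : IsNormalSubpair p M D β D β := isNormalSubpair_self hDβ hMp.ne_top
  have hpairF := isBrauerPairOf_subgroupOf_of_isNormalSubpair (L := D ⊔ Subgroup.centralizer
    (D : Set G)) le_sup_right hF' hF'f le_sup_left hN
  have huniq := Cfsg.Agent.S4657.result p M hM _ _ hpair.1
  have hbF : b = F' := huniq.unique hpair hpairF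
  rw [hbF]
  exact hF'f

/-- An element of `N_G(D)` fixing the block `β` of `C_G(D)` fixes the block of `D C_G(D)` above
`β`. -/
theorem mem_of_conj_of_stabilizes
    {D : Subgroup G} {β : Set (IrrCharacter (Subgroup.centralizer (D : Set G)))}
    {H : Subgroup G} (hH : H = D ⊔ Subgroup.centralizer (D : Set G))
    {b : Set (IrrCharacter H)}
    (hcoef : ∀ t : H,
      blockCoeff b t = subgroupBlockCoeff (Subgroup.centralizer (D : Set G)) β (t : G))
    {x : G} (hxN : x ∈ Subgroup.normalizer (D : Set G))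
    (hxS : StabilizesBlock (Subgroup.centralizer (D : Set G)) β x)
    {θ : IrrCharacter H} (hθ : θ ∈ b) (θ' : IrrCharacter H)
    (hθ' : ∀ h h' : H, (h' : G) = x * h * x⁻¹ → (θ' : H → ℂ) h' = (θ : H → ℂ) h) : θ' ∈ b := by
  classical
  subst hH
  have : Fintype ↥(D ⊔ Subgroup.centralizer (D : Set G)) := Fintype.ofFinite _
  have hxinv : x⁻¹ ∈ Subgroup.normalizer (D : Set G) := Subgroup.inv_mem _ hxN
  -- conjugation by `x` on `H`
  let σ : ↥(D ⊔ Subgroup.centralizer (D : Set G)) ≃ ↥(D ⊔ Subgroup.centralizer (D : Set G)) :=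
    { toFun := fun h => ⟨x * h * x⁻¹, Cfsg.Agent.Lib.Helper82.conj_mem_sup_centralizer D hxN h.2⟩
      invFun := fun h => ⟨x⁻¹ * h * x, by
        have := Cfsg.Agent.Lib.Helper82.conj_mem_sup_centralizer D hxinv h.2
        rwa [inv_inv] at this⟩
      left_inv := fun h => by
        apply Subtype.ext
        show x⁻¹ * (x * (h : G) * x⁻¹) * x = h
        group
      right_inv := fun h => by
        apply Subtype.ext
        show x * (x⁻¹ * (h : G) * x) * x⁻¹ = h
        group }
  have h1 := omegaHom_idemC b θ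
  rw [if_pos hθ, omegaHom_apply] at h1
  have h2 := omegaHom_idemC b θ'
  rw [omegaHom_apply] at h2
  have hone : (θ' : ↥(D ⊔ Subgroup.centralizer (D : Set G)) → ℂ) 1 =
      (θ : ↥(D ⊔ Subgroup.centralizer (D : Set G)) → ℂ) 1 := by
    apply hθ'
    simp
  have h3 : omega (θ' : ↥(D ⊔ Subgroup.centralizer (D : Set G)) → ℂ)
      ((idemC b : Subalgebra.center ℂ (MonoidAlgebra ℂ
      ↥(D ⊔ Subgroup.centralizer (D : Set G)))) : MonoidAlgebra ℂ _) =
      omega (θ : ↥(D ⊔ Subgroup.centralizer (D : Set G)) → ℂ)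
      ((idemC b : Subalgebra.center ℂ (MonoidAlgebra ℂ
      ↥(D ⊔ Subgroup.centralizer (D : Set G)))) : MonoidAlgebra ℂ _) := by
    unfold omega
    rw [hone]
    congr 1
    rw [← Equiv.sum_comp σ]
    refine Finset.sum_congr rfl fun h _ => ?_
    show (idemOf b).coeff (σ h) * _ = (idemOf b).coeff h * _
    rw [coeff_idemOf, coeff_idemOf, hcoef, hcoef, hθ' h (σ h) rfl]
    congr 1
    exact subgroupBlockCoeff_conj_of_stabilizes _ β x hxS (h : G)
  rw [h3, h1] at h2
  by_contra hcon
  rw [if_neg hcon] at h2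
  exact one_ne_zero h2

end Under

section Family

variable {G : Type u} [Group G] [Fintype G] {M : Ideal AlgInt}

/-- For a maximal `B`-pair `(D, β)` and `Q ≤ Z(D)` the subpair `(Q, f) ≤ (D, β)` gives a block
`f` of `C_G(Q)` inducing `B` with the same defect as `B`. -/
theorem exists_major_of_le_center {p : ℕ} [Fact p.Prime] (hM : IsPModular p M)
    {B : Set (IrrCharacter G)} (hB : IsPBlock M B) {D : Subgroup G}
    (hBD : IsDefectGroup p M B D)
    {β : Set (IrrCharacter (Subgroup.centralizer (D : Set G)))}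
    (hmax : IsMaximalBrauerPair p M B D β) (Q : Subgroup G) (hQD : Q ≤ D)
    (hDC : D ≤ Subgroup.centralizer (Q : Set G)) :
    ∃ f : Set (IrrCharacter (Subgroup.centralizer (Q : Set G))),
      SubpairLE p M Q f D β ∧ IsInducedBlock M (Subgroup.centralizer (Q : Set G)) f B ∧
      blockDefect p f = blockDefect p B := by
  classical
  have hMp := isPModular_isPrime hM
  have hp : p.Prime := Fact.out
  have : Fintype ↥(Subgroup.centralizer (Q : Set G)) := Fintype.ofFinite _
  have hPe : IsBrauerPair p M D β := hmax.1.1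
  obtain ⟨f, hf, hle⟩ := Cfsg.Agent.S4655.exists_le hM (Nat.card D - Nat.card Q)
    (⟨D, β⟩ : BrauerPairIdx G) hPe Q hQD le_rfl
  have hBQ : IsBrauerPairOf p M B Q f :=
    (Cfsg.Agent.S4658.chain_iff p M hM B ⟨Q, f⟩ ⟨D, β⟩ hle).mp hmax.1
  have hab : Q ≤ Subgroup.centralizer (Q : Set G) := hQD.trans hDC
  have hind := isInducedBlock_of_isBrauerPairOf hM hab hBQ
  refine ⟨f, hle, hind, ?_⟩
  obtain ⟨D', hD', hle'⟩ := exists_isDefectGroup_ge_centralizerIn hM hPe hle
  have hc1 := Cfsg.Agent.Lib.Helper78.card_defectGroup hM hf hD'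
  have hc2 := Cfsg.Agent.Lib.Helper78.card_defectGroup hM hB hBD
  obtain ⟨E, hE, hDE⟩ := Cfsg.Agent.S0917.result p M hM _ f hf B hB hind D' hD'
  have hc3 := Cfsg.Agent.Lib.Helper78.card_defectGroup hM hB hE
  -- lower bound
  have hlow : Nat.card D ≤ Nat.card D' := by
    have h1 : D ⊓ Subgroup.centralizer (Q : Set G) = D := inf_eq_left.mpr hDC
    rw [h1] at hle'
    calc Nat.card D = Nat.card (D.subgroupOf (Subgroup.centralizer (Q : Set G))) :=
          (Nat.card_congr (Subgroup.subgroupOfEquivOfLe hDC).toEquiv).symm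
      _ ≤ Nat.card D' := Subgroup.card_le_of_le hle'
  have hup : Nat.card D' ≤ Nat.card D := by
    calc Nat.card D' = Nat.card (D'.map (Subgroup.centralizer (Q : Set G)).subtype) :=
          (Subgroup.card_map_of_injective (Subgroup.subtype_injective _)).symm
      _ ≤ Nat.card E := Subgroup.card_le_of_le hDE
      _ = Nat.card D := by rw [hc3, hc2]
  have heq : p ^ blockDefect p f = p ^ blockDefect p B := by
    rw [← hc1, ← hc2]
    exact le_antisymm hup hlow
  exact Nat.pow_right_injective hp.two_le heq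

/-- **Fusion of central subsections.**  Let `(D, β)` be a maximal `B`-pair, `(Q, f)` and
`(Q^g, f')` subpairs with `D ≤ C_G(Q)`, `D ≤ C_G(Q^g)`, such that `f'` and `f^g` have a common
character.  Then some `t ∈ C_G(Q^g)` has `t g ∈ N_G(D, β)`. -/
theorem exists_mul_mem_stab_of_conj {p : ℕ} [Fact p.Prime] (hM : IsPModular p M)
    {B : Set (IrrCharacter G)} {D : Subgroup G}
    {β : Set (IrrCharacter (Subgroup.centralizer (D : Set G)))}
    (hmax : IsMaximalBrauerPair p M B D β) {Q : Subgroup G}
    {f : Set (IrrCharacter (Subgroup.centralizer (Q : Set G)))}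
    (hle : SubpairLE p M Q f D β) (hDC : D ≤ Subgroup.centralizer (Q : Set G)) (g : G)
    {f' : Set (IrrCharacter (Subgroup.centralizer
      ((Q.map (MulAut.conj g).toMonoidHom : Subgroup G) : Set G)))}
    (hle' : SubpairLE p M (Q.map (MulAut.conj g).toMonoidHom) f' D β)
    (hDC' : D ≤ Subgroup.centralizer ((Q.map (MulAut.conj g).toMonoidHom : Subgroup G) : Set G))
    (hcommon : ∃ ξ ∈ f, ∃ ξ' ∈ f', ∀ (c : Subgroup.centralizer (Q : Set G))
      (c' : Subgroup.centralizer ((Q.map (MulAut.conj g).toMonoidHom : Subgroup G) : Set G)),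
      (c' : G) = g * (c : G) * g⁻¹ →
        (ξ' : _ → ℂ) c' = (ξ : Subgroup.centralizer (Q : Set G) → ℂ) c) :
    ∃ t ∈ Subgroup.centralizer ((Q.map (MulAut.conj g).toMonoidHom : Subgroup G) : Set G),
      t * g ∈ Subgroup.normalizer (D : Set G) ∧
      StabilizesBlock (Subgroup.centralizer (D : Set G)) β (t * g) := by
  classical
  have hMp := isPModular_isPrime hM
  have hPe : IsBrauerPair p M D β := hmax.1.1
  have hQf : IsBrauerPair p M Q f := Cfsg.Agent.S4655.le_pair_left hle hPe
  have hQf' : IsBrauerPair p M (Q.map (MulAut.conj g).toMonoidHom) f' :=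
    Cfsg.Agent.S4655.le_pair_left hle' hPe
  -- `f' = f^g`
  have hff : f' = conjBlock Q g f := by
    obtain ⟨ξ, hξ, ξ', hξ', hc⟩ := hcommon
    have hblk : IsPBlock M (conjBlock Q g f) := by
      rw [conjBlock_eq_pullBlock]
      exact isPBlock_pullBlock _ hQf.2
    exact IsPBlock_eq_of_mem hQf'.2 hblk hξ' ⟨ξ, hξ, hc⟩
  subst hff
  have hlex : SubpairLE p M (Q.map (MulAut.conj g).toMonoidHom) (conjBlock Q g f)
      (D.map (MulAut.conj g).toMonoidHom) (conjBlock D g β) :=
    subpairLE_conjPair (a := ⟨Q, f⟩) (b := ⟨D, β⟩) hle g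
  have hPxC : D.map (MulAut.conj g).toMonoidHom ≤
      Subgroup.centralizer ((Q.map (MulAut.conj g).toMonoidHom : Subgroup G) : Set G) := by
    rintro _ ⟨d, hd, rfl⟩
    rw [mem_centralizer_map_conj_iff]
    have h1 : g⁻¹ * ((MulAut.conj g).toMonoidHom d) * g = d := by
      show g⁻¹ * (g * d * g⁻¹) * g = d
      group
    rw [h1]
    exact hDC hd
  obtain ⟨t, ht, hfix⟩ := Cfsg.Agent.Lib.Helper82.exists_mul_conjPair_eq_self_of_le hM hmax hle'
    hDC' hlex hPxC
  have hQC : Q.map (MulAut.conj g).toMonoidHom ≤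
      Subgroup.centralizer ((Q.map (MulAut.conj g).toMonoidHom : Subgroup G) : Set G) :=
    (Cfsg.Agent.S4655.le_le hle').trans hDC'
  have htC : t ∈ Subgroup.centralizer ((Q.map (MulAut.conj g).toMonoidHom : Subgroup G) : Set G) :=
    (sup_le hQC le_rfl) ht
  obtain ⟨h1, h2⟩ := stabilizes_of_conjPair_eq_self hfix
  exact ⟨t, htC, h1, h2⟩

end Family

section Main

variable {G : Type u} [Group G] [Fintype G] {M : Ideal AlgInt}

/-- **Major subsections at the centre of a defect group.**  Let `B` be a block with defect group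
`D`, `H = D C_G(D)`, `b` a block of `H` with `b^G = B` and `T` the stabilizer of `b` in `N_G(D)`.
There is a family `f Q` of blocks of the centralizers `C_G(Q)` such that for `Q ≤ Z(D)` the block
`f Q` induces `B` and has the defect of `B`, and such that whenever `Q' = Q^g` (both in `Z(D)`)
and `f Q'`, `(f Q)^g` have a common character, conjugation by `g` on `Q` is induced by an
element of `T`. -/
theorem exists_center_family {p : ℕ} [Fact p.Prime] (hM : IsPModular p M)
    {B : Set (IrrCharacter G)} (hB : IsPBlock M B) {D : Subgroup G}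
    (hBD : IsDefectGroup p M B D) {H : Subgroup G}
    (hH : H = D ⊔ Subgroup.centralizer (D : Set G)) {b : Set (IrrCharacter H)}
    (hind : IsInducedBlock M H b B) {T : Subgroup G}
    (hT : ∀ g : G, g ∈ T ↔ (g ∈ Subgroup.normalizer (D : Set G) ∧ ∀ θ ∈ b,
      ∀ θ' : IrrCharacter H, (∀ h h' : H, (h' : G) = g * h * g⁻¹ →
        (θ' : H → ℂ) h' = (θ : H → ℂ) h) → θ' ∈ b)) :
    ∃ f : ∀ Q : Subgroup G, Set (IrrCharacter (Subgroup.centralizer (Q : Set G))),
      (∀ Q : Subgroup G, Q ≤ D → D ≤ Subgroup.centralizer (Q : Set G) →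
        IsInducedBlock M (Subgroup.centralizer (Q : Set G)) (f Q) B ∧
        blockDefect p (f Q) = blockDefect p B) ∧
      (∀ Q Q' : Subgroup G, Q ≤ D → D ≤ Subgroup.centralizer (Q : Set G) → Q' ≤ D →
        D ≤ Subgroup.centralizer (Q' : Set G) → ∀ g : G,
        Q.map (MulAut.conj g).toMonoidHom = Q' →
        (∃ ξ ∈ f Q, ∃ ξ' ∈ f Q', ∀ (c : Subgroup.centralizer (Q : Set G))
          (c' : Subgroup.centralizer (Q' : Set G)), (c' : G) = g * (c : G) * g⁻¹ →
          (ξ' : Subgroup.centralizer (Q' : Set G) → ℂ) c' =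
            (ξ : Subgroup.centralizer (Q : Set G) → ℂ) c) →
        ∃ t ∈ T, ∀ x ∈ Q, t * x * t⁻¹ = g * x * g⁻¹) := by
  classical
  subst hH
  have hHN : D ⊔ Subgroup.centralizer (D : Set G) ≤ Subgroup.normalizer (D : Set G) :=
    sup_le Subgroup.le_normalizer (Subgroup.centralizer_le_normalizer _)
  obtain ⟨β, hmax, hpairH⟩ := exists_isMaximalBrauerPair_under hM hB hBD _ le_sup_left
    le_sup_right hHN hind
  have hcoef := blockCoeff_eq_subgroupBlockCoeff_of_pair hM hmax.1.1 hpairH
  let f : ∀ Q : Subgroup G, Set (IrrCharacter (Subgroup.centralizer (Q : Set G))) := fun Q =>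
    if h : Q ≤ D ∧ D ≤ Subgroup.centralizer (Q : Set G) then
      Classical.choose (exists_major_of_le_center hM hB hBD hmax Q h.1 h.2) else ∅
  have hf : ∀ Q : Subgroup G, Q ≤ D → D ≤ Subgroup.centralizer (Q : Set G) →
      SubpairLE p M Q (f Q) D β ∧ IsInducedBlock M (Subgroup.centralizer (Q : Set G)) (f Q) B ∧
      blockDefect p (f Q) = blockDefect p B := by
    intro Q h1 h2
    have h : Q ≤ D ∧ D ≤ Subgroup.centralizer (Q : Set G) := ⟨h1, h2⟩
    have hfQ : f Q = Classical.choose (exists_major_of_le_center hM hB hBD hmax Q h.1 h.2) :=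
      dif_pos h
    rw [hfQ]
    exact Classical.choose_spec (exists_major_of_le_center hM hB hBD hmax Q h.1 h.2)
  refine ⟨f, fun Q h1 h2 => (hf Q h1 h2).2, ?_⟩
  intro Q Q' hQ hQC hQ' hQ'C g hmap hcommon
  subst hmap
  obtain ⟨t, htC, htN, htS⟩ := exists_mul_mem_stab_of_conj hM hmax (hf Q hQ hQC).1 hQC g
    (hf _ hQ' hQ'C).1 hQ'C hcommon
  refine ⟨t * g, (hT _).mpr ⟨htN, fun θ hθ θ' hθ' =>
    mem_of_conj_of_stabilizes rfl hcoef htN htS hθ θ' hθ'⟩, ?_⟩
  intro x hx
  have h1 : g * x * g⁻¹ ∈ Q.map (MulAut.conj g).toMonoidHom := ⟨x, hx, rfl⟩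
  have h2 := (Subgroup.mem_centralizer_iff.mp htC) _ h1
  calc t * g * x * (t * g)⁻¹ = t * (g * x * g⁻¹) * t⁻¹ := by group
    _ = (g * x * g⁻¹) * t * t⁻¹ := by rw [h2]
    _ = g * x * g⁻¹ := by group

end Main

end Cfsg.Agent.Lib.Helper16
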