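import Mathlib
import Cfsg.Agent.Lib.Helper16.BPNilMain
import Cfsg.Agent.Lib.Helper16.BPNilRows
import Cfsg.Agent.Lib.Helper16.CenterSubsec
import Cfsg.Agent.Lib.Helper16.MaxPair
import Cfsg.Agent.Lib.Helper75.MajorSubCongr2

/-!
# PROJECT BP, layer 5 (Robinson rows): `λ * χ` is an irreducible character of `B` (helper16)

* `fus_refl`, `fus_symm`, `fus_trans`: `Fus` is an equivalence relation on `P`;
* `classInner_eq_sum_mv_fus`: the norm formula with `R := Fus`;
* `classInner_star`: `⟨η * χ, η * χ'⟩ = ⟨χ, χ'⟩` for unimodular `η`;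
* `star_irr`: for unimodular `η` with `η 1 = 1`, `η * χ` is an irreducible character in `B` that
  agrees with `χ` on the `p`-regular elements;
* `eq_of_isStarOf`: uniqueness of `η * χ`; `isStarOf_mul`: the action law.
-/

set_option autoImplicit false
set_option linter.unusedSectionVars false
set_option linter.style.haveILetI false

namespace Cfsg.Agent.Lib.Helper16.BP

open Cfsg Finset Cfsg.Agent.Lib.Helper16 Cfsg.Agent.Lib.Helper78 Cfsg.Agent.Lib.Helper82
open scoped ComplexConjugate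

universe u

variable {G : Type u} [Group G] [Fintype G] {M : Ideal AlgInt}

attribute [local instance 2000] locCFintype

variable {p : ℕ} [Fact p.Prime] {B : Set (IrrCharacter G)} {P : Subgroup G}
  {e : Set (IrrCharacter (Subgroup.centralizer (P : Set G)))}

theorem fus_refl (hM : IsPModular p M) (hPe : IsBrauerPair p M P e) {v : G} (hv : v ∈ P) :
    Fus p M P e v v := by
  haveI hMp := isPModular_isPrime hM
  obtain ⟨ξ, hξ⟩ := IsPBlock_nonempty hMp.ne_top (subF_spec hM hPe hv).1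
  refine ⟨1, by group, ξ, hξ, ξ, hξ, ?_⟩
  intro c c' h
  have : c' = c := Subtype.ext (by rw [h]; group)
  rw [this]

theorem fus_symm {v v' : G} (h : Fus p M P e v v') : Fus p M P e v' v := by
  obtain ⟨g, hg, ξ, hξ, ξ', hξ', hc⟩ := h
  refine ⟨g⁻¹, by rw [← hg]; group, ξ', hξ', ξ, hξ, ?_⟩
  intro c' c h
  refine (hc c c' ?_).symm
  rw [h]
  group

theorem fus_trans (hM : IsPModular p M) (hPe : IsBrauerPair p M P e) {v v' v'' : G}
    (hv' : v' ∈ P) (hv'' : v'' ∈ P) (h : Fus p M P e v v') (h' : Fus p M P e v' v'') :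
    Fus p M P e v v'' := by
  haveI hMp := isPModular_isPrime hM
  obtain ⟨g, hg, ξ, hξ, ξ', hξ', hc⟩ := h
  obtain ⟨k, hk, hex⟩ := h'
  have hbeq := eq_pullBlock_conjSec_of_exists (M := M) v' v'' (locC v') (locC v'')
    (locC_mem_iff v') (locC_mem_iff v'') k hk (subF_spec hM hPe hv').1 (subF_spec hM hPe hv'').1
    hex
  have hξ'2 := hξ'
  rw [hbeq, mem_pullBlock_iff] at hξ'2
  refine ⟨k * g, by rw [← hk, ← hg]; group, ξ, hξ, _, hξ'2, ?_⟩
  intro c c'' h
  rw [irrPull_apply]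
  apply hc
  show k⁻¹ * (c'' : G) * k = g * (c : G) * g⁻¹
  rw [h]
  group

open scoped Classical in
/-- The norm formula with the fusion relation itself. -/
theorem classInner_eq_sum_mv_fus (hM : IsPModular p M) (hmax : IsMaximalBrauerPair p M B P e)
    {θ θ' : G → ℂ} (hθ : IsClassFunction G θ)
    (hθB : ∀ ψ : IrrCharacter G, ψ ∉ B → classInner θ (ψ : G → ℂ) = 0)
    (hθ' : IsClassFunction G θ') :
    classInner θ θ' =
      ∑ v : P, ((Nat.card {v' : P // Fus p M P e (v : G) (v' : G)} : ℂ))⁻¹ *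
        mv p M P e (v : G) θ θ' :=
  classInner_eq_sum_mv hM hmax (fun v v' : P => Fus p M P e (v : G) (v' : G))
    ⟨fun v => fus_refl hM hmax.1.1 v.2, fun h => fus_symm h,
      fun {_ v' v''} h h' => fus_trans hM hmax.1.1 v'.2 v''.2 h h'⟩
    (fun _ _ => Iff.rfl) hθ hθB hθ'

open scoped Classical in
/-- `⟨η * χ, η * χ'⟩ = ⟨χ, χ'⟩` for a unimodular `η`. -/
theorem classInner_star (hM : IsPModular p M) (hmax : IsMaximalBrauerPair p M B P e)
    {η : P → ℂ} (hη : ∀ v : P, η v * conj (η v) = 1) {χ χ' θ θ' : G → ℂ}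
    (hχ : IsClassFunction G χ)
    (hχB : ∀ ψ : IrrCharacter G, ψ ∉ B → classInner χ (ψ : G → ℂ) = 0)
    (hχ' : IsClassFunction G χ')
    (hθ : IsClassFunction G θ)
    (hθB : ∀ ψ : IrrCharacter G, ψ ∉ B → classInner θ (ψ : G → ℂ) = 0)
    (hθ' : IsClassFunction G θ')
    (hS : IsStarOf p M P e η χ θ) (hS' : IsStarOf p M P e η χ' θ') :
    classInner θ θ' = classInner χ χ' := by
  rw [classInner_eq_sum_mv_fus hM hmax hθ hθB hθ', classInner_eq_sum_mv_fus hM hmax hχ hχB hχ']
  apply Finset.sum_congr rfl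
  intro v _
  rw [mv_star hM hmax.1.1 hS hS' v, hη v, one_mul]

/-- **`η * χ` is an irreducible character of `B`** agreeing with `χ` on the `p`-regular
elements, for a unimodular `η` with `η 1 = 1`. -/
theorem star_irr (hM : IsPModular p M) (hmax : IsMaximalBrauerPair p M B P e) {η : P → ℂ}
    (hη : ∀ v : P, η v * conj (η v) = 1) (hη1 : η 1 = 1) {χ : IrrCharacter G} (hχ : χ ∈ B)
    {θ : G → ℂ} (hZ : IsZSpan B θ) (hS : IsStarOf p M P e η (χ : G → ℂ) θ) :
    ∃ ψ : IrrCharacter G, ψ ∈ B ∧ θ = (ψ : G → ℂ) ∧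
      ∀ g : G, ¬ p ∣ orderOf g → (ψ : G → ℂ) g = (χ : G → ℂ) g := by
  have hχcf : IsClassFunction G (χ : G → ℂ) := isClassFunction_irr χ
  have hχB : ∀ ψ : IrrCharacter G, ψ ∉ B → classInner (χ : G → ℂ) (ψ : G → ℂ) = 0 :=
    classInner_irr_eq_zero_of_not_mem hχ
  have hθcf : IsClassFunction G θ := hZ.isClassFunction
  have hθB : ∀ ψ : IrrCharacter G, ψ ∉ B → classInner θ (ψ : G → ℂ) = 0 := hZ.classInner_eq_zero
  have hn : classInner θ θ = 1 := by
    rw [classInner_star hM hmax hη hχcf hχB hχcf hθcf hθB hθcf hS hS, classInner_irr_self χ.2]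
  have hval : ∀ g : G, ¬ p ∣ orderOf g → θ g = (χ : G → ℂ) g := by
    intro g hg
    rw [star_apply_of_regular hM hmax hχcf hχB hθcf hθB hS g hg, hη1, one_mul]
  have hp1 : ¬ p ∣ orderOf (1 : G) := by
    rw [orderOf_one]
    exact (Fact.out : p.Prime).one_lt.ne' ∘ Nat.dvd_one.mp
  obtain ⟨ψ, hψB, h | h⟩ := hZ.eq_or_neg_of_norm_one hn
  · refine ⟨ψ, hψB, h, ?_⟩
    intro g hg
    rw [← h]
    exact hval g hg
  · exfalso
    have h1 := hval 1 hp1
    rw [h] at h1
    simp only [Pi.neg_apply] at h1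
    rw [IsCharacter.apply_one_eq_charDegree (IsIrrCharacter.isCharacter ψ.2),
      IsCharacter.apply_one_eq_charDegree (IsIrrCharacter.isCharacter χ.2)] at h1
    have h2 : -((charDegree (ψ : G → ℂ) : ℤ)) = (charDegree (χ : G → ℂ) : ℤ) := by
      exact_mod_cast h1
    have h3 := IsIrrCharacter.charDegree_pos ψ.2
    omega

theorem classInner_sub_left' (f₁ f₂ ψ : G → ℂ) :
    classInner (f₁ - f₂) ψ = classInner f₁ ψ - classInner f₂ ψ := by
  have h : f₁ - f₂ = f₁ + (-1 : ℂ) • f₂ := by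
    funext g
    simp [sub_eq_add_neg]
  rw [h, classInner_add_left, classInner_smul_left]
  ring

open scoped Classical in
theorem blockPart_sub' {H : Type u} [Group H] [Fintype H] (S : Set (IrrCharacter H))
    (f₁ f₂ : H → ℂ) (y : H) :
    blockPart S (f₁ - f₂) y = blockPart S f₁ y - blockPart S f₂ y := by
  simp only [blockPart_apply, classInner_sub_left', sub_mul, Finset.sum_sub_distrib]

/-- Uniqueness of `η * χ` in the span of `B`. -/
theorem eq_of_isStarOf (hM : IsPModular p M) (hmax : IsMaximalBrauerPair p M B P e)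
    {η : P → ℂ} {χ θ θ' : G → ℂ} (hZ : IsZSpan B θ) (hZ' : IsZSpan B θ')
    (hS : IsStarOf p M P e η χ θ) (hS' : IsStarOf p M P e η χ θ') : θ = θ' := by
  have hcf : IsClassFunction G (θ - θ') := by
    intro g h
    simp only [Pi.sub_apply]
    rw [hZ.isClassFunction g h, hZ'.isClassFunction g h]
  have hB : ∀ ψ : IrrCharacter G, ψ ∉ B → classInner (θ - θ') (ψ : G → ℂ) = 0 := by
    intro ψ hψ
    rw [classInner_sub_left', hZ.classInner_eq_zero ψ hψ, hZ'.classInner_eq_zero ψ hψ, sub_zero]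
  have h0 : θ - θ' = 0 := by
    apply eq_zero_of_local_eq_zero hM hmax hcf hB
    intro v hv f hf s hs
    have h1 := hS v hv f hf s hs
    have h2 := hS' v hv f hf s hs
    have h3 : (fun c : locC v => (θ - θ') (v * (c : G))) =
        (fun c : locC v => θ (v * (c : G))) - (fun c : locC v => θ' (v * (c : G))) := rfl
    rw [h3, blockPart_sub', h1, h2, sub_self]
  exact sub_eq_zero.mp h0

/-- The action law: `η' * (η * χ) = (η' η) * χ`. -/
theorem isStarOf_mul {η η' : P → ℂ} {χ θ θ' : G → ℂ} (h : IsStarOf p M P e η χ θ)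
    (h' : IsStarOf p M P e η' θ θ') : IsStarOf p M P e (η' * η) χ θ' := by
  intro v hv f hf s hs
  rw [h' v hv f hf s hs, h v hv f hf s hs, Pi.mul_apply, mul_assoc]

/-- **Stabilizers, height zero**: if `η * χ = χ` for a character `χ ∈ B` of height zero then `η`
is trivial. -/
theorem eq_one_of_isStarOf_self_of_height_zero (hM : IsPModular p M)
    (hmax : IsMaximalBrauerPair p M B P e) {η : P → ℂ} {χ : IrrCharacter G} (hχ : χ ∈ B)
    (h0 : blockHeight p B (χ : G → ℂ) = 0)
    (hS : IsStarOf p M P e η (χ : G → ℂ) (χ : G → ℂ)) (v : P) : η v = 1 := by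
  have hPe : IsBrauerPair p M P e := hmax.1.1
  have h1 := mv_star hM hPe hS (isStarOf_one (p := p) (M := M) (P := P) (e := e) (χ : G → ℂ)) v
  have hpos := mvReal_pos_of_height_zero hM hmax hχ h0 v.2
  rw [mv_self_eq_ofReal] at h1
  have hne : ((mvReal p M P e (v : G) (χ : G → ℂ) : ℝ) : ℂ) ≠ 0 := by
    exact_mod_cast hpos.ne'
  have h2 : (η v - 1) * ((mvReal p M P e (v : G) (χ : G → ℂ) : ℝ) : ℂ) = 0 := by
    have h3 : η v * conj (1 : ℂ) * ((mvReal p M P e (v : G) (χ : G → ℂ) : ℝ) : ℂ) =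
        ((mvReal p M P e (v : G) (χ : G → ℂ) : ℝ) : ℂ) := h1.symm
    rw [map_one, mul_one] at h3
    rw [sub_mul, h3, one_mul, sub_self]
  exact sub_eq_zero.mp ((mul_eq_zero.mp h2).resolve_right hne)

/-- **Stabilizers, central elements**: if `η * χ = χ` for a character `χ ∈ B` then `η` is trivial
on `Z(P)`. -/
theorem eq_one_of_isStarOf_self_of_central (hM : IsPModular p M)
    (hmax : IsMaximalBrauerPair p M B P e) {η : P → ℂ} {χ : IrrCharacter G} (hχ : χ ∈ B)
    (hS : IsStarOf p M P e η (χ : G → ℂ) (χ : G → ℂ)) (v : P)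
    (hvc : (v : G) ∈ Subgroup.centralizer (P : Set G)) : η v = 1 := by
  haveI hMp := isPModular_isPrime hM
  have hPe : IsBrauerPair p M P e := hmax.1.1
  have hB : IsPBlock M B := hmax.1.2.1
  have hP : IsDefectGroup p M B P := isDefectGroup_of_isMaximalBrauerPair hM B P e hmax
  obtain ⟨ψ, hψ, hψ0⟩ := exists_height_zero (p := p) (IsPBlock_nonempty hMp.ne_top hB)
  have hQP : Subgroup.zpowers (v : G) ≤ P := (Subgroup.zpowers_le).mpr v.2
  have hPC : P ≤ Subgroup.centralizer ((Subgroup.zpowers (v : G) : Subgroup G) : Set G) := by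
    intro x hx
    rw [mem_centralizer_zpowers_iff]
    rw [Subgroup.mem_centralizer_iff] at hvc
    exact (hvc x hx).symm
  obtain ⟨f, hle, hind, hdef⟩ :=
    exists_major_of_le_center hM hB hP hmax (Subgroup.zpowers (v : G)) hQP hPC
  have hf : f = subF p M P e (v : G) := eq_subF hM hPe v.2 hle
  subst hf
  have hH : ∀ g : G, g ∈ locC (v : G) ↔ Commute (v : G) g := locC_mem_iff (v : G)
  have hvH : (v : G) ∈ locC (v : G) := (hH _).mpr (Commute.refl _)
  obtain ⟨k, hk⟩ := exists_orderOf_of_mem hPe.1 v.2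
  have hzc : (⟨(v : G), hvH⟩ : locC (v : G)) ∈ Subgroup.center (locC (v : G)) := by
    rw [Subgroup.mem_center_iff]
    intro g
    apply Subtype.ext
    simp only [Subgroup.coe_mul]
    exact (((hH g).mp g.2).eq).symm
  have hzk : (⟨(v : G), hvH⟩ : locC (v : G)) ^ p ^ k = 1 := by
    apply Subtype.ext
    simp only [Subgroup.coe_pow, Subgroup.coe_one]
    rw [← hk]
    exact pow_orderOf_eq_one _
  have hne : mv p M P e (v : G) (χ : G → ℂ) (ψ : G → ℂ) ≠ 0 :=
    Cfsg.Agent.Lib.Helper75.secM_ne_zero_of_height_zero hM (locC (v : G)) hind hdef hχ hψ hψ0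
      (z := ⟨(v : G), hvH⟩) hzc hH hzk ⟨k, hk⟩
  have h1 := mv_star hM hPe hS (isStarOf_one (p := p) (M := M) (P := P) (e := e) (ψ : G → ℂ)) v
  have h2 : (η v - 1) * mv p M P e (v : G) (χ : G → ℂ) (ψ : G → ℂ) = 0 := by
    have h3 : η v * conj (1 : ℂ) * mv p M P e (v : G) (χ : G → ℂ) (ψ : G → ℂ) =
        mv p M P e (v : G) (χ : G → ℂ) (ψ : G → ℂ) := h1.symm
    rw [map_one, mul_one] at h3
    rw [sub_mul, h3, one_mul, sub_self]
  exact sub_eq_zero.mp ((mul_eq_zero.mp h2).resolve_right hne)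

end Cfsg.Agent.Lib.Helper16.BP
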