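import Mathlib
import Cfsg.Agent.Lib.Helper16.BPInstFus
import Cfsg.Agent.Lib.Helper16.BPNilLocal
import Cfsg.Agent.Lib.Helper16.BPRobIrr
import Cfsg.Agent.Lib.Helper77.BPInstBr1
import Cfsg.Agent.Lib.Helper78.BPInstBr2
import Cfsg.Agent.Lib.Helper78.CharMore

/-!
# PROJECT BP, [INST-ZSPAN] (helper16, hedge): a generalized character with the local data of
`η * χ`, `χ ∈ B`, is an integer combination of `Irr(B)`
-/

set_option autoImplicit false
set_option linter.unusedSectionVars false
set_option linter.style.haveILetI false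

namespace Cfsg.Agent.Lib.Helper16.BP

open Cfsg Finset Cfsg.Agent.Lib.Helper16 Cfsg.Agent.Lib.Helper78 Cfsg.Agent.Lib.Helper82
  Cfsg.Agent.Lib.Helper92.BP
open scoped ComplexConjugate

universe u

variable {G : Type u} [Group G] [Fintype G] {M : Ideal AlgInt}

attribute [local instance 2000] locCFintype

variable {p : ℕ} [Fact p.Prime] {B : Set (IrrCharacter G)} {P : Subgroup G}
  {e : Set (IrrCharacter (Subgroup.centralizer (P : Set G)))}

open scoped Classical in
/-- A class function with integral multiplicities, all zero outside `B`, is in the `ℤ`-span of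
`B`. -/
theorem isZSpan_of_int {θ : G → ℂ} (hθ : IsClassFunction G θ)
    (hint : ∀ ψ : IrrCharacter G, ∃ z : ℤ, classInner θ (ψ : G → ℂ) = (z : ℂ))
    (hB : ∀ ψ : IrrCharacter G, ψ ∉ B → classInner θ (ψ : G → ℂ) = 0) : IsZSpan B θ := by
  choose n hn using hint
  refine ⟨n, fun g => ?_⟩
  rw [finsum_mem_eq_sum_of_subset (t := Finset.univ.filter (fun ψ : IrrCharacter G => ψ ∈ B))
    _ (by intro x hx; simpa using hx.1) (by intro x hx; simpa using hx)]
  have h := congrFun (classFunction_eq_sum_irr hθ) g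
  rw [Finset.sum_apply] at h
  simp only [Pi.smul_apply, smul_eq_mul] at h
  rw [h, Finset.sum_filter]
  apply Finset.sum_congr rfl
  intro ψ _
  split_ifs with hψ
  · rw [hn ψ]
  · rw [hB ψ hψ, zero_mul]

/-- the local datum of a function with `IsStar` for any local system -/
theorem blockPart_of_isStar [hMp : M.IsPrime] (hM : IsPModular p M) {μ : LocSys G}
    {χ θ : G → ℂ} (hχ : IsClassFunction G χ) (hstar : IsStar M p μ χ θ) {v : G}
    (hv : ∃ k : ℕ, orderOf v = p ^ k) {f' : Set (IrrCharacter (locC v))} (hf' : IsPBlock M f')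
    (s : locC v) (hs : ¬ p ∣ orderOf s) :
    blockPart f' (fun c : locC v => θ (v * (c : G))) s =
      μ (Subgroup.zpowers v) f' v * blockPart f' (fun c : locC v => χ (v * (c : G))) s := by
  apply Cfsg.Agent.Lib.Helper78.BP.blockPart_eq_of_regular_eq hM
    (fun c : locC v => χ (v * (c : G))) (fun c : locC v => θ (v * (c : G)))
    (fun f => μ (Subgroup.zpowers v) f v) _ hf' s hs
  intro c hc
  have hc' : ¬ p ∣ orderOf (c : G) := by rwa [Subgroup.orderOf_coe]
  have hcomm : Commute v (c : G) := (locC_mem_iff v c).mp c.2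
  rw [hstar v (c : G) hv hc' hcomm]
  exact Cfsg.Agent.Lib.Helper77.BP.thetaQ_of_eq_sum_blockPart hM μ hχ hv c

open scoped Classical in
/-- BP-[INST-ZSPAN] : a generalized character with `IsStar` for some local system and `χ ∈ B` is
an integer combination of `B`. -/
theorem isZSpan_of_isStar' [hMp : M.IsPrime] (hM : IsPModular p M) (hB : IsPBlock M B)
    (μ : LocSys G) {χ : IrrCharacter G} (hχ : χ ∈ B)
    {θ : G → ℂ} (hθg : IsGeneralizedCharacter G θ)
    (hstar : IsStar M p μ (χ : G → ℂ) θ) : IsZSpan B θ := by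
  obtain ⟨a, b, ha, hb, rfl⟩ := hθg
  have hθcf : IsClassFunction G (a - b) := by
    intro g h
    simp only [Pi.sub_apply]
    rw [IsCharacter.isClassFunction ha g h, IsCharacter.isClassFunction hb g h]
  have hint : ∀ ψ : IrrCharacter G, ∃ z : ℤ, classInner (a - b) (ψ : G → ℂ) = (z : ℂ) := by
    intro ψ
    obtain ⟨m, hm⟩ := IsCharacter.exists_nat_classInner ha ψ
    obtain ⟨m', hm'⟩ := IsCharacter.exists_nat_classInner hb ψ
    refine ⟨(m : ℤ) - m', ?_⟩
    rw [classInner_sub_left', hm, hm']
    push_cast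
    rfl
  apply isZSpan_of_int hθcf hint
  intro ψ hψ
  -- the block of `ψ` and a maximal pair of it
  set B' := blockOf M (ψ : G → ℂ) with hB'def
  have hB' : IsPBlock M B' := isPBlock_blockOf ψ
  have hψB' : ψ ∈ B' := self_mem_blockOf hMp.ne_top ψ
  have hχB' : χ ∉ B' := by
    intro h
    have : B = B' := IsPBlock_eq_of_mem hB hB' hχ h
    exact hψ (this ▸ hψB')
  obtain ⟨P', hP'⟩ := exists_isDefectGroup p hB'
  obtain ⟨e', hmax'⟩ := exists_isMaximalBrauerPair_of_isDefectGroup hM hB' hP'
  have hPe' : IsBrauerPair p M P' e' := hmax'.1.1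
  -- the `B'`-part of `θ`
  set θ' : G → ℂ := blockPart B' (a - b) with hθ'
  have hθ'sum : θ' = ∑ ψ' ∈ Finset.univ.filter (fun ψ' : IrrCharacter G => ψ' ∈ B'),
      classInner (a - b) (ψ' : G → ℂ) • (ψ' : G → ℂ) := by
    funext g
    rw [hθ', blockPart_apply, Finset.sum_apply]
    rfl
  have hθ'cf : IsClassFunction G θ' := by
    rw [hθ'sum]
    exact isClassFunction_sum _ _ (fun ψ' _ => isClassFunction_smul _ (isClassFunction_irr ψ'))
  have hθ'in : ∀ ψ' : IrrCharacter G, classInner θ' (ψ' : G → ℂ) =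
      if ψ' ∈ B' then classInner (a - b) (ψ' : G → ℂ) else 0 := by
    intro ψ'
    rw [hθ'sum, classInner_sum_left]
    simp_rw [classInner_smul_left]
    by_cases h : ψ' ∈ B'
    · rw [if_pos h, Finset.sum_eq_single ψ']
      · rw [classInner_irr_self ψ'.2, mul_one]
      · intro ψ₂ _ hne
        rw [classInner_irr_ne ψ₂.2 ψ'.2 (fun h => hne (Subtype.ext h)), mul_zero]
      · intro hnot
        exact absurd (by simpa using h) hnot
    · rw [if_neg h]
      apply Finset.sum_eq_zero
      intro ψ₂ hψ₂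
      simp only [Finset.mem_filter, Finset.mem_univ, true_and] at hψ₂
      rw [classInner_irr_ne ψ₂.2 ψ'.2 (fun h' => h (by
        have : ψ₂ = ψ' := Subtype.ext h'
        rwa [← this])), mul_zero]
  have hθ'B : ∀ ψ' : IrrCharacter G, ψ' ∉ B' → classInner θ' (ψ' : G → ℂ) = 0 := by
    intro ψ' h
    rw [hθ'in ψ', if_neg h]
  -- `θ' = 0`
  have hzero : θ' = 0 := by
    apply eq_zero_of_local_eq_zero hM hmax' hθ'cf hθ'B
    intro v hv f' hf' s hs
    have hvk : ∃ k : ℕ, orderOf v = p ^ k := exists_orderOf_of_mem hPe'.1 hv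
    have hf'eq : f' = subF p M P' e' v := eq_subF hM hPe' hv hf'
    have hf'b : IsPBlock M f' := hf'eq ▸ (subF_spec hM hPe' hv).1
    have hind : IsInducedBlock M (locC v) f' B' := hf'eq ▸ isInducedBlock_subF hM hmax' hv
    -- the difference `θ - θ'` has no constituent in `B'`
    have hdiff : (a - b) - θ' = ∑ ψ' ∈ Finset.univ.filter (fun ψ' : IrrCharacter G => ψ' ∉ B'),
        classInner (a - b) (ψ' : G → ℂ) • (ψ' : G → ℂ) := by
      have hsplit : (a - b) =
          ∑ ψ' ∈ Finset.univ.filter (fun ψ' : IrrCharacter G => ψ' ∈ B'),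
            classInner (a - b) (ψ' : G → ℂ) • (ψ' : G → ℂ) +
          ∑ ψ' ∈ Finset.univ.filter (fun ψ' : IrrCharacter G => ψ' ∉ B'),
            classInner (a - b) (ψ' : G → ℂ) • (ψ' : G → ℂ) := by
        rw [Finset.sum_filter_add_sum_filter_not]
        exact classFunction_eq_sum_irr hθcf
      rw [hθ'sum]
      exact sub_eq_of_eq_add' hsplit
    have h1 : blockPart f' (fun c : locC v => ((a - b) - θ') (v * (c : G))) s = 0 := by
      have h2 : (fun c : locC v => ((a - b) - θ') (v * (c : G))) =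
          ∑ ψ' ∈ Finset.univ.filter (fun ψ' : IrrCharacter G => ψ' ∉ B'),
            classInner (a - b) (ψ' : G → ℂ) • (fun c : locC v => (ψ' : G → ℂ) (v * (c : G))) := by
        funext c
        rw [hdiff, Finset.sum_apply, Finset.sum_apply]
        rfl
      rw [h2, blockPart_sum_smul]
      apply Finset.sum_eq_zero
      intro ψ' hψ'
      simp only [Finset.mem_filter, Finset.mem_univ, true_and] at hψ'
      have := secPart_eq_zero_of_not_mem hM v hvk (locC v) (locC_mem_iff v) hind ψ' hψ' s hs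
      unfold secPart at this
      rw [this, mul_zero]
    have h3 : (fun c : locC v => ((a - b) - θ') (v * (c : G))) =
        (fun c : locC v => (a - b) (v * (c : G))) - (fun c : locC v => θ' (v * (c : G))) := rfl
    rw [h3, blockPart_sub', sub_eq_zero] at h1
    rw [← h1, blockPart_of_isStar hM (isClassFunction_irr χ) hstar hvk hf'b s hs]
    have := secPart_eq_zero_of_not_mem hM v hvk (locC v) (locC_mem_iff v) hind χ hχB' s hs
    unfold secPart at this
    rw [this, mul_zero]
  have h4 := hθ'in ψ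
  rw [if_pos hψB', hzero, classInner_zero_left] at h4
  exact h4.symm

/-- BP-[INST-ZSPAN], skeleton form. -/
theorem isZSpan_of_isStar [hMp : M.IsPrime] (hM : IsPModular p M)
    (hmax : IsMaximalBrauerPair p M B P e) (η : P → ℂ) {χ : IrrCharacter G} (hχ : χ ∈ B)
    {θ : G → ℂ} (hθg : IsGeneralizedCharacter G θ)
    (hstar : IsStar M p (locSysOf p M P e η) (χ : G → ℂ) θ) : IsZSpan B θ :=
  isZSpan_of_isStar' hM hmax.1.2.1 _ hχ hθg hstar

end Cfsg.Agent.Lib.Helper16.BP
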