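import Mathlib
import Cfsg.Agent.Lib.Helper16.BPInstLS
import Cfsg.Agent.Lib.Helper16.BPInstZSpan
import Cfsg.Agent.Lib.Helper77.BPInstTheta
import Cfsg.Agent.Lib.Helper33.BPInstStarOfFinal
import Cfsg.Agent.Lib.Helper78.CharBasic
import Cfsg.Agent.Lib.Helper78.CharOrtho

/-!
# PROJECT BP, [INST-ASM]: `BPFull` / `BPIrr` from the layer-4 main theorem (helper16)
-/

set_option autoImplicit false
set_option linter.unusedSectionVars false
set_option linter.style.haveILetI false

namespace Cfsg.Agent.Lib.Helper16.BP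

open Cfsg Cfsg.Agent.Lib.Helper16 Cfsg.Agent.Lib.Helper78 Cfsg.Agent.Lib.Helper92.BP

universe u

variable {G : Type u} [Group G] [Fintype G] {M : Ideal AlgInt} {p : ℕ} [Fact p.Prime]
  {B : Set (IrrCharacter G)} {P : Subgroup G}
  {e : Set (IrrCharacter (Subgroup.centralizer (P : Set G)))}

/-- BP-[INST-ASM] -/
theorem bpFull_of_main [hMp : M.IsPrime] (hM : IsPModular p M)
    (hmain : ∀ (μ : LocSys G) (χ θ : G → ℂ), IsLocalSystem p M μ → IsCharacter G χ →
      IsClassFunction G θ → IsStar M p μ χ θ → IsGeneralizedCharacter G θ)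
    (hmax : IsMaximalBrauerPair p M B P e) : BPFull p M B P e := by
  intro η hηg hη χ hχ
  have hμ : IsLocalSystem p M (locSysOf p M P e η) := isLocalSystem_locSysOf hM hmax hηg hη
  have hχc : IsCharacter G (χ : G → ℂ) := IsIrrCharacter.isCharacter χ.2
  have hχcl : IsClassFunction G (χ : G → ℂ) := isClassFunction_irr χ
  have hstar := Cfsg.Agent.Lib.Helper77.BP.isStar_starFun (p := p) (M := M) (locSysOf p M P e η) (χ : G → ℂ)
  have hcl := Cfsg.Agent.Lib.Helper77.BP.isClassFunction_starFun hM hμ hχcl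
  have hθg := hmain _ _ _ hμ hχc hcl hstar
  exact ⟨_, isZSpan_of_isStar hM hmax η hχ hθg hstar,
    Cfsg.Agent.Lib.Helper33.BP.isStarOf_of_isStar hM hmax.1.1 hη hχcl hstar⟩

theorem isFusionStable_of_nil (hM : IsPModular p M) (hmax : IsMaximalBrauerPair p M B P e)
    (hnil : IsNilpotentBlock p M B) {η : P → ℂ} (hη : IsClassFunction P η) :
    IsFusionStable p M P e η := by
  have hPe : IsBrauerPair p M P e := hmax.1.1
  intro u v hu hv fu fv g hfu hfv hg hex
  have h1 : fu = subF p M P e u := eq_subF hM hPe hu hfu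
  have h2 : fv = subF p M P e v := eq_subF hM hPe hv hfv
  subst h1 h2
  obtain ⟨d, hd, hdv⟩ := exists_mem_of_fus hM hmax hnil hu hv ⟨g, hg, hex⟩
  have h3 := hη ⟨u, hu⟩ ⟨d, hd⟩
  rw [← h3]
  exact congrArg η (Subtype.ext hdv)

theorem bpIrr_of_bpFull_nil (hM : IsPModular p M) (hmax : IsMaximalBrauerPair p M B P e)
    (hnil : IsNilpotentBlock p M B) (h : BPFull p M B P e) : BPIrr p M B P e := by
  intro η χ hχ
  have hηc : IsCharacter P (η : P → ℂ) := IsIrrCharacter.isCharacter η.2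
  have hηg : IsGeneralizedCharacter P (η : P → ℂ) :=
    ⟨_, 0, hηc, isCharacter_zero, (sub_zero _).symm⟩
  exact h _ hηg (isFusionStable_of_nil hM hmax hnil (isClassFunction_irr η)) χ hχ

end Cfsg.Agent.Lib.Helper16.BP
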