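import Mathlib
import Cfsg.Agent.Lib.Helper16.BPInstAsm
import Cfsg.Agent.Lib.Helper16.BPNilRows
import Cfsg.Agent.Lib.Helper92.BPFinalPre
import Cfsg.Agent.Lib.Helper33.BPClaimAdd
import Cfsg.Agent.Lib.Helper40.BPClaimRelTrFinal
import Cfsg.Agent.Lib.Helper52.BPClaimLocalFinal

/-!
# PROJECT BP: the `*`-theorem `BPFull` for every maximal pair, and `BPIrr` for nilpotent blocks
(helper16; final assembly of helper92's layer 4 with the three CLAIM steps C1, C2, C3)
-/

set_option autoImplicit false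

namespace Cfsg.Agent.Lib.Helper16.BP

open Cfsg Cfsg.Agent.Lib.Helper16 Cfsg.Agent.Lib.Helper78 Cfsg.Agent.Lib.Helper92.BP

universe u

variable {G : Type u} [Group G] [Fintype G] {M : Ideal AlgInt} {p : ℕ} [Fact p.Prime]
  {B : Set (IrrCharacter G)} {P : Subgroup G}
  {e : Set (IrrCharacter (Subgroup.centralizer (P : Set G)))}

/-- **The abstract Broué–Puig theorem** (layer 4, all hypotheses discharged). -/
theorem isGeneralizedCharacter_of_isStar_final [hMp : M.IsPrime] (hM : IsPModular p M)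
    {μ : LocSys G} (hμ : IsLocalSystem p M μ) {χ : G → ℂ} (hχ : IsCharacter G χ) {θ : G → ℂ}
    (hθc : IsClassFunction G θ) (hθ : IsStar M p μ χ θ) : IsGeneralizedCharacter G θ :=
  isGeneralizedCharacter_of_isStar_of3 hM hμ hχ hθc hθ (fun _ hQ _ hc hi =>
    claimFor_all_of3 hM
      (fun _ hQ _ _ h₁ h₂ hi₁ hi₂ horth H₁ H₂ =>
        Cfsg.Agent.Lib.Helper33.BP.claimFor_add hM hμ hχ hQ h₁ h₂ hi₁ hi₂ horth H₁ H₂)
      (fun _ _ hQ hSQ hn hidx _ hc' hi horth H =>
        Cfsg.Agent.Lib.Helper40.BP.claimFor_relTr hM hμ hχ hQ hSQ hn hidx hc' hi horth H)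
      (fun _ hQ _ hc => Cfsg.Agent.Lib.Helper52.BP.claimFor_local hM hμ hχ hQ hc) hQ hc hi)

/-- **The Broué–Puig `*`-theorem** for a maximal pair `(P, e)` of `B`. -/
theorem bpFull (hM : IsPModular p M) (hmax : IsMaximalBrauerPair p M B P e) :
    BPFull p M B P e := by
  haveI hMp := isPModular_isPrime hM
  exact bpFull_of_main hM
    (fun _ _ _ hμ hχ hθ hs => isGeneralizedCharacter_of_isStar_final hM hμ hχ hθ hs) hmax

theorem bpIrr_of_nil (hM : IsPModular p M) (hmax : IsMaximalBrauerPair p M B P e)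
    (hnil : IsNilpotentBlock p M B) : BPIrr p M B P e :=
  bpIrr_of_bpFull_nil hM hmax hnil (bpFull hM hmax)

end Cfsg.Agent.Lib.Helper16.BP
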