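import Mathlib
import Cfsg.Agent.Lib.Helper16.BPRobIrr
import Cfsg.Prelude.Def_BlockFusion
import Cfsg.Agent.Lib.Helper77.Linear

/-!
# PROJECT BP, layer 5 (Robinson rows): characters trivial on the focal subgroup are fusion stable
(helper16)
-/

set_option autoImplicit false
set_option linter.unusedSectionVars false
set_option linter.style.haveILetI false

namespace Cfsg.Agent.Lib.Helper16.BP

open Cfsg Finset Cfsg.Agent.Lib.Helper16 Cfsg.Agent.Lib.Helper78 Cfsg.Agent.Lib.Helper82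
open scoped ComplexConjugate

universe u

variable {G : Type u} [Group G] [Fintype G] {M : Ideal AlgInt}

attribute [local instance 2000] locCFintype

variable {p : ℕ} [Fact p.Prime] {B : Set (IrrCharacter G)} {P : Subgroup G}
  {e : Set (IrrCharacter (Subgroup.centralizer (P : Set G)))}

/-- A `G`-conjugation between two subsections below `(P, e)` moves `u` by an element of the focal
subgroup of the fusion system of the block. -/
theorem inv_mul_mem_focalSubgroup_of_fus (hM : IsPModular p M) {F : FusionSystem P}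
    (hF : IsBlockFusionSystemOn p M B P e F) {u v : G} (hu : u ∈ P) (hv : v ∈ P)
    (h : Fus p M P e u v) : u⁻¹ * v ∈ F.focalSubgroup := by
  haveI hMp := isPModular_isPrime hM
  have hPe : IsBrauerPair p M P e := hF.1.1.1
  obtain ⟨g, hg, ξ, hξ, ξ', hξ', hconj⟩ := h
  obtain ⟨hblock, hle⟩ := subF_spec hM hPe hu
  have hf'block : IsPBlock M (conjBlock (Subgroup.zpowers u) g (subF p M P e u)) := by
    rw [conjBlock_eq_pullBlock]
    exact isPBlock_pullBlock _ hblock
  have hQ' : (Subgroup.zpowers u).map (MulAut.conj g).toMonoidHom = Subgroup.zpowers v := by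
    rw [map_conj_zpowers, hg]
  have hle' : SubpairLE p M ((Subgroup.zpowers u).map (MulAut.conj g).toMonoidHom)
      (conjBlock (Subgroup.zpowers u) g (subF p M P e u)) P e := by
    apply subpairLE_of_eq hM hPe hv _ hQ' _ hf'block
    refine ⟨irrPull (conjCent (Subgroup.zpowers u) g) ξ, ?_, ξ', hξ', ?_⟩
    · rw [conjBlock_eq_pullBlock]
      exact irrPull_mem_pullBlock _ hξ
    · intro c₁ c' hcc
      rw [irrPull_apply]
      apply hconj
      rw [conjCent_coe, ← hcc]
      group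
  have hQP : Subgroup.zpowers u ≤ P := (Subgroup.zpowers_le).mpr hu
  have hφ : conjHom (Subgroup.zpowers u) g ∈ F.Hom (Subgroup.zpowers u) := by
    rw [hF.2]
    refine ⟨hQP, g, fun x => rfl, ?_, subF p M P e u, hle, hle'⟩
    rw [hQ']
    exact (Subgroup.zpowers_le).mpr hv
  apply Subgroup.subset_closure
  refine ⟨Subgroup.zpowers u, conjHom (Subgroup.zpowers u) g, ⟨u, Subgroup.mem_zpowers u⟩, hφ, ?_⟩
  rw [← hg]
  rfl

/-- **A function on `P` which is multiplicative and trivial on the focal subgroup is fusion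
stable.** -/
theorem isFusionStable_of_focal (hM : IsPModular p M) {F : FusionSystem P}
    (hF : IsBlockFusionSystemOn p M B P e F) (lam : P →* ℂˣ)
    (hlam : ∀ y : P, (y : G) ∈ F.focalSubgroup → lam y = 1) :
    IsFusionStable p M P e (fun v : P => ((lam v : ℂˣ) : ℂ)) := by
  have hPe : IsBrauerPair p M P e := hF.1.1.1
  intro u v hu hv fu fv g hfu hfv hg hex
  have h1 : fu = subF p M P e u := eq_subF hM hPe hu hfu
  have h2 : fv = subF p M P e v := eq_subF hM hPe hv hfv
  subst h1 h2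
  have hfoc := inv_mul_mem_focalSubgroup_of_fus hM hF hu hv ⟨g, hg, hex⟩
  have h3 : lam (⟨u, hu⟩⁻¹ * ⟨v, hv⟩) = 1 := hlam _ hfoc
  rw [map_mul, map_inv, inv_mul_eq_one] at h3
  show ((lam ⟨u, hu⟩ : ℂˣ) : ℂ) = ((lam ⟨v, hv⟩ : ℂˣ) : ℂ)
  rw [h3]

/-- The values of a linear character of a finite group are unimodular. -/
theorem monoidHom_mul_conj {H : Type*} [Group H] [Finite H] (lam : H →* ℂˣ) (v : H) :
    ((lam v : ℂˣ) : ℂ) * conj ((lam v : ℂˣ) : ℂ) = 1 := by
  have h1 : ((lam v : ℂˣ) : ℂ) ^ orderOf v = 1 := by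
    rw [← Units.val_pow_eq_pow_val, ← map_pow, pow_orderOf_eq_one, map_one, Units.val_one]
  have h2 : ‖((lam v : ℂˣ) : ℂ)‖ = 1 :=
    Complex.norm_eq_one_of_pow_eq_one h1 (orderOf_pos v).ne'
  rw [Complex.mul_conj, Complex.normSq_eq_norm_sq, h2]
  simp

/-- **The action of the characters of `P / foc(F)` on `Irr(B)`**: existence of `λ * χ`. -/
theorem exists_star_irr_of_focal (hM : IsPModular p M) {F : FusionSystem P}
    (hF : IsBlockFusionSystemOn p M B P e F) (hBP : BPFull p M B P e) (lam : P →* ℂˣ)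
    (hlam : ∀ y : P, (y : G) ∈ F.focalSubgroup → lam y = 1) {χ : IrrCharacter G} (hχ : χ ∈ B) :
    ∃ ψ : IrrCharacter G, ψ ∈ B ∧
      IsStarOf p M P e (fun v : P => ((lam v : ℂˣ) : ℂ)) (χ : G → ℂ) (ψ : G → ℂ) ∧
      ∀ g : G, ¬ p ∣ orderOf g → (ψ : G → ℂ) g = (χ : G → ℂ) g := by
  have hmax : IsMaximalBrauerPair p M B P e := hF.1
  have hirr : IsIrrCharacter P (fun v : P => ((lam v : ℂˣ) : ℂ)) :=
    Cfsg.Agent.Lib.Helper77.isIrrCharacter_of_monoidHom lam
  have hg : IsGeneralizedCharacter P (fun v : P => ((lam v : ℂˣ) : ℂ)) :=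
    ⟨_, 0, IsIrrCharacter.isCharacter hirr, isCharacter_zero, (sub_zero _).symm⟩
  obtain ⟨θ, hZ, hS⟩ := hBP _ hg (isFusionStable_of_focal hM hF lam hlam) χ hχ
  obtain ⟨ψ, hψB, hθψ, hval⟩ := star_irr hM hmax (fun v => monoidHom_mul_conj lam v)
    (by simp) hχ hZ hS
  exact ⟨ψ, hψB, hθψ ▸ hS, hval⟩

end Cfsg.Agent.Lib.Helper16.BP
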