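import Mathlib
import Cfsg.Agent.Lib.Helper16.BPRobFocal

/-!
# PROJECT BP, [ROB-STABLE] + [ROB-FOC] in the form of helper78's skeleton (helper16)
-/

set_option autoImplicit false
set_option linter.unusedSectionVars false
set_option linter.style.haveILetI false

namespace Cfsg.Agent.Lib.Helper16.BP

open Cfsg Cfsg.Agent.Lib.Helper16 Cfsg.Agent.Lib.Helper78

universe u

variable {G : Type u} [Group G] [Fintype G] {M : Ideal AlgInt} {p : ℕ} [Fact p.Prime]
  {B : Set (IrrCharacter G)} {P : Subgroup G}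
  {e : Set (IrrCharacter (Subgroup.centralizer (P : Set G)))}

/-- BP-[ROB-STABLE] : a function on `P` constant on the cosets of the focal subgroup is fusion
stable. -/
theorem isFusionStable_of_focal' (hM : IsPModular p M) {F : FusionSystem P}
    (hF : IsBlockFusionSystemOn p M B P e F) {η : P → ℂ}
    (hη : ∀ u v : P, (u : G)⁻¹ * (v : G) ∈ F.focalSubgroup → η u = η v) :
    IsFusionStable p M P e η := by
  have hPe : IsBrauerPair p M P e := hF.1.1.1
  intro u v hu hv fu fv g hfu hfv hg hex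
  have h1 : fu = subF p M P e u := eq_subF hM hPe hu hfu
  have h2 : fv = subF p M P e v := eq_subF hM hPe hv hfv
  subst h1 h2
  exact hη ⟨u, hu⟩ ⟨v, hv⟩ (inv_mul_mem_focalSubgroup_of_fus hM hF hu hv ⟨g, hg, hex⟩)

/-- BP-[ROB-FOC] : the focal subgroup lies in `P`. -/
theorem focal_le {G : Type*} [Group G] {P : Subgroup G} (F : FusionSystem P) :
    F.focalSubgroup ≤ P := by
  unfold FusionSystem.focalSubgroup
  rw [Subgroup.closure_le]
  rintro y ⟨Q, φ, x, hφ, rfl⟩
  obtain ⟨hQP, him⟩ := F.le_of_mem hφ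
  exact P.mul_mem (P.inv_mem (hQP x.2)) (him x)

/-- BP-[ROB-FOC] : the focal subgroup contains the commutators of `P`. -/
theorem commutator_le_focal {G : Type*} [Group G] {P : Subgroup G} (F : FusionSystem P) :
    commutator P ≤ F.focalSubgroup.subgroupOf P := by
  rw [commutator_def, Subgroup.commutator_le]
  intro a _ b _
  rw [Subgroup.mem_subgroupOf]
  have hmem : conjHom P (a : G) ∈ F.Hom P := F.conj_mem le_rfl a.2
  have h1 : ((b : G)⁻¹)⁻¹ * conjHom P (a : G) ⟨(b : G)⁻¹, P.inv_mem b.2⟩ ∈ F.focalSubgroup :=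
    Subgroup.subset_closure ⟨P, conjHom P (a : G), ⟨(b : G)⁻¹, P.inv_mem b.2⟩, hmem, rfl⟩
  have h2 := F.focalSubgroup.inv_mem h1
  rw [commutatorElement_def]
  push_cast
  convert h2 using 1
  simp only [conjHom, MonoidHom.coe_comp, Function.comp_apply, Subgroup.subtype_apply,
    MulEquiv.coe_toMonoidHom, MulAut.conj_apply]
  group

end Cfsg.Agent.Lib.Helper16.BP
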