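import Mathlib
import Cfsg.Agent.Lib.Helper16.BPRobIrr

/-!
# PROJECT BP, layer 5: the trace formula (helper16)

`(P, e)` a maximal pair of `B`.  If `σ` maps `B` to `B` and `σ χ` has the local data of `η * χ`
for every `χ ∈ B`, then the number of fixed points of `σ` on `B` is
`∑_{v ∈ P} |[v]|⁻¹ η(v) l(f_v)`, `[v]` the fusion class of `v` and `l(f_v)` the `p`-regular rank
of `f_v`.  For `η = 1`: `k(B) = ∑_v |[v]|⁻¹ l(f_v)`.
-/

set_option autoImplicit false
set_option linter.unusedSectionVars false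
set_option linter.style.haveILetI false

namespace Cfsg.Agent.Lib.Helper16.BP

open Cfsg Finset Cfsg.Agent.Lib.Helper16 Cfsg.Agent.Lib.Helper78 Cfsg.Agent.Lib.Helper82
open scoped ComplexConjugate

universe u

variable {G : Type u} [Group G] [Fintype G] {M : Ideal AlgInt}

attribute [local instance 2000] locCFintype

variable {p : ℕ} [Fact p.Prime] {B : Set (IrrCharacter G)} {P : Subgroup G}
  {e : Set (IrrCharacter (Subgroup.centralizer (P : Set G)))}

open scoped Classical in
/-- The trace of the matrix of contributions of `(v, f_v)` is `l(f_v)`. -/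
theorem sum_mv_self (hM : IsPModular p M) (hPe : IsBrauerPair p M P e) {v : G} (hv : v ∈ P) :
    ∑ χ : IrrCharacter G, mv p M P e v (χ : G → ℂ) (χ : G → ℂ) =
      (blockRank p (subF p M P e v) : ℂ) := by
  unfold mv
  exact sum_secM_self hM v (exists_orderOf_of_mem hPe.1 hv) (locC v) (locC_mem_iff v)
    (subF_spec hM hPe hv).1

open scoped Classical in
/-- The trace over `B` only. -/
theorem sum_mv_self_mem (hM : IsPModular p M) (hmax : IsMaximalBrauerPair p M B P e) {v : G}
    (hv : v ∈ P) :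
    ∑ χ ∈ Finset.univ.filter (fun χ : IrrCharacter G => χ ∈ B),
      mv p M P e v (χ : G → ℂ) (χ : G → ℂ) = (blockRank p (subF p M P e v) : ℂ) := by
  rw [← sum_mv_self hM hmax.1.1 hv, Finset.sum_filter]
  apply Finset.sum_congr rfl
  intro χ _
  split_ifs with h
  · rfl
  · exact (mv_eq_zero_of_not_mem hM hmax hv _ χ h).symm

open scoped Classical in
/-- **The trace formula.** -/
theorem card_fixed_eq_sum (hM : IsPModular p M) (hmax : IsMaximalBrauerPair p M B P e)
    {η : P → ℂ} (σ : IrrCharacter G → IrrCharacter G) (hσB : ∀ χ ∈ B, σ χ ∈ B)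
    (hS : ∀ χ ∈ B, IsStarOf p M P e η (χ : G → ℂ) (σ χ : G → ℂ)) :
    ((Finset.univ.filter (fun χ : IrrCharacter G => χ ∈ B ∧ σ χ = χ)).card : ℂ) =
      ∑ v : P, ((Nat.card {v' : P // Fus p M P e (v : G) (v' : G)} : ℂ))⁻¹ * η v *
        (blockRank p (subF p M P e (v : G)) : ℂ) := by
  have hPe : IsBrauerPair p M P e := hmax.1.1
  -- fixed points as a sum of inner products
  have h1 : ((Finset.univ.filter (fun χ : IrrCharacter G => χ ∈ B ∧ σ χ = χ)).card : ℂ) =
      ∑ χ ∈ Finset.univ.filter (fun χ : IrrCharacter G => χ ∈ B),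
        classInner (σ χ : G → ℂ) (χ : G → ℂ) := by
    rw [Finset.card_eq_sum_ones, ← Finset.filter_filter, Finset.sum_filter]
    push_cast
    apply Finset.sum_congr rfl
    intro χ _
    split_ifs with h
    · rw [h, classInner_irr_self χ.2]
    · rw [classInner_irr_ne (σ χ).2 χ.2 (fun h' => h (Subtype.ext h'))]
  rw [h1]
  have h2 : ∀ χ ∈ Finset.univ.filter (fun χ : IrrCharacter G => χ ∈ B),
      classInner (σ χ : G → ℂ) (χ : G → ℂ) =
        ∑ v : P, ((Nat.card {v' : P // Fus p M P e (v : G) (v' : G)} : ℂ))⁻¹ * η v *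
          mv p M P e (v : G) (χ : G → ℂ) (χ : G → ℂ) := by
    intro χ hχ
    simp only [Finset.mem_filter, Finset.mem_univ, true_and] at hχ
    rw [classInner_eq_sum_mv_fus hM hmax (isClassFunction_irr (σ χ))
      (classInner_irr_eq_zero_of_not_mem (hσB χ hχ)) (isClassFunction_irr χ)]
    apply Finset.sum_congr rfl
    intro v _
    rw [mv_star hM hPe (hS χ hχ)
      (isStarOf_one (p := p) (M := M) (P := P) (e := e) (χ : G → ℂ)) v, map_one, mul_one,
      mul_assoc]
  rw [Finset.sum_congr rfl h2, Finset.sum_comm]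
  apply Finset.sum_congr rfl
  intro v _
  rw [← Finset.mul_sum, sum_mv_self_mem hM hmax v.2]

open scoped Classical in
/-- `k(B) = ∑_{v ∈ P} |[v]|⁻¹ l(f_v)`. -/
theorem card_block_eq_sum (hM : IsPModular p M) (hmax : IsMaximalBrauerPair p M B P e) :
    (Nat.card B : ℂ) =
      ∑ v : P, ((Nat.card {v' : P // Fus p M P e (v : G) (v' : G)} : ℂ))⁻¹ *
        (blockRank p (subF p M P e (v : G)) : ℂ) := by
  have h := card_fixed_eq_sum hM hmax (η := fun _ => (1 : ℂ)) id (fun _ h => h)
    (fun χ _ => isStarOf_one (χ : G → ℂ))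
  simp only [id_eq, and_true, mul_one] at h
  rw [← h]
  congr 1
  rw [← Nat.card_eq_finsetCard]
  exact Nat.card_congr (Equiv.subtypeEquivRight (fun χ => by simp))

end Cfsg.Agent.Lib.Helper16.BP
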