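import Cfsg.Agent.Lib.Helper16.NormalSub
import Cfsg.Agent.Lib.Helper77.CenterIrr

/-!
# The kernel of a block (helper16)

The kernel of a block `B` (the intersection of the kernels of its members) is a normal subgroup
of order prime to `p`.
-/

set_option autoImplicit false

namespace Cfsg.Agent.Lib.Helper16

open Cfsg MonoidAlgebra
open Cfsg.Agent.Lib.Helper77
open scoped ComplexConjugate

universe u

variable {G : Type u} [Group G] [Fintype G]

omit [Fintype G] in
/-- Every element of `G` is uniquely a chosen coset representative times an element of `K`. -/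
theorem quotient_prod_bijective (K : Subgroup G) :
    Function.Bijective (fun qk : (G ⧸ K) × K => qk.1.out * (qk.2 : G)) := by
  have hmk : ∀ (q : G ⧸ K) (k : K), ((q.out * (k : G) : G) : G ⧸ K) = q := by
    intro q k
    rw [QuotientGroup.mk_mul_of_mem _ k.2]
    exact Quotient.out_eq' q
  constructor
  · rintro ⟨q, k⟩ ⟨q', k'⟩ h
    have hq : q = q' := by
      have := congrArg (QuotientGroup.mk : G → G ⧸ K) h
      simp only at this
      rwa [hmk, hmk] at this
    subst hq
    have hk : (k : G) = k' := mul_left_cancel h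
    rw [Subtype.ext hk]
  · intro x
    refine ⟨((x : G ⧸ K), ⟨(x : G ⧸ K).out⁻¹ * x, ?_⟩), ?_⟩
    · rw [← QuotientGroup.eq]
      exact Quotient.out_eq' _
    · simp

/-- The sum over a finite group of a function invariant under right multiplication by a subgroup
`K` is `|K|` times the sum over a transversal. -/
theorem sum_eq_card_mul_sum_of_right_invariant (K : Subgroup G) (F : G → ℂ)
    (hF : ∀ x : G, ∀ k ∈ K, F (x * k) = F x) :
    ∃ T : Finset G, ∑ x : G, F x = (Nat.card K : ℂ) * ∑ t ∈ T, F t := by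
  classical
  have : Fintype (G ⧸ K) := Fintype.ofFinite _
  have : Fintype K := Fintype.ofFinite _
  have he := quotient_prod_bijective K
  refine ⟨Finset.univ.image (fun q : G ⧸ K => q.out), ?_⟩
  rw [← he.sum_comp F, Fintype.sum_prod_type]
  have h1 : ∀ q : G ⧸ K, ∑ k : K, F (q.out * (k : G)) = (Nat.card K : ℂ) * F q.out := by
    intro q
    have : ∀ k : K, F (q.out * (k : G)) = F q.out := fun k => hF _ _ k.2
    rw [Finset.sum_congr rfl (fun k _ => this k), Finset.sum_const, Finset.card_univ,
      nsmul_eq_mul, Nat.card_eq_fintype_card]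
  rw [Finset.sum_congr rfl (fun q _ => h1 q), ← Finset.mul_sum, Finset.sum_image]
  intro q _ q' _ h
  have := congrArg (QuotientGroup.mk : G → G ⧸ K) h
  change ((q.out : G) : G ⧸ K) = ((q'.out : G) : G ⧸ K) at this
  have e1 : ((q.out : G) : G ⧸ K) = q := Quotient.out_eq' q
  have e2 : ((q'.out : G) : G ⧸ K) = q' := Quotient.out_eq' q'
  rwa [e1, e2] at this

/-- The sum over `G` of a function of the coset is `|K|` times the sum over the cosets. -/
theorem sum_comp_quotient_mk (K : Subgroup G) [Fintype (G ⧸ K)] (F : G ⧸ K → ℂ) :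
    ∑ g : G, F (g : G ⧸ K) = (Nat.card K : ℂ) * ∑ x : G ⧸ K, F x := by
  classical
  have : Fintype K := Fintype.ofFinite _
  have he := quotient_prod_bijective K
  rw [← he.sum_comp (fun g : G => F (g : G ⧸ K)), Fintype.sum_prod_type, Finset.mul_sum]
  refine Finset.sum_congr rfl fun q _ => ?_
  have : ∀ k : K, F ((q.out * (k : G) : G) : G ⧸ K) = F q := by
    intro k
    rw [QuotientGroup.mk_mul_of_mem _ k.2]
    exact congrArg F (Quotient.out_eq' q)
  rw [Finset.sum_congr rfl (fun k _ => this k), Finset.sum_const, Finset.card_univ,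
    nsmul_eq_mul, Nat.card_eq_fintype_card]

omit [Fintype G] in
/-- The kernel of a set of irreducible characters, as a subgroup. -/
noncomputable def blockKerSubgroup (B : Set (IrrCharacter G)) : Subgroup G :=
  ⨅ ψ : B, irrKer (ψ : IrrCharacter G)

omit [Fintype G] in
instance blockKerSubgroup_normal (B : Set (IrrCharacter G)) : (blockKerSubgroup B).Normal :=
  Subgroup.normal_iInf_normal fun _ => inferInstance

omit [Fintype G] in
theorem mem_blockKerSubgroup [Finite G] (B : Set (IrrCharacter G)) (g : G) :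
    g ∈ blockKerSubgroup B ↔ ∀ ψ ∈ B, (ψ : G → ℂ) g = (ψ : G → ℂ) 1 := by
  unfold blockKerSubgroup
  rw [Subgroup.mem_iInf]
  constructor
  · intro h ψ hψ
    exact (mem_irrKer ψ g).mp (h ⟨ψ, hψ⟩)
  · intro h ψ
    exact (mem_irrKer ψ.1 g).mpr (h ψ.1 ψ.2)

omit [Fintype G] in
theorem coe_blockKerSubgroup [Finite G] (B : Set (IrrCharacter G)) :
    (blockKerSubgroup B : Set G) = blockKer B := by
  ext g
  exact mem_blockKerSubgroup B g

omit [Fintype G] in
/-- Members of `B` are invariant under multiplication by elements of the kernel of `B`. -/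
theorem irr_mul_of_mem_blockKerSubgroup {B : Set (IrrCharacter G)} {ψ : IrrCharacter G}
    (hψ : ψ ∈ B) {k : G} (hk : k ∈ blockKerSubgroup B) (g : G) :
    (ψ : G → ℂ) (k * g) = (ψ : G → ℂ) g := by
  have hk' : k ∈ irrKer ψ := by
    unfold blockKerSubgroup at hk
    rw [Subgroup.mem_iInf] at hk
    exact hk ⟨ψ, hψ⟩
  rw [← irrRep_character ψ]
  exact character_mul_of_mem_ker' (irrRep ψ) g k hk'

open scoped Classical in
theorem blockCoeff_mul_of_mem_blockKerSubgroup {B : Set (IrrCharacter G)} {k : G}
    (hk : k ∈ blockKerSubgroup B) (g : G) : blockCoeff B (k * g) = blockCoeff B g := by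
  rw [blockCoeff_eq_sum, blockCoeff_eq_sum]
  congr 1
  refine Finset.sum_congr rfl fun ψ hψ => ?_
  rw [irr_mul_of_mem_blockKerSubgroup (Finset.mem_filter.mp hψ).2 hk]

/-- The kernel of a block has order prime to `p`. -/
theorem not_dvd_card_blockKerSubgroup {p : ℕ} {M : Ideal AlgInt} (hM : IsPModular p M)
    {B : Set (IrrCharacter G)} (hB : IsPBlock M B) : ¬ p ∣ Nat.card (blockKerSubgroup B) := by
  classical
  have hMp := isPModular_isPrime hM
  intro hdvd
  obtain ⟨χ₀, rfl⟩ := hB
  obtain ⟨g, hg⟩ := exists_isDefectClass_blockOf (M := M) χ₀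
  apply hg.2.1
  set B := blockOf M (χ₀ : G → ℂ) with hBdef
  set K := blockKerSubgroup B with hK
  -- expand `E = E * E` at `g`
  have hEE := blockIdem_mul_self (M := M) χ₀
  have hcoeff : blockCoeff B g = ∑ x : G, blockCoeff B x * blockCoeff B (x⁻¹ * g) := by
    have h1 := congrArg (fun z : Subalgebra.center ℂ (MonoidAlgebra ℂ G) =>
      (z : MonoidAlgebra ℂ G).coeff g) hEE
    simp only [Subalgebra.coe_mul] at h1
    rw [coeff_mul_apply_left, Finsupp.sum_fintype _ _ (by simp)] at h1
    simp only [coeff_blockIdem] at h1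
    exact h1.symm
  have hinv : ∀ x : G, ∀ k ∈ K, blockCoeff B (x * k) * blockCoeff B ((x * k)⁻¹ * g) =
      blockCoeff B x * blockCoeff B (x⁻¹ * g) := by
    intro x k hk
    have h1 : blockCoeff B (x * k) = blockCoeff B x := by
      have : x * k = x * (k * x) * x⁻¹ := by group
      rw [this, blockCoeff_conj, blockCoeff_mul_of_mem_blockKerSubgroup hk]
    have h2 : blockCoeff B ((x * k)⁻¹ * g) = blockCoeff B (x⁻¹ * g) := by
      have : (x * k)⁻¹ * g = k⁻¹ * (x⁻¹ * g) := by group
      rw [this, blockCoeff_mul_of_mem_blockKerSubgroup (K.inv_mem hk)]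
    rw [h1, h2]
  obtain ⟨T, hT⟩ := sum_eq_card_mul_sum_of_right_invariant K
    (fun x => blockCoeff B x * blockCoeff B (x⁻¹ * g)) hinv
  rw [hcoeff, hT]
  apply memLocalIdeal_mul_right ((memLocalIdeal_natCast_iff hM _).mpr hdvd)
  apply memLocalRing_sum
  intro t _
  exact memLocalRing_mul (blockCoeff_memLocalRing_blockOf χ₀ _)
    (blockCoeff_memLocalRing_blockOf χ₀ _)

end Cfsg.Agent.Lib.Helper16
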