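import Cfsg.Agent.Lib.Helper16.MaxConj
import Cfsg.Agent.S4655
import Cfsg.Agent.S4658

/-!
# Brauer pairs of a block of `C_G(Q)` versus Brauer pairs above `(Q, f)` (helper16)

For a subgroup `R'` of `C_G(Q)` put `supCent Q R' = Q R'` (a subgroup of `G`).  Then
`C_{C_G(Q)}(R') ≃* C_G(Q R')` and `(R', g')` is a Brauer pair of the block `f` of the group `C_G(Q)`
exactly when `(Q, f) ⊴ (Q R', g)` for the corresponding `g`.
-/

set_option autoImplicit false

namespace Cfsg.Agent.Lib.Helper16

open Cfsg MonoidAlgebra Cfsg.Agent.Lib.Helper77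
open scoped ComplexConjugate

universe u

section Basic

variable {G : Type u} [Group G]

/-- The subgroup `Q R'` of `G`, for a subgroup `R'` of `C_G(Q)`. -/
def supCent (Q : Subgroup G) (R' : Subgroup ↥(Subgroup.centralizer (Q : Set G))) : Subgroup G :=
  Q ⊔ R'.map (Subgroup.centralizer (Q : Set G)).subtype

theorem le_supCent (Q : Subgroup G) (R' : Subgroup ↥(Subgroup.centralizer (Q : Set G))) :
    Q ≤ supCent Q R' := le_sup_left

theorem coe_mem_supCent (Q : Subgroup G) (R' : Subgroup ↥(Subgroup.centralizer (Q : Set G)))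
    {r : ↥(Subgroup.centralizer (Q : Set G))} (hr : r ∈ R') : (r : G) ∈ supCent Q R' :=
  (le_sup_right : R'.map (Subgroup.centralizer (Q : Set G)).subtype ≤ supCent Q R') ⟨r, hr, rfl⟩

theorem supCent_le_normalizer (Q : Subgroup G)
    (R' : Subgroup ↥(Subgroup.centralizer (Q : Set G))) :
    supCent Q R' ≤ Subgroup.normalizer (Q : Set G) := by
  apply sup_le Subgroup.le_normalizer
  rintro _ ⟨r, _, rfl⟩
  exact Subgroup.centralizer_le_normalizer _ r.2

theorem mem_centralizer_iff_le {S : Subgroup G} {c : G} :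
    c ∈ Subgroup.centralizer (S : Set G) ↔ S ≤ Subgroup.centralizer ({c} : Set G) := by
  constructor
  · intro h s hs
    rw [Subgroup.mem_centralizer_singleton_iff]
    exact Subgroup.mem_centralizer_iff.mp h s hs
  · intro h
    rw [Subgroup.mem_centralizer_iff]
    intro s hs
    exact Subgroup.mem_centralizer_singleton_iff.mp (h hs)

theorem mem_centralizer_supCent_iff (Q : Subgroup G)
    (R' : Subgroup ↥(Subgroup.centralizer (Q : Set G))) (c : G) :
    c ∈ Subgroup.centralizer (supCent Q R' : Set G) ↔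
      ∃ hc : c ∈ Subgroup.centralizer (Q : Set G),
        (⟨c, hc⟩ : ↥(Subgroup.centralizer (Q : Set G))) ∈
          Subgroup.centralizer (R' : Set ↥(Subgroup.centralizer (Q : Set G))) := by
  rw [mem_centralizer_iff_le]
  unfold supCent
  rw [sup_le_iff]
  constructor
  · rintro ⟨h1, h2⟩
    refine ⟨mem_centralizer_iff_le.mpr h1, ?_⟩
    rw [Subgroup.mem_centralizer_iff]
    intro r hr
    apply Subtype.ext
    have := h2 ⟨r, hr, rfl⟩
    rw [Subgroup.mem_centralizer_singleton_iff] at this
    exact this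
  · rintro ⟨hc, h⟩
    refine ⟨mem_centralizer_iff_le.mp hc, ?_⟩
    rintro _ ⟨r, hr, rfl⟩
    rw [Subgroup.mem_centralizer_singleton_iff]
    have := Subgroup.mem_centralizer_iff.mp h r hr
    exact congrArg Subtype.val this

/-- `C_{C_G(Q)}(R') ≃* C_G(Q R')`. -/
noncomputable def centSupEquiv (Q : Subgroup G)
    (R' : Subgroup ↥(Subgroup.centralizer (Q : Set G))) :
    ↥(Subgroup.centralizer (R' : Set ↥(Subgroup.centralizer (Q : Set G)))) ≃*
      ↥(Subgroup.centralizer (supCent Q R' : Set G)) where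
  toFun c := ⟨((c : ↥(Subgroup.centralizer (Q : Set G))) : G),
    (mem_centralizer_supCent_iff Q R' _).mpr ⟨c.1.2, c.2⟩⟩
  invFun c := ⟨⟨(c : G), ((mem_centralizer_supCent_iff Q R' _).mp c.2).1⟩,
    ((mem_centralizer_supCent_iff Q R' _).mp c.2).2⟩
  left_inv _ := rfl
  right_inv _ := rfl
  map_mul' _ _ := rfl

theorem centSupEquiv_coe (Q : Subgroup G) (R' : Subgroup ↥(Subgroup.centralizer (Q : Set G)))
    (c : ↥(Subgroup.centralizer (R' : Set ↥(Subgroup.centralizer (Q : Set G))))) :
    ((centSupEquiv Q R' c : ↥(Subgroup.centralizer (supCent Q R' : Set G))) : G) =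
      ((c : ↥(Subgroup.centralizer (Q : Set G))) : G) := rfl

/-- The Brauer-map value at `R'` of the idempotent of `f` in the group `C_G(Q)` is the one at
`Q R'` in `G`. -/
theorem brauerOmega_centSup (Q : Subgroup G) (R' : Subgroup ↥(Subgroup.centralizer (Q : Set G)))
    (f : Set (IrrCharacter (Subgroup.centralizer (Q : Set G))))
    (ξ : IrrCharacter (Subgroup.centralizer (supCent Q R' : Set G))) :
    brauerOmega R' (blockCoeff f) (irrPull (centSupEquiv Q R') ξ : _ → ℂ) =
      brauerOmega (supCent Q R') (subgroupBlockCoeff (Subgroup.centralizer (Q : Set G)) f)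
        (ξ : _ → ℂ) := by
  unfold brauerOmega
  rw [← finsum_comp_equiv (centSupEquiv Q R').toEquiv]
  apply finsum_congr
  intro c
  rw [irrPull_apply, irrPull_apply, map_one]
  have : subgroupBlockCoeff (Subgroup.centralizer (Q : Set G)) f
      (((centSupEquiv Q R').toEquiv c : ↥(Subgroup.centralizer (supCent Q R' : Set G))) : G) =
      blockCoeff f (c : ↥(Subgroup.centralizer (Q : Set G))) := by
    unfold subgroupBlockCoeff
    have hc : (((centSupEquiv Q R').toEquiv c : ↥(Subgroup.centralizer (supCent Q R' : Set G))) : G)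
        ∈ Subgroup.centralizer (Q : Set G) := c.1.2
    rw [dif_pos hc]
    rfl
  rw [this]
  rfl

open scoped Pointwise in
/-- Elements of `Q R'` act on `C_G(Q)` as inner automorphisms, hence stabilize every set of
irreducible characters. -/
theorem stabilizesBlock_of_mem_supCent (Q : Subgroup G)
    (R' : Subgroup ↥(Subgroup.centralizer (Q : Set G)))
    (f : Set (IrrCharacter (Subgroup.centralizer (Q : Set G)))) {x : G}
    (hx : x ∈ supCent Q R') : StabilizesBlock (Subgroup.centralizer (Q : Set G)) f x := by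
  refine ⟨normalizer_le_normalizer_centralizer' _ (supCent_le_normalizer Q R' hx), ?_⟩
  intro χ hχ
  refine ⟨χ, hχ, ?_⟩
  intro k k' hk
  have hLE : R'.map (Subgroup.centralizer (Q : Set G)).subtype ≤
      Subgroup.normalizer (Q : Set G) := by
    rintro _ ⟨r, _, rfl⟩
    exact Subgroup.centralizer_le_normalizer _ r.2
  have hx' : x ∈ ((Q ⊔ R'.map (Subgroup.centralizer (Q : Set G)).subtype : Subgroup G) : Set G) :=
    hx
  rw [Subgroup.coe_mul_of_right_le_normalizer_left _ _ hLE] at hx'
  obtain ⟨q, hq, _, ⟨r, _, rfl⟩, rfl⟩ := hx'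
  have hqk : ∀ c : ↥(Subgroup.centralizer (Q : Set G)), q * (c : G) * q⁻¹ = (c : G) := by
    intro c
    have := Subgroup.mem_centralizer_iff.mp c.2 q hq
    rw [this]
    group
  have hk' : k' = r * k * r⁻¹ := by
    apply Subtype.ext
    rw [hk]
    show q * (r : G) * (k : G) * (q * (r : G))⁻¹ = (r : G) * (k : G) * (r : G)⁻¹
    have := hqk (r * k * r⁻¹)
    calc q * (r : G) * (k : G) * (q * (r : G))⁻¹
        = q * ((r : G) * (k : G) * (r : G)⁻¹) * q⁻¹ := by group
      _ = (r : G) * (k : G) * (r : G)⁻¹ := this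
  rw [hk']
  exact irr_conj χ k r

end Basic

section Transfer

variable {G : Type u} [Group G] {M : Ideal AlgInt}

/-- A pair `(Q R', g)` normally above `(Q, f)` gives the Brauer pair `(R', g)` of the block `f`
of the group `C_G(Q)`. -/
theorem isBrauerPairOf_of_isNormalSubpair_supCent {p : ℕ} (Q : Subgroup G)
    (R' : Subgroup ↥(Subgroup.centralizer (Q : Set G)))
    {f : Set (IrrCharacter (Subgroup.centralizer (Q : Set G)))}
    {g : Set (IrrCharacter (Subgroup.centralizer (supCent Q R' : Set G)))}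
    (h : IsNormalSubpair p M Q f (supCent Q R') g) :
    IsBrauerPairOf p M f R' (pullBlock (centSupEquiv Q R') g) := by
  obtain ⟨hQf, hSg, _, _, _, hω⟩ := h
  refine ⟨⟨?_, isPBlock_pullBlock _ hSg.2⟩, hQf.2, ?_⟩
  · intro r
    obtain ⟨k, hk⟩ := hSg.1 ⟨((r : ↥(Subgroup.centralizer (Q : Set G))) : G),
      coe_mem_supCent Q R' r.2⟩
    refine ⟨k, ?_⟩
    apply Subtype.ext
    apply Subtype.ext
    have := congrArg Subtype.val hk
    simpa using this
  · intro ξ' hξ'
    obtain ⟨ξ, hξ, rfl⟩ := hξ'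
    rw [brauerOmega_centSup]
    exact hω ξ hξ

/-- A Brauer pair `(R', g')` of the block `f` of the group `C_G(Q)` gives a pair `(Q R', g)`
normally above `(Q, f)`. -/
theorem isNormalSubpair_supCent_of_isBrauerPairOf {p : ℕ} (Q : Subgroup G) (hQ : IsPGroup p Q)
    (R' : Subgroup ↥(Subgroup.centralizer (Q : Set G)))
    {f : Set (IrrCharacter (Subgroup.centralizer (Q : Set G)))}
    {g' : Set (IrrCharacter (Subgroup.centralizer
      (R' : Set ↥(Subgroup.centralizer (Q : Set G)))))}
    (h : IsBrauerPairOf p M f R' g') :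
    IsNormalSubpair p M Q f (supCent Q R') (pullBlock (centSupEquiv Q R').symm g') := by
  obtain ⟨⟨hR', hg'⟩, hf, hω⟩ := h
  have hRp : IsPGroup p (R'.map (Subgroup.centralizer (Q : Set G)).subtype) := hR'.map _
  have hLE : R'.map (Subgroup.centralizer (Q : Set G)).subtype ≤
      Subgroup.normalizer (Q : Set G) := by
    rintro _ ⟨r, _, rfl⟩
    exact Subgroup.centralizer_le_normalizer _ r.2
  refine ⟨⟨hQ, hf⟩, ⟨IsPGroup.to_sup_of_normal_left' hQ hRp hLE, isPBlock_pullBlock _ hg'⟩,
    le_supCent Q R', supCent_le_normalizer Q R',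
    fun x hx => stabilizesBlock_of_mem_supCent Q R' f hx, ?_⟩
  intro ξ hξ
  obtain ⟨ξ', hξ', rfl⟩ := hξ
  rw [← brauerOmega_centSup, irrPull_irrPull_symm]
  exact hω ξ' hξ'

end Transfer

end Cfsg.Agent.Lib.Helper16
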