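import Mathlib

/-!
# A Bessel inequality for pairwise orthogonal "idempotent rows" (helper16)

If the vectors `v x ∈ ℂ^ι` (`x ∈ S`) are pairwise orthogonal and each satisfies
`⟨v x, v x⟩ = (v x)_χ` for a fixed coordinate `χ`, then `∑_{x ∈ S} (v x)_χ` is a real number in
`[0, 1]`.  (Applied to the rows `ψ ↦ m^{(u,b)}_{χψ}` of the matrices of contributions of pairwise
non-conjugate subsections.)
-/

set_option autoImplicit false

namespace Cfsg.Agent.Lib.Helper16

open Finset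
open scoped ComplexConjugate

theorem exists_real_sum_diag_le_one {ι X : Type*} [Fintype ι] (S : Finset X) (v : X → ι → ℂ)
    (χ : ι)
    (horth : ∀ x ∈ S, ∀ y ∈ S, x ≠ y → ∑ ψ : ι, v x ψ * conj (v y ψ) = 0)
    (hidem : ∀ x ∈ S, ∑ ψ : ι, v x ψ * conj (v x ψ) = v x χ) :
    ∃ r : ℝ, ∑ x ∈ S, v x χ = (r : ℂ) ∧ 0 ≤ r ∧ r ≤ 1 := by
  classical
  set w : ι → ℂ := fun ψ => ∑ x ∈ S, v x ψ with hw
  set t : ℝ := ∑ ψ : ι, Complex.normSq (w ψ) with ht
  have ht0 : 0 ≤ t := Finset.sum_nonneg (fun ψ _ => Complex.normSq_nonneg _)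
  -- the norm of `w`
  have hnorm : (t : ℂ) = ∑ x ∈ S, v x χ := by
    rw [ht]
    push_cast
    have h1 : ∀ ψ : ι, (Complex.normSq (w ψ) : ℂ) = w ψ * conj (w ψ) := fun ψ =>
      (Complex.mul_conj (w ψ)).symm
    rw [Finset.sum_congr rfl (fun ψ _ => h1 ψ)]
    have h2 : ∀ ψ : ι, w ψ * conj (w ψ) = ∑ x ∈ S, ∑ y ∈ S, v x ψ * conj (v y ψ) := by
      intro ψ
      rw [hw]
      simp only
      rw [map_sum, Finset.sum_mul_sum]
    rw [Finset.sum_congr rfl (fun ψ _ => h2 ψ), Finset.sum_comm]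
    apply Finset.sum_congr rfl
    intro x hx
    rw [Finset.sum_comm, ← hidem x hx]
    rw [Finset.sum_eq_single_of_mem x hx]
    intro y hy hyx
    exact horth x hx y hy (Ne.symm hyx)
  refine ⟨t, hnorm.symm, ht0, ?_⟩
  -- Cauchy-Schwarz with the coordinate vector
  have hle : Complex.normSq (w χ) ≤ t := by
    rw [ht]
    exact Finset.single_le_sum (f := fun ψ => Complex.normSq (w ψ))
      (fun ψ _ => Complex.normSq_nonneg _) (Finset.mem_univ χ)
  have hwχ : w χ = (t : ℂ) := by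
    rw [hnorm]
  rw [hwχ, Complex.normSq_ofReal] at hle
  nlinarith

end Cfsg.Agent.Lib.Helper16
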