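import Mathlib
import Cfsg.Agent.Lib.Helper16.CenterSubsec
import Cfsg.Agent.Lib.Helper16.SubsecOrth
import Cfsg.Agent.Lib.Helper16.SubsecBessel

/-!
# The contributions of the central major subsections add up to at most the inertial index

(helper16, for S4715.)  With the family `f` of `exists_center_family`:
`∑_{z ∈ Z(D)} m^{(z, f ⟨z⟩)}_{χχ} ≤ e = |T : D C_G(D)|` for every irreducible character `χ`.
-/

set_option autoImplicit false
set_option linter.unusedSectionVars false
set_option linter.style.haveILetI false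

namespace Cfsg.Agent.Lib.Helper16

open Cfsg Finset Cfsg.Agent.Lib.Helper78 Cfsg.Agent.Lib.Helper82
open scoped ComplexConjugate

universe u

section Orbit

variable {G : Type*} [Group G]

/-- The number of `T`-conjugates of an element centralized by `H` is at most `|T : H ∩ T|`. -/
theorem card_filter_conj_le_relIndex [Finite G] (H T : Subgroup G) (r : G)
    (hr : ∀ h ∈ H, h * r = r * h) (S : Finset G) [DecidablePred (fun z : G => ∃ t ∈ T, t * r * t⁻¹ = z)] :
    (S.filter (fun z : G => ∃ t ∈ T, t * r * t⁻¹ = z)).card ≤ H.relIndex T := by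
  classical
  have : Fintype (↥T ⧸ H.subgroupOf T) := Fintype.ofFinite _
  let F : ↥T ⧸ H.subgroupOf T → G := Quotient.lift (fun t : ↥T => (t : G) * r * (t : G)⁻¹) (by
    intro a b hab
    have h1 : a⁻¹ * b ∈ H.subgroupOf T := QuotientGroup.leftRel_apply.mp hab
    rw [Subgroup.mem_subgroupOf] at h1
    have h2 := hr _ h1
    have h3 : (b : G) = (a : G) * ((a⁻¹ * b : ↥T) : G) := by
      simp
    show (a : G) * r * (a : G)⁻¹ = (b : G) * r * (b : G)⁻¹
    rw [h3, mul_inv_rev, mul_assoc (a : G) _ r, h2]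
    group)
  have hsub : S.filter (fun z : G => ∃ t ∈ T, t * r * t⁻¹ = z) ⊆ Finset.image F Finset.univ := by
    intro z hz
    rw [Finset.mem_filter] at hz
    obtain ⟨t, ht, rfl⟩ := hz.2
    rw [Finset.mem_image]
    exact ⟨QuotientGroup.mk (⟨t, ht⟩ : ↥T), Finset.mem_univ _, rfl⟩
  calc (S.filter (fun z : G => ∃ t ∈ T, t * r * t⁻¹ = z)).card
      ≤ (Finset.image F Finset.univ).card := Finset.card_le_card hsub
    _ ≤ (Finset.univ : Finset (↥T ⧸ H.subgroupOf T)).card := Finset.card_image_le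
    _ = H.relIndex T := by
      rw [Finset.card_univ, ← Nat.card_eq_fintype_card]
      rfl

end Orbit

section Sum

variable {G : Type u} [Group G] [Fintype G] {M : Ideal AlgInt}

/-- Transport of a contribution along an equality of the subgroups `Q`. -/
theorem secM_centralizer_congr (p : ℕ)
    [inst : ∀ Q : Subgroup G, Fintype ↥(Subgroup.centralizer (Q : Set G))]
    (f : ∀ Q : Subgroup G, Set (IrrCharacter (Subgroup.centralizer (Q : Set G))))
    {Q Q' : Subgroup G} (h : Q = Q') (u : G) (χ ψ : G → ℂ) :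
    secM p u (Subgroup.centralizer (Q : Set G)) (f Q) χ ψ =
      secM p u (Subgroup.centralizer (Q' : Set G)) (f Q') χ ψ := by
  subst h
  rfl

open scoped Classical in
/-- **The central major subsections contribute at most the inertial index.** -/
theorem exists_center_family_sum_le {p : ℕ} [Fact p.Prime] (hM : IsPModular p M)
    [inst : ∀ Q : Subgroup G, Fintype ↥(Subgroup.centralizer (Q : Set G))]
    {B : Set (IrrCharacter G)} (hB : IsPBlock M B) {D : Subgroup G}
    (hBD : IsDefectGroup p M B D) {H : Subgroup G}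
    (hH : H = D ⊔ Subgroup.centralizer (D : Set G)) {b : Set (IrrCharacter H)}
    (hind : IsInducedBlock M H b B) {T : Subgroup G}
    (hT : ∀ g : G, g ∈ T ↔ (g ∈ Subgroup.normalizer (D : Set G) ∧ ∀ θ ∈ b,
      ∀ θ' : IrrCharacter H, (∀ h h' : H, (h' : G) = g * h * g⁻¹ →
        (θ' : H → ℂ) h' = (θ : H → ℂ) h) → θ' ∈ b))
    (e : ℕ) (he : H.relIndex T = e) :
    ∃ f : ∀ Q : Subgroup G, Set (IrrCharacter (Subgroup.centralizer (Q : Set G))),
      (∀ Q : Subgroup G, Q ≤ D → D ≤ Subgroup.centralizer (Q : Set G) →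
        IsInducedBlock M (Subgroup.centralizer (Q : Set G)) (f Q) B ∧
        blockDefect p (f Q) = blockDefect p B) ∧
      ∀ χ : IrrCharacter G, ∃ r : ℝ,
        ∑ z ∈ Finset.univ.filter (fun z : G => z ∈ D ∧ ∀ d ∈ D, d * z = z * d),
          secM p z (Subgroup.centralizer ((Subgroup.zpowers z : Subgroup G) : Set G))
            (f (Subgroup.zpowers z)) (χ : G → ℂ) (χ : G → ℂ) = (r : ℂ) ∧ r ≤ e := by
  obtain ⟨f, hA1, hA2⟩ := exists_center_family hM hB hBD hH hind hT
  refine ⟨f, hA1, ?_⟩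
  intro χ
  set ZD := Finset.univ.filter (fun z : G => z ∈ D ∧ ∀ d ∈ D, d * z = z * d) with hZD
  have hDp : IsPGroup p D := isPGroup_of_isDefectGroup hBD
  have hmemZD : ∀ z : G, z ∈ ZD ↔ z ∈ D ∧ ∀ d ∈ D, d * z = z * d := by
    intro z
    rw [hZD, Finset.mem_filter]
    simp
  have hQD : ∀ z ∈ ZD, Subgroup.zpowers z ≤ D := fun z hz =>
    (Subgroup.zpowers_le).mpr ((hmemZD z).mp hz).1
  have hDC : ∀ z ∈ ZD, D ≤ Subgroup.centralizer ((Subgroup.zpowers z : Subgroup G) : Set G) := by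
    intro z hz d hd
    rw [mem_centralizer_zpowers_iff]
    exact (((hmemZD z).mp hz).2 d hd).symm
  have hHz : ∀ z g : G, g ∈ Subgroup.centralizer ((Subgroup.zpowers z : Subgroup G) : Set G) ↔
      Commute z g := fun z g => mem_centralizer_zpowers_iff z g
  have huz : ∀ z ∈ ZD, ∃ k : ℕ, orderOf z = p ^ k := by
    intro z hz
    obtain ⟨k, hk⟩ := (IsPGroup.iff_orderOf.mp hDp) ⟨z, ((hmemZD z).mp hz).1⟩
    exact ⟨k, by rw [← hk, Subgroup.orderOf_mk]⟩
  have hblk : ∀ z ∈ ZD, IsPBlock M (f (Subgroup.zpowers z)) := fun z hz =>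
    (hA1 _ (hQD z hz) (hDC z hz)).1.1
  -- the rows of the contribution matrices
  set v : G → IrrCharacter G → ℂ := fun z ψ =>
    secM p z (Subgroup.centralizer ((Subgroup.zpowers z : Subgroup G) : Set G))
      (f (Subgroup.zpowers z)) (χ : G → ℂ) (ψ : G → ℂ) with hv
  have hidem : ∀ z ∈ ZD, ∑ ψ : IrrCharacter G, v z ψ * conj (v z ψ) = v z χ := fun z hz =>
    sum_secM_mul_conj hM z (huz z hz) _ (hHz z) (hblk z hz) (χ : G → ℂ)
  set mr : G → ℝ := fun z => ∑ ψ : IrrCharacter G, Complex.normSq (v z ψ) with hmrdef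
  have hmr0 : ∀ z : G, 0 ≤ mr z := fun z =>
    Finset.sum_nonneg (fun ψ _ => Complex.normSq_nonneg _)
  have hmr : ∀ z ∈ ZD, ((mr z : ℝ) : ℂ) = v z χ := by
    intro z hz
    rw [← hidem z hz, hmrdef]
    push_cast
    apply Finset.sum_congr rfl
    intro ψ _
    exact (Complex.mul_conj (v z ψ)).symm
  -- the relation of `T`-conjugacy
  set rel : G → G → Prop := fun z z' => ∃ t ∈ T, t * z * t⁻¹ = z' with hrel
  have rel_refl : ∀ z, rel z z := fun z => ⟨1, T.one_mem, by simp⟩
  have rel_symm : ∀ z z', rel z z' → rel z' z := by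
    rintro z z' ⟨t, ht, rfl⟩
    exact ⟨t⁻¹, T.inv_mem ht, by group⟩
  have rel_trans : ∀ z z' z'', rel z z' → rel z' z'' → rel z z'' := by
    rintro z z' z'' ⟨t, ht, rfl⟩ ⟨t', ht', rfl⟩
    exact ⟨t' * t, T.mul_mem ht' ht, by group⟩
  have horth : ∀ z ∈ ZD, ∀ z' ∈ ZD, ¬ rel z z' →
      ∑ ψ : IrrCharacter G, v z ψ * conj (v z' ψ) = 0 := by
    intro z hz z' hz' hnot
    apply sum_secM_mul_conj_eq_zero hM z z' (huz z hz) (huz z' hz') _ _ (hHz z) (hHz z')
      (hblk z hz) (hblk z' hz')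
    intro g hg hex
    apply hnot
    have hmap : (Subgroup.zpowers z).map (MulAut.conj g).toMonoidHom = Subgroup.zpowers z' := by
      rw [MonoidHom.map_zpowers]
      congr 1
    obtain ⟨t, ht, htx⟩ := hA2 (Subgroup.zpowers z) (Subgroup.zpowers z') (hQD z hz) (hDC z hz)
      (hQD z' hz') (hDC z' hz') g hmap hex
    exact ⟨t, ht, by rw [htx z (Subgroup.mem_zpowers z), hg]⟩
  -- orbits and representatives
  set O : G → Finset G := fun z => ZD.filter (fun z' => rel z z') with hO
  have hO_eq : ∀ z z', rel z z' → O z = O z' := by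
    intro z z' h
    rw [hO]
    apply Finset.filter_congr
    intro w _
    exact ⟨fun hw => rel_trans _ _ _ (rel_symm _ _ h) hw, fun hw => rel_trans _ _ _ h hw⟩
  have hex : ∀ S : Finset G, ∃ x : G, S.Nonempty → x ∈ S ∧ ∀ w ∈ S, mr w ≤ mr x := by
    intro S
    by_cases hS : S.Nonempty
    · obtain ⟨x, hx, hmax⟩ := S.exists_max_image mr hS
      exact ⟨x, fun _ => ⟨hx, hmax⟩⟩
    · exact ⟨1, fun h => absurd h hS⟩
  choose pick hpick using hex
  set rep : G → G := fun z => pick (O z) with hrep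
  have hOne : ∀ z ∈ ZD, (O z).Nonempty := fun z hz =>
    ⟨z, by rw [hO]; exact Finset.mem_filter.mpr ⟨hz, rel_refl z⟩⟩
  have hrepmem : ∀ z ∈ ZD, rep z ∈ ZD ∧ rel z (rep z) := by
    intro z hz
    have := (hpick (O z) (hOne z hz)).1
    rw [hO] at this
    exact Finset.mem_filter.mp this
  have hrepmax : ∀ z ∈ ZD, mr z ≤ mr (rep z) := by
    intro z hz
    apply (hpick (O z) (hOne z hz)).2
    rw [hO]
    exact Finset.mem_filter.mpr ⟨hz, rel_refl z⟩
  set S := ZD.image rep with hS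
  have hSZ : ∀ x ∈ S, x ∈ ZD := by
    intro x hx
    obtain ⟨z, hz, rfl⟩ := Finset.mem_image.mp hx
    exact (hrepmem z hz).1
  have hSrel : ∀ x ∈ S, ∀ y ∈ S, x ≠ y → ¬ rel x y := by
    intro x hx y hy hxy hr
    obtain ⟨z, hz, rfl⟩ := Finset.mem_image.mp hx
    obtain ⟨z', hz', rfl⟩ := Finset.mem_image.mp hy
    apply hxy
    have h1 : rel z z' := rel_trans _ _ _ (rel_trans _ _ _ (hrepmem z hz).2 hr)
      (rel_symm _ _ (hrepmem z' hz').2)
    show pick (O z) = pick (O z')
    rw [hO_eq z z' h1]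
  obtain ⟨ρ, hρ, _, hρ1⟩ := exists_real_sum_diag_le_one S v χ
    (fun x hx y hy hxy => horth x (hSZ x hx) y (hSZ y hy) (hSrel x hx y hy hxy))
    (fun x hx => hidem x (hSZ x hx))
  have hρ' : ∑ x ∈ S, mr x = ρ := by
    have h1 : ((∑ x ∈ S, mr x : ℝ) : ℂ) = (ρ : ℂ) := by
      rw [← hρ]
      push_cast
      exact Finset.sum_congr rfl (fun x hx => hmr x (hSZ x hx))
    exact_mod_cast h1
  -- the centralizer of `z ∈ Z(D)` contains `H`
  have hcent : ∀ r ∈ ZD, ∀ h ∈ H, h * r = r * h := by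
    intro r hr h hh
    have hle : H ≤ Subgroup.centralizer ((Subgroup.zpowers r : Subgroup G) : Set G) := by
      rw [hH]
      exact sup_le (hDC r hr) (Subgroup.centralizer_le (hQD r hr))
    exact (((hHz r h).mp (hle hh)).eq).symm
  -- the sum
  refine ⟨∑ z ∈ ZD, mr z, ?_, ?_⟩
  · push_cast
    exact Finset.sum_congr rfl (fun z hz => (hmr z hz).symm)
  · calc ∑ z ∈ ZD, mr z ≤ ∑ z ∈ ZD, mr (rep z) := Finset.sum_le_sum hrepmax
      _ = ∑ x ∈ S, (ZD.filter (fun z => rep z = x)).card • mr x := Finset.sum_comp mr rep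
      _ ≤ ∑ x ∈ S, (e : ℝ) * mr x := by
        apply Finset.sum_le_sum
        intro x hx
        rw [nsmul_eq_mul]
        apply mul_le_mul_of_nonneg_right _ (hmr0 x)
        have hsub : ZD.filter (fun z => rep z = x) ⊆
            ZD.filter (fun z : G => ∃ t ∈ T, t * x * t⁻¹ = z) := by
          intro z hz
          rw [Finset.mem_filter] at hz ⊢
          refine ⟨hz.1, ?_⟩
          have := rel_symm _ _ (hrepmem z hz.1).2
          rw [hz.2] at this
          exact this
        have hcard := card_filter_conj_le_relIndex H T x (hcent x (hSZ x hx)) ZD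
        rw [he] at hcard
        exact_mod_cast (Finset.card_le_card hsub).trans hcard
      _ = (e : ℝ) * ρ := by rw [← Finset.mul_sum, hρ']
      _ ≤ e := by
        have he0 : (0 : ℝ) ≤ e := Nat.cast_nonneg e
        nlinarith

end Sum

end Cfsg.Agent.Lib.Helper16
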