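import Mathlib
import Cfsg.Agent.Lib.Helper16.CenterSum
import Cfsg.Agent.Lib.Helper75.MajorSubCount

/-!
# Assembly of the upper and the lower bound for the central major subsections (helper16)

`card_mul_pow_le_of_bounds`: if `∑_{z ∈ Z(D)} m(z) ≤ e` and, for every `z ∈ Z(D)`,
`∑_{j prime to p} p^d m(z^j) ≥ φ(p^d) p^h`, then `|Z(D)| p^h ≤ e p^d`.
-/

set_option autoImplicit false
set_option linter.unusedSectionVars false
set_option linter.style.haveILetI false

namespace Cfsg.Agent.Lib.Helper16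

open Cfsg Finset Cfsg.Agent.Lib.Helper78 Cfsg.Agent.Lib.Helper82
open scoped ComplexConjugate

universe u

section PowMap

variable {G : Type*} [Group G] [Finite G]

/-- a power prime to the order generates the same cyclic group -/
theorem zpowers_pow_eq_of_coprime {z : G} {n j : ℕ} (hz : z ^ n = 1)
    (hj : j.Coprime n) : Subgroup.zpowers (z ^ j) = Subgroup.zpowers z := by
  have hdvd : orderOf z ∣ n := orderOf_dvd_of_pow_eq_one hz
  have hcop : (orderOf z).Coprime j := (Nat.Coprime.coprime_dvd_left hdvd hj.symm)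
  apply Subgroup.eq_of_le_of_card_ge
  · rw [Subgroup.zpowers_le]
    exact Subgroup.pow_mem _ (Subgroup.mem_zpowers z) j
  · rw [Nat.card_zpowers, Nat.card_zpowers, Nat.Coprime.orderOf_pow hcop]

/-- `z ↦ z^j` is injective on commuting elements of exponent `n` prime to `j` -/
theorem pow_injOn_of_coprime {n j : ℕ} (hj : j.Coprime n) {z w : G} (hz : z ^ n = 1)
    (hw : w ^ n = 1) (hc : Commute z w) (h : z ^ j = w ^ j) : z = w := by
  have h1 : (z * w⁻¹) ^ j = 1 := by
    rw [(hc.inv_right).mul_pow, inv_pow, h, mul_inv_cancel]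
  have h2 : (z * w⁻¹) ^ n = 1 := by
    rw [(hc.inv_right).mul_pow, inv_pow, hz, hw, inv_one, mul_one]
  have h3 : (z * w⁻¹) ^ (j.gcd n) = 1 := pow_gcd_eq_one.mpr ⟨h1, h2⟩
  rw [hj, pow_one] at h3
  exact mul_inv_eq_one.mp h3

end PowMap

section Assembly

variable {G : Type u} [Group G] [Fintype G]

open scoped Classical in
/-- **Assembly.**  The upper bound `∑_{z ∈ Z(D)} m(z) ≤ e` and the lower bounds
`∑_{j prime to p} p^d m(z^j) ≥ φ(p^d) p^h` give `|Z(D)| p^h ≤ e p^d`. -/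
theorem card_mul_pow_le_of_bounds (p : ℕ) (hp : p.Prime)
    [inst : ∀ Q : Subgroup G, Fintype ↥(Subgroup.centralizer (Q : Set G))]
    (f : ∀ Q : Subgroup G, Set (IrrCharacter (Subgroup.centralizer (Q : Set G))))
    (χ : G → ℂ) (D : Subgroup G) (d h e : ℕ) (hDd : Nat.card D = p ^ d)
    (hUB : ∃ r : ℝ,
      ∑ z ∈ Finset.univ.filter (fun z : G => z ∈ D ∧ ∀ d' ∈ D, d' * z = z * d'),
        secM p z (Subgroup.centralizer ((Subgroup.zpowers z : Subgroup G) : Set G))
          (f (Subgroup.zpowers z)) χ χ = (r : ℂ) ∧ r ≤ e)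
    (hLB : ∀ z : G, z ∈ D → (∀ d' ∈ D, d' * z = z * d') → ∃ r : ℝ,
      ∑ j ∈ (Finset.range (p ^ d)).filter (fun j => j.Coprime (p ^ d)),
        (p : ℂ) ^ d * secM p (z ^ j)
          (Subgroup.centralizer ((Subgroup.zpowers z : Subgroup G) : Set G))
          (f (Subgroup.zpowers z)) χ χ = (r : ℂ) ∧
      ((p ^ d).totient : ℝ) * (p : ℝ) ^ h ≤ r) :
    (Finset.univ.filter (fun z : G => z ∈ D ∧ ∀ d' ∈ D, d' * z = z * d')).card * p ^ h ≤
      e * p ^ d := by
  set ZD := Finset.univ.filter (fun z : G => z ∈ D ∧ ∀ d' ∈ D, d' * z = z * d') with hZD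
  set J := (Finset.range (p ^ d)).filter (fun j => j.Coprime (p ^ d)) with hJ
  have hmemZD : ∀ z : G, z ∈ ZD ↔ z ∈ D ∧ ∀ d' ∈ D, d' * z = z * d' := by
    intro z
    rw [hZD, Finset.mem_filter]
    simp
  have hJcard : J.card = (p ^ d).totient := Cfsg.Agent.Lib.Helper75.card_filter_coprime_range _
  have hφpos : 0 < (p ^ d).totient := Nat.totient_pos.mpr (pow_pos hp.pos d)
  obtain ⟨r, hr, hre⟩ := hUB
  -- exponent
  have hpow : ∀ z ∈ ZD, z ^ (p ^ d) = 1 := by
    intro z hz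
    have h1 : (⟨z, ((hmemZD z).mp hz).1⟩ : D) ^ Nat.card D = 1 := pow_card_eq_one'
    rw [hDd] at h1
    have := congrArg (fun x : D => (x : G)) h1
    simpa using this
  set m : G → ℂ := fun w =>
    secM p w (Subgroup.centralizer ((Subgroup.zpowers w : Subgroup G) : Set G))
      (f (Subgroup.zpowers w)) χ χ with hm
  -- step 1: the power maps permute `Z(D)`
  have hstep1 : ∀ j ∈ J, ∑ z ∈ ZD, secM p (z ^ j)
      (Subgroup.centralizer ((Subgroup.zpowers z : Subgroup G) : Set G))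
      (f (Subgroup.zpowers z)) χ χ = (r : ℂ) := by
    intro j hj
    have hjc : j.Coprime (p ^ d) := (Finset.mem_filter.mp hj).2
    have h1 : ∀ z ∈ ZD, secM p (z ^ j)
        (Subgroup.centralizer ((Subgroup.zpowers z : Subgroup G) : Set G))
        (f (Subgroup.zpowers z)) χ χ = m (z ^ j) := by
      intro z hz
      rw [hm]
      exact (secM_centralizer_congr p f (zpowers_pow_eq_of_coprime (hpow z hz) hjc) (z ^ j)
        χ χ).symm
    rw [Finset.sum_congr rfl h1, ← hr]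
    have hinj : Set.InjOn (fun z : G => z ^ j) (ZD : Set G) := by
      intro z hz w hw hzw
      have hz' := (hmemZD z).mp (Finset.mem_coe.mp hz)
      have hw' := (hmemZD w).mp (Finset.mem_coe.mp hw)
      exact pow_injOn_of_coprime hjc (hpow z (Finset.mem_coe.mp hz)) (hpow w (Finset.mem_coe.mp hw))
        (hw'.2 z hz'.1) hzw
    have himg : ZD.image (fun z : G => z ^ j) = ZD := by
      apply Finset.eq_of_subset_of_card_le
      · intro w hw
        obtain ⟨z, hz, rfl⟩ := Finset.mem_image.mp hw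
        have hz' := (hmemZD z).mp hz
        rw [hmemZD]
        refine ⟨D.pow_mem hz'.1 j, ?_⟩
        intro d' hd'
        exact ((Commute.pow_right (hz'.2 d' hd') j)).eq
      · rw [Finset.card_image_of_injOn hinj]
    rw [← Finset.sum_image (f := m) hinj, himg]
  -- step 2: the lower bounds
  have hLB' : ∀ z ∈ ZD, ∃ ρ : ℝ,
      ∑ j ∈ J, (p : ℂ) ^ d * secM p (z ^ j)
        (Subgroup.centralizer ((Subgroup.zpowers z : Subgroup G) : Set G))
        (f (Subgroup.zpowers z)) χ χ = (ρ : ℂ) ∧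
      ((p ^ d).totient : ℝ) * (p : ℝ) ^ h ≤ ρ := fun z hz =>
    hLB z ((hmemZD z).mp hz).1 ((hmemZD z).mp hz).2
  have hex : ∀ z : G, ∃ ρ : ℝ, z ∈ ZD →
      ∑ j ∈ J, (p : ℂ) ^ d * secM p (z ^ j)
        (Subgroup.centralizer ((Subgroup.zpowers z : Subgroup G) : Set G))
        (f (Subgroup.zpowers z)) χ χ = (ρ : ℂ) ∧
      ((p ^ d).totient : ℝ) * (p : ℝ) ^ h ≤ ρ := by
    intro z
    by_cases hz : z ∈ ZD
    · obtain ⟨ρ, hρ⟩ := hLB' z hz
      exact ⟨ρ, fun _ => hρ⟩
    · exact ⟨0, fun h => absurd h hz⟩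
  choose ρ hρ using hex
  have hsum : ((∑ z ∈ ZD, ρ z : ℝ) : ℂ) = ((J.card : ℝ) * (p : ℝ) ^ d * r : ℝ) := by
    push_cast
    rw [Finset.sum_congr rfl (fun z hz => ((hρ z hz).1).symm), Finset.sum_comm]
    have h2 : ∀ j ∈ J, ∑ z ∈ ZD, (p : ℂ) ^ d * secM p (z ^ j)
        (Subgroup.centralizer ((Subgroup.zpowers z : Subgroup G) : Set G))
        (f (Subgroup.zpowers z)) χ χ = (p : ℂ) ^ d * (r : ℂ) := by
      intro j hj
      rw [← Finset.mul_sum, hstep1 j hj]
    rw [Finset.sum_congr rfl h2, Finset.sum_const, nsmul_eq_mul]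
    ring
  have hsum' : ∑ z ∈ ZD, ρ z = (J.card : ℝ) * (p : ℝ) ^ d * r := by exact_mod_cast hsum
  have hlow : (ZD.card : ℝ) * (((p ^ d).totient : ℝ) * (p : ℝ) ^ h) ≤ ∑ z ∈ ZD, ρ z := by
    rw [← nsmul_eq_mul, ← Finset.sum_const]
    exact Finset.sum_le_sum (fun z hz => (hρ z hz).2)
  rw [hsum', hJcard] at hlow
  have hφ : (0 : ℝ) < ((p ^ d).totient : ℝ) := by exact_mod_cast hφpos
  have hpd : (0 : ℝ) ≤ (p : ℝ) ^ d := by positivity
  have hfinal : (ZD.card : ℝ) * (p : ℝ) ^ h ≤ (e : ℝ) * (p : ℝ) ^ d := by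
    have h1 : ((p ^ d).totient : ℝ) * ((ZD.card : ℝ) * (p : ℝ) ^ h) ≤
        ((p ^ d).totient : ℝ) * ((e : ℝ) * (p : ℝ) ^ d) := by
      calc ((p ^ d).totient : ℝ) * ((ZD.card : ℝ) * (p : ℝ) ^ h)
          = (ZD.card : ℝ) * (((p ^ d).totient : ℝ) * (p : ℝ) ^ h) := by ring
        _ ≤ ((p ^ d).totient : ℝ) * (p : ℝ) ^ d * r := hlow
        _ ≤ ((p ^ d).totient : ℝ) * (p : ℝ) ^ d * e := by
            apply mul_le_mul_of_nonneg_left hre
            positivity
        _ = ((p ^ d).totient : ℝ) * ((e : ℝ) * (p : ℝ) ^ d) := by ring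
    exact le_of_mul_le_mul_left h1 hφ
  exact_mod_cast hfinal

end Assembly

end Cfsg.Agent.Lib.Helper16
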