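import Mathlib
import Cfsg.Agent.Lib.Helper75.MajorSubCount
import Cfsg.Agent.Lib.Helper82.CycloNorm

/-!
# Number theoretic tools for the dual bound `k(B) - l(b) ≤ 3 ⇒ k(B) ≤ 2^d`

Shared library by helper16 (for S4575).  For `2`-power roots of unity the sum over the Galois
conjugates of an integral combination of roots of unity is `φ(2^k)` times an explicit integer
(`sum_units_two_pow`), which for a symmetric family has the parity of the plain sum of the
coefficients (`formA_trace_two`).  The product over the Galois conjugates is an integer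
(`exists_int_prod_sub`), and a strict form of the inequality of the arithmetic and geometric means
is recorded (`card_lt_sum_of_one_lt_prod`).
-/

set_option autoImplicit false

namespace Cfsg.Agent.Lib.Helper16

open scoped ComplexConjugate
open Cfsg.Agent.Lib.Helper75 Cfsg.Agent.Lib.Helper82

/-- the integer weight of a `2`-power root of unity in the trace to `ℚ` -/
noncomputable def eps2 (ω : ℂ) : ℤ := by
  classical
  exact (if ω = 1 then 2 else 0) - (if ω ^ 2 = 1 then 1 else 0)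

/-- the set of units modulo `2^k` -/
def unitsTwo (k : ℕ) : Finset ℕ := (Finset.range (2 ^ k)).filter (fun j => j.Coprime (2 ^ k))

theorem card_unitsTwo (k : ℕ) : (unitsTwo k).card = (2 ^ k).totient :=
  card_filter_coprime_range _

theorem totient_two_pow_pos (k : ℕ) : 0 < (2 ^ k).totient :=
  Nat.totient_pos.mpr (pow_pos (by norm_num) k)

/-- the sum of the powers `ω^j`, `j` a unit modulo `2^k`, of a `2^k`-th root of unity -/
theorem sum_units_two_pow (k : ℕ) (ω : ℂ) (hω : ω ^ (2 ^ k) = 1) :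
    ∑ j ∈ unitsTwo k, ω ^ j = (((2 ^ k).totient : ℤ) : ℂ) * (eps2 ω : ℂ) := by
  classical
  unfold unitsTwo eps2
  rcases Nat.eq_zero_or_pos k with hk | hk
  · subst hk
    have hω1 : ω = 1 := by simpa using hω
    have hJ : (Finset.range (2 ^ 0)).filter (fun j => j.Coprime (2 ^ 0)) = {0} := by
      ext j
      simp
    rw [hJ, Finset.sum_singleton, hω1]
    simp
  · obtain ⟨k, rfl⟩ : ∃ k', k = k' + 1 := ⟨k - 1, by omega⟩
    rw [sum_coprime_pow_eq 2 k Nat.prime_two ω hω, Nat.totient_prime_pow_succ Nat.prime_two]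
    by_cases h1 : ω = 1
    · have h2 : ω ^ 2 = 1 := by rw [h1, one_pow]
      rw [if_pos h1, if_pos h2, if_pos h1, if_pos h2]
      push_cast
      ring
    · by_cases h2 : ω ^ 2 = 1
      · rw [if_neg h1, if_pos h2, if_neg h1, if_pos h2]
        push_cast
        ring
      · rw [if_neg h1, if_neg h2, if_neg h1, if_neg h2]
        push_cast
        ring

theorem eps2_conj (ω : ℂ) : eps2 (conj ω) = eps2 ω := by
  classical
  unfold eps2
  have h1 : conj ω = 1 ↔ ω = 1 := by
    constructor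
    · intro h
      have := congrArg conj h
      rwa [Complex.conj_conj, map_one] at this
    · intro h
      rw [h, map_one]
  have h2 : conj ω ^ 2 = 1 ↔ ω ^ 2 = 1 := by
    rw [← map_pow]
    constructor
    · intro h
      have := congrArg conj h
      rwa [Complex.conj_conj, map_one] at this
    · intro h
      rw [h, map_one]
  simp only [h1, h2]

theorem eps2_one : eps2 1 = 1 := by
  classical
  unfold eps2
  simp


section Trace

variable {Ξ X : Type*}

theorem mul_conj_pow_two_pow_eq_one {k : ℕ} {a b : ℂ} (ha : a ^ (2 ^ k) = 1)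
    (hb : b ^ (2 ^ k) = 1) : (a * conj b) ^ (2 ^ k) = 1 := by
  rw [mul_pow, ← map_pow, ha, hb, map_one, mul_one]

theorem mul_conj_self_of_pow_eq_one {k : ℕ} {a : ℂ} (ha : a ^ (2 ^ k) = 1) :
    a * conj a = 1 := by
  have h1 : ‖a‖ = 1 :=
    Complex.norm_eq_one_of_pow_eq_one ha (pow_pos (by norm_num) k).ne'
  rw [Complex.mul_conj, Complex.normSq_eq_norm_sq, h1]
  simp

/-- the trace of a diagonal entry of the contribution matrix of a `2`-element: it is
`φ(2^k)` times an integer with the parity of the integral form -/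
theorem formA_trace_two (k : ℕ) (s : Finset Ξ) (Q : Ξ → Ξ → ℤ)
    (hsym : ∀ ξ ξ', Q ξ ξ' = Q ξ' ξ) (ρ : Ξ → ℂ) (hρ : ∀ ξ ∈ s, ρ ξ ^ (2 ^ k) = 1)
    (n : X → Ξ → ℤ) (χ : X) :
    ∃ c : ℤ, ∑ j ∈ unitsTwo k, formA s Q ρ n χ χ j =
        (((2 ^ k).totient : ℤ) : ℂ) * (c : ℂ) ∧
      (2 : ℤ) ∣ c - ∑ ξ ∈ s, ∑ ξ' ∈ s, n χ ξ * Q ξ ξ' * n χ ξ' := by
  classical
  refine ⟨∑ ξ ∈ s, ∑ ξ' ∈ s, (n χ ξ * Q ξ ξ' * n χ ξ') * eps2 (ρ ξ * conj (ρ ξ')), ?_, ?_⟩
  · simp_rw [formA_eq_sum]
    rw [Finset.sum_comm]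
    push_cast
    rw [Finset.mul_sum]
    apply Finset.sum_congr rfl
    intro ξ hξ
    rw [Finset.sum_comm, Finset.mul_sum]
    apply Finset.sum_congr rfl
    intro ξ' hξ'
    have h1 : ∀ j : ℕ, ρ ξ ^ j * conj (ρ ξ' ^ j) = (ρ ξ * conj (ρ ξ')) ^ j := by
      intro j
      rw [mul_pow, map_pow]
    simp_rw [h1]
    rw [← Finset.mul_sum,
      sum_units_two_pow k _ (mul_conj_pow_two_pow_eq_one (hρ ξ hξ) (hρ ξ' hξ'))]
    push_cast
    ring
  · have hdvd : ∀ z : ℤ, ((z : ℤ) : ZMod 2) = 0 → (2 : ℤ) ∣ z := fun z hz =>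
      (ZMod.intCast_zmod_eq_zero_iff_dvd z 2).mp hz
    apply hdvd
    set F : Ξ × Ξ → ZMod 2 := fun a =>
      ((n χ a.1 * Q a.1 a.2 * n χ a.2 : ℤ) : ZMod 2) *
        (((eps2 (ρ a.1 * conj (ρ a.2)) : ℤ) : ZMod 2) - 1) with hF
    have hsum : ((∑ ξ ∈ s, ∑ ξ' ∈ s, (n χ ξ * Q ξ ξ' * n χ ξ') * eps2 (ρ ξ * conj (ρ ξ')) -
        ∑ ξ ∈ s, ∑ ξ' ∈ s, n χ ξ * Q ξ ξ' * n χ ξ' : ℤ) : ZMod 2) = ∑ a ∈ s ×ˢ s, F a := by
      rw [Finset.sum_product, ← Finset.sum_sub_distrib]
      push_cast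
      apply Finset.sum_congr rfl
      intro ξ _
      rw [← Finset.sum_sub_distrib]
      apply Finset.sum_congr rfl
      intro ξ' _
      rw [hF]
      simp only
      push_cast
      ring
    rw [hsum]
    apply Finset.sum_involution (fun a _ => Prod.swap a)
    · intro a _
      have h2 : F a.swap = F a := by
        rw [hF]
        simp only [Prod.fst_swap, Prod.snd_swap]
        have e1 : ρ a.2 * conj (ρ a.1) = conj (ρ a.1 * conj (ρ a.2)) := by
          rw [map_mul, Complex.conj_conj, mul_comm]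
        rw [e1, eps2_conj, hsym a.2 a.1]
        congr 2
        ring
      rw [h2]
      exact CharTwo.add_self_eq_zero _
    · intro a ha hne hswap
      apply hne
      have h12 : a.1 = a.2 := by
        have := congrArg Prod.fst hswap
        simpa using this.symm
      rw [Finset.mem_product] at ha
      rw [hF]
      simp only
      rw [← h12, mul_conj_self_of_pow_eq_one (hρ a.1 ha.1), eps2_one]
      simp
    · intro a ha
      rw [Finset.mem_product] at ha ⊢
      exact ⟨ha.2, ha.1⟩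
    · intro a _
      exact Prod.swap_swap a

end Trace


section Prod

open Polynomial

/-- the product over the units `j` modulo `n` of `∑ c i * μ i ^ j` (`μ i` an `n`-th root of unity)
is an integer -/
theorem exists_int_prod_units (n : ℕ) (hn : 0 < n) {ι : Type*} (s : Finset ι) (c : ι → ℤ)
    (μ : ι → ℂ) (hμ : ∀ i ∈ s, μ i ^ n = 1) :
    ∃ z : ℤ, ∏ j ∈ (Finset.range n).filter (fun j => j.Coprime n),
      (∑ i ∈ s, (c i : ℂ) * μ i ^ j) = (z : ℂ) := by
  classical
  have : NeZero n := ⟨hn.ne'⟩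
  obtain ⟨ζ, hζ⟩ : ∃ ζ : ℂ, IsPrimitiveRoot ζ n := ⟨_, Complex.isPrimitiveRoot_exp n hn.ne'⟩
  have hexp : ∀ i : ι, ∃ e : ℕ, i ∈ s → ζ ^ e = μ i := by
    intro i
    by_cases hi : i ∈ s
    · obtain ⟨e, -, he⟩ := hζ.eq_pow_of_pow_eq_one (hμ i hi)
      exact ⟨e, fun _ => he⟩
    · exact ⟨0, fun h => absurd h hi⟩
  choose e he using hexp
  set P : ℤ[X] := ∑ i ∈ s, C (c i) * X ^ e i with hP
  have heval : ∀ ω : ℂ, (P.map (Int.castRingHom ℂ)).eval ω = ∑ i ∈ s, (c i : ℂ) * ω ^ e i := by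
    intro ω
    rw [hP, Polynomial.map_sum, eval_finsetSum]
    apply Finset.sum_congr rfl
    intro i _
    simp
  have hAj : ∀ j : ℕ, ∑ i ∈ s, (c i : ℂ) * μ i ^ j =
      (P.map (Int.castRingHom ℂ)).eval (ζ ^ j) := by
    intro j
    rw [heval]
    apply Finset.sum_congr rfl
    intro i hi
    rw [← he i hi, ← pow_mul, ← pow_mul, mul_comm (e i) j]
  obtain ⟨z, hz⟩ := exists_int_prod_primitiveRoots_eval n hn P
  refine ⟨z, ?_⟩
  rw [← hz]
  refine Finset.prod_bij (fun j _ => ζ ^ j) ?_ ?_ ?_ ?_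
  · intro j hj
    simp only [Finset.mem_filter, Finset.mem_range] at hj
    rw [mem_primitiveRoots hn]
    exact hζ.pow_of_coprime j hj.2
  · intro i hi j hj H
    simp only [Finset.mem_filter, Finset.mem_range] at hi hj
    exact hζ.pow_inj hi.1 hj.1 H
  · intro ω hω
    rw [mem_primitiveRoots hn, hζ.isPrimitiveRoot_iff] at hω
    obtain ⟨i, hin, hi, H⟩ := hω
    exact ⟨i, by simp only [Finset.mem_filter, Finset.mem_range]; exact ⟨hin, hi⟩, H⟩
  · intro j _
    exact hAj j

variable {Ξ X : Type*}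

/-- the product over the Galois conjugates of `c₀ - a_{χχ}` is an integer -/
theorem exists_int_prod_sub_formA (k : ℕ) (s : Finset Ξ) (Q : Ξ → Ξ → ℤ) (ρ : Ξ → ℂ)
    (hρ : ∀ ξ ∈ s, ρ ξ ^ (2 ^ k) = 1) (n : X → Ξ → ℤ) (χ : X) (c₀ : ℤ) :
    ∃ N : ℤ, ∏ j ∈ unitsTwo k, ((c₀ : ℂ) - formA s Q ρ n χ χ j) = (N : ℂ) := by
  classical
  set c : Option (Ξ × Ξ) → ℤ := fun o =>
    match o with
    | none => c₀
    | some a => -(n χ a.1 * Q a.1 a.2 * n χ a.2) with hc
  set μ : Option (Ξ × Ξ) → ℂ := fun o =>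
    match o with
    | none => 1
    | some a => ρ a.1 * conj (ρ a.2) with hμdef
  have hμ : ∀ i ∈ Finset.insertNone (s ×ˢ s), μ i ^ (2 ^ k) = 1 := by
    intro i hi
    cases i with
    | none => simp [hμdef]
    | some a =>
      rw [Finset.some_mem_insertNone, Finset.mem_product] at hi
      simp only [hμdef]
      exact mul_conj_pow_two_pow_eq_one (hρ _ hi.1) (hρ _ hi.2)
  obtain ⟨z, hz⟩ := exists_int_prod_units (2 ^ k) (pow_pos (by norm_num) k)
    (Finset.insertNone (s ×ˢ s)) c μ hμ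
  refine ⟨z, ?_⟩
  rw [← hz]
  unfold unitsTwo
  apply Finset.prod_congr rfl
  intro j _
  rw [Finset.sum_insertNone, formA_eq_sum, Finset.sum_product]
  simp only [hc, hμdef, one_pow, mul_one]
  rw [sub_eq_add_neg, ← Finset.sum_neg_distrib]
  congr 1
  apply Finset.sum_congr rfl
  intro ξ _
  rw [← Finset.sum_neg_distrib]
  apply Finset.sum_congr rfl
  intro ξ' _
  rw [mul_pow, map_pow]
  push_cast
  ring

end Prod

section AMGM

/-- strict arithmetic–geometric mean: positive reals with product greater than one have sum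
greater than their number -/
theorem card_lt_sum_of_one_lt_prod {ι : Type*} (s : Finset ι) (x : ι → ℝ)
    (hpos : ∀ i ∈ s, 0 < x i) (hprod : 1 < ∏ i ∈ s, x i) :
    (s.card : ℝ) < ∑ i ∈ s, x i := by
  have h1 : ∀ i ∈ s, Real.log (x i) ≤ x i - 1 := fun i hi =>
    Real.log_le_sub_one_of_pos (hpos i hi)
  have h2 : Real.log (∏ i ∈ s, x i) = ∑ i ∈ s, Real.log (x i) :=
    Real.log_prod (fun i hi => (hpos i hi).ne')
  have h3 : 0 < Real.log (∏ i ∈ s, x i) := Real.log_pos hprod
  have h4 : ∑ i ∈ s, Real.log (x i) ≤ ∑ i ∈ s, (x i - 1) := Finset.sum_le_sum h1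
  rw [Finset.sum_sub_distrib, Finset.sum_const, nsmul_eq_mul, mul_one] at h4
  linarith

end AMGM

end Cfsg.Agent.Lib.Helper16
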