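import Mathlib
import Cfsg.Agent.Lib.Helper16.DualSubNT

/-!
# The counting argument for `k(B) - l(b) ≤ 3 ⇒ k(B) ≤ 2^d`

Shared library by helper16 (for S4575): the abstract (group free) form of the argument.  The
contribution matrices `A(j) = N_j Q N_jᴴ` of a major subsection of a `2`-block satisfy
`A(j)² = 2^d A(j)`, and the argument is applied to the complementary projections `2^d - A(j)`,
whose traces are at most `3 · 2^d`.
-/

set_option autoImplicit false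

namespace Cfsg.Agent.Lib.Helper16

open scoped ComplexConjugate
open Cfsg.Agent.Lib.Helper75 Cfsg.Agent.Lib.Helper82

section Count

variable {Ξ X T : Type*}

theorem formA_conj (s : Finset Ξ) (Q : Ξ → Ξ → ℤ) (hsym : ∀ ξ ξ', Q ξ ξ' = Q ξ' ξ) (ρ : Ξ → ℂ)
    (n : X → Ξ → ℤ) (χ ψ : X) (j : ℕ) :
    conj (formA s Q ρ n χ ψ j) = formA s Q ρ n ψ χ j := by
  rw [formA_eq_sum, formA_eq_sum, map_sum, Finset.sum_comm]
  apply Finset.sum_congr rfl
  intro ξ' _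
  rw [map_sum]
  apply Finset.sum_congr rfl
  intro ξ _
  rw [map_mul, map_mul, Complex.conj_conj, map_intCast, hsym ξ ξ']
  push_cast
  ring

theorem formA_mod (k : ℕ) (s : Finset Ξ) (Q : Ξ → Ξ → ℤ) (ρ : Ξ → ℂ)
    (hρ : ∀ ξ ∈ s, ρ ξ ^ (2 ^ k) = 1) (n : X → Ξ → ℤ) (χ ψ : X) (j : ℕ) :
    formA s Q ρ n χ ψ j = formA s Q ρ n χ ψ (j % 2 ^ k) := by
  rw [formA_eq_sum, formA_eq_sum]
  apply Finset.sum_congr rfl
  intro ξ hξ
  apply Finset.sum_congr rfl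
  intro ξ' hξ'
  rw [pow_eq_pow_mod j (hρ ξ hξ), pow_eq_pow_mod j (hρ ξ' hξ')]

theorem mod_mem_unitsTwo (k : ℕ) {j : ℕ} (hj : j.Coprime (2 ^ k)) : j % 2 ^ k ∈ unitsTwo k := by
  unfold unitsTwo
  rw [Finset.mem_filter, Finset.mem_range]
  refine ⟨Nat.mod_lt _ (pow_pos (by norm_num) k), ?_⟩
  rw [Nat.Coprime, ← Nat.gcd_rec, Nat.gcd_comm]
  exact hj

/-- the sum of `|a_{χψ}(j)|²` over the Galois conjugates is at least `φ` -/
theorem totient_le_sum_normSq_formA (k : ℕ) (s : Finset Ξ) (Q : Ξ → Ξ → ℤ) (ρ : Ξ → ℂ)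
    (hρ : ∀ ξ ∈ s, ρ ξ ^ (2 ^ k) = 1) (n : X → Ξ → ℤ) (χ ψ : X)
    (hne : ∀ j ∈ unitsTwo k, formA s Q ρ n χ ψ j ≠ 0) :
    ((2 ^ k).totient : ℝ) ≤ ∑ j ∈ unitsTwo k, Complex.normSq (formA s Q ρ n χ ψ j) := by
  classical
  have hrep : ∀ j : ℕ, formA s Q ρ n χ ψ j =
      ∑ a ∈ s ×ˢ s, ((n χ a.1 * Q a.1 a.2 * n ψ a.2 : ℤ) : ℂ) * (ρ a.1 * conj (ρ a.2)) ^ j := by
    intro j
    rw [formA_eq_sum, Finset.sum_product]
    apply Finset.sum_congr rfl
    intro ξ _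
    apply Finset.sum_congr rfl
    intro ξ' _
    rw [mul_pow, map_pow]
  have h := totient_le_sum_normSq (2 ^ k) (pow_pos (by norm_num) k) (s ×ˢ s)
    (fun a => n χ a.1 * Q a.1 a.2 * n ψ a.2) (fun a => ρ a.1 * conj (ρ a.2))
    (by
      intro a ha
      rw [Finset.mem_product] at ha
      exact mul_conj_pow_two_pow_eq_one (hρ _ ha.1) (hρ _ ha.2))
    (by
      intro j hj
      rw [← hrep j, formA_mod k s Q ρ hρ n χ ψ j]
      exact hne _ (mod_mem_unitsTwo k hj))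
  unfold unitsTwo
  refine h.trans (le_of_eq ?_)
  apply Finset.sum_congr rfl
  intro j _
  rw [hrep j]


/-- **the abstract counting theorem** behind `k(B) ≤ 2^d` for `k(B) - l(b) ≤ 3` -/
theorem card_le_of_major_dual_abstract (k d : ℕ) (s : Finset Ξ) (pts : Finset T)
    (g : Ξ → T → ℂ) (w : ℝ) (hw : 0 < w) (Q : Ξ → Ξ → ℤ) (hsym : ∀ ξ ξ', Q ξ ξ' = Q ξ' ξ)
    (hgram : IsGram s pts g w Q)
    (ρ : Ξ → ℂ) (hρ : ∀ ξ ∈ s, ρ ξ ^ (2 ^ k) = 1)
    (t t0 : Finset X) (ht0 : t0 ⊆ t) (ht0ne : t0.Nonempty) (n : X → Ξ → ℤ)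
    (L : ℕ) (hL : t.card * 2 ^ d ≤ L + 3 * 2 ^ d)
    (htrace : ∀ j ∈ unitsTwo k, ∑ χ ∈ t, formA s Q ρ n χ χ j = (L : ℂ))
    (hne : ∀ χ ∈ t, ∀ ψ ∈ t0, ∀ j ∈ unitsTwo k, formA s Q ρ n χ ψ j ≠ 0)
    (hidem : ∀ ψ ∈ t, ∀ j ∈ unitsTwo k,
      ∑ χ ∈ t, formA s Q ρ n χ ψ j * conj (formA s Q ρ n χ ψ j) =
        (2 : ℂ) ^ d * formA s Q ρ n ψ ψ j)
    (hunit : ∀ ψ ∈ t0, ¬ (2 : ℤ) ∣ ∑ ξ ∈ s, ∑ ξ' ∈ s, n ψ ξ * Q ξ ξ' * n ψ ξ')
    (hprod : 2 ≤ d → ∀ χ ∈ t, χ ∉ t0 → ∃ N : ℤ,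
      ∏ j ∈ unitsTwo k, ((2 : ℂ) ^ d - formA s Q ρ n χ χ j) = (N : ℂ) ∧
        (2 : ℤ) ^ ((2 ^ k).totient + 1) ∣ N) :
    t.card ≤ 2 ^ d := by
  classical
  set J := unitsTwo k with hJ
  set φ := (2 ^ k).totient with hφdef
  have hJcard : J.card = φ := card_unitsTwo k
  have hφ : 0 < φ := totient_two_pow_pos k
  have hφR : (0 : ℝ) < (φ : ℝ) := by exact_mod_cast hφ
  have hJne : J.Nonempty := Finset.card_pos.mp (by rw [hJcard]; exact hφ)
  obtain ⟨ψ₀, hψ₀⟩ := ht0ne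
  -- the real diagonal entries
  have hdiag : ∀ (χ : X) (j : ℕ), ∃ r : ℝ, 0 ≤ r ∧ formA s Q ρ n χ χ j = (r : ℂ) :=
    fun χ j => sesq_self_nonneg hgram hw.le _
  choose R hR0 hR using hdiag
  have hdne : ∀ χ ∈ t, ∀ j ∈ J, formA s Q ρ n χ χ j ≠ 0 := by
    intro χ hχ j hj h0
    exact hne χ hχ ψ₀ hψ₀ j hj (sesq_eq_zero_left hgram hw h0 _)
  have hRpos : ∀ χ ∈ t, ∀ j ∈ J, 0 < R χ j := by
    intro χ hχ j hj
    rcases (hR0 χ j).lt_or_eq with h | h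
    · exact h
    · exfalso
      apply hdne χ hχ j hj
      rw [hR, ← h, Complex.ofReal_zero]
  -- the key identity: the off-diagonal part of a column
  have hkey : ∀ ψ ∈ t, ∀ j ∈ J,
      ∑ χ ∈ t.erase ψ, Complex.normSq (formA s Q ρ n χ ψ j) =
        R ψ j * ((2 : ℝ) ^ d - R ψ j) := by
    intro ψ hψ j hj
    have h1 := hidem ψ hψ j hj
    have h2 : ((∑ χ ∈ t, Complex.normSq (formA s Q ρ n χ ψ j) : ℝ) : ℂ) =
        (((2 : ℝ) ^ d * R ψ j : ℝ) : ℂ) := by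
      push_cast
      rw [← hR, ← h1]
      apply Finset.sum_congr rfl
      intro χ _
      rw [Complex.mul_conj]
    have h3 : ∑ χ ∈ t, Complex.normSq (formA s Q ρ n χ ψ j) = (2 : ℝ) ^ d * R ψ j := by
      exact_mod_cast h2
    rw [← Finset.add_sum_erase t _ hψ, hR ψ j, Complex.normSq_ofReal] at h3
    have h4 : ∑ χ ∈ t.erase ψ, Complex.normSq (formA s Q ρ n χ ψ j) =
        (2 : ℝ) ^ d * R ψ j - R ψ j * R ψ j := by linarith
    rw [h4]
    ring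
  have hRle : ∀ χ ∈ t, ∀ j ∈ J, R χ j ≤ (2 : ℝ) ^ d := by
    intro χ hχ j hj
    have h1 := hkey χ hχ j hj
    have h2 : 0 ≤ ∑ χ' ∈ t.erase χ, Complex.normSq (formA s Q ρ n χ' χ j) :=
      Finset.sum_nonneg (fun _ _ => Complex.normSq_nonneg _)
    rw [h1] at h2
    have h3 := hRpos χ hχ j hj
    by_contra hcon
    push Not at hcon
    nlinarith
  have hRlt : ∀ χ ∈ t, χ ∉ t0 → ∀ j ∈ J, R χ j < (2 : ℝ) ^ d := by
    intro χ hχ hχ0 j hj
    have h1 := hkey χ hχ j hj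
    have hψχ : ψ₀ ∈ t.erase χ :=
      Finset.mem_erase.mpr ⟨fun h => hχ0 (h ▸ hψ₀), ht0 hψ₀⟩
    have h2 : 0 < ∑ χ' ∈ t.erase χ, Complex.normSq (formA s Q ρ n χ' χ j) := by
      refine lt_of_lt_of_le ?_
        (Finset.single_le_sum (f := fun χ' => Complex.normSq (formA s Q ρ n χ' χ j))
          (fun _ _ => Complex.normSq_nonneg _) hψχ)
      apply Complex.normSq_pos.mpr
      rw [← formA_conj s Q hsym ρ n χ ψ₀ j]
      exact (map_ne_zero _).mpr (hne χ hχ ψ₀ hψ₀ j hj)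
    rw [h1] at h2
    have h3 := hRpos χ hχ j hj
    by_contra hcon
    push Not at hcon
    nlinarith
  -- the traces
  have htr := fun χ => formA_trace_two k s Q hsym ρ hρ n χ
  choose c hc hcpar using htr
  have hcR : ∀ χ, ∑ j ∈ J, R χ j = (φ : ℝ) * (c χ : ℝ) := by
    intro χ
    have h1 := hc χ
    have h2 : ((∑ j ∈ J, R χ j : ℝ) : ℂ) = (((φ : ℝ) * (c χ : ℝ) : ℝ) : ℂ) := by
      push_cast
      have h3 : ∑ j ∈ J, (R χ j : ℂ) = ∑ j ∈ unitsTwo k, formA s Q ρ n χ χ j := by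
        apply Finset.sum_congr rfl
        intro j _
        rw [hR]
      rw [h3, h1]
      push_cast
      rfl
    exact_mod_cast h2
  have hy : ∀ χ, ∑ j ∈ J, ((2 : ℝ) ^ d - R χ j) = (φ : ℝ) * ((2 : ℝ) ^ d - (c χ : ℝ)) := by
    intro χ
    rw [Finset.sum_sub_distrib, Finset.sum_const, hJcard, nsmul_eq_mul, hcR]
    ring
  have hcpos : ∀ χ ∈ t, 1 ≤ c χ := by
    intro χ hχ
    have h1 : 0 < ∑ j ∈ J, R χ j := Finset.sum_pos (fun j hj => hRpos χ hχ j hj) hJne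
    rw [hcR] at h1
    have h2 : (0 : ℝ) < (c χ : ℝ) := by
      by_contra hcon
      push Not at hcon
      nlinarith
    have h3 : (0 : ℤ) < c χ := by exact_mod_cast h2
    omega
  have hcsum : ∑ χ ∈ t, c χ = (L : ℤ) := by
    have h2 : ∀ j ∈ J, ∑ χ ∈ t, R χ j = (L : ℝ) := by
      intro j hj
      have h3 := htrace j hj
      have h4 : ((∑ χ ∈ t, R χ j : ℝ) : ℂ) = ((L : ℝ) : ℂ) := by
        push_cast
        rw [← h3]
        apply Finset.sum_congr rfl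
        intro χ _
        rw [hR]
      exact_mod_cast h4
    have h1 : (φ : ℝ) * ∑ χ ∈ t, (c χ : ℝ) = (φ : ℝ) * (L : ℝ) := by
      rw [Finset.mul_sum]
      simp_rw [← hcR]
      rw [Finset.sum_comm, Finset.sum_congr rfl h2, Finset.sum_const, hJcard, nsmul_eq_mul]
    have h5 : (∑ χ ∈ t, (c χ : ℝ)) = (L : ℝ) := mul_left_cancel₀ hφR.ne' h1
    exact_mod_cast h5
  -- the bound from a column of a character of height zero
  have hexc : ∀ ψ ∈ t0, (t.card : ℤ) - 1 ≤ ((2 : ℤ) ^ d - c ψ) * c ψ := by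
    intro ψ hψ
    have hψt := ht0 hψ
    have h1 : ((t.card : ℝ) - 1) * φ ≤
        ∑ χ ∈ t.erase ψ, ∑ j ∈ J, Complex.normSq (formA s Q ρ n χ ψ j) := by
      have h0 : ((t.card : ℝ) - 1) * φ = ∑ χ ∈ t.erase ψ, (φ : ℝ) := by
        rw [Finset.sum_const, Finset.card_erase_of_mem hψt, nsmul_eq_mul,
          Nat.cast_sub (Finset.card_pos.mpr ⟨ψ, hψt⟩)]
        simp
      rw [h0]
      apply Finset.sum_le_sum
      intro χ hχ
      exact totient_le_sum_normSq_formA k s Q ρ hρ n χ ψ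
        (fun j hj => hne χ (Finset.mem_of_mem_erase hχ) ψ hψ j hj)
    rw [Finset.sum_comm, Finset.sum_congr rfl (fun j hj => hkey ψ hψt j hj)] at h1
    have hcs := sq_sum_le_card_mul_sum_sq (s := J) (f := fun j => (2 : ℝ) ^ d - R ψ j)
    have hexp : ∑ j ∈ J, R ψ j * ((2 : ℝ) ^ d - R ψ j) =
        (2 : ℝ) ^ d * ∑ j ∈ J, ((2 : ℝ) ^ d - R ψ j) -
          ∑ j ∈ J, ((2 : ℝ) ^ d - R ψ j) ^ 2 := by
      rw [Finset.mul_sum, ← Finset.sum_sub_distrib]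
      apply Finset.sum_congr rfl
      intro j _
      ring
    rw [hexp, hy] at h1
    rw [hy, hJcard] at hcs
    set a : ℝ := (2 : ℝ) ^ d - (c ψ : ℝ) with ha
    set S2 : ℝ := ∑ j ∈ J, ((2 : ℝ) ^ d - R ψ j) ^ 2 with hS2
    have h6 : (φ : ℝ) * a ^ 2 ≤ S2 := by
      have h7 : (φ : ℝ) * ((φ : ℝ) * a ^ 2) ≤ (φ : ℝ) * S2 := by
        calc (φ : ℝ) * ((φ : ℝ) * a ^ 2) = ((φ : ℝ) * a) ^ 2 := by ring
          _ ≤ (φ : ℝ) * S2 := hcs
      exact le_of_mul_le_mul_left h7 hφR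
    have h8 : ((t.card : ℝ) - 1) * φ ≤ (φ : ℝ) * (a * (c ψ : ℝ)) := by
      calc ((t.card : ℝ) - 1) * φ ≤ (2 : ℝ) ^ d * ((φ : ℝ) * a) - S2 := h1
        _ ≤ (2 : ℝ) ^ d * ((φ : ℝ) * a) - (φ : ℝ) * a ^ 2 := by linarith
        _ = (φ : ℝ) * (a * (c ψ : ℝ)) := by rw [ha]; ring
    have h9 : ((t.card : ℝ) - 1) ≤ a * (c ψ : ℝ) := by
      rw [mul_comm] at h8
      exact le_of_mul_le_mul_left h8 hφR
    have h10 : (((t.card : ℤ) - 1 : ℤ) : ℝ) ≤ ((((2 : ℤ) ^ d - c ψ) * c ψ : ℤ) : ℝ) := by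
      push_cast
      rw [ha] at h9
      exact h9
    exact_mod_cast h10
  have hc'nn : ∀ χ ∈ t, c χ ≤ (2 : ℤ) ^ d := by
    intro χ hχ
    have h1 : ∑ j ∈ J, R χ j ≤ ∑ j ∈ J, (2 : ℝ) ^ d :=
      Finset.sum_le_sum (fun j hj => hRle χ hχ j hj)
    rw [hcR, Finset.sum_const, hJcard, nsmul_eq_mul] at h1
    have h2 : (c χ : ℝ) ≤ (2 : ℝ) ^ d := le_of_mul_le_mul_left h1 hφR
    exact_mod_cast h2
  have hP1 : (1 : ℤ) ≤ (2 : ℤ) ^ d := one_le_pow₀ (by norm_num)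
  by_cases hex : ∃ ψ ∈ t0, (2 : ℤ) ^ d - c ψ ≤ 1
  · -- a character of height zero with small complementary contribution
    obtain ⟨ψ, hψ, hle⟩ := hex
    have h1 := hexc ψ hψ
    have h2 := hc'nn ψ (ht0 hψ)
    have h3 : (t.card : ℤ) ≤ (2 : ℤ) ^ d := by
      have h4 : (2 : ℤ) ^ d - c ψ = 0 ∨ (2 : ℤ) ^ d - c ψ = 1 := by omega
      rcases h4 with h4 | h4
      · rw [h4, zero_mul] at h1
        omega
      · rw [h4, one_mul] at h1
        omega
    exact_mod_cast h3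
  · push Not at hex
    -- `d ≥ 2`
    have hd2 : 2 ≤ d := by
      have h1 := hex ψ₀ hψ₀
      have h2 := hcpos ψ₀ (ht0 hψ₀)
      by_contra hcon
      push Not at hcon
      interval_cases d
      · norm_num at h1
        omega
      · norm_num at h1
        omega
    have hPeven : (2 : ℤ) ∣ (2 : ℤ) ^ d := dvd_pow_self 2 (by omega)
    -- every complementary trace is at least three
    have hge : ∀ χ ∈ t, 3 ≤ (2 : ℤ) ^ d - c χ := by
      intro χ hχ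
      by_cases hχ0 : χ ∈ t0
      · have h1 := hex χ hχ0
        have h2 := hcpar χ
        have h3 := hunit χ hχ0
        have h4 : ¬ (2 : ℤ) ∣ c χ := by
          intro h
          apply h3
          have := dvd_sub h h2
          rwa [sub_sub_cancel] at this
        have h5 : ¬ (2 : ℤ) ∣ (2 : ℤ) ^ d - c χ := by
          intro h
          apply h4
          have := dvd_sub hPeven h
          rwa [sub_sub_cancel] at this
        omega
      · obtain ⟨N, hN, hNdvd⟩ := hprod hd2 χ hχ hχ0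
        have hNR : ∏ j ∈ J, ((2 : ℝ) ^ d - R χ j) = (N : ℝ) := by
          have h1 : ((∏ j ∈ J, ((2 : ℝ) ^ d - R χ j) : ℝ) : ℂ) = ((N : ℝ) : ℂ) := by
            push_cast
            rw [← hN]
            apply Finset.prod_congr rfl
            intro j _
            rw [hR]
          exact_mod_cast h1
        have hypos : ∀ j ∈ J, 0 < (2 : ℝ) ^ d - R χ j := by
          intro j hj
          have := hRlt χ hχ hχ0 j hj
          linarith
        have hNpos : 0 < N := by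
          have h1 : (0 : ℝ) < (N : ℝ) := by
            rw [← hNR]
            exact Finset.prod_pos hypos
          exact_mod_cast h1
        have hNge : (2 : ℤ) ^ (φ + 1) ≤ N := Int.le_of_dvd hNpos hNdvd
        have hprod2 : ∏ j ∈ J, (((2 : ℝ) ^ d - R χ j) / 2) = (N : ℝ) / (2 : ℝ) ^ φ := by
          rw [Finset.prod_div_distrib, hNR, Finset.prod_const, hJcard]
        have h2φ : (0 : ℝ) < (2 : ℝ) ^ φ := by positivity
        have hgt : 1 < ∏ j ∈ J, (((2 : ℝ) ^ d - R χ j) / 2) := by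
          rw [hprod2, lt_div_iff₀ h2φ, one_mul]
          have h1 : ((2 : ℤ) ^ (φ + 1) : ℝ) ≤ (N : ℝ) := by exact_mod_cast hNge
          have h3 : ((2 : ℤ) ^ (φ + 1) : ℝ) = 2 * (2 : ℝ) ^ φ := by
            push_cast
            ring
          rw [h3] at h1
          linarith
        have hamgm := card_lt_sum_of_one_lt_prod J (fun j => ((2 : ℝ) ^ d - R χ j) / 2)
          (fun j hj => by have := hypos j hj; positivity) hgt
        rw [← Finset.sum_div, hy, hJcard] at hamgm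
        have h4 : (2 : ℝ) < (2 : ℝ) ^ d - (c χ : ℝ) := by
          by_contra hcon
          push Not at hcon
          have : (φ : ℝ) * ((2 : ℝ) ^ d - (c χ : ℝ)) / 2 ≤ (φ : ℝ) := by nlinarith
          linarith
        have h5 : ((2 : ℤ) : ℝ) < (((2 : ℤ) ^ d - c χ : ℤ) : ℝ) := by
          push_cast
          exact h4
        have h6 : (2 : ℤ) < (2 : ℤ) ^ d - c χ := by exact_mod_cast h5
        omega
    -- the final count
    have hsum : ∑ χ ∈ t, ((2 : ℤ) ^ d - c χ) = (t.card : ℤ) * (2 : ℤ) ^ d - (L : ℤ) := by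
      rw [Finset.sum_sub_distrib, Finset.sum_const, hcsum, nsmul_eq_mul]
    have hlow : (t.card : ℤ) * 3 ≤ ∑ χ ∈ t, ((2 : ℤ) ^ d - c χ) := by
      have := Finset.card_nsmul_le_sum t (fun χ => (2 : ℤ) ^ d - c χ) 3 hge
      rwa [nsmul_eq_mul] at this
    have hL' : (t.card : ℤ) * (2 : ℤ) ^ d ≤ (L : ℤ) + 3 * (2 : ℤ) ^ d := by exact_mod_cast hL
    have hfin : (t.card : ℤ) ≤ (2 : ℤ) ^ d := by
      rw [hsum] at hlow
      linarith
    exact_mod_cast hfin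

end Count

end Cfsg.Agent.Lib.Helper16
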