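import Mathlib
import Cfsg.Agent.Lib.Helper75.MajorSubMain
import Cfsg.Agent.Lib.Helper16.DualSubCount

/-!
# `k(B) ≤ 2^d` for a `2`-block with a major subsection `(y, b)` with `k(B) - l(b) ≤ 3`

Shared library by helper16 (for S4575): the group theoretic input (contributions of the major
subsection, their congruences and valuations) is fed into the abstract counting theorem
`card_le_of_major_dual_abstract`.  Built on the libraries `MajorSub*` of helper75 and `Subsec*` of
helper82.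
-/

set_option autoImplicit false
set_option linter.unusedSectionVars false
set_option linter.style.haveILetI false

namespace Cfsg.Agent.Lib.Helper16

open Cfsg Finset Cfsg.Agent.Lib.Helper78 Cfsg.Agent.Lib.Helper79
  Cfsg.Agent.Lib.Helper82 Cfsg.Agent.Lib.Helper75
open scoped ComplexConjugate

universe u

section Local

variable {p : ℕ} {M : Ideal AlgInt}

/-- a product of elements of the local ideal over a nonempty finset lies in the local ideal -/
theorem memLocalIdeal_prod_of_nonempty [hMp : M.IsPrime] {ι : Type*} (s : Finset ι)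
    (hs : s.Nonempty) (f : ι → ℂ) (h : ∀ i ∈ s, MemLocalIdeal M (f i)) :
    MemLocalIdeal M (∏ i ∈ s, f i) := by
  classical
  obtain ⟨i₀, hi₀⟩ := hs
  rw [← Finset.mul_prod_erase s f hi₀]
  exact memLocalIdeal_mul_right (h i₀ hi₀)
    (memLocalRing_prod _ _ (fun i hi =>
      memLocalRing_of_memLocalIdeal (h i (Finset.mem_of_mem_erase hi))))

/-- if the halves (`p`-th parts) of the factors of an integral product lie in the local ideal,
the product is divisible by `p^(n+1)`, `n` the number of factors -/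
theorem pow_succ_dvd_of_prod_div_mem (hM : IsPModular p M) {ι : Type*} (J : Finset ι)
    (hJ : J.Nonempty) (x : ι → ℂ) (hx : ∀ j ∈ J, MemLocalIdeal M (x j / p)) (N : ℤ)
    (hN : ∏ j ∈ J, x j = (N : ℂ)) : (p : ℤ) ^ (J.card + 1) ∣ N := by
  have hMp : M.IsPrime := isPModular_isPrime hM
  have hMtop : M ≠ ⊤ := hMp.ne_top
  have hp : p.Prime := isPModular_prime hM
  have hp0 : (p : ℂ) ≠ 0 := by exact_mod_cast hp.ne_zero
  have h1 : MemLocalIdeal M ((N : ℂ) / (p : ℂ) ^ J.card) := by
    have := memLocalIdeal_prod_of_nonempty J hJ (fun j => x j / p) hx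
    rwa [Finset.prod_div_distrib, hN, Finset.prod_const] at this
  have key : ∀ e : ℕ, e ≤ J.card + 1 → (p : ℤ) ^ e ∣ N := by
    intro e
    induction e with
    | zero => intro _; simp
    | succ e ih =>
      intro he
      obtain ⟨w, hw⟩ := ih (by omega)
      have h2 : (w : ℂ) = (N : ℂ) / (p : ℂ) ^ J.card * (p : ℂ) ^ (J.card - e) := by
        rw [hw]
        push_cast
        have : (p : ℂ) ^ J.card = (p : ℂ) ^ e * (p : ℂ) ^ (J.card - e) := by
          rw [← pow_add]
          congr 1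
          omega
        rw [this]
        field_simp
      have h3 : MemLocalIdeal M (w : ℂ) := by
        rw [h2]
        exact memLocalIdeal_mul_right h1
          (memLocalRing_pow (memLocalRing_natCast hMtop p) _)
      obtain ⟨v, hv⟩ := (memLocalIdeal_intCast_iff hM w).mp h3
      refine ⟨v, ?_⟩
      rw [hw, hv, pow_succ]
      ring
  exact key _ le_rfl

end Local


section Val

variable {G : Type u} [Group G] [Fintype G] {p : ℕ} [Fact p.Prime] {M : Ideal AlgInt}

open scoped Classical in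
/-- **Brauer**: for `χ` of positive height in a block with major subsection `(z, b)`, the
self-contribution `p^d m_{χχ}` is divisible by `p` times an element of the local ideal. -/
theorem memLocalIdeal_pow_mul_secM_self_div (hM : IsPModular p M) (H : Subgroup G) [Fintype H]
    {b : Set (IrrCharacter H)} {B : Set (IrrCharacter G)} (hind : IsInducedBlock M H b B)
    (hdef : blockDefect p b = blockDefect p B) {χ ψ : IrrCharacter G} (hχ : χ ∈ B)
    (hχ0 : blockHeight p B (χ : G → ℂ) ≠ 0) (hψ : ψ ∈ B)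
    (hψ0 : blockHeight p B (ψ : G → ℂ) = 0) {z : H}
    (hz : z ∈ Subgroup.center H) (hH : ∀ g : G, g ∈ H ↔ Commute (z : G) g)
    {k : ℕ} (hzk : z ^ p ^ k = 1) (hu : ∃ k : ℕ, orderOf (z : G) = p ^ k) :
    MemLocalIdeal M ((p : ℂ) ^ blockDefect p b *
      secM p (z : G) H b (χ : G → ℂ) (χ : G → ℂ) / p) := by
  have hp : p.Prime := Fact.out
  have hp0 : (p : ℂ) ≠ 0 := by exact_mod_cast hp.ne_zero
  have hMp : M.IsPrime := isPModular_isPrime hM
  have hMtop : M ≠ ⊤ := hMp.ne_top
  have hb : IsPBlock M b := hind.1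
  have hB : IsPBlock M B := hind.2.1
  -- step a: `p^d m_{ψχ}` lies in the ideal
  have hdv := dvd_sum_resMult_blockQ_of_height_ne_zero hM H hind hdef ψ hχ hχ0 hz hH hzk hu
  have hdv' : (p : ℤ) ∣ ∑ ξ ∈ Finset.univ.filter (fun ξ : IrrCharacter H => ξ ∈ b),
      ∑ ξ' ∈ Finset.univ.filter (fun ξ : IrrCharacter H => ξ ∈ b),
        (resMult H ψ ξ : ℤ) * blockQ p b ξ ξ' * (resMult H χ ξ' : ℤ) := by
    rw [Finset.sum_comm]
    convert hdv using 1
    apply Finset.sum_congr rfl
    intro ξ _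
    apply Finset.sum_congr rfl
    intro ξ' _
    rw [blockQ_symm hM b ξ' ξ]
    ring
  have ha : MemLocalIdeal M ((p : ℂ) ^ blockDefect p b *
      secM p (z : G) H b (ψ : G → ℂ) (χ : G → ℂ)) :=
    (memLocalIdeal_pow_mul_secM_iff hM H hb ψ χ hz hzk).mpr hdv'
  -- step b: `(|G|/ψ(1)) m_{ψχ}` lies in the ideal
  have hrel := ordCompl_mul_pow_mul_eq (p := p) hψ (secM p (z : G) H b (ψ : G → ℂ) (χ : G → ℂ))
  have hY'ring := memLocalRing_card_div_mul_secM hM H hb ψ χ hz hH hu
  have hUY' : MemLocalIdeal M ((blockU p B ψ : ℂ) * ((Nat.card G : ℂ) / (ψ : G → ℂ) 1 *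
      secM p (z : G) H b (ψ : G → ℂ) (χ : G → ℂ))) := by
    rw [← hrel, ← hdef]
    exact memLocalIdeal_mul_left (memLocalRing_natCast hMtop _) ha
  have hY' : MemLocalIdeal M ((Nat.card G : ℂ) / (ψ : G → ℂ) 1 *
      secM p (z : G) H b (ψ : G → ℂ) (χ : G → ℂ)) := by
    rcases (memLocalIdeal_mul_iff (memLocalRing_intCast hMtop _) hY'ring).mp hUY' with h | h
    · exact absurd ((memLocalIdeal_intCast_iff hM _).mp h) (not_dvd_blockU hp hψ hψ0)
    · exact h
  -- step c: `(|G|/χ(1)) m_{χχ}` lies in the ideal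
  have hsub := memLocalIdeal_card_div_mul_secM_sub hM H hb χ ψ χ (sameBlock_of_mem hB hχ hψ)
    hz hH hu
  have hY : MemLocalIdeal M ((Nat.card G : ℂ) / (χ : G → ℂ) 1 *
      secM p (z : G) H b (χ : G → ℂ) (χ : G → ℂ)) := by
    have := memLocalIdeal_add hsub hY'
    rwa [sub_add_cancel] at this
  -- step d
  have hrel2 := ordCompl_mul_pow_mul_eq (p := p) hχ (secM p (z : G) H b (χ : G → ℂ) (χ : G → ℂ))
  obtain ⟨U', hU'⟩ := dvd_blockU_of_height_ne_zero (p := p) hχ hχ0
  have hm' : ¬ p ∣ ordCompl[p] (Nat.card G) := Nat.not_dvd_ordCompl hp Nat.card_pos.ne'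
  have hm0 : ((ordCompl[p] (Nat.card G) : ℕ) : ℂ) ≠ 0 := by
    have : ordCompl[p] (Nat.card G) ≠ 0 := fun h => hm' (by rw [h]; exact dvd_zero p)
    exact_mod_cast this
  have heq : (p : ℂ) ^ blockDefect p b * secM p (z : G) H b (χ : G → ℂ) (χ : G → ℂ) / p =
      ((ordCompl[p] (Nat.card G) : ℕ) : ℂ)⁻¹ * ((U' : ℂ) * ((Nat.card G : ℂ) / (χ : G → ℂ) 1 *
        secM p (z : G) H b (χ : G → ℂ) (χ : G → ℂ))) := by
    rw [hU', ← hdef] at hrel2
    push_cast at hrel2
    rw [eq_inv_mul_iff_mul_eq₀ hm0, ← mul_div_assoc, hrel2]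
    field_simp
  rw [heq]
  exact memLocalIdeal_mul_left (memLocalRing_inv_natCast hM hm')
    (memLocalIdeal_mul_left (memLocalRing_intCast hMtop _) hY)

end Val


section Main

variable {G : Type u} [Group G] [Fintype G] {M : Ideal AlgInt}

open scoped Classical in
/-- **Olsson, Robinson**: `k(B) ≤ 2^d` for a `2`-block `B` of defect `d` with a major subsection
`(y, b)` such that `k(B) - l(b) ≤ 3`. -/
theorem card_le_pow_of_major_subsection_dual (hM : IsPModular 2 M) (B : Set (IrrCharacter G))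
    (y : G) (hy : ∃ k : ℕ, orderOf y = 2 ^ k)
    (H : Subgroup G) [Fintype H] (hH : ∀ g : G, g ∈ H ↔ Commute y g)
    (b : Set (IrrCharacter H)) (hind : IsInducedBlock M H b B)
    (hbd : blockDefect 2 b = blockDefect 2 B) (hl : Nat.card B ≤ blockRank 2 b + 3) :
    Nat.card B ≤ 2 ^ blockDefect 2 B := by
  have hp : (2 : ℕ).Prime := Nat.prime_two
  have hMp : M.IsPrime := isPModular_isPrime hM
  have hMtop : M ≠ ⊤ := hMp.ne_top
  have hb : IsPBlock M b := hind.1
  have hB : IsPBlock M B := hind.2.1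
  have hbne : b.Nonempty := IsPBlock_nonempty hMp.ne_top hb
  have hBne : B.Nonempty := IsPBlock_nonempty hMp.ne_top hB
  obtain ⟨k, hk⟩ := hy
  have hnpos : 0 < 2 ^ k := pow_pos hp.pos k
  -- the central element
  have hyH : y ∈ H := (hH y).mpr (Commute.refl y)
  obtain ⟨z, hz⟩ : ∃ z : H, (z : G) = y := ⟨⟨y, hyH⟩, rfl⟩
  have hzc : z ∈ Subgroup.center H := by
    rw [Subgroup.mem_center_iff]
    intro h
    apply Subtype.ext
    simp only [Subgroup.coe_mul, hz]
    exact ((hH h).mp h.2).eq.symm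
  have hzn : z ^ 2 ^ k = 1 := by
    apply Subtype.ext
    simp only [Subgroup.coe_pow, hz, Subgroup.coe_one]
    rw [← hk]
    exact pow_orderOf_eq_one y
  set sb := Finset.univ.filter (fun ξ : IrrCharacter H => ξ ∈ b) with hsb
  set sB := Finset.univ.filter (fun χ : IrrCharacter G => χ ∈ B) with hsB
  set sB0 := Finset.univ.filter (fun χ : IrrCharacter G => χ ∈ B ∧
    blockHeight 2 B (χ : G → ℂ) = 0) with hsB0
  -- facts about the powers of the central element
  have hpow : ∀ j ∈ unitsTwo k, (∀ g : G, g ∈ H ↔ Commute (((z ^ j : H) : G)) g) ∧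
      (∃ k' : ℕ, orderOf (((z ^ j : H) : G)) = 2 ^ k') ∧ (z ^ j) ^ 2 ^ k = 1 ∧
      z ^ j ∈ Subgroup.center H := by
    intro j hj
    simp only [unitsTwo, Finset.mem_filter, Finset.mem_range] at hj
    have hcop : (orderOf y).Coprime j := by rw [hk]; exact hj.2.symm
    have hord : orderOf (y ^ j) = 2 ^ k := by rw [hcop.orderOf_pow, hk]
    rw [Subgroup.coe_pow, hz]
    refine ⟨?_, ⟨k, hord⟩, ?_, Subgroup.pow_mem _ hzc j⟩
    · intro g
      rw [hH g]
      constructor
      · intro h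
        exact h.pow_left j
      · intro h
        obtain ⟨m, hm⟩ := exists_pow_eq_self_of_coprime hcop.symm
        rw [← hm]
        exact h.pow_left m
    · rw [← pow_mul, mul_comm, pow_mul, hzn, one_pow]
  have hcoe : ∀ j : ℕ, (z : G) ^ j = ((z ^ j : H) : G) := fun j => (Subgroup.coe_pow H z j).symm
  -- a character of height zero in `b` and in `B`
  obtain ⟨ψ₀, hψ₀, hψ₀min⟩ := exists_min_factorization (p := 2) hBne
  have hψ₀0 : blockHeight 2 B (ψ₀ : G → ℂ) = 0 := by
    unfold blockHeight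
    omega
  have hw : (0 : ℝ) < ((2 : ℕ) : ℝ) ^ blockDefect 2 b / (Nat.card H : ℝ) := by
    apply div_pos (pow_pos (by exact_mod_cast hp.pos) _)
    exact_mod_cast Nat.card_pos
  have hcardB : Nat.card B = sB.card := by
    rw [Nat.card_eq_fintype_card, hsB]
    exact Fintype.card_subtype _
  rw [hcardB, ← hbd]
  rw [hcardB] at hl
  have hA : ∀ (χ ψ : IrrCharacter G) (j : ℕ), formA sb (blockQ 2 b)
        (fun ξ => cScalar ξ z) (fun (χ : IrrCharacter G) ξ => (resMult H χ ξ : ℤ)) χ ψ j =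
      ((2 : ℕ) : ℂ) ^ blockDefect 2 b * secM 2 ((z : G) ^ j) H b (χ : G → ℂ) (ψ : G → ℂ) :=
    fun χ ψ j => formA_eq_pow_mul_secM hM H hb χ ψ hzc j
  have hpd0 : ((2 : ℕ) : ℂ) ^ blockDefect 2 b ≠ 0 :=
    pow_ne_zero _ (by exact_mod_cast hp.ne_zero)
  have hρ : ∀ ξ ∈ sb, (fun ξ : IrrCharacter H => cScalar ξ z) ξ ^ (2 ^ k) = 1 :=
    fun ξ _ => cScalar_pow_eq_one ξ hzc hzn
  apply card_le_of_major_dual_abstract k (blockDefect 2 b) sb
    (Finset.univ.filter (fun s : H => ¬ 2 ∣ orderOf s))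
    (fun (ξ : IrrCharacter H) x => (ξ : H → ℂ) x)
    (((2 : ℕ) : ℝ) ^ blockDefect 2 b / (Nat.card H : ℝ)) hw (blockQ 2 b) (blockQ_symm hM b)
    (isGram_blockQ hM H hb) (fun ξ => cScalar ξ z) hρ sB sB0 ?_ ⟨ψ₀, by simp [hsB0, hψ₀, hψ₀0]⟩
    (fun (χ : IrrCharacter G) ξ => (resMult H χ ξ : ℤ)) (2 ^ blockDefect 2 b * blockRank 2 b)
    ?_ ?_ ?_ ?_ ?_ ?_
  · -- the subset
    intro χ hχ
    simp only [hsB0, hsB, Finset.mem_filter, Finset.mem_univ, true_and] at hχ ⊢
    exact hχ.1
  · -- the hypothesis on `k(B) - l(b)`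
    calc sB.card * 2 ^ blockDefect 2 b ≤ (blockRank 2 b + 3) * 2 ^ blockDefect 2 b :=
          Nat.mul_le_mul_right _ hl
      _ = 2 ^ blockDefect 2 b * blockRank 2 b + 3 * 2 ^ blockDefect 2 b := by ring
  · -- the trace
    intro j hj
    obtain ⟨hHj, hordj, -, -⟩ := hpow j hj
    simp_rw [hA]
    rw [← Finset.mul_sum]
    have h1 := sum_secM_self hM ((z : G) ^ j) (by rw [hcoe]; exact hordj) H
      (by rw [hcoe]; exact hHj) hb
    have h2 : ∑ χ ∈ sB, secM 2 ((z : G) ^ j) H b (χ : G → ℂ) (χ : G → ℂ) =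
        ∑ χ : IrrCharacter G, secM 2 ((z : G) ^ j) H b (χ : G → ℂ) (χ : G → ℂ) := by
      rw [hsB, Finset.sum_filter]
      apply Finset.sum_congr rfl
      intro χ _
      split_ifs with hχ
      · rfl
      · rw [secM_eq_zero_of_not_mem_left hM ((z : G) ^ j) (by rw [hcoe]; exact hordj) H
          (by rw [hcoe]; exact hHj) hind χ hχ]
    rw [h2, h1]
    push_cast
    ring
  · -- nonvanishing
    intro χ hχ ψ hψ j hj
    obtain ⟨hHj, hordj, hznj, hzcj⟩ := hpow j hj
    simp only [hsB0, hsB, Finset.mem_filter, Finset.mem_univ, true_and] at hχ hψ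
    rw [hA, hcoe]
    exact mul_ne_zero hpd0
      (secM_ne_zero_of_height_zero hM H hind hbd hχ hψ.1 hψ.2 hzcj hHj hznj hordj)
  · -- idempotence
    intro ψ hψ j hj
    obtain ⟨hHj, hordj, -, -⟩ := hpow j hj
    simp_rw [hA]
    have h1 := sum_secM_mul_conj hM ((z : G) ^ j) (by rw [hcoe]; exact hordj) H
      (by rw [hcoe]; exact hHj) hb (ψ : G → ℂ)
    have h2 : ∑ χ ∈ sB, secM 2 ((z : G) ^ j) H b (χ : G → ℂ) (ψ : G → ℂ) *
          conj (secM 2 ((z : G) ^ j) H b (χ : G → ℂ) (ψ : G → ℂ)) =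
        secM 2 ((z : G) ^ j) H b (ψ : G → ℂ) (ψ : G → ℂ) := by
      rw [← h1, hsB, Finset.sum_filter]
      apply Finset.sum_congr rfl
      intro χ _
      split_ifs with hχ
      · rw [secM_conj, ← secM_conj 2 ((z : G) ^ j) H b (ψ : G → ℂ) (χ : G → ℂ), mul_comm]
      · rw [secM_eq_zero_of_not_mem_right hM ((z : G) ^ j) (by rw [hcoe]; exact hordj) H
          (by rw [hcoe]; exact hHj) hind _ χ hχ, zero_mul]
    rw [← h2, Finset.mul_sum, Finset.mul_sum]
    apply Finset.sum_congr rfl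
    intro χ _
    rw [map_mul, map_pow, Complex.conj_natCast]
    push_cast
    ring
  · -- the unit property
    intro ψ hψ
    simp only [hsB0, Finset.mem_filter, Finset.mem_univ, true_and] at hψ
    exact not_dvd_sum_resMult_blockQ hM H hind hbd hψ.1 hψ.1 hψ.2 hψ.2
  · -- the product of the complementary diagonal entries
    intro hd2 χ hχ hχ0
    simp only [hsB0, hsB, Finset.mem_filter, Finset.mem_univ, true_and, not_and] at hχ hχ0
    obtain ⟨N, hN⟩ := exists_int_prod_sub_formA k sb (blockQ 2 b) (fun ξ => cScalar ξ z) hρ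
      (fun (χ : IrrCharacter G) ξ => (resMult H χ ξ : ℤ)) χ ((2 : ℤ) ^ blockDefect 2 b)
    have hN' : ∏ j ∈ unitsTwo k, ((2 : ℂ) ^ blockDefect 2 b - formA sb (blockQ 2 b)
        (fun ξ => cScalar ξ z) (fun (χ : IrrCharacter G) ξ => (resMult H χ ξ : ℤ)) χ χ j) =
        (N : ℂ) := by
      rw [← hN]
      push_cast
      rfl
    refine ⟨N, hN', ?_⟩
    have hJne : (unitsTwo k).Nonempty :=
      Finset.card_pos.mp (by rw [card_unitsTwo]; exact totient_two_pow_pos k)
    have hdiv := pow_succ_dvd_of_prod_div_mem hM (unitsTwo k) hJne _ ?_ N hN'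
    · rw [card_unitsTwo] at hdiv
      exact_mod_cast hdiv
    · intro j hj
      obtain ⟨hHj, hordj, hznj, hzcj⟩ := hpow j hj
      rw [hA, hcoe, sub_div]
      apply memLocalIdeal_sub
      · -- `2^d / 2`
        have h1 : (2 : ℂ) ^ blockDefect 2 b / ((2 : ℕ) : ℂ) =
            ((2 ^ (blockDefect 2 b - 1) : ℕ) : ℂ) := by
          obtain ⟨e, he⟩ : ∃ e, blockDefect 2 b = e + 1 := ⟨blockDefect 2 b - 1, by omega⟩
          rw [he]
          push_cast
          rw [pow_succ, mul_div_assoc, div_self two_ne_zero, mul_one]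
        rw [h1, memLocalIdeal_natCast_iff hM]
        exact dvd_pow_self 2 (by omega)
      · exact memLocalIdeal_pow_mul_secM_self_div hM H hind hbd hχ (hχ0 hχ) hψ₀ hψ₀0 hzcj hHj
          hznj hordj

end Main

end Cfsg.Agent.Lib.Helper16
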