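import Cfsg.Agent.Lib.Helper16.AbelianDefect
import Cfsg.Agent.Lib.Helper76.Fong
import Cfsg.Agent.Lib.Helper78.StableCover

/-!
# Defect groups of the block of `L` with the idempotent of `f` cover a Sylow subgroup of `L / C_G(Q)`
(helper16)

For `Q C_G(Q) ≤ L ≤ N_G(Q, f)` and the block `F'` of `L` with the idempotent of `f`: for a defect
group `D` of `F'`, `p ∤ |L : D C_G(Q)|` (Fong's theorem, `Helper76.fong_main`).  If moreover the
`p`-regular elements of `L` centralize `Q`, then `L = D C_G(Q)`.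
-/

set_option autoImplicit false

namespace Cfsg.Agent.Lib.Helper16

open Cfsg MonoidAlgebra Cfsg.Agent.Lib.Helper77
open scoped ComplexConjugate

universe u

section Basic

variable {G : Type u} [Group G]

theorem centralizer_subgroupOf_eq {L Q : Subgroup G} (hQL : Q ≤ L) :
    Subgroup.centralizer ((Q.subgroupOf L : Subgroup ↥L) : Set ↥L) =
      (Subgroup.centralizer (Q : Set G)).subgroupOf L := by
  ext c
  rw [Subgroup.mem_subgroupOf]
  constructor
  · intro hc
    exact coe_mem_centralizer_of_subgroupOf L Q hQL hc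
  · intro hc
    exact mk_mem_centralizer_of_subgroupOf L Q c.2 hc

end Basic

section Fong

variable {G : Type u} [Group G] [Fintype G] {M : Ideal AlgInt}

/-- `exists_block_of_stable` together with the fact that `(Q, f)` is a Brauer pair of the block. -/
theorem exists_block_of_stable' {p : ℕ} [Fact p.Prime] (hM : IsPModular p M) (Q L : Subgroup G)
    (hQ : IsPGroup p Q) (hQL : Q ≤ L) (hLN : L ≤ Subgroup.normalizer (Q : Set G))
    (hCL : Subgroup.centralizer (Q : Set G) ≤ L)
    (f : Set (IrrCharacter (Subgroup.centralizer (Q : Set G)))) (hf : IsPBlock M f)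
    (hstab : ∀ x ∈ L, StabilizesBlock (Subgroup.centralizer (Q : Set G)) f x) :
    ∃ F' : Set (IrrCharacter ↥L), IsPBlock M F' ∧
      (∀ t : ↥L, blockCoeff F' t =
        subgroupBlockCoeff (Subgroup.centralizer (Q : Set G)) f (t : G)) ∧
      IsBrauerPairOf p M F' (Q.subgroupOf L) (pullBlock (centEquivIn L Q hQL hCL) f) := by
  classical
  have hMp := isPModular_isPrime hM
  have : Fintype ↥L := Fintype.ofFinite _
  have hQn : (Q.subgroupOf L).Normal := Subgroup.normal_subgroupOf_of_le_normalizer hLN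
  have hQp : IsPGroup p (Q.subgroupOf L) := hQ.comap_subtype
  obtain ⟨F', hF', hF'f⟩ := exists_block_of_stable hM Q L hQ hQL hLN hCL f hf hstab
  have hpair : IsBrauerPair p M (Q.subgroupOf L) (pullBlock (centEquivIn L Q hQL hCL) f) :=
    ⟨hQp, isPBlock_pullBlock _ hf⟩
  obtain ⟨B, hB, _⟩ := Cfsg.Agent.S4657.result p M hM _ _ hpair
  -- `B` has the same coefficients, hence `B = F'`
  have hT : ∀ x : ↥L, x ∈ (⊤ : Subgroup ↥L) ↔
      StabilizesBlock (Subgroup.centralizer ((Q.subgroupOf L : Subgroup ↥L) : Set ↥L))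
        (pullBlock (centEquivIn L Q hQL hCL) f) x := by
    intro x
    constructor
    · intro _
      exact stabilizesBlock_pullBlock_centEquivIn L Q hQL hCL f x (hstab x x.2)
    · intro _
      exact Subgroup.mem_top x
  have hform := (Cfsg.Agent.S4654.result p M hM (Q.subgroupOf L) hQp B _ hB ⊤ hT).2
  have hBf : ∀ t : ↥L, blockCoeff B t =
      subgroupBlockCoeff (Subgroup.centralizer (Q : Set G)) f (t : G) := by
    intro t
    rw [hform t, ← subgroupBlockCoeff_pullBlock_centEquivIn L Q hQL hCL f t]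
    have hterm : ∀ x : ↥L,
        subgroupBlockCoeff (Subgroup.centralizer ((Q.subgroupOf L : Subgroup ↥L) : Set ↥L))
          (pullBlock (centEquivIn L Q hQL hCL) f) (x⁻¹ * t * x) =
        subgroupBlockCoeff (Subgroup.centralizer ((Q.subgroupOf L : Subgroup ↥L) : Set ↥L))
          (pullBlock (centEquivIn L Q hQL hCL) f) t := by
      intro x
      have := subgroupBlockCoeff_conj_of_stabilizes
        (Subgroup.centralizer ((Q.subgroupOf L : Subgroup ↥L) : Set ↥L))
        (pullBlock (centEquivIn L Q hQL hCL) f) x⁻¹ ((hT x⁻¹).mp (Subgroup.mem_top _)) t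
      rw [inv_inv] at this
      exact this
    rw [Finset.sum_congr rfl (fun x _ => hterm x), Finset.sum_const, Finset.card_univ,
      nsmul_eq_mul, ← mul_assoc]
    have hcard : (Nat.card (⊤ : Subgroup ↥L) : ℂ) = (Fintype.card ↥L : ℂ) := by
      rw [Subgroup.card_top, Nat.card_eq_fintype_card]
    rw [hcard, inv_mul_cancel₀, one_mul]
    exact_mod_cast Fintype.card_ne_zero
  have hEq : B = F' := by
    apply block_eq_of_blockCoeff_congr hM (Q.subgroupOf L) hQp hB.2.1 hF'
    intro k _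
    rw [hBf k, hF'f k, sub_self]
    exact memLocalIdeal_zero hMp.ne_top
  rw [hEq] at hB
  exact ⟨F', hF', hF'f, hB⟩

/-- Blocks of `L` with the idempotent coefficients of `f` are unique. -/
theorem block_unique_of_coeff {p : ℕ} [Fact p.Prime] (hM : IsPModular p M) {Q L : Subgroup G}
    (hQ : IsPGroup p Q) (hLN : L ≤ Subgroup.normalizer (Q : Set G))
    {f : Set (IrrCharacter (Subgroup.centralizer (Q : Set G)))}
    {F₁ F₂ : Set (IrrCharacter ↥L)} (h₁ : IsPBlock M F₁) (h₂ : IsPBlock M F₂)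
    (hf₁ : ∀ t : ↥L, blockCoeff F₁ t =
      subgroupBlockCoeff (Subgroup.centralizer (Q : Set G)) f (t : G))
    (hf₂ : ∀ t : ↥L, blockCoeff F₂ t =
      subgroupBlockCoeff (Subgroup.centralizer (Q : Set G)) f (t : G)) : F₁ = F₂ := by
  have hMp := isPModular_isPrime hM
  have : Fintype ↥L := Fintype.ofFinite _
  have hQn : (Q.subgroupOf L).Normal := Subgroup.normal_subgroupOf_of_le_normalizer hLN
  apply block_eq_of_blockCoeff_congr hM (Q.subgroupOf L) hQ.comap_subtype h₁ h₂
  intro k _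
  rw [hf₁ k, hf₂ k, sub_self]
  exact memLocalIdeal_zero hMp.ne_top

/-- **Fong's theorem for the block of `L` with the idempotent of `f`**: for a defect group `D`,
`p ∤ |L : D C_G(Q)|`. -/
theorem not_dvd_index_defectGroup_sup {p : ℕ} [Fact p.Prime] (hM : IsPModular p M)
    (Q L : Subgroup G) (hQ : IsPGroup p Q) (hQL : Q ≤ L)
    (hLN : L ≤ Subgroup.normalizer (Q : Set G)) (hCL : Subgroup.centralizer (Q : Set G) ≤ L)
    (f : Set (IrrCharacter (Subgroup.centralizer (Q : Set G)))) (hf : IsPBlock M f)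
    (hstab : ∀ x ∈ L, StabilizesBlock (Subgroup.centralizer (Q : Set G)) f x)
    {F' : Set (IrrCharacter ↥L)} (hF' : IsPBlock M F')
    (hF'f : ∀ t : ↥L, blockCoeff F' t =
      subgroupBlockCoeff (Subgroup.centralizer (Q : Set G)) f (t : G))
    {D : Subgroup ↥L} (hD : IsDefectGroup p M F' D) :
    ¬ p ∣ (D ⊔ (Subgroup.centralizer (Q : Set G)).subgroupOf L).index := by
  classical
  have hMp := isPModular_isPrime hM
  have : Fintype ↥L := Fintype.ofFinite _
  have hQn : (Q.subgroupOf L).Normal := Subgroup.normal_subgroupOf_of_le_normalizer hLN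
  have hQp : IsPGroup p (Q.subgroupOf L) := hQ.comap_subtype
  obtain ⟨F₀, hF₀, hF₀f, hpair⟩ := exists_block_of_stable' hM Q L hQ hQL hLN hCL f hf hstab
  have hEq : F₀ = F' := block_unique_of_coeff hM hQ hLN hF₀ hF' hF₀f hF'f
  rw [hEq] at hpair
  have hNn : (Subgroup.centralizer ((Q.subgroupOf L : Subgroup ↥L) : Set ↥L)).Normal :=
    Cfsg.Agent.S4653.centralizer_normal_of_normal _
  have : Fintype ↥(Subgroup.centralizer ((Q.subgroupOf L : Subgroup ↥L) : Set ↥L)) :=
    Fintype.ofFinite _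
  have hb : IsPBlock M (pullBlock (centEquivIn L Q hQL hCL) f) := isPBlock_pullBlock _ hf
  have hst : IsGStable (Subgroup.centralizer ((Q.subgroupOf L : Subgroup ↥L) : Set ↥L))
      (pullBlock (centEquivIn L Q hQL hCL) f) :=
    Cfsg.Agent.Lib.Helper78.isGStable_of_stabilizesBlock _
      (fun x => stabilizesBlock_pullBlock_centEquivIn L Q hQL hCL f x (hstab x x.2))
  obtain ⟨θ₀, hθ₀⟩ := IsPBlock_nonempty hMp.ne_top hb
  obtain ⟨χ₀, hχ₀⟩ := exists_irr_over
    (Subgroup.centralizer ((Q.subgroupOf L : Subgroup ↥L) : Set ↥L)) θ₀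
  have hover : ∀ (χ : IrrCharacter ↥L)
      (θ : IrrCharacter ↥(Subgroup.centralizer ((Q.subgroupOf L : Subgroup ↥L) : Set ↥L))),
      θ ∈ pullBlock (centEquivIn L Q hQL hCL) f →
      classInner (fun n : ↥(Subgroup.centralizer ((Q.subgroupOf L : Subgroup ↥L) : Set ↥L)) =>
        (χ : ↥L → ℂ) n) (θ : _ → ℂ) ≠ 0 → χ ∈ F' := by
    intro χ θ hθ hne
    exact Cfsg.Agent.S4654.mem_of_over hM (Q.subgroupOf L) hQp hF' (hpair.2.2 θ hθ) hne
  have hχ₀F : χ₀ ∈ F' := hover χ₀ θ₀ hθ₀ hχ₀
  have hmaxd : ∀ B' : Set (IrrCharacter ↥L), IsPBlock M B' →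
      (∃ χ ∈ B', ∃ θ ∈ pullBlock (centEquivIn L Q hQL hCL) f,
        classInner (fun n : ↥(Subgroup.centralizer ((Q.subgroupOf L : Subgroup ↥L) : Set ↥L)) =>
          (χ : ↥L → ℂ) n) (θ : _ → ℂ) ≠ 0) →
      blockDefect p B' ≤ blockDefect p F' := by
    rintro B' hB' ⟨χ, hχ, θ, hθ, hne⟩
    have : B' = F' := IsPBlock_eq_of_mem hB' hF' hχ (hover χ θ hθ hne)
    rw [this]
  have hmain := (Cfsg.Agent.Lib.Helper76.fong_main
    (Subgroup.centralizer ((Q.subgroupOf L : Subgroup ↥L) : Set ↥L)) hM hb hst hF' χ₀ hχ₀F θ₀ hθ₀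
    hχ₀ hmaxd D hD).1
  rw [centralizer_subgroupOf_eq hQL] at hmain
  exact hmain

end Fong

end Cfsg.Agent.Lib.Helper16
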