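import Cfsg.Agent.Lib.Helper16.CentDefect
import Cfsg.Prelude.Def_BlockFusion

/-!
# Conjugacy in the fusion system of a block, and centralizers (helper16)
-/

set_option autoImplicit false

namespace Cfsg.Agent.Lib.Helper16

open Cfsg MonoidAlgebra Cfsg.Agent.Lib.Helper77
open scoped ComplexConjugate

universe u

section Card

variable {K₁ K₂ : Type*} [Group K₁] [Group K₂]

theorem card_comap_mulEquiv (φ : K₁ ≃* K₂) (D : Subgroup K₂) :
    Nat.card (D.comap φ.toMonoidHom) = Nat.card D := by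
  rw [Subgroup.comap_equiv_eq_map_symm']
  exact Subgroup.card_map_of_injective φ.symm.injective

theorem card_inf_subgroupOf {G : Type*} [Group G] (A C : Subgroup G) :
    Nat.card ((A ⊓ C).subgroupOf C) = Nat.card (A ⊓ C : Subgroup G) :=
  Nat.card_congr (Subgroup.subgroupOfEquivOfLe inf_le_right).toEquiv

end Card

section Fusion

variable {G : Type u} [Group G] [Fintype G] {M : Ideal AlgInt}

omit [Fintype G] in
theorem range_eq_map_conj {Q : Subgroup G} {φ : Q →* G} {g : G}
    (h : ∀ u : Q, φ u = g * (u : G) * g⁻¹) : φ.range = Q.map (MulAut.conj g).toMonoidHom := by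
  ext y
  constructor
  · rintro ⟨u, rfl⟩
    exact ⟨(u : G), u.2, (h u).symm⟩
  · rintro ⟨u, hu, rfl⟩
    exact ⟨⟨u, hu⟩, h ⟨u, hu⟩⟩

/-- A subgroup conjugate to `Q` in the fusion system of the block is `Q^g` for some `g` carrying the
pair `(Q, f)` to a pair below `(P, e)`. -/
theorem exists_conj_of_isConj {p : ℕ} [Fact p.Prime] (hM : IsPModular p M)
    {B : Set (IrrCharacter G)} {P : Subgroup G}
    {e : Set (IrrCharacter (Subgroup.centralizer (P : Set G)))} {F : FusionSystem P}
    (hF : IsBlockFusionSystemOn p M B P e F) {Q : Subgroup G}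
    {f : Set (IrrCharacter (Subgroup.centralizer (Q : Set G)))}
    (hle : SubpairLE p M Q f P e) {Q' : Subgroup G} (h : F.IsConj Q Q') :
    ∃ g : G, Q' = Q.map (MulAut.conj g).toMonoidHom ∧
      SubpairLE p M (Q.map (MulAut.conj g).toMonoidHom) (conjBlock Q g f) P e := by
  obtain ⟨φ, hφ, hrange⟩ := h
  obtain ⟨hQP, g, hφg, _, f₀, hf₀, hf₀g⟩ := (hF.2 Q φ).mp hφ
  have : f₀ = f := Cfsg.Agent.S4655.unique_le hM (Nat.card P - Nat.card Q)
    (⟨P, e⟩ : BrauerPairIdx G) hF.1.1.1 Q hQP le_rfl f₀ f hf₀ hle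
  subst this
  exact ⟨g, by rw [← hrange, range_eq_map_conj hφg], hf₀g⟩

/-- If `(Q, f)^g ≤ (P, e)` then `Q^g` is conjugate to `Q` in the fusion system of the block. -/
theorem isConj_of_subpairLE_conj {p : ℕ} {B : Set (IrrCharacter G)} {P : Subgroup G}
    {e : Set (IrrCharacter (Subgroup.centralizer (P : Set G)))} {F : FusionSystem P}
    (hF : IsBlockFusionSystemOn p M B P e F) {Q : Subgroup G}
    {f : Set (IrrCharacter (Subgroup.centralizer (Q : Set G)))}
    (hle : SubpairLE p M Q f P e) (g : G)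
    (hg : SubpairLE p M (Q.map (MulAut.conj g).toMonoidHom) (conjBlock Q g f) P e) :
    F.IsConj Q (Q.map (MulAut.conj g).toMonoidHom) := by
  have hφg : ∀ u : Q, conjHom Q g u = g * (u : G) * g⁻¹ := fun u => rfl
  refine ⟨conjHom Q g, ?_, range_eq_map_conj hφg⟩
  exact (hF.2 Q (conjHom Q g)).mpr ⟨Cfsg.Agent.S4655.le_le hle, g, hφg,
    Cfsg.Agent.S4655.le_le hg, f, hle, hg⟩

end Fusion

end Cfsg.Agent.Lib.Helper16
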