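import Cfsg.Agent.Lib.Helper16.FusionCent

/-!
# The centre of `Q` inside `C_G(Q)` under conjugation (helper16)
-/

set_option autoImplicit false

namespace Cfsg.Agent.Lib.Helper16

open Cfsg

universe u

variable {G : Type u} [Group G]

/-- `Z(Q)`, as a subgroup of `C_G(Q)`, is carried by conjugation to `Z(Q^x)`. -/
theorem comap_conjCent_center (Q : Subgroup G) (x : G) :
    ((Q ⊓ Subgroup.centralizer (Q : Set G)).subgroupOf
      (Subgroup.centralizer (Q : Set G))).comap (conjCent Q x).toMonoidHom =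
    (Q.map (MulAut.conj x).toMonoidHom ⊓ Subgroup.centralizer
      ((Q.map (MulAut.conj x).toMonoidHom : Subgroup G) : Set G)).subgroupOf
      (Subgroup.centralizer ((Q.map (MulAut.conj x).toMonoidHom : Subgroup G) : Set G)) := by
  ext c
  rw [Subgroup.mem_comap, Subgroup.mem_subgroupOf, Subgroup.mem_subgroupOf]
  constructor
  · rintro ⟨h1, _⟩
    refine ⟨?_, c.2⟩
    exact (mem_map_conj_iff Q x (c : G)).mpr h1
  · rintro ⟨h1, _⟩
    refine ⟨?_, (conjCent Q x c).2⟩
    exact (mem_map_conj_iff Q x (c : G)).mp h1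

end Cfsg.Agent.Lib.Helper16
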