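import Cfsg.Agent.Lib.Helper16.BlockKer

/-!
# Blocks and inflation from a quotient (helper16)

For `N` normal in `G` and a class `K̄` of `G ⧸ N`, the sum of the elements of `G` mapping into `K̄`
is a central element of the group algebra of `G`; the central character of an inflated character
on it is `|N|` times the central character on `K̄`.  Hence, for `p ∤ |N|`, characters of `G ⧸ N`
whose inflations lie in the same block lie in the same block.
-/

set_option autoImplicit false

namespace Cfsg.Agent.Lib.Helper16

open Cfsg MonoidAlgebra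
open Cfsg.Agent.Lib.Helper77
open scoped ComplexConjugate

universe u

variable {G : Type u} [Group G] [Fintype G] (N : Subgroup G) [hN : N.Normal]

open scoped Classical in
/-- The sum of the elements of `G` whose image in `G ⧸ N` is conjugate to `x`. -/
noncomputable def preimageClassSum (x : G ⧸ N) : MonoidAlgebra ℂ G :=
  ∑ g ∈ Finset.univ.filter (fun g : G => IsConj x (g : G ⧸ N)), single g 1

open scoped Classical in
theorem coeff_preimageClassSum (x : G ⧸ N) (g : G) :
    (preimageClassSum N x).coeff g = if IsConj x (g : G ⧸ N) then 1 else 0 := by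
  unfold preimageClassSum
  rw [coeff_sum, Finsupp.finsetSum_apply]
  simp only [coeff_single, Finsupp.single_apply]
  rw [Finset.sum_ite_eq' _ g]
  simp

theorem preimageClassSum_mem_center (x : G ⧸ N) :
    preimageClassSum N x ∈ Subalgebra.center ℂ (MonoidAlgebra ℂ G) := by
  classical
  apply mem_center_of_coeff_conj
  intro g h
  rw [coeff_preimageClassSum, coeff_preimageClassSum]
  have : IsConj x ((h * g * h⁻¹ : G) : G ⧸ N) ↔ IsConj x (g : G ⧸ N) := by
    have hc : IsConj (g : G ⧸ N) ((h * g * h⁻¹ : G) : G ⧸ N) :=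
      isConj_iff.mpr ⟨(h : G ⧸ N), by simp⟩
    exact ⟨fun h1 => h1.trans hc.symm, fun h1 => h1.trans hc⟩
  simp only [this]

theorem preimageClassSum_mem_centerOrder {M : Ideal AlgInt} [hMp : M.IsPrime] (x : G ⧸ N) :
    (⟨preimageClassSum N x, preimageClassSum_mem_center N x⟩ :
      Subalgebra.center ℂ (MonoidAlgebra ℂ G)) ∈ centerOrder G M := by
  classical
  intro g
  show MemLocalRing M ((preimageClassSum N x).coeff g)
  rw [coeff_preimageClassSum]
  split_ifs
  · exact memLocalRing_one hMp.ne_top
  · exact memLocalRing_zero hMp.ne_top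

open scoped Classical in
/-- The central character of an inflated character on the preimage of a class. -/
theorem omega_inflate_preimageClassSum [Fintype (G ⧸ N)] (χ : IrrCharacter (G ⧸ N)) (x : G ⧸ N) :
    omega (inflate N χ : G → ℂ) (preimageClassSum N x) =
      (Nat.card N : ℂ) * centralChar (χ : G ⧸ N → ℂ) x := by
  rw [← omega_classSum_irr χ x]
  unfold omega
  have h1 : ∑ g : G, (preimageClassSum N x).coeff g * (inflate N χ : G → ℂ) g =
      ∑ g : G, (fun y : G ⧸ N => (classSum x).coeff y * (χ : G ⧸ N → ℂ) y) (g : G ⧸ N) := by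
    refine Finset.sum_congr rfl fun g _ => ?_
    show _ = (classSum x).coeff (g : G ⧸ N) * (χ : G ⧸ N → ℂ) (g : G ⧸ N)
    rw [coeff_preimageClassSum, coeff_classSum, inflate_apply]
    by_cases hc : IsConj x (g : G ⧸ N)
    · rw [if_pos hc, if_pos hc]
    · rw [if_neg hc, if_neg hc]
  rw [h1, sum_comp_quotient_mk N (fun y : G ⧸ N => (classSum x).coeff y * (χ : G ⧸ N → ℂ) y),
    inflate_apply, QuotientGroup.mk_one, mul_div_assoc]

/-- For `p ∤ |N|`: characters of `G ⧸ N` whose inflations lie in the same block of `G` lie in the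
same block of `G ⧸ N`. -/
theorem sameBlock_of_sameBlock_inflate {p : ℕ} {M : Ideal AlgInt} (hM : IsPModular p M)
    (hp : ¬ p ∣ Nat.card N) {χ ψ : IrrCharacter (G ⧸ N)}
    (h : SameBlock M (inflate N χ : G → ℂ) (inflate N ψ : G → ℂ)) :
    SameBlock M (χ : G ⧸ N → ℂ) (ψ : G ⧸ N → ℂ) := by
  classical
  have hMp := isPModular_isPrime hM
  have : Fintype (G ⧸ N) := Fintype.ofFinite _
  intro x
  have h1 := sameBlock_omegaHom_congr h (preimageClassSum_mem_centerOrder (M := M) N x)
  rw [omegaHom_apply, omegaHom_apply] at h1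
  change MemLocalIdeal M (omega (inflate N χ : G → ℂ) (preimageClassSum N x) -
    omega (inflate N ψ : G → ℂ) (preimageClassSum N x)) at h1
  rw [omega_inflate_preimageClassSum, omega_inflate_preimageClassSum, ← mul_sub] at h1
  have hR1 : MemLocalRing M (Nat.card N : ℂ) := memLocalRing_natCast hMp.ne_top _
  have hR2 : MemLocalRing M (centralChar (χ : G ⧸ N → ℂ) x - centralChar (ψ : G ⧸ N → ℂ) x) :=
    memLocalRing_sub
      (memLocalRing_of_isIntegral hMp.ne_top (Cfsg.Agent.Lib.Helper79.isIntegral_centralChar χ x))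
      (memLocalRing_of_isIntegral hMp.ne_top (Cfsg.Agent.Lib.Helper79.isIntegral_centralChar ψ x))
  rcases (memLocalIdeal_mul_iff hR1 hR2).mp h1 with h2 | h2
  · exact absurd ((memLocalIdeal_natCast_iff hM _).mp h2) hp
  · exact h2

end Cfsg.Agent.Lib.Helper16
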