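import Cfsg.Agent.Lib.Helper16.KernelCore

/-!
# `O_σ` of local subgroups in the kernels of local blocks (helper16)

Brauer's results on the `π'`-cores of the local subgroups attached to a block: if
`O_σ(N_G(D))` lies in the kernel of the Brauer correspondent of `B` (`p ∉ σ`), then `O_σ(G₀)` lies
in the kernel of every block `B₀` of a subgroup `G₀ ⊇ C_G(D₀)` inducing `B`.
-/

set_option autoImplicit false

namespace Cfsg.Agent.Lib.Helper16

open Cfsg MonoidAlgebra Cfsg.Agent.Lib.Helper77 Cfsg.Agent.Lib.Helper54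
open scoped ComplexConjugate

universe u

section General

variable {G : Type u} [Group G]

/-- A `σ`-subgroup `K` of `G` normalized by `L` meets `L` inside `O_σ(L)`. -/
theorem subgroupOf_le_piCore (σ : Set ℕ) (K L : Subgroup G)
    (hn : ∀ x ∈ L, ∀ k ∈ K, x * k * x⁻¹ ∈ K)
    (hσ : ∀ r : ℕ, r.Prime → r ∣ Nat.card K → r ∈ σ) : K.subgroupOf L ≤ piCore σ ↥L := by
  have hnorm : (K.subgroupOf L).Normal := by
    constructor
    intro k hk y
    rw [Subgroup.mem_subgroupOf] at hk ⊢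
    exact hn (y : G) y.2 _ hk
  apply le_piCore σ hnorm
  intro r hr hdvd
  have h1 : Nat.card (K.subgroupOf L) = Nat.card (K ⊓ L : Subgroup G) := by
    rw [← Subgroup.inf_subgroupOf_right K L]
    exact Nat.card_congr (Subgroup.subgroupOfEquivOfLe inf_le_right).toEquiv
  rw [h1] at hdvd
  exact hσ r hr (hdvd.trans (Subgroup.card_dvd_of_le inf_le_left))

theorem coreCent_isPi [Finite G] (σ : Set ℕ) (Q : Subgroup G) :
    ∀ r : ℕ, r.Prime → r ∣ Nat.card (coreCent σ Q) → r ∈ σ := by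
  intro r hr h
  rw [card_coreCent] at h
  exact piCore_isPi σ r hr h

end General

section Top

variable {G : Type u} [Group G] [Fintype G] {M : Ideal AlgInt}

/-- If `O_σ(N_G(D))` lies in the kernel of the Brauer correspondent `B₁` of `B` in `N_G(D)`, then
there is a maximal `B`-pair `(D, e)` with `O_σ(C_G(D)) ≤ ker e`. -/
theorem exists_isMaximalBrauerPair_kerCore {p : ℕ} [Fact p.Prime] (hM : IsPModular p M)
    {σ : Set ℕ} (hpσ : p ∉ σ) {B : Set (IrrCharacter G)} {D : Subgroup G}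
    (hBD : IsDefectGroup p M B D)
    {B₁ : Set (IrrCharacter ↥(Subgroup.normalizer (D : Set G)))}
    (hB₁ : IsInducedBlock M (Subgroup.normalizer (D : Set G)) B₁ B)
    (hB₁D : IsDefectGroup p M B₁ (D.subgroupOf (Subgroup.normalizer (D : Set G))))
    (hker : ∀ n : ↥(Subgroup.normalizer (D : Set G)),
      n ∈ piCore σ ↥(Subgroup.normalizer (D : Set G)) → n ∈ blockKer B₁) :
    ∃ e : Set (IrrCharacter (Subgroup.centralizer (D : Set G))),
      IsMaximalBrauerPair p M B D e ∧ KerCore σ (⟨D, e⟩ : BrauerPairIdx G) := by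
  classical
  have hMp := isPModular_isPrime hM
  have : Fintype ↥(Subgroup.normalizer (D : Set G)) := Fintype.ofFinite _
  have hDN : D ≤ Subgroup.normalizer (D : Set G) := Subgroup.le_normalizer
  have hCN : Subgroup.centralizer (D : Set G) ≤ Subgroup.normalizer (D : Set G) :=
    Subgroup.centralizer_le_normalizer _
  obtain ⟨e₁, hmax₁⟩ := exists_isMaximalBrauerPair_of_isDefectGroup hM hB₁.1 hB₁D
  have he₁ : e₁ = pullBlock (centEquivIn _ D hDN hCN)
      (pullBlock (centEquivIn _ D hDN hCN).symm e₁) := (pullBlock_pullBlock_symm _ _).symm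
  rw [he₁] at hmax₁
  obtain ⟨B', hind', hpair'⟩ := exists_isInducedBlock_of_centralizer_le hM _ D hDN hCN hmax₁.1
  have hBB : B' = B := isInducedBlock_unique _ hind' hB₁
  subst hBB
  refine ⟨_, isMaximalBrauerPair_of_isDefectGroup hM hpair' hBD, ?_⟩
  -- the kernel condition
  have hK₁ : ¬ p ∣ Nat.card (piCore σ ↥(Subgroup.normalizer (D : Set G))) :=
    not_dvd_card_piCore Fact.out hpσ
  have h1 := (blockKer_iff_of_isBrauerPairOf hM hmax₁.1
    (piCore σ ↥(Subgroup.normalizer (D : Set G))) hK₁).mp hker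
  intro c hc
  show c ∈ blockKer (pullBlock (centEquivIn _ D hDN hCN).symm e₁)
  have h2 := h1 ((centEquivIn _ D hDN hCN).symm c)
  rw [mem_blockKer_pullBlock_iff, MulEquiv.apply_symm_apply] at h2
  apply h2
  have h4 := subgroupOf_le_piCore σ (coreCent σ D) (Subgroup.normalizer (D : Set G))
    (fun x hx k hk => conj_mem_coreCent σ D hx hk) (coreCent_isPi σ D)
  apply h4
  rw [Subgroup.mem_subgroupOf]
  exact (mem_coreCent_iff σ D c).mpr hc

end Top

section Bottom

variable {G : Type u} [Group G] [Fintype G] {M : Ideal AlgInt}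

/-- If `(P, e)` restricted to `H ⊇ C_G(P)` is a `b`-pair and `O_σ(C_G(P)) ≤ ker e`, then
`O_σ(H) ≤ ker b`. -/
theorem blockKer_of_kerCore_restrict {p : ℕ} [Fact p.Prime] (hM : IsPModular p M) {σ : Set ℕ}
    (hpσ : p ∉ σ) (H P : Subgroup G) (hPH : P ≤ H) (hC : Subgroup.centralizer (P : Set G) ≤ H)
    {b : Set (IrrCharacter ↥H)} {e : Set (IrrCharacter (Subgroup.centralizer (P : Set G)))}
    (hpair : IsBrauerPairOf p M b (P.subgroupOf H) (pullBlock (centEquivIn H P hPH hC) e))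
    (hker : KerCore σ (⟨P, e⟩ : BrauerPairIdx G)) :
    ∀ x : ↥H, x ∈ piCore σ ↥H → x ∈ blockKer b := by
  classical
  have : Fintype ↥H := Fintype.ofFinite _
  have hK₀ : ¬ p ∣ Nat.card (piCore σ ↥H) := not_dvd_card_piCore Fact.out hpσ
  apply (blockKer_iff_of_isBrauerPairOf hM hpair (piCore σ ↥H) hK₀).mpr
  intro c hc
  rw [mem_blockKer_pullBlock_iff]
  apply hker
  -- the image of `O_σ(H)` in `G` meets `C_G(P)` inside `O_σ(C_G(P))`
  have h4 := subgroupOf_le_piCore σ ((piCore σ ↥H).map H.subtype)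
    (Subgroup.centralizer (P : Set G)) ?_ ?_
  · apply h4
    rw [Subgroup.mem_subgroupOf]
    exact ⟨(c : ↥H), hc, rfl⟩
  · rintro x hx _ ⟨k, hk, rfl⟩
    have hn : (piCore σ ↥H).Normal := inferInstance
    exact ⟨(⟨x, hC hx⟩ : ↥H) * k * (⟨x, hC hx⟩ : ↥H)⁻¹, hn.conj_mem k hk _, rfl⟩
  · intro r hr hdvd
    rw [Subgroup.card_map_of_injective (Subgroup.subtype_injective _)] at hdvd
    exact piCore_isPi σ r hr hdvd

/-- A block `b` of `H` with a defect group `D₀` such that `C_G(D₀) ≤ H`: a maximal `b`-pair at `D₀`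
comes from a pair `(P, e)` of `G`, which is a pair of every block induced by `b`. -/
theorem exists_pair_of_centralizer_defectGroup_le {p : ℕ} [Fact p.Prime] (hM : IsPModular p M)
    (H : Subgroup G) {b : Set (IrrCharacter ↥H)} (hb : IsPBlock M b) {D₀ : Subgroup ↥H}
    (hD₀ : IsDefectGroup p M b D₀)
    (hC : Subgroup.centralizer ((D₀.map H.subtype : Subgroup G) : Set G) ≤ H) :
    ∃ (P : Subgroup G) (hPH : P ≤ H) (hCP : Subgroup.centralizer (P : Set G) ≤ H)
      (e : Set (IrrCharacter (Subgroup.centralizer (P : Set G)))),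
      D₀ = P.subgroupOf H ∧
      IsMaximalBrauerPair p M b (P.subgroupOf H) (pullBlock (centEquivIn H P hPH hCP) e) ∧
      ∀ B : Set (IrrCharacter G), IsInducedBlock M H b B → IsBrauerPairOf p M B P e := by
  classical
  have hMp := isPModular_isPrime hM
  have : Fintype ↥H := Fintype.ofFinite _
  obtain ⟨d₀, hmax₀⟩ := exists_isMaximalBrauerPair_of_isDefectGroup hM hb hD₀
  obtain ⟨P, hPH, rfl⟩ : ∃ P : Subgroup G, P ≤ H ∧ D₀ = P.subgroupOf H := by
    refine ⟨D₀.map H.subtype, ?_, ?_⟩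
    · rintro _ ⟨t, _, rfl⟩
      exact t.2
    · exact (Subgroup.comap_map_eq_self_of_injective (Subgroup.subtype_injective H) D₀).symm
  rw [Subgroup.map_subgroupOf_eq_of_le hPH] at hC
  have hd₀ : d₀ = pullBlock (centEquivIn H P hPH hC)
      (pullBlock (centEquivIn H P hPH hC).symm d₀) := (pullBlock_pullBlock_symm _ _).symm
  rw [hd₀] at hmax₀
  obtain ⟨B₀, hind₀, hpair₀⟩ := exists_isInducedBlock_of_centralizer_le hM H P hPH hC hmax₀.1
  refine ⟨P, hPH, hC, _, rfl, hmax₀, ?_⟩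
  intro B hind
  have hBB : B = B₀ := isInducedBlock_unique H hind hind₀
  rw [hBB]
  exact hpair₀

/-- **Descent of the kernel condition**: if `O_σ(N_G(D))` lies in the kernel of the Brauer
correspondent of `B`, then `O_σ(G₀)` lies in the kernel of every block `B₀` of a subgroup
`G₀ ⊇ C_G(D₀)` (`D₀` a defect group of `B₀`) inducing `B`. -/
theorem blockKer_of_induced_of_kerCore {p : ℕ} [Fact p.Prime] (hM : IsPModular p M) {σ : Set ℕ}
    (hpσ : p ∉ σ) {B : Set (IrrCharacter G)} {D : Subgroup G}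
    {e : Set (IrrCharacter (Subgroup.centralizer (D : Set G)))}
    (hmax : IsMaximalBrauerPair p M B D e) (hker : KerCore σ (⟨D, e⟩ : BrauerPairIdx G))
    (G₀ : Subgroup G) {B₀ : Set (IrrCharacter ↥G₀)} (hB₀ : IsInducedBlock M G₀ B₀ B)
    {D₀ : Subgroup ↥G₀} (hD₀ : IsDefectGroup p M B₀ D₀)
    (hC : Subgroup.centralizer ((D₀.map G₀.subtype : Subgroup G) : Set G) ≤ G₀) :
    ∀ x : ↥G₀, x ∈ piCore σ ↥G₀ → x ∈ blockKer B₀ := by
  obtain ⟨P, hPH, hCP, e₀, _, hmax₀, hpairB⟩ :=
    exists_pair_of_centralizer_defectGroup_le hM G₀ hB₀.1 hD₀ hC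
  have hpair := hpairB B hB₀
  obtain ⟨x, hx⟩ := Cfsg.Agent.S4660.result p M hM B D P e e₀ hmax hpair
  have h1 : KerCore σ (conjPair x (⟨P, e₀⟩ : BrauerPairIdx G)) :=
    kerCore_of_subpairLE hM hpσ hx hker
  have h2 : KerCore σ (⟨P, e₀⟩ : BrauerPairIdx G) := (kerCore_conjPair_iff σ x _).mp h1
  exact blockKer_of_kerCore_restrict hM hpσ G₀ P hPH hCP hmax₀.1 h2

end Bottom

end Cfsg.Agent.Lib.Helper16
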