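import Cfsg.Agent.Lib.Helper16.KernelPair
import Cfsg.Agent.Lib.Helper54.BGTransitivity
import Cfsg.Agent.Lib.Helper16.MaxConj
import Cfsg.Agent.Lib.Helper16.PairConj

/-!
# `O_σ(C_G(Q))` in the kernel of the blocks of the Brauer pairs of a block (helper16)

For a set `σ` of primes not containing `p`, the condition `O_σ(C_G(Q)) ≤ ker f` passes from a
Brauer pair to the pairs below it, and is invariant under conjugation.
-/

set_option autoImplicit false

namespace Cfsg.Agent.Lib.Helper16

open Cfsg MonoidAlgebra Cfsg.Agent.Lib.Helper77 Cfsg.Agent.Lib.Helper54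
open scoped ComplexConjugate

universe u

section PiCore

variable {X : Type*} [Group X]

theorem piCore_map_le_of_equiv {Y : Type*} [Group Y] (e : X ≃* Y) (σ : Set ℕ) :
    (piCore σ X).map e.toMonoidHom ≤ piCore σ Y := by
  unfold piCore
  rw [(Subgroup.gc_map_comap e.toMonoidHom).l_sSup]
  refine iSup₂_le fun N hN => le_sSup ⟨hN.1.map e.toMonoidHom e.surjective, ?_⟩
  have : Nat.card (N.map e.toMonoidHom) = Nat.card N :=
    Nat.card_congr (N.equivMapOfInjective e.toMonoidHom e.injective).toEquiv.symm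
  rw [this]
  exact hN.2

theorem mem_piCore_equiv_iff {Y : Type*} [Group Y] (e : X ≃* Y) (σ : Set ℕ) (x : X) :
    e x ∈ piCore σ Y ↔ x ∈ piCore σ X := by
  constructor
  · intro h
    have h1 := piCore_map_le_of_equiv e.symm σ ⟨e x, h, rfl⟩
    simpa using h1
  · intro h
    exact piCore_map_le_of_equiv e σ ⟨x, h, rfl⟩

theorem not_dvd_card_piCore [Finite X] {p : ℕ} (hp : p.Prime) {σ : Set ℕ} (hpσ : p ∉ σ) :
    ¬ p ∣ Nat.card (piCore σ X) := fun h => hpσ (piCore_isPi σ p hp h)

end PiCore

section CoreCent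

variable {G : Type u} [Group G]

/-- `O_σ(C_G(Q))` as a subgroup of `G`. -/
def coreCent (σ : Set ℕ) (Q : Subgroup G) : Subgroup G :=
  (piCore σ ↥(Subgroup.centralizer (Q : Set G))).map (Subgroup.centralizer (Q : Set G)).subtype

theorem mem_coreCent_iff (σ : Set ℕ) (Q : Subgroup G)
    (c : ↥(Subgroup.centralizer (Q : Set G))) :
    (c : G) ∈ coreCent σ Q ↔ c ∈ piCore σ ↥(Subgroup.centralizer (Q : Set G)) := by
  unfold coreCent
  constructor
  · rintro ⟨c', hc', h⟩
    have : c' = c := Subtype.ext h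
    rwa [← this]
  · intro h
    exact ⟨c, h, rfl⟩

theorem coreCent_le (σ : Set ℕ) (Q : Subgroup G) :
    coreCent σ Q ≤ Subgroup.centralizer (Q : Set G) := by
  rintro _ ⟨c, _, rfl⟩
  exact c.2

theorem card_coreCent (σ : Set ℕ) (Q : Subgroup G) :
    Nat.card (coreCent σ Q) = Nat.card (piCore σ ↥(Subgroup.centralizer (Q : Set G))) :=
  Subgroup.card_map_of_injective (Subgroup.subtype_injective _)

/-- `O_σ(C_G(Q))` is normalized by `N_G(Q)`. -/
theorem conj_mem_coreCent (σ : Set ℕ) (Q : Subgroup G) {x : G}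
    (hx : x ∈ Subgroup.normalizer (Q : Set G)) {k : G} (hk : k ∈ coreCent σ Q) :
    x * k * x⁻¹ ∈ coreCent σ Q := by
  obtain ⟨c, hc, rfl⟩ := hk
  have h1 : normAut Q x hx c ∈ piCore σ ↥(Subgroup.centralizer (Q : Set G)) :=
    (mem_piCore_equiv_iff (normAut Q x hx) σ c).mpr hc
  have h2 := (mem_coreCent_iff σ Q _).mpr h1
  rwa [normAut_coe] at h2

/-- For `Q ≤ R`, the elements of `O_σ(C_G(Q))` centralizing `R` lie in `O_σ(C_G(R))`. -/
theorem mem_piCore_of_mem_coreCent [Finite G] (σ : Set ℕ) {Q R : Subgroup G} (hQR : Q ≤ R)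
    (c : ↥(Subgroup.centralizer (R : Set G))) (hc : (c : G) ∈ coreCent σ Q) :
    c ∈ piCore σ ↥(Subgroup.centralizer (R : Set G)) := by
  have hCC : Subgroup.centralizer (R : Set G) ≤ Subgroup.centralizer (Q : Set G) :=
    Subgroup.centralizer_le hQR
  have hn : ((coreCent σ Q).subgroupOf (Subgroup.centralizer (R : Set G))).Normal := by
    constructor
    intro k hk y
    rw [Subgroup.mem_subgroupOf] at hk ⊢
    exact conj_mem_coreCent σ Q (Subgroup.centralizer_le_normalizer _ (hCC y.2)) hk
  have hcard : ∀ r : ℕ, r.Prime →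
      r ∣ Nat.card ((coreCent σ Q).subgroupOf (Subgroup.centralizer (R : Set G))) → r ∈ σ := by
    intro r hr hdvd
    have h1 : Nat.card ((coreCent σ Q).subgroupOf (Subgroup.centralizer (R : Set G))) =
        Nat.card (coreCent σ Q ⊓ Subgroup.centralizer (R : Set G) : Subgroup G) := by
      rw [← Subgroup.inf_subgroupOf_right (coreCent σ Q) (Subgroup.centralizer (R : Set G))]
      exact Nat.card_congr (Subgroup.subgroupOfEquivOfLe inf_le_right).toEquiv
    rw [h1] at hdvd
    have h2 := hdvd.trans (Subgroup.card_dvd_of_le (inf_le_left :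
      coreCent σ Q ⊓ Subgroup.centralizer (R : Set G) ≤ coreCent σ Q))
    rw [card_coreCent] at h2
    exact piCore_isPi σ r hr h2
  exact le_piCore σ hn hcard (Subgroup.mem_subgroupOf.mpr hc)

end CoreCent

section Propagate

variable {G : Type u} [Group G] [Fintype G] {M : Ideal AlgInt}

/-- The condition `O_σ(C_G(Q)) ≤ ker f` on a pair. -/
def KerCore (σ : Set ℕ) (a : BrauerPairIdx G) : Prop :=
  ∀ c : ↥(Subgroup.centralizer (a.1 : Set G)),
    c ∈ piCore σ ↥(Subgroup.centralizer (a.1 : Set G)) → c ∈ blockKer a.2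

/-- The kernel condition passes down a normal inclusion of pairs. -/
theorem kerCore_of_normalSubpairRel {p : ℕ} [Fact p.Prime] (hM : IsPModular p M) {σ : Set ℕ}
    (hpσ : p ∉ σ) {a b : BrauerPairIdx G} (h : NormalSubpairRel p M a b) (hb : KerCore σ b) :
    KerCore σ a := by
  obtain ⟨Q, f⟩ := a
  obtain ⟨R, g⟩ := b
  have hQR : Q ≤ R := h.2.2.1
  have hK : ¬ p ∣ Nat.card (coreCent σ Q) := by
    rw [card_coreCent]
    exact not_dvd_card_piCore Fact.out hpσ
  have h1 := blockKer_iff_of_isNormalSubpair hM h (coreCent σ Q) hK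
    (fun x hx k hk => conj_mem_coreCent σ Q hx hk)
  intro c hc
  apply h1.mpr _ c ((mem_coreCent_iff σ Q c).mpr hc)
  intro c' hc'
  exact hb c' (mem_piCore_of_mem_coreCent σ hQR c' hc')

/-- The kernel condition passes down inclusions of pairs. -/
theorem kerCore_of_subpairLE {p : ℕ} [Fact p.Prime] (hM : IsPModular p M) {σ : Set ℕ}
    (hpσ : p ∉ σ) {a b : BrauerPairIdx G}
    (h : Relation.ReflTransGen (NormalSubpairRel p M) a b) (hb : KerCore σ b) : KerCore σ a := by
  induction h using Relation.ReflTransGen.head_induction_on with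
  | refl => exact hb
  | head h' _ ih => exact kerCore_of_normalSubpairRel hM hpσ h' ih

omit [Fintype G] in
/-- The kernel condition is invariant under conjugation of pairs. -/
theorem kerCore_conjPair_iff (σ : Set ℕ) (x : G) (a : BrauerPairIdx G) :
    KerCore σ (conjPair x a) ↔ KerCore σ a := by
  obtain ⟨Q, f⟩ := a
  unfold KerCore conjPair
  simp only
  rw [conjBlock_eq_pullBlock]
  constructor
  · intro h c hc
    have h1 := h ((conjCent Q x).symm c)
      ((mem_piCore_equiv_iff (conjCent Q x).symm σ c).mpr hc)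
    rw [mem_blockKer_pullBlock_iff, MulEquiv.apply_symm_apply] at h1
    exact h1
  · intro h c hc
    rw [mem_blockKer_pullBlock_iff]
    exact h _ ((mem_piCore_equiv_iff (conjCent Q x) σ c).mpr hc)

end Propagate

end Cfsg.Agent.Lib.Helper16
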