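import Cfsg.Agent.Lib.Helper16.NormPair

/-!
# Defect groups of the block of `T = N_G(Q, f)` with the idempotent of `f` (helper16)

Throughout, `T` is the stabilizer of `f` in `N_G(Q)` (given by `hT`) and `F'` is a block of `T`
whose idempotent coefficients are those of `f`.
-/

set_option autoImplicit false

namespace Cfsg.Agent.Lib.Helper16

open Cfsg MonoidAlgebra Cfsg.Agent.Lib.Helper77
open scoped ComplexConjugate

universe u

section Stab

variable {G : Type u} [Group G] {Q T : Subgroup G}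
  {f : Set (IrrCharacter (Subgroup.centralizer (Q : Set G)))}

theorem le_stab (hT : ∀ y : G, y ∈ T ↔ y ∈ Subgroup.normalizer (Q : Set G) ∧
    StabilizesBlock (Subgroup.centralizer (Q : Set G)) f y) : Q ≤ T := by
  intro q hq
  rw [hT]
  exact ⟨Subgroup.le_normalizer hq,
    stabilizesBlock_of_mem_supCent Q ⊥ f (le_supCent Q ⊥ hq)⟩

theorem centralizer_le_stab (hT : ∀ y : G, y ∈ T ↔ y ∈ Subgroup.normalizer (Q : Set G) ∧
    StabilizesBlock (Subgroup.centralizer (Q : Set G)) f y) :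
    Subgroup.centralizer (Q : Set G) ≤ T := by
  intro c hc
  rw [hT]
  exact ⟨Subgroup.centralizer_le_normalizer _ hc,
    stabilizesBlock_of_mem_supCent Q ⊤ f
      (coe_mem_supCent Q ⊤ (Subgroup.mem_top (⟨c, hc⟩ : ↥(Subgroup.centralizer (Q : Set G)))))⟩

theorem stab_le_normalizer (hT : ∀ y : G, y ∈ T ↔ y ∈ Subgroup.normalizer (Q : Set G) ∧
    StabilizesBlock (Subgroup.centralizer (Q : Set G)) f y) :
    T ≤ Subgroup.normalizer (Q : Set G) := fun y hy => ((hT y).mp hy).1

theorem stab_stabilizes (hT : ∀ y : G, y ∈ T ↔ y ∈ Subgroup.normalizer (Q : Set G) ∧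
    StabilizesBlock (Subgroup.centralizer (Q : Set G)) f y) :
    ∀ x ∈ T, StabilizesBlock (Subgroup.centralizer (Q : Set G)) f x :=
  fun y hy => ((hT y).mp hy).2

theorem le_stab_of_isNormalSubpair {p : ℕ} {M : Ideal AlgInt}
    (hT : ∀ y : G, y ∈ T ↔ y ∈ Subgroup.normalizer (Q : Set G) ∧
      StabilizesBlock (Subgroup.centralizer (Q : Set G)) f y)
    {R : Subgroup G} {g : Set (IrrCharacter (Subgroup.centralizer (R : Set G)))}
    (h : IsNormalSubpair p M Q f R g) : R ≤ T := by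
  intro r hr
  rw [hT]
  exact ⟨h.2.2.2.1 hr, h.2.2.2.2.1 r hr⟩

end Stab

section Defect

variable {G : Type u} [Group G] [Fintype G] {M : Ideal AlgInt} {Q T : Subgroup G}
  {f : Set (IrrCharacter (Subgroup.centralizer (Q : Set G)))}

/-- If `(Q, f) ≤ (P, e)` then `(Q, f) ⊴ (N_P(Q), g)` for some `g`. -/
theorem exists_isNormalSubpair_normalizerIn {p : ℕ} [Fact p.Prime] (hM : IsPModular p M)
    {P : Subgroup G} {e : Set (IrrCharacter (Subgroup.centralizer (P : Set G)))}
    (hPe : IsBrauerPair p M P e) (hle : SubpairLE p M Q f P e) :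
    ∃ g : Set (IrrCharacter (Subgroup.centralizer
      ((P ⊓ Subgroup.normalizer (Q : Set G) : Subgroup G) : Set G))),
      IsNormalSubpair p M Q f (P ⊓ Subgroup.normalizer (Q : Set G)) g := by
  have hQP : Q ≤ P := Cfsg.Agent.S4655.le_le hle
  have hQS : Q ≤ P ⊓ Subgroup.normalizer (Q : Set G) := le_inf hQP Subgroup.le_normalizer
  obtain ⟨g, _, hg⟩ := Cfsg.Agent.S4655.exists_le hM
    (Nat.card P - Nat.card (P ⊓ Subgroup.normalizer (Q : Set G) : Subgroup G))
    (⟨P, e⟩ : BrauerPairIdx G) hPe (P ⊓ Subgroup.normalizer (Q : Set G)) inf_le_left le_rfl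
  have hSg : IsBrauerPair p M (P ⊓ Subgroup.normalizer (Q : Set G)) g :=
    Cfsg.Agent.S4655.le_pair_left hg hPe
  have h1 : SubpairLE p M Q f (P ⊓ Subgroup.normalizer (Q : Set G)) g :=
    subpairLE_of_le_of_subpairLE hM hPe hg hle hQS
  exact ⟨g, isNormalSubpair_of_subpairLE hM hSg h1 inf_le_right⟩

/-- If `(Q, f) ≤ (P, e)` then `N_P(Q) ≤ T`. -/
theorem normalizerIn_le_stab {p : ℕ} [Fact p.Prime] (hM : IsPModular p M)
    (hT : ∀ y : G, y ∈ T ↔ y ∈ Subgroup.normalizer (Q : Set G) ∧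
      StabilizesBlock (Subgroup.centralizer (Q : Set G)) f y)
    {P : Subgroup G} {e : Set (IrrCharacter (Subgroup.centralizer (P : Set G)))}
    (hPe : IsBrauerPair p M P e) (hle : SubpairLE p M Q f P e) :
    P ⊓ Subgroup.normalizer (Q : Set G) ≤ T := by
  obtain ⟨g, h2⟩ := exists_isNormalSubpair_normalizerIn hM hPe hle
  exact le_stab_of_isNormalSubpair hT h2

/-- If `(Q, f) ≤ (P, e)` then `N_P(Q)` is contained in the subgroup of a maximal Brauer pair of the
block `F'` of `T`. -/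
theorem exists_isMaximalBrauerPair_ge_normalizerIn {p : ℕ} [Fact p.Prime] (hM : IsPModular p M)
    (hT : ∀ y : G, y ∈ T ↔ y ∈ Subgroup.normalizer (Q : Set G) ∧
      StabilizesBlock (Subgroup.centralizer (Q : Set G)) f y)
    {F' : Set (IrrCharacter ↥T)} (hF' : IsPBlock M F')
    (hF'f : ∀ t : ↥T, blockCoeff F' t =
      subgroupBlockCoeff (Subgroup.centralizer (Q : Set G)) f (t : G))
    {P : Subgroup G} {e : Set (IrrCharacter (Subgroup.centralizer (P : Set G)))}
    (hPe : IsBrauerPair p M P e) (hle : SubpairLE p M Q f P e) :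
    ∃ (D : Subgroup ↥T) (d : Set (IrrCharacter (Subgroup.centralizer (D : Set ↥T)))),
      IsMaximalBrauerPair p M F' D d ∧
      (P ⊓ Subgroup.normalizer (Q : Set G)).subgroupOf T ≤ D := by
  classical
  have : Fintype ↥T := Fintype.ofFinite _
  obtain ⟨g, h2⟩ := exists_isNormalSubpair_normalizerIn hM hPe hle
  have hST : P ⊓ Subgroup.normalizer (Q : Set G) ≤ T := le_stab_of_isNormalSubpair hT h2
  have h3 := isBrauerPairOf_subgroupOf_of_isNormalSubpair (centralizer_le_stab hT) hF' hF'f hST h2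
  obtain ⟨D, d, hmax, hRD⟩ := exists_isMaximalBrauerPair_ge hM F'
    (Nat.card ↥T - Nat.card ((P ⊓ Subgroup.normalizer (Q : Set G)).subgroupOf T)) _ _ h3 le_rfl
  exact ⟨D, d, hmax, Cfsg.Agent.S4655.le_le hRD⟩

/-- Subgroups of pairs normally above `(Q, f)` are at most as large as the defect groups of `F'`. -/
theorem card_le_card_of_isNormalSubpair {p : ℕ} [Fact p.Prime] (hM : IsPModular p M)
    (hT : ∀ y : G, y ∈ T ↔ y ∈ Subgroup.normalizer (Q : Set G) ∧
      StabilizesBlock (Subgroup.centralizer (Q : Set G)) f y)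
    {F' : Set (IrrCharacter ↥T)} (hF' : IsPBlock M F')
    (hF'f : ∀ t : ↥T, blockCoeff F' t =
      subgroupBlockCoeff (Subgroup.centralizer (Q : Set G)) f (t : G))
    {D : Subgroup ↥T} (hD : IsDefectGroup p M F' D)
    {R : Subgroup G} {g : Set (IrrCharacter (Subgroup.centralizer (R : Set G)))}
    (h : IsNormalSubpair p M Q f R g) : Nat.card R ≤ Nat.card D := by
  classical
  have : Fintype ↥T := Fintype.ofFinite _
  have hRT : R ≤ T := le_stab_of_isNormalSubpair hT h
  have h3 := isBrauerPairOf_subgroupOf_of_isNormalSubpair (centralizer_le_stab hT) hF' hF'f hRT h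
  obtain ⟨D₄, d₄, hmax₄, hRD⟩ := exists_isMaximalBrauerPair_ge hM F'
    (Nat.card ↥T - Nat.card (R.subgroupOf T)) _ _ h3 le_rfl
  have hD₄ := isDefectGroup_of_isMaximalBrauerPair hM F' D₄ d₄ hmax₄
  have hle : R.subgroupOf T ≤ D₄ := Cfsg.Agent.S4655.le_le hRD
  have h4 : Nat.card R = Nat.card (R.subgroupOf T) :=
    (Nat.card_congr (Subgroup.subgroupOfEquivOfLe hRT).toEquiv).symm
  rw [h4, Cfsg.Agent.Lib.Helper78.card_defectGroup hM hF' hD,
    ← Cfsg.Agent.Lib.Helper78.card_defectGroup hM hF' hD₄]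
  exact Subgroup.card_le_of_le hle

/-- A maximal Brauer pair of `F'` comes from a pair normally above `(Q, f)`. -/
theorem exists_isNormalSubpair_of_isMaximalBrauerPair {p : ℕ} [Fact p.Prime] (hM : IsPModular p M)
    (hQ : IsPGroup p Q) (hf : IsPBlock M f)
    (hT : ∀ y : G, y ∈ T ↔ y ∈ Subgroup.normalizer (Q : Set G) ∧
      StabilizesBlock (Subgroup.centralizer (Q : Set G)) f y)
    {F' : Set (IrrCharacter ↥T)} (hF' : IsPBlock M F')
    (hF'f : ∀ t : ↥T, blockCoeff F' t =
      subgroupBlockCoeff (Subgroup.centralizer (Q : Set G)) f (t : G))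
    {D : Subgroup ↥T} {d : Set (IrrCharacter (Subgroup.centralizer (D : Set ↥T)))}
    (hmax : IsMaximalBrauerPair p M F' D d) :
    ∃ (R : Subgroup G) (g : Set (IrrCharacter (Subgroup.centralizer (R : Set G)))),
      IsNormalSubpair p M Q f R g ∧ R ≤ T ∧ D = R.subgroupOf T := by
  classical
  have : Fintype ↥T := Fintype.ofFinite _
  have hD := isDefectGroup_of_isMaximalBrauerPair hM F' D d hmax
  have hQn : (Q.subgroupOf T).Normal :=
    Subgroup.normal_subgroupOf_of_le_normalizer (stab_le_normalizer hT)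
  have hQD : Q.subgroupOf T ≤ D :=
    normal_pGroup_le_defectGroup hM (Q.subgroupOf T) hQ.comap_subtype hF' hD
  obtain ⟨R, hRT, rfl⟩ : ∃ R : Subgroup G, R ≤ T ∧ D = R.subgroupOf T := by
    refine ⟨D.map T.subtype, ?_, ?_⟩
    · rintro _ ⟨t, _, rfl⟩
      exact t.2
    · exact (Subgroup.comap_map_eq_self_of_injective (Subgroup.subtype_injective T) D).symm
  have hQR : Q ≤ R := by
    intro q hq
    have : (⟨q, le_stab hT hq⟩ : ↥T) ∈ R.subgroupOf T := hQD (Subgroup.mem_subgroupOf.mpr hq)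
    exact Subgroup.mem_subgroupOf.mp this
  have hCRT : Subgroup.centralizer (R : Set G) ≤ T :=
    (Subgroup.centralizer_le hQR).trans (centralizer_le_stab hT)
  exact ⟨R, _, isNormalSubpair_of_isBrauerPairOf_subgroupOf hQ (stab_le_normalizer hT) hf
    (stab_stabilizes hT) hF'f hQR hRT hCRT hmax.1, hRT, rfl⟩

end Defect

end Cfsg.Agent.Lib.Helper16
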