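import Cfsg.Agent.Lib.Helper16.InducedCent
import Cfsg.Agent.Lib.Helper16.BlockKer
import Cfsg.Agent.Lib.Helper79.Integrality
import Cfsg.Agent.Lib.Helper16.FongSylow
import Cfsg.Agent.Lib.Helper16.NormDefect
import Cfsg.Agent.Lib.Helper16.StabGroup

/-!
# Kernels of blocks and Brauer pairs (helper16)

For a normal subgroup `K` of order prime to `p`, a block `B` and a `B`-pair `(Q, f)`:
`K ≤ ker B` iff `C_K(Q) ≤ ker f`.  The proof evaluates central characters at the sum of `K` and
passes through the Brauer homomorphism.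
-/

set_option autoImplicit false

namespace Cfsg.Agent.Lib.Helper16

open Cfsg MonoidAlgebra Cfsg.Agent.Lib.Helper77
open scoped ComplexConjugate

universe u

section SumElt

variable {G : Type u} [Group G] [Fintype G]

open scoped Classical in
/-- The sum of the elements of a subgroup, in the group algebra. -/
noncomputable def sumElt (K : Subgroup G) : MonoidAlgebra ℂ G :=
  ofFun (fun x : G => if x ∈ K then (1 : ℂ) else 0)

open scoped Classical in
omit [Group G] in
theorem coeff_sumElt' [Group G] (K : Subgroup G) (x : G) :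
    (sumElt K).coeff x = if x ∈ K then (1 : ℂ) else 0 := by
  unfold sumElt
  rw [coeff_ofFun]

theorem sumElt_mem_center (K : Subgroup G) [hK : K.Normal] :
    sumElt K ∈ Subalgebra.center ℂ (MonoidAlgebra ℂ G) := by
  classical
  apply mem_center_of_coeff_conj
  intro g h
  rw [coeff_sumElt', coeff_sumElt']
  have : h * g * h⁻¹ ∈ K ↔ g ∈ K := by
    constructor
    · intro h1
      have := hK.conj_mem _ h1 h⁻¹
      have h2 : h⁻¹ * (h * g * h⁻¹) * h⁻¹⁻¹ = g := by group
      rwa [h2] at this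
    · intro h1
      exact hK.conj_mem _ h1 h
  simp only [this]

/-- The sum of a normal subgroup as an element of the centre. -/
noncomputable def sumEltC (K : Subgroup G) [K.Normal] :
    Subalgebra.center ℂ (MonoidAlgebra ℂ G) :=
  ⟨sumElt K, sumElt_mem_center K⟩

theorem sumEltC_mem_centerOrder {M : Ideal AlgInt} [hMp : M.IsPrime] (K : Subgroup G)
    [K.Normal] : sumEltC K ∈ centerOrder G M := by
  classical
  intro x
  show MemLocalRing M ((sumElt K).coeff x)
  rw [coeff_sumElt']
  split_ifs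
  · exact memLocalRing_one hMp.ne_top
  · exact memLocalRing_zero hMp.ne_top

theorem omega_sumElt (K : Subgroup G) [Fintype K] (χ : G → ℂ) :
    omega χ (sumElt K) = (∑ k : K, χ (k : G)) / χ 1 := by
  classical
  unfold sumElt
  rw [omega_ofFun]
  congr 1
  rw [← Finset.sum_subtype (Finset.univ.filter (fun x : G => x ∈ K)) (by simp)
    (fun x : G => χ x), Finset.sum_filter]
  refine Finset.sum_congr rfl fun x _ => ?_
  split_ifs <;> simp

theorem sumElt_mul_self (K : Subgroup G) :
    sumElt K * sumElt K = (Nat.card K : ℂ) • sumElt K := by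
  classical
  ext g
  rw [coeff_mul_apply_left, Finsupp.sum_fintype _ _ (by simp)]
  simp only [coeff_sumElt', coeff_smul, Finsupp.smul_apply, smul_eq_mul]
  by_cases hg : g ∈ K
  · rw [if_pos hg, mul_one]
    have h1 : ∀ x : G, ((if x ∈ K then (1 : ℂ) else 0) * if x⁻¹ * g ∈ K then (1 : ℂ) else 0) =
        if x ∈ K then (1 : ℂ) else 0 := by
      intro x
      by_cases hx : x ∈ K
      · rw [if_pos hx, if_pos (K.mul_mem (K.inv_mem hx) hg), mul_one]
      · rw [if_neg hx, zero_mul]
    rw [Finset.sum_congr rfl (fun x _ => h1 x), Finset.sum_boole]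
    congr 1
    rw [Nat.card_eq_fintype_card, Fintype.card_subtype]
  · rw [if_neg hg, mul_zero]
    apply Finset.sum_eq_zero
    intro x _
    by_cases hx : x ∈ K
    · have : x⁻¹ * g ∉ K := by
        intro h2
        apply hg
        have := K.mul_mem hx h2
        rwa [mul_inv_cancel_left] at this
      rw [if_neg this, mul_zero]
    · rw [if_neg hx, zero_mul]

/-- If `K` lies in the kernel of `χ`, the central character of `χ` at the sum of `K` is `|K|`. -/
theorem omega_sumElt_of_le (K : Subgroup G) (χ : IrrCharacter G) (h : K ≤ irrKer χ) :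
    omega (χ : G → ℂ) (sumElt K) = (Nat.card K : ℂ) := by
  classical
  have : Fintype K := Fintype.ofFinite _
  rw [omega_sumElt]
  have h1 : ∀ k : K, (χ : G → ℂ) (k : G) = (χ : G → ℂ) 1 := fun k => (mem_irrKer χ _).mp (h k.2)
  rw [Finset.sum_congr rfl (fun k _ => h1 k), Finset.sum_const, Finset.card_univ, nsmul_eq_mul,
    Nat.card_eq_fintype_card, mul_div_assoc,
    div_self (Cfsg.Agent.Lib.Helper79.irr_apply_one_ne_zero χ), mul_one]

/-- The central character of `χ` at the sum of a normal subgroup `K` is `|K|` or `0`, and it is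
`|K|` only if `K` lies in the kernel of `χ`. -/
theorem omega_sumElt_of_not_le (K : Subgroup G) [K.Normal] (χ : IrrCharacter G)
    (h : ¬ K ≤ irrKer χ) : omega (χ : G → ℂ) (sumElt K) = 0 := by
  classical
  have : Fintype K := Fintype.ofFinite _
  have hsq : omega (χ : G → ℂ) (sumElt K) * omega (χ : G → ℂ) (sumElt K) =
      (Nat.card K : ℂ) * omega (χ : G → ℂ) (sumElt K) := by
    rw [← omega_mul χ (sumElt_mem_center K), sumElt_mul_self, omega_smul]
  by_contra hne
  have hval : omega (χ : G → ℂ) (sumElt K) = (Nat.card K : ℂ) := mul_right_cancel₀ hne hsq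
  apply h
  intro k hk
  rw [mem_irrKer]
  -- all values on `K` equal the degree
  have hχ1 := Cfsg.Agent.Lib.Helper79.irr_apply_one_eq_charDegree χ
  have hχ0 := Cfsg.Agent.Lib.Helper79.irr_apply_one_ne_zero χ
  rw [omega_sumElt, div_eq_iff hχ0] at hval
  set d : ℝ := (charDegree (χ : G → ℂ) : ℝ) with hd
  have hre : ∀ x : K, ((χ : G → ℂ) (x : G)).re ≤ d := fun x =>
    (Complex.re_le_norm _).trans (Cfsg.Agent.Lib.Helper79.irr_norm_le χ _)
  have hsum : ∑ x : K, (d - ((χ : G → ℂ) (x : G)).re) = 0 := by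
    have h1 := congrArg Complex.re hval
    rw [Complex.re_sum, hχ1] at h1
    rw [Finset.sum_sub_distrib, h1, Finset.sum_const, Finset.card_univ, nsmul_eq_mul,
      Nat.card_eq_fintype_card]
    simp [hd]
  have hzero := (Finset.sum_eq_zero_iff_of_nonneg (fun x _ => sub_nonneg.mpr (hre x))).mp hsum
    ⟨k, hk⟩ (Finset.mem_univ _)
  have hrek : ((χ : G → ℂ) k).re = d := by
    have : d - ((χ : G → ℂ) k).re = 0 := hzero
    linarith
  have hnorm : ‖(χ : G → ℂ) k‖ ≤ d := Cfsg.Agent.Lib.Helper79.irr_norm_le χ k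
  have him : ((χ : G → ℂ) k).im = 0 := by
    have h2 := Complex.sq_norm ((χ : G → ℂ) k)
    rw [Complex.normSq_apply, hrek] at h2
    have h3 : ‖(χ : G → ℂ) k‖ ^ 2 ≤ d ^ 2 := by
      apply pow_le_pow_left₀ (norm_nonneg _) hnorm
    nlinarith [mul_self_nonneg ((χ : G → ℂ) k).im]
  rw [hχ1]
  apply Complex.ext
  · rw [hrek]
    simp [hd]
  · rw [him]
    simp

end SumElt

section Kernel

variable {G : Type u} [Group G] [Fintype G] {M : Ideal AlgInt}

/-- `K ≤ ker χ` iff the central character of `χ` at the sum of `K` is outside the ideal. -/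
theorem le_irrKer_iff_not_memLocalIdeal {p : ℕ} [Fact p.Prime] (hM : IsPModular p M)
    (K : Subgroup G) [K.Normal] (hK : ¬ p ∣ Nat.card K) (χ : IrrCharacter G) :
    K ≤ irrKer χ ↔ ¬ MemLocalIdeal M (omega (χ : G → ℂ) (sumElt K)) := by
  have hMp := isPModular_isPrime hM
  constructor
  · intro h
    rw [omega_sumElt_of_le K χ h, memLocalIdeal_natCast_iff hM]
    exact hK
  · intro h
    by_contra hcon
    rw [omega_sumElt_of_not_le K χ hcon] at h
    exact h (memLocalIdeal_zero hMp.ne_top)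

omit [Fintype G] in
theorem not_dvd_card_subgroupOf {p : ℕ} (K C : Subgroup G) (hK : ¬ p ∣ Nat.card K) :
    ¬ p ∣ Nat.card (K.subgroupOf C) := by
  intro h
  apply hK
  have h1 : Nat.card (K.subgroupOf C) = Nat.card (K ⊓ C : Subgroup G) := by
    rw [← Subgroup.inf_subgroupOf_right K C]
    exact Nat.card_congr (Subgroup.subgroupOfEquivOfLe inf_le_right).toEquiv
  rw [h1] at h
  exact h.trans (Subgroup.card_dvd_of_le inf_le_left)

/-- The Brauer homomorphism at `Q` maps the sum of `K` to the sum of `C_K(Q)`. -/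
theorem brP_sumElt (Q K : Subgroup G) [Fintype ↥(Subgroup.centralizer (Q : Set G))] :
    brP Q (Subgroup.centralizer (Q : Set G)) (sumElt K) =
      sumElt (K.subgroupOf (Subgroup.centralizer (Q : Set G))) := by
  classical
  ext c
  rw [coeff_brP, coeff_sumElt', coeff_sumElt', if_pos c.2]
  simp only [Subgroup.mem_subgroupOf]

/-- For a `B`-pair `(Q, f)` and a normal subgroup `K` of order prime to `p`: `K` lies in the kernel
of `χ ∈ B` iff `C_K(Q)` lies in the kernel of `ξ ∈ f`. -/
theorem le_irrKer_iff_of_isBrauerPairOf {p : ℕ} [Fact p.Prime] (hM : IsPModular p M)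
    {B : Set (IrrCharacter G)} {Q : Subgroup G}
    {f : Set (IrrCharacter (Subgroup.centralizer (Q : Set G)))}
    (hpair : IsBrauerPairOf p M B Q f) (K : Subgroup G) [K.Normal] (hK : ¬ p ∣ Nat.card K)
    {χ : IrrCharacter G} (hχ : χ ∈ B) {ξ : IrrCharacter ↥(Subgroup.centralizer (Q : Set G))}
    (hξ : ξ ∈ f) :
    K ≤ irrKer χ ↔ K.subgroupOf (Subgroup.centralizer (Q : Set G)) ≤ irrKer ξ := by
  classical
  have hMp := isPModular_isPrime hM
  have : Fintype ↥(Subgroup.centralizer (Q : Set G)) := Fintype.ofFinite _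
  have hK' := not_dvd_card_subgroupOf K (Subgroup.centralizer (Q : Set G)) hK
  have h1 := brauerLam_sub_omegaHom_of_isBrauerPairOf hM hpair hξ hχ
    (sumEltC_mem_centerOrder (M := M) K)
  have h2 : ((sumEltC K : Subalgebra.center ℂ (MonoidAlgebra ℂ G)) : MonoidAlgebra ℂ G) =
      sumElt K := rfl
  rw [h2, brauerLam_apply, brP_sumElt, omegaHom_apply, h2] at h1
  rw [le_irrKer_iff_not_memLocalIdeal hM K hK χ,
    le_irrKer_iff_not_memLocalIdeal hM (K.subgroupOf (Subgroup.centralizer (Q : Set G))) hK' ξ]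
  constructor
  · intro h3 h4
    apply h3
    have := memLocalIdeal_sub h4 h1
    rwa [sub_sub_cancel] at this
  · intro h3 h4
    apply h3
    have := memLocalIdeal_add h1 h4
    rwa [sub_add_cancel] at this

/-- Block form: `K ≤ ker B` iff `C_K(Q) ≤ ker f`, for a `B`-pair `(Q, f)` and a normal subgroup `K`
of order prime to `p`. -/
theorem blockKer_iff_of_isBrauerPairOf {p : ℕ} [Fact p.Prime] (hM : IsPModular p M)
    {B : Set (IrrCharacter G)} {Q : Subgroup G}
    {f : Set (IrrCharacter (Subgroup.centralizer (Q : Set G)))}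
    (hpair : IsBrauerPairOf p M B Q f) (K : Subgroup G) [K.Normal] (hK : ¬ p ∣ Nat.card K) :
    (∀ k ∈ K, k ∈ blockKer B) ↔
      ∀ c : ↥(Subgroup.centralizer (Q : Set G)), (c : G) ∈ K → c ∈ blockKer f := by
  have hMp := isPModular_isPrime hM
  obtain ⟨χ₀, hχ₀⟩ := IsPBlock_nonempty hMp.ne_top hpair.2.1
  obtain ⟨ξ₀, hξ₀⟩ := IsPBlock_nonempty hMp.ne_top hpair.1.2
  constructor
  · intro h c hc ξ hξ
    have h1 : K ≤ irrKer χ₀ := fun k hk => (mem_irrKer χ₀ k).mpr (h k hk χ₀ hχ₀)
    have h2 := (le_irrKer_iff_of_isBrauerPairOf hM hpair K hK hχ₀ hξ).mp h1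
    exact (mem_irrKer ξ c).mp (h2 (Subgroup.mem_subgroupOf.mpr hc))
  · intro h k hk χ hχ
    have h1 : K.subgroupOf (Subgroup.centralizer (Q : Set G)) ≤ irrKer ξ₀ := fun c hc =>
      (mem_irrKer ξ₀ c).mpr (h c (Subgroup.mem_subgroupOf.mp hc) ξ₀ hξ₀)
    have h2 := (le_irrKer_iff_of_isBrauerPairOf hM hpair K hK hχ hξ₀).mpr h1
    exact (mem_irrKer χ k).mp (h2 hk)

end Kernel

section Transport

theorem mem_blockKer_pullBlock_iff {K₁ K₂ : Type u} [Group K₁] [Group K₂] (φ : K₁ ≃* K₂)
    (β : Set (IrrCharacter K₂)) (c : K₁) :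
    c ∈ blockKer (pullBlock φ β) ↔ φ c ∈ blockKer β := by
  constructor
  · intro h ξ hξ
    have := h (irrPull φ ξ) (irrPull_mem_pullBlock φ hξ)
    rwa [irrPull_apply, irrPull_apply, map_one] at this
  · intro h ξ' hξ'
    obtain ⟨ξ, hξ, rfl⟩ := hξ'
    rw [irrPull_apply, irrPull_apply, map_one]
    exact h ξ hξ

variable {G : Type u} [Group G]

/-- The kernel condition for a block of `C_G(R)` seen inside a subgroup `L ⊇ R C_G(R)`. -/
theorem blockKer_pullBlock_centEquivIn_iff (L R : Subgroup G) (hRL : R ≤ L)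
    (hCL : Subgroup.centralizer (R : Set G) ≤ L)
    (e : Set (IrrCharacter (Subgroup.centralizer (R : Set G)))) (K : Subgroup G) :
    (∀ c : ↥(Subgroup.centralizer ((R.subgroupOf L : Subgroup ↥L) : Set ↥L)),
      (c : ↥L) ∈ K.subgroupOf L → c ∈ blockKer (pullBlock (centEquivIn L R hRL hCL) e)) ↔
    ∀ c : ↥(Subgroup.centralizer (R : Set G)), (c : G) ∈ K → c ∈ blockKer e := by
  constructor
  · intro h c hc
    have h1 := h ((centEquivIn L R hRL hCL).symm c) (Subgroup.mem_subgroupOf.mpr hc)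
    rw [mem_blockKer_pullBlock_iff, MulEquiv.apply_symm_apply] at h1
    exact h1
  · intro h c hc
    rw [mem_blockKer_pullBlock_iff]
    exact h _ (Subgroup.mem_subgroupOf.mp hc)

end Transport

section Propagate

variable {G : Type u} [Group G] [Fintype G] {M : Ideal AlgInt}

/-- Kernel propagation along a normal inclusion `(Q, f) ⊴ (R, g)` of Brauer pairs: for a subgroup
`K ≤ C_G(Q)` of order prime to `p` normalized by `N_G(Q)`, `K ≤ ker f` iff `C_K(R) ≤ ker g`. -/
theorem blockKer_iff_of_isNormalSubpair {p : ℕ} [Fact p.Prime] (hM : IsPModular p M)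
    {Q R : Subgroup G} {f : Set (IrrCharacter (Subgroup.centralizer (Q : Set G)))}
    {g : Set (IrrCharacter (Subgroup.centralizer (R : Set G)))}
    (h : IsNormalSubpair p M Q f R g) (K : Subgroup G) (hK : ¬ p ∣ Nat.card K)
    (hKn : ∀ x ∈ Subgroup.normalizer (Q : Set G), ∀ k ∈ K, x * k * x⁻¹ ∈ K) :
    (∀ c : ↥(Subgroup.centralizer (Q : Set G)), (c : G) ∈ K → c ∈ blockKer f) ↔
      ∀ c : ↥(Subgroup.centralizer (R : Set G)), (c : G) ∈ K → c ∈ blockKer g := by
  classical
  have hT := mem_stabSubgroup_iff Q f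
  have hQL : Q ≤ stabSubgroup Q f := le_stab hT
  have hCL : Subgroup.centralizer (Q : Set G) ≤ stabSubgroup Q f := centralizer_le_stab hT
  have hLN : stabSubgroup Q f ≤ Subgroup.normalizer (Q : Set G) := stab_le_normalizer hT
  have hRL : R ≤ stabSubgroup Q f := le_stab_of_isNormalSubpair hT h
  have : Fintype ↥(stabSubgroup Q f) := Fintype.ofFinite _
  obtain ⟨F', hF', hF'f, hpairQ⟩ := exists_block_of_stable' hM Q (stabSubgroup Q f) h.1.1 hQL hLN
    hCL f h.1.2 (stab_stabilizes hT)
  have hpairR := isBrauerPairOf_subgroupOf_of_isNormalSubpair hCL hF' hF'f hRL h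
  have hKLn : (K.subgroupOf (stabSubgroup Q f)).Normal := by
    constructor
    intro k hk x
    rw [Subgroup.mem_subgroupOf] at hk ⊢
    exact hKn (x : G) (hLN x.2) _ hk
  have hKL : ¬ p ∣ Nat.card (K.subgroupOf (stabSubgroup Q f)) :=
    not_dvd_card_subgroupOf K _ hK
  have h1 := blockKer_iff_of_isBrauerPairOf hM hpairQ (K.subgroupOf (stabSubgroup Q f)) hKL
  have h2 := blockKer_iff_of_isBrauerPairOf hM hpairR (K.subgroupOf (stabSubgroup Q f)) hKL
  rw [blockKer_pullBlock_centEquivIn_iff] at h1 h2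
  exact h1.symm.trans h2

end Propagate

end Cfsg.Agent.Lib.Helper16
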