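import Cfsg.Agent.Lib.Helper16.KernelBrauer
import Cfsg.Agent.Lib.Helper78.SMTOrtho2
import Cfsg.Agent.Lib.Helper16.Nilpotent

/-!
# Constancy of the characters of a block on `σ`-cosets in `p`-sections (helper16)

If `O_σ(C_G(D)) ≤ ker e` for a maximal `B`-pair `(D, e)` and `C_G(y)` has a normal Hall
`σ`-subgroup for the `p`-element `y`, then `χ(y x) = χ(y)` for `χ ∈ B` and `σ`-elements `x` of
`C_G(y)`.
-/

set_option autoImplicit false

namespace Cfsg.Agent.Lib.Helper16

open Cfsg MonoidAlgebra Cfsg.Agent.Lib.Helper77 Cfsg.Agent.Lib.Helper54 Cfsg.Agent.Lib.Helper78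
open scoped ComplexConjugate

universe u

variable {G : Type u} [Group G] [Fintype G] {M : Ideal AlgInt}

theorem irr_mul_eq_of_kerCore {p : ℕ} [Fact p.Prime] (hM : IsPModular p M) {σ : Set ℕ}
    (hpσ : p ∉ σ) {B : Set (IrrCharacter G)} {D : Subgroup G}
    {e : Set (IrrCharacter (Subgroup.centralizer (D : Set G)))}
    (hmax : IsMaximalBrauerPair p M B D e) (hker : KerCore σ (⟨D, e⟩ : BrauerPairIdx G))
    (y : G) (hy : ∃ k : ℕ, orderOf y = p ^ k)
    (hC : ∀ x : ↥(Subgroup.centralizer ({y} : Set G)),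
      (∀ q : ℕ, q.Prime → q ∣ orderOf x → q ∈ σ) →
        x ∈ piCore σ ↥(Subgroup.centralizer ({y} : Set G)))
    {χ : IrrCharacter G} (hχ : χ ∈ B) (x : G) (hx : x ∈ Subgroup.centralizer ({y} : Set G))
    (hxσ : ∀ q : ℕ, q.Prime → q ∣ orderOf x → q ∈ σ) :
    (χ : G → ℂ) (y * x) = (χ : G → ℂ) y := by
  classical
  have hMp := isPModular_isPrime hM
  have hp : p.Prime := Fact.out
  have : Fintype ↥(Subgroup.centralizer ({y} : Set G)) := Fintype.ofFinite _
  have hB : IsPBlock M B := hmax.1.2.1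
  have hxreg : ¬ p ∣ orderOf (⟨x, hx⟩ : ↥(Subgroup.centralizer ({y} : Set G))) := by
    intro h
    rw [← Subgroup.orderOf_coe] at h
    exact hpσ (hxσ p hp h)
  have h1reg : ¬ p ∣ orderOf (1 : ↥(Subgroup.centralizer ({y} : Set G))) := by
    rw [orderOf_one]
    exact hp.one_lt.ne' ∘ Nat.dvd_one.mp
  have h1 := blockPart_inducingSet_irr hM y hy hB χ ⟨x, hx⟩ hxreg
  have h2 := blockPart_inducingSet_irr hM y hy hB χ 1 h1reg
  rw [if_pos hχ] at h1 h2
  have h3 : (χ : G → ℂ) (y * ((1 : ↥(Subgroup.centralizer ({y} : Set G))) : G)) =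
      (χ : G → ℂ) y := by
    rw [Subgroup.coe_one, mul_one]
  rw [h3] at h2
  rw [← h1, ← h2, blockPart_apply, blockPart_apply]
  refine Finset.sum_congr rfl fun ξ hξ => ?_
  have hind : IsInducedBlock M (Subgroup.centralizer ({y} : Set G))
      (blockOf M (ξ : ↥(Subgroup.centralizer ({y} : Set G)) → ℂ)) B := (Finset.mem_filter.mp hξ).2
  congr 1
  -- a defect group of the block of `ξ` contains `y`
  obtain ⟨Db, hDb⟩ := exists_isDefectGroup (M := M) p (isPBlock_blockOf ξ)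
  have hyC : y ∈ Subgroup.centralizer ({y} : Set G) :=
    Subgroup.mem_centralizer_singleton_iff.mpr rfl
  have hcomm : ∀ c : ↥(Subgroup.centralizer ({y} : Set G)),
      c * (⟨y, hyC⟩ : ↥(Subgroup.centralizer ({y} : Set G))) = ⟨y, hyC⟩ * c := by
    intro c
    apply Subtype.ext
    exact Subgroup.mem_centralizer_singleton_iff.mp c.2
  have hQn : (Subgroup.zpowers (⟨y, hyC⟩ : ↥(Subgroup.centralizer ({y} : Set G)))).Normal := by
    constructor
    intro n hn c
    obtain ⟨k, rfl⟩ := Subgroup.mem_zpowers_iff.mp hn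
    have h5 : Commute c (⟨y, hyC⟩ : ↥(Subgroup.centralizer ({y} : Set G))) := hcomm c
    have h6 : c * (⟨y, hyC⟩ : ↥(Subgroup.centralizer ({y} : Set G))) ^ k * c⁻¹ =
        (⟨y, hyC⟩ : ↥(Subgroup.centralizer ({y} : Set G))) ^ k := by
      rw [(h5.zpow_right k).eq, mul_inv_cancel_right]
    rw [h6]
    exact Subgroup.zpow_mem_zpowers _ k
  have hQp : IsPGroup p (Subgroup.zpowers (⟨y, hyC⟩ : ↥(Subgroup.centralizer ({y} : Set G)))) := by
    obtain ⟨k, hk⟩ := hy
    intro g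
    obtain ⟨m, hm⟩ := Subgroup.mem_zpowers_iff.mp g.2
    refine ⟨k, ?_⟩
    apply Subtype.ext
    rw [Subgroup.coe_pow, ← hm, ← zpow_natCast, ← zpow_mul, mul_comm, zpow_mul, zpow_natCast]
    have h7 : (⟨y, hyC⟩ : ↥(Subgroup.centralizer ({y} : Set G))) ^ (p ^ k) = 1 := by
      apply Subtype.ext
      rw [Subgroup.coe_pow, Subgroup.coe_one, ← hk]
      exact pow_orderOf_eq_one y
    rw [h7, one_zpow, Subgroup.coe_one]
  have hQD := normal_pGroup_le_defectGroup hM _ hQp (isPBlock_blockOf ξ) hDb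
  have hyD : y ∈ Db.map (Subgroup.centralizer ({y} : Set G)).subtype :=
    ⟨⟨y, hyC⟩, hQD (Subgroup.mem_zpowers _), rfl⟩
  have hCle : Subgroup.centralizer ((Db.map (Subgroup.centralizer ({y} : Set G)).subtype :
      Subgroup G) : Set G) ≤ Subgroup.centralizer ({y} : Set G) := by
    intro c hc
    rw [Subgroup.mem_centralizer_singleton_iff]
    exact ((Subgroup.mem_centralizer_iff.mp hc) y hyD).symm
  have hkerb := blockKer_of_induced_of_kerCore hM hpσ hmax hker _ hind hDb hCle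
  have hxcore : (⟨x, hx⟩ : ↥(Subgroup.centralizer ({y} : Set G))) ∈
      piCore σ ↥(Subgroup.centralizer ({y} : Set G)) := by
    apply hC
    intro q hq hdvd
    rw [← Subgroup.orderOf_coe] at hdvd
    exact hxσ q hq hdvd
  exact hkerb _ hxcore ξ (self_mem_blockOf hMp.ne_top ξ)

end Cfsg.Agent.Lib.Helper16
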