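import Cfsg.Agent.Lib.Helper16.KernelBrauer
import Cfsg.Agent.Lib.Helper16.Nilpotent
import Cfsg.Agent.Lib.Helper16.FirstMain
import Cfsg.Agent.S4657

/-!
# From a local block to the Brauer correspondent: `O_σ` in the kernel (helper16)

If `b` is a block of `D₀ C_G(D₀)` inducing `B`, `O_σ(C_G(D₀))` is a normal Hall `σ`-subgroup of
`C_G(D₀)` (`p ∉ σ`) lying in the kernel of `b`, then `O_σ(N_G(D))` lies in the kernel of the Brauer
correspondent of `B` in `N_G(D)`.
-/

set_option autoImplicit false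

namespace Cfsg.Agent.Lib.Helper16

open Cfsg MonoidAlgebra Cfsg.Agent.Lib.Helper77 Cfsg.Agent.Lib.Helper54
open scoped ComplexConjugate

universe u

section Hall

variable {G : Type u} [Group G]

/-- `O_σ(C_G(Q))` contains every `σ`-element of `C_G(Q)`. -/
def HallCore (σ : Set ℕ) (Q : Subgroup G) : Prop :=
  ∀ x : ↥(Subgroup.centralizer (Q : Set G)),
    (∀ q : ℕ, q.Prime → q ∣ orderOf x → q ∈ σ) → x ∈ piCore σ ↥(Subgroup.centralizer (Q : Set G))

theorem orderOf_isPi_of_mem_piCore {X : Type*} [Group X] [Finite X] (σ : Set ℕ) {x : X}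
    (hx : x ∈ piCore σ X) : ∀ q : ℕ, q.Prime → q ∣ orderOf x → q ∈ σ := by
  intro q hq hdvd
  have h1 : orderOf (⟨x, hx⟩ : ↥(piCore σ X)) = orderOf x := Subgroup.orderOf_mk x hx
  have h2 : orderOf (⟨x, hx⟩ : ↥(piCore σ X)) ∣ Nat.card (piCore σ X) := orderOf_dvd_natCard _
  rw [h1] at h2
  exact piCore_isPi σ q hq (hdvd.trans h2)

theorem hallCore_of_le [Finite G] (σ : Set ℕ) {Q R : Subgroup G} (hQR : Q ≤ R)
    (h : HallCore σ Q) : HallCore σ R := by
  intro x hx
  have hCC : Subgroup.centralizer (R : Set G) ≤ Subgroup.centralizer (Q : Set G) :=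
    Subgroup.centralizer_le hQR
  have h1 : (⟨(x : G), hCC x.2⟩ : ↥(Subgroup.centralizer (Q : Set G))) ∈
      piCore σ ↥(Subgroup.centralizer (Q : Set G)) := by
    apply h
    intro q hq hdvd
    apply hx q hq
    rw [← Subgroup.orderOf_coe] at hdvd ⊢
    exact hdvd
  exact mem_piCore_of_mem_coreCent σ hQR x ((mem_coreCent_iff σ Q _).mpr h1)

end Hall

section Up

variable {G : Type u} [Group G] [Fintype G] {M : Ideal AlgInt}

/-- The kernel condition passes up a normal inclusion of pairs, under the Hall condition. -/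
theorem kerCore_up_of_normalSubpairRel {p : ℕ} [Fact p.Prime] (hM : IsPModular p M) {σ : Set ℕ}
    (hpσ : p ∉ σ) {a b : BrauerPairIdx G} (h : NormalSubpairRel p M a b) (ha : KerCore σ a)
    (hHa : HallCore σ a.1) : KerCore σ b := by
  obtain ⟨Q, f⟩ := a
  obtain ⟨R, g⟩ := b
  have hQR : Q ≤ R := h.2.2.1
  have hCC : Subgroup.centralizer (R : Set G) ≤ Subgroup.centralizer (Q : Set G) :=
    Subgroup.centralizer_le hQR
  have hK : ¬ p ∣ Nat.card (coreCent σ Q) := by
    rw [card_coreCent]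
    exact not_dvd_card_piCore Fact.out hpσ
  have h1 := blockKer_iff_of_isNormalSubpair hM h (coreCent σ Q) hK
    (fun x hx k hk => conj_mem_coreCent σ Q hx hk)
  have h2 := h1.mp (fun c hc => ha c ((mem_coreCent_iff σ Q c).mp hc))
  intro c hc
  apply h2 c
  have h3 : (⟨(c : G), hCC c.2⟩ : ↥(Subgroup.centralizer (Q : Set G))) ∈
      piCore σ ↥(Subgroup.centralizer (Q : Set G)) := by
    apply hHa
    intro q hq hdvd
    apply orderOf_isPi_of_mem_piCore σ hc q hq
    rw [← Subgroup.orderOf_coe] at hdvd ⊢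
    exact hdvd
  exact (mem_coreCent_iff σ Q _).mpr h3

/-- The kernel condition passes up inclusions of pairs, under the Hall condition. -/
theorem kerCore_up_of_subpairLE {p : ℕ} [Fact p.Prime] (hM : IsPModular p M) {σ : Set ℕ}
    (hpσ : p ∉ σ) {a b : BrauerPairIdx G}
    (h : Relation.ReflTransGen (NormalSubpairRel p M) a b) (ha : KerCore σ a)
    (hHa : HallCore σ a.1) : KerCore σ b ∧ HallCore σ b.1 := by
  induction h with
  | refl => exact ⟨ha, hHa⟩
  | tail _ hstep ih =>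
    exact ⟨kerCore_up_of_normalSubpairRel hM hpσ hstep ih.1 ih.2,
      hallCore_of_le σ hstep.2.2.1 ih.2⟩

/-- Every block has a Brauer pair at any normal `p`-subgroup. -/
theorem exists_isBrauerPairOf_of_normal {p : ℕ} [Fact p.Prime] (hM : IsPModular p M)
    (Q : Subgroup G) [Q.Normal] (hQ : IsPGroup p Q) {B : Set (IrrCharacter G)}
    (hB : IsPBlock M B) :
    ∃ f : Set (IrrCharacter (Subgroup.centralizer (Q : Set G))), IsBrauerPairOf p M B Q f := by
  have hMp := isPModular_isPrime hM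
  obtain ⟨g, hg⟩ := exists_isDefectClass hB
  obtain ⟨χ, hχ⟩ := IsPBlock_nonempty hMp.ne_top hB
  have hgc := mem_centralizer_of_centralChar_not_memLocalIdeal hM Q hQ g χ (hg.2.2 χ hχ)
  exact exists_isBrauerPairOf_of_coeff hM hB hQ hgc hg.2.1

/-- **Brauer**: if `b` is a block of `H₀` (`D₀ C_G(D₀) ≤ H₀ ≤ N_G(D₀)`) inducing `B`,
`O_σ(C_G(D₀))` is a normal Hall `σ`-subgroup of `C_G(D₀)` lying in the kernel of `b`, then
`O_σ(N_G(D))` lies in the kernel of the Brauer correspondent of `B` in `N_G(D)`. -/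
theorem blockKer_correspondent_of_local {p : ℕ} [Fact p.Prime] (hM : IsPModular p M) {σ : Set ℕ}
    (hpσ : p ∉ σ) {B : Set (IrrCharacter G)} (hB : IsPBlock M B) {D : Subgroup G}
    (hBD : IsDefectGroup p M B D)
    {B₁ : Set (IrrCharacter ↥(Subgroup.normalizer (D : Set G)))}
    (hB₁ : IsInducedBlock M (Subgroup.normalizer (D : Set G)) B₁ B)
    (hB₁D : IsDefectGroup p M B₁ (D.subgroupOf (Subgroup.normalizer (D : Set G))))
    (D₀ : Subgroup G) (hD₀ : IsPGroup p D₀) (H₀ : Subgroup G) (hD₀H : D₀ ≤ H₀)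
    (hCH : Subgroup.centralizer (D₀ : Set G) ≤ H₀)
    (hHN : H₀ ≤ Subgroup.normalizer (D₀ : Set G))
    {b : Set (IrrCharacter ↥H₀)} (hb : IsInducedBlock M H₀ b B)
    (hcompl : HallCore σ D₀)
    (hkerb : ∀ k : ↥H₀, (k : G) ∈ coreCent σ D₀ → k ∈ blockKer b) :
    ∀ n : ↥(Subgroup.normalizer (D : Set G)),
      n ∈ piCore σ ↥(Subgroup.normalizer (D : Set G)) → n ∈ blockKer B₁ := by
  classical
  have hMp := isPModular_isPrime hM
  have : Fintype ↥H₀ := Fintype.ofFinite _
  have hn₀ : (D₀.subgroupOf H₀).Normal := Subgroup.normal_subgroupOf_of_le_normalizer hHN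
  have hD₀p : IsPGroup p (D₀.subgroupOf H₀) := hD₀.comap_subtype
  obtain ⟨f', hpair'⟩ := exists_isBrauerPairOf_of_normal hM (D₀.subgroupOf H₀) hD₀p hb.1
  have hf' : f' = pullBlock (centEquivIn H₀ D₀ hD₀H hCH)
      (pullBlock (centEquivIn H₀ D₀ hD₀H hCH).symm f') := (pullBlock_pullBlock_symm _ _).symm
  rw [hf'] at hpair'
  obtain ⟨B', hind', hpairB⟩ := exists_isInducedBlock_of_centralizer_le hM H₀ D₀ hD₀H hCH hpair'
  have hBB : B' = B := isInducedBlock_unique _ hind' hb
  rw [hBB] at hpairB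
  -- the kernel condition at `D₀`
  have hK : ¬ p ∣ Nat.card ((coreCent σ D₀).subgroupOf H₀) := by
    apply not_dvd_card_subgroupOf
    rw [card_coreCent]
    exact not_dvd_card_piCore Fact.out hpσ
  have hKn : ((coreCent σ D₀).subgroupOf H₀).Normal := by
    constructor
    intro k hk x
    rw [Subgroup.mem_subgroupOf] at hk ⊢
    exact conj_mem_coreCent σ D₀ (hHN x.2) hk
  have h1 := (blockKer_iff_of_isBrauerPairOf hM hpair' ((coreCent σ D₀).subgroupOf H₀) hK).mp
    (fun k hk => hkerb k (Subgroup.mem_subgroupOf.mp hk))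
  rw [blockKer_pullBlock_centEquivIn_iff] at h1
  have hker₀ : KerCore σ
      (⟨D₀, pullBlock (centEquivIn H₀ D₀ hD₀H hCH).symm f'⟩ : BrauerPairIdx G) :=
    fun c hc => h1 c ((mem_coreCent_iff σ D₀ c).mpr hc)
  -- go up to a maximal pair
  obtain ⟨D', e', hmax', hle⟩ := exists_isMaximalBrauerPair_ge hM B
    (Nat.card G - Nat.card D₀) D₀ _ hpairB le_rfl
  have hup := kerCore_up_of_subpairLE hM hpσ hle hker₀ hcompl
  -- conjugate to `D`
  have hD' := isDefectGroup_of_isMaximalBrauerPair hM B D' e' hmax'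
  obtain ⟨z, hz⟩ := exists_conj_eq_of_isDefectGroup hM hB hD' hBD
  have hpairz := isBrauerPairOf_conj hmax'.1 z
  have hkerz : KerCore σ (conjPair z (⟨D', e'⟩ : BrauerPairIdx G)) :=
    (kerCore_conjPair_iff σ z _).mpr hup.1
  subst hz
  -- descend to the normalizer
  have : Fintype ↥(Subgroup.normalizer
    ((D'.map (MulAut.conj z).toMonoidHom : Subgroup G) : Set G)) := Fintype.ofFinite _
  have hDN : D'.map (MulAut.conj z).toMonoidHom ≤ Subgroup.normalizer
      ((D'.map (MulAut.conj z).toMonoidHom : Subgroup G) : Set G) := Subgroup.le_normalizer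
  have hCN : Subgroup.centralizer ((D'.map (MulAut.conj z).toMonoidHom : Subgroup G) : Set G) ≤
      Subgroup.normalizer ((D'.map (MulAut.conj z).toMonoidHom : Subgroup G) : Set G) :=
    Subgroup.centralizer_le_normalizer _
  have hpairN : IsBrauerPair p M ((D'.map (MulAut.conj z).toMonoidHom).subgroupOf
      (Subgroup.normalizer ((D'.map (MulAut.conj z).toMonoidHom : Subgroup G) : Set G)))
      (pullBlock (centEquivIn _ _ hDN hCN) (conjBlock D' z e')) :=
    ⟨hpairz.1.1.comap_subtype, isPBlock_pullBlock _ hpairz.1.2⟩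
  obtain ⟨β, hβ, _⟩ := Cfsg.Agent.S4657.result p M hM _ _ hpairN
  obtain ⟨B'', hind'', hpair''⟩ := exists_isInducedBlock_of_centralizer_le hM _ _ hDN hCN hβ
  have hB'' : B'' = B := (Cfsg.Agent.S4657.result p M hM _ _ hpairz.1).unique hpair'' hpairz
  rw [hB''] at hind''
  have hβB₁ : B₁ = β := firstMain_unique hM _ hpairz.1.1 B hB hB₁.1 hB₁D hB₁ hβ.2.1 hind''
  rw [hβB₁]
  exact blockKer_of_kerCore_restrict hM hpσ _ _ hDN hCN hβ hkerz

end Up

end Cfsg.Agent.Lib.Helper16
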