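import Cfsg.Agent.Lib.Helper16.ModRepRank
import Cfsg.Prelude.Def_BlockRank

/-!
# MODREP / BRIDGE: exact sheet statements of helper16's modules, in the sheet namespace

MODREP-[BR1K] `chiBar_mul_pElement`, [BR2K] `exists_chiBar_delta`, [BR5K] `sum_cBar_mul_chiBar`,
[BR7M] `finrank_span_chiBar_le`, [IDEM] `eBar_mul_self`, `eBar_mul_of_ne`, `finsum_eBar`, `eBar_comm`,
verbatim from `Lib/Helper3/ModRep/SkelBridge.lean.txt`, namespace `Cfsg.Agent.Lib.Helper3.ModRep`.
Proofs are in `ModRepK.lean` / `ModRepRank.lean` (namespace `Cfsg.Agent.Lib.Helper16.ModRepK`).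
-/

set_option autoImplicit false

namespace Cfsg.Agent.Lib.Helper3.ModRep

open Cfsg Cfsg.Agent.Lib.Helper16

variable {G : Type*} [Group G] [Finite G] (p : ℕ) (M : Ideal AlgInt) [hMp : M.IsPrime]

theorem chiBar_mul_pElement (hM : IsPModular p M) (χ : IrrCharacter G) (x y : G)
    (hxy : Commute x y) (hx : ∃ j : ℕ, orderOf x = p ^ j) (hy : ¬ p ∣ orderOf y) :
    chiBar M (χ : G → ℂ) (x * y) = chiBar M (χ : G → ℂ) y :=
  ModRepK.chiBar_mul_pElement p M hM χ x y hxy hx hy

theorem exists_chiBar_delta (hM : IsPModular p M) [Fintype (IrrCharacter G)] (v : G)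
    (hv : ¬ p ∣ orderOf v) :
    ∃ c : IrrCharacter G → K M, ∀ g : G, ¬ p ∣ orderOf g →
      ∑ χ : IrrCharacter G, c χ * chiBar M (χ : G → ℂ) g =
        (by classical exact if IsConj g v then (1 : K M) else 0) :=
  ModRepK.exists_chiBar_delta p M hM v hv

theorem sum_cBar_mul_chiBar (hM : IsPModular p M) [Fintype G] (B : Set (IrrCharacter G))
    (hB : IsPBlock M B) (χ : IrrCharacter G) (g : G) :
    ∑ h : G, cBar M B h * chiBar M (χ : G → ℂ) (h * g) =
      (by classical exact if χ ∈ B then chiBar M (χ : G → ℂ) g else 0) :=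
  ModRepK.sum_cBar_mul_chiBar p M hM B hB χ g

theorem finrank_span_chiBar_le (hM : IsPModular p M) (B : Set (IrrCharacter G)) :
    Module.finrank (K M)
      (Submodule.span (K M) ((fun χ : IrrCharacter G => chiBar M (χ : G → ℂ)) '' B)) ≤
    blockRank p B :=
  ModRepK.finrank_span_chiBar_le p M hM B

theorem eBar_mul_self (hM : IsPModular p M) (B : Set (IrrCharacter G)) (hB : IsPBlock M B) :
    eBar M B * eBar M B = eBar M B :=
  ModRepK.eBar_mul_self p M hM B hB

theorem eBar_mul_of_ne (hM : IsPModular p M) (B B' : Set (IrrCharacter G)) (hB : IsPBlock M B)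
    (hB' : IsPBlock M B') (hne : B ≠ B') : eBar M B * eBar M B' = 0 :=
  ModRepK.eBar_mul_of_ne p M hM B B' hB hB' hne

theorem finsum_eBar (hM : IsPModular p M) :
    ∑ᶠ B ∈ {B : Set (IrrCharacter G) | IsPBlock M B}, eBar M B = 1 :=
  ModRepK.finsum_eBar p M hM

theorem eBar_comm (B : Set (IrrCharacter G)) (x : MonoidAlgebra (K M) G) :
    eBar M B * x = x * eBar M B :=
  ModRepK.eBar_comm M B x

end Cfsg.Agent.Lib.Helper3.ModRep
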