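import Cfsg.Agent.Lib.Helper16.Osima
import Cfsg.Agent.Lib.Helper29.GenOrth
import Cfsg.Agent.Lib.Helper78.CharValues

/-!
# MODREP-BRIDGE, character side over `ℂ` (helper16)

Convolution identities for the block idempotent coefficients `blockCoeff B g` (Prelude):
* `sum_blockCoeff_mul_irr_mul` : `∑_h blockCoeff B h * ψ (h * g) = [ψ ∈ B] ψ g`   (= (BR5) over `ℂ`);
* `sum_blockCoeff_mul_blockCoeff` : `∑_h blockCoeff B h * blockCoeff B' (h⁻¹ * g) = blockCoeff (B ∩ B') g`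
  (idempotent / orthogonal);
* `blockCoeff_univ` : `blockCoeff univ g = [g = 1]`;
* `blockCoeff_union` : additivity over disjoint unions.
-/

set_option autoImplicit false

namespace Cfsg.Agent.Lib.Helper16.ModRepC

open Cfsg Cfsg.Agent.Lib.Helper16 Cfsg.Agent.Lib.Helper78
open scoped ComplexConjugate

variable {G : Type*} [Group G] [Fintype G]

theorem irr_inv (χ : IrrCharacter G) (g : G) : (χ : G → ℂ) g⁻¹ = conj ((χ : G → ℂ) g) :=
  IsCharacter.inv (IsIrrCharacter.isCharacter χ.2) g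

open Classical in
/-- (BR5) over `ℂ`, left form. -/
theorem sum_blockCoeff_mul_irr_mul (B : Set (IrrCharacter G)) (ψ : IrrCharacter G) (g : G) :
    ∑ h : G, blockCoeff B h * (ψ : G → ℂ) (h * g) = if ψ ∈ B then (ψ : G → ℂ) g else 0 := by
  have hG : (Nat.card G : ℂ) ≠ 0 := by exact_mod_cast Nat.card_pos.ne'
  simp only [blockCoeff_eq_sum, Finset.mul_sum, Finset.sum_mul]
  rw [Finset.sum_comm]
  have h1 : ∀ χ ∈ Finset.univ.filter (fun χ : IrrCharacter G => χ ∈ B),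
      ∑ h : G, (Nat.card G : ℂ)⁻¹ * ((χ : G → ℂ) 1 * conj ((χ : G → ℂ) h)) * (ψ : G → ℂ) (h * g) =
        if χ = ψ then (ψ : G → ℂ) g else 0 := by
    intro χ _
    have h2 := Cfsg.Agent.Lib.Helper29.S4707.gen_orthogonality (χ : G → ℂ) (ψ : G → ℂ) χ.2 ψ.2 g
    have h3 : ∑ h : G, (Nat.card G : ℂ)⁻¹ * ((χ : G → ℂ) 1 * conj ((χ : G → ℂ) h)) *
        (ψ : G → ℂ) (h * g) = (Nat.card G : ℂ)⁻¹ * (χ : G → ℂ) 1 *
          ∑ h : G, (χ : G → ℂ) h⁻¹ * (ψ : G → ℂ) (h * g) := by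
      rw [Finset.mul_sum]
      refine Finset.sum_congr rfl fun h _ => ?_
      rw [irr_inv]; ring
    rw [h3, h2]
    have hχ1 : (χ : G → ℂ) 1 ≠ 0 := Cfsg.Agent.Lib.Helper79.irr_apply_one_ne_zero χ
    by_cases he : χ = ψ
    · have he' : (χ : G → ℂ) = (ψ : G → ℂ) := by rw [he]
      rw [if_pos he', if_pos he, ← he]
      field_simp
    · have he' : ¬ (χ : G → ℂ) = (ψ : G → ℂ) := fun h => he (Subtype.ext h)
      rw [if_neg he', if_neg he, mul_zero]
  rw [Finset.sum_congr rfl h1, Finset.sum_ite_eq' ]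
  simp only [Finset.mem_filter, Finset.mem_univ, true_and]

open Classical in
/-- (BR5) over `ℂ`, right form. -/
theorem sum_blockCoeff_mul_irr_mul' (B : Set (IrrCharacter G)) (ψ : IrrCharacter G) (g : G) :
    ∑ h : G, blockCoeff B h * (ψ : G → ℂ) (g * h) = if ψ ∈ B then (ψ : G → ℂ) g else 0 := by
  rw [← sum_blockCoeff_mul_irr_mul B ψ g]
  refine Finset.sum_congr rfl fun h _ => ?_
  have : g * h = h⁻¹ * (h * g) * h⁻¹⁻¹ := by group
  rw [this, irr_conj]

open Classical in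
/-- the coefficients of `e_B e_B'` are those of `e_{B ∩ B'}` -/
theorem sum_blockCoeff_mul_blockCoeff (B B' : Set (IrrCharacter G)) (g : G) :
    ∑ h : G, blockCoeff B h * blockCoeff B' (h⁻¹ * g) = blockCoeff (B ∩ B') g := by
  have hG : (Nat.card G : ℂ) ≠ 0 := by exact_mod_cast Nat.card_pos.ne'
  have h1 : ∀ h : G, blockCoeff B' (h⁻¹ * g) = (Nat.card G : ℂ)⁻¹ *
      ∑ ψ ∈ Finset.univ.filter (fun ψ : IrrCharacter G => ψ ∈ B'),
        (ψ : G → ℂ) 1 * (ψ : G → ℂ) (h * g⁻¹) := by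
    intro h
    rw [blockCoeff_eq_sum]
    congr 1
    refine Finset.sum_congr rfl fun ψ _ => ?_
    rw [← irr_inv]
    congr 2
    have : (h⁻¹ * g)⁻¹ = g⁻¹ * (h * g⁻¹) * g⁻¹⁻¹ := by group
    rw [this, irr_conj]
  simp only [h1, Finset.mul_sum]
  rw [Finset.sum_comm]
  have h2 : ∀ ψ ∈ Finset.univ.filter (fun ψ : IrrCharacter G => ψ ∈ B'),
      ∑ h : G, blockCoeff B h * ((Nat.card G : ℂ)⁻¹ * ((ψ : G → ℂ) 1 * (ψ : G → ℂ) (h * g⁻¹))) =
        if ψ ∈ B then (Nat.card G : ℂ)⁻¹ * ((ψ : G → ℂ) 1 * conj ((ψ : G → ℂ) g)) else 0 := by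
    intro ψ _
    have := sum_blockCoeff_mul_irr_mul B ψ g⁻¹
    have h3 : ∑ h : G, blockCoeff B h * ((Nat.card G : ℂ)⁻¹ * ((ψ : G → ℂ) 1 * (ψ : G → ℂ) (h * g⁻¹))) =
        (Nat.card G : ℂ)⁻¹ * (ψ : G → ℂ) 1 * ∑ h : G, blockCoeff B h * (ψ : G → ℂ) (h * g⁻¹) := by
      rw [Finset.mul_sum]
      refine Finset.sum_congr rfl fun h _ => ?_
      ring
    rw [h3, this, irr_inv]
    split_ifs
    · ring
    · rw [mul_zero]
  rw [Finset.sum_congr rfl h2, blockCoeff_eq_sum, Finset.mul_sum, ← Finset.sum_filter]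
  refine Finset.sum_congr ?_ fun ψ _ => rfl
  ext ψ
  simp only [Finset.mem_filter, Finset.mem_univ, true_and, Set.mem_inter_iff]
  tauto

open Classical in
/-- the coefficients of `1 = ∑_χ e_χ` -/
theorem blockCoeff_univ (g : G) :
    blockCoeff (Set.univ : Set (IrrCharacter G)) g = if g = 1 then 1 else 0 := by
  have hG : (Nat.card G : ℂ) ≠ 0 := by exact_mod_cast Nat.card_pos.ne'
  rw [blockCoeff_eq_sum]
  have h1 : ∀ (s : Finset (IrrCharacter G)), (∀ χ, χ ∈ s) →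
      ∑ χ ∈ s, (χ : G → ℂ) 1 * conj ((χ : G → ℂ) g) =
      ∑ χ : IrrCharacter G, (χ : G → ℂ) 1 * conj ((χ : G → ℂ) g) := by
    intro s hs
    have : s = Finset.univ := Finset.eq_univ_iff_forall.2 hs
    rw [this]
  rw [h1 _ (by intro χ; simp)]
  by_cases hg : g = 1
  · rw [if_pos hg, hg]
    have := second_orthogonality_of_isConj (G := G) (g := 1) (h := 1) (IsConj.refl 1)
    rw [this]
    have hc : Subgroup.centralizer ({(1 : G)} : Set G) = ⊤ := by
      ext x; simp [Subgroup.mem_centralizer_iff]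
    rw [hc, Subgroup.card_top]
    field_simp
  · rw [if_neg hg]
    have := second_orthogonality_of_not_isConj (G := G) (g := 1) (h := g)
      (fun hc => hg (isConj_one_right.1 hc))
    rw [this, mul_zero]

end Cfsg.Agent.Lib.Helper16.ModRepC
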