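import Cfsg.Agent.Lib.Helper3.ModRep.Defs
import Cfsg.Agent.Lib.Helper76.PRegular
import Cfsg.Agent.Lib.Helper16.ModRepC
import Cfsg.Agent.Lib.Helper16.BlockBasic
import Cfsg.Agent.Lib.Helper47.PIMBasic

/-!
# MODREP / BRIDGE, character side over the residue field (helper16)

Exact sheet statements (`Lib/Helper3/ModRep/SkelBridge.lean.txt`) of
MODREP-[BR1K] `chiBar_mul_pElement`, MODREP-[BR2K] `exists_chiBar_delta`, MODREP-[BR5K] `sum_cBar_mul_chiBar`,
MODREP-[IDEM] `eBar_mul_self`, `eBar_mul_of_ne`, `finsum_eBar`, `eBar_comm`.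
-/

set_option autoImplicit false

namespace Cfsg.Agent.Lib.Helper16.ModRepK

open Cfsg Cfsg.Agent.Lib.Helper16 Cfsg.Agent.Lib.Helper3.ModRep
open scoped ComplexConjugate

variable {G : Type*} [Group G] [Finite G] (p : ℕ) (M : Ideal AlgInt) [hMp : M.IsPrime]

theorem irr_memLocalRing (χ : IrrCharacter G) (g : G) : MemLocalRing M ((χ : G → ℂ) g) :=
  memLocalRing_of_isIntegral hMp.ne_top (Cfsg.Agent.Lib.Helper76.irr_isIntegral χ g)

/-- MODREP-[BR1K]: reduced irreducible characters only see the `p'`-part. -/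
theorem chiBar_mul_pElement (hM : IsPModular p M) (χ : IrrCharacter G) (x y : G)
    (hxy : Commute x y) (hx : ∃ j : ℕ, orderOf x = p ^ j) (hy : ¬ p ∣ orderOf y) :
    chiBar M (χ : G → ℂ) (x * y) = chiBar M (χ : G → ℂ) y := by
  unfold chiBar
  rw [redC_eq_iff (irr_memLocalRing M χ _) (irr_memLocalRing M χ _)]
  have := Cfsg.Agent.Lib.Helper76.memLocalIdeal_irr_sub_pPart p M hM χ (x * y) x ⟨y, rfl, hxy, hx, hy⟩
  rwa [inv_mul_cancel_left] at this

/-- MODREP-[BR2K] -/
theorem exists_chiBar_delta (hM : IsPModular p M) [Fintype (IrrCharacter G)] (v : G)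
    (hv : ¬ p ∣ orderOf v) :
    ∃ c : IrrCharacter G → K M, ∀ g : G, ¬ p ∣ orderOf g →
      ∑ χ : IrrCharacter G, c χ * chiBar M (χ : G → ℂ) g =
        (by classical exact if IsConj g v then (1 : K M) else 0) := by
  classical
  have hp : Fact p.Prime := ⟨hM.1⟩
  have hcop : ∀ g : G, ¬ p ∣ orderOf g → (orderOf g).Coprime p := fun g hg =>
    ((Nat.Prime.coprime_iff_not_dvd hM.1).2 hg).symm
  obtain ⟨a, idx, ha, hidx, h0, h1⟩ := Cfsg.Agent.Lib.Helper76.exists_avg_coeffs p v (hcop v hv)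
  have hidxK : redC M (idx : ℂ) ≠ 0 := by
    rw [Ne, redC_eq_zero_iff (memLocalRing_natCast hMp.ne_top idx), memLocalIdeal_natCast_iff hM]
    exact hidx
  have haL : ∀ χ, MemLocalRing M (conj (a χ)) := fun χ =>
    memLocalRing_of_isIntegral hMp.ne_top (map_isIntegral_int (starRingEnd ℂ) (ha χ))
  refine ⟨fun χ => (redC M (idx : ℂ))⁻¹ * redC M (conj (a χ)), fun g hg => ?_⟩
  have hsum : ∑ χ : IrrCharacter G, (redC M (idx : ℂ))⁻¹ * redC M (conj (a χ)) * chiBar M (χ : G → ℂ) g =
      (redC M (idx : ℂ))⁻¹ * redC M (∑ χ : IrrCharacter G, (χ : G → ℂ) g * conj (a χ)) := by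
    rw [redC_sum _ _ (fun χ _ => memLocalRing_mul (irr_memLocalRing M χ g) (haL χ)), Finset.mul_sum]
    refine Finset.sum_congr rfl fun χ _ => ?_
    rw [redC_mul (irr_memLocalRing M χ g) (haL χ)]
    unfold chiBar
    ring
  rw [hsum]
  by_cases hc : IsConj g v
  · rw [if_pos hc]
    have hgv : ∀ χ : IrrCharacter G, (χ : G → ℂ) g = (χ : G → ℂ) v := by
      intro χ
      obtain ⟨c, hc'⟩ := isConj_iff.1 hc
      rw [← hc', irr_conj]
    rw [Finset.sum_congr rfl (fun χ _ => by rw [hgv χ]), h1, inv_mul_cancel₀ hidxK]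
  · rw [if_neg hc, h0 g (hcop g hg) hc, redC_zero, mul_zero]

/-- MODREP-[BR5K] -/
theorem sum_cBar_mul_chiBar (hM : IsPModular p M) [Fintype G] (B : Set (IrrCharacter G))
    (hB : IsPBlock M B) (χ : IrrCharacter G) (g : G) :
    ∑ h : G, cBar M B h * chiBar M (χ : G → ℂ) (h * g) =
      (by classical exact if χ ∈ B then chiBar M (χ : G → ℂ) g else 0) := by
  classical
  have hb : ∀ h, MemLocalRing M (blockCoeff B h) := fun h => blockCoeff_memLocalRing hB h
  have h1 : ∑ h : G, cBar M B h * chiBar M (χ : G → ℂ) (h * g) =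
      redC M (∑ h : G, blockCoeff B h * (χ : G → ℂ) (h * g)) := by
    rw [redC_sum _ _ (fun h _ => memLocalRing_mul (hb h) (irr_memLocalRing M χ (h * g)))]
    refine Finset.sum_congr rfl fun h _ => ?_
    rw [redC_mul (hb h) (irr_memLocalRing M χ (h * g))]
    rfl
  rw [h1, ModRepC.sum_blockCoeff_mul_irr_mul]
  by_cases hχ : χ ∈ B
  · rw [if_pos hχ, if_pos hχ]; rfl
  · rw [if_neg hχ, if_neg hχ, redC_zero]

/-! ### the idempotents -/

theorem coeff_eBar [Fintype G] (B : Set (IrrCharacter G)) (g : G) :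
    (eBar M B).coeff g = cBar M B g := by
  classical
  rw [eBar_eq_sum, MonoidAlgebra.coeff_sum, Finset.sum_apply']
  simp only [MonoidAlgebra.coeff_single, Finsupp.single_apply]
  rw [Finset.sum_ite_eq' ]
  simp

theorem cBar_conj (B : Set (IrrCharacter G)) (g h : G) :
    cBar M B (h * g * h⁻¹) = cBar M B g := by
  have := Fintype.ofFinite G
  unfold cBar
  rw [blockCoeff_conj]

/-- the product of two reduced block idempotents -/
theorem eBar_mul_eBar (B B' : Set (IrrCharacter G)) (hB : IsPBlock M B) (hB' : IsPBlock M B') :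
    eBar M B * eBar M B' = eBar M (B ∩ B') := by
  classical
  have := Fintype.ofFinite G
  apply MonoidAlgebra.coeff_injective
  ext g
  rw [Cfsg.Agent.Lib.Helper47.PIM.coeff_mul_sum, coeff_eBar]
  simp only [coeff_eBar]
  have hb : ∀ h, MemLocalRing M (blockCoeff B h) := fun h => blockCoeff_memLocalRing hB h
  have hb' : ∀ h, MemLocalRing M (blockCoeff B' h) := fun h => blockCoeff_memLocalRing hB' h
  unfold cBar
  rw [← ModRepC.sum_blockCoeff_mul_blockCoeff,
    redC_sum _ _ (fun h _ => memLocalRing_mul (hb h) (hb' _))]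
  refine Finset.sum_congr rfl fun h _ => ?_
  rw [redC_mul (hb h) (hb' _)]

/-- MODREP-[IDEM] (1) -/
theorem eBar_mul_self (hM : IsPModular p M) (B : Set (IrrCharacter G)) (hB : IsPBlock M B) :
    eBar M B * eBar M B = eBar M B := by
  rw [eBar_mul_eBar M B B hB hB, Set.inter_self]

theorem eBar_empty : eBar M (∅ : Set (IrrCharacter G)) = 0 := by
  classical
  have := Fintype.ofFinite G
  apply MonoidAlgebra.coeff_injective
  ext g
  rw [coeff_eBar]
  unfold cBar blockCoeff
  simp [redC_zero]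

/-- MODREP-[IDEM] (2) -/
theorem eBar_mul_of_ne (hM : IsPModular p M) (B B' : Set (IrrCharacter G)) (hB : IsPBlock M B)
    (hB' : IsPBlock M B') (hne : B ≠ B') : eBar M B * eBar M B' = 0 := by
  rw [eBar_mul_eBar M B B' hB hB', Set.disjoint_iff_inter_eq_empty.1 (IsPBlock_disjoint hB hB' hne),
    eBar_empty]

/-- over `ℂ`: the block idempotent coefficients of all blocks add up to those of `univ`. -/
theorem sum_isPBlock_blockCoeff [Fintype G] (S : Finset (Set (IrrCharacter G)))
    (hS : ∀ B, B ∈ S ↔ IsPBlock M B) (g : G) :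
    ∑ B ∈ S, blockCoeff B g = blockCoeff (Set.univ : Set (IrrCharacter G)) g := by
  classical
  simp only [blockCoeff_eq_sum, ← Finset.mul_sum]
  congr 1
  simp only [Finset.sum_filter]
  rw [Finset.sum_comm]
  refine Finset.sum_congr rfl fun χ _ => ?_
  rw [Finset.sum_eq_single (blockOf M (χ : G → ℂ))]
  · rw [if_pos (self_mem_blockOf hMp.ne_top χ), if_pos (Set.mem_univ _)]
  · intro B hB hne
    rw [if_neg]
    intro hχ
    exact hne (IsPBlock_eq_of_mem ((hS B).1 hB) (isPBlock_blockOf χ) hχ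
      (self_mem_blockOf hMp.ne_top χ))
  · intro h
    exact absurd ((hS _).2 (isPBlock_blockOf χ)) h

theorem eBar_univ : eBar M (Set.univ : Set (IrrCharacter G)) = 1 := by
  classical
  have := Fintype.ofFinite G
  apply MonoidAlgebra.coeff_injective
  ext g
  rw [coeff_eBar]
  unfold cBar
  rw [ModRepC.blockCoeff_univ, MonoidAlgebra.one_def, MonoidAlgebra.coeff_single,
    Finsupp.single_apply]
  by_cases hg : g = 1
  · rw [if_pos hg, if_pos hg.symm, redC_one]
  · rw [if_neg hg, if_neg (fun h => hg h.symm), redC_zero]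

/-- MODREP-[IDEM] (3) -/
theorem finsum_eBar (hM : IsPModular p M) :
    ∑ᶠ B ∈ {B : Set (IrrCharacter G) | IsPBlock M B}, eBar M B = 1 := by
  classical
  have := Fintype.ofFinite G
  have hfin : ({B : Set (IrrCharacter G) | IsPBlock M B}).Finite := Set.toFinite _
  rw [finsum_mem_eq_finite_toFinset_sum _ hfin, ← eBar_univ M]
  apply MonoidAlgebra.coeff_injective
  ext g
  rw [MonoidAlgebra.coeff_sum, Finset.sum_apply']
  simp only [coeff_eBar]
  unfold cBar
  rw [← sum_isPBlock_blockCoeff M hfin.toFinset (fun B => by simp) g,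
    redC_sum _ _ (fun B hB => blockCoeff_memLocalRing ((Set.Finite.mem_toFinset hfin).1 hB) g)]

/-- MODREP-[IDEM] (4) -/
theorem eBar_comm (B : Set (IrrCharacter G)) (x : MonoidAlgebra (K M) G) :
    eBar M B * x = x * eBar M B := by
  classical
  have := Fintype.ofFinite G
  induction x using MonoidAlgebra.induction_on with
  | of g =>
    apply MonoidAlgebra.coeff_injective
    ext y
    rw [Cfsg.Agent.Lib.Helper47.PIM.coeff_mul_sum, Cfsg.Agent.Lib.Helper47.PIM.coeff_mul_sum]
    simp only [coeff_eBar, MonoidAlgebra.of_apply, MonoidAlgebra.coeff_single, Finsupp.single_apply]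
    rw [Finset.sum_eq_single (y * g⁻¹), Finset.sum_eq_single g]
    · rw [if_pos (by group), if_pos rfl, mul_one, one_mul]
      have : g⁻¹ * y = g⁻¹ * (y * g⁻¹) * g⁻¹⁻¹ := by group
      rw [this, cBar_conj]
    · intro h _ hne
      rw [if_neg (fun h' => hne h'.symm), zero_mul]
    · intro h; exact absurd (Finset.mem_univ _) h
    · intro h _ hne
      rw [if_neg, mul_zero]
      intro h'
      apply hne
      have : h = y * (h⁻¹ * y)⁻¹ := by group
      rw [this, ← h']
    · intro h; exact absurd (Finset.mem_univ _) h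
  | add a b ha hb => rw [mul_add, add_mul, ha, hb]
  | smul c a ha => rw [mul_smul_comm, smul_mul_assoc, ha]

end Cfsg.Agent.Lib.Helper16.ModRepK
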