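import Mathlib

/-!
# Rank does not go up under reduction (helper16; MODREP-[BR7M] core)

`rank_map_le`: for a commutative ring `O` with an injective ring hom `ι : O →+* K` into a field and any
ring hom `φ : O →+* k` into a field, `(Y.map φ).rank ≤ (Y.map ι).rank` for every matrix `Y` over `O`
(a nonzero minor of the reduction comes from a nonzero minor).
-/

set_option autoImplicit false

namespace Cfsg.Agent.Lib.Helper16.RankRed

open Matrix

universe u v w

/-- a matrix of rank `r` over a field has `r` linearly independent rows -/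
theorem exists_rows_linearIndependent {k : Type u} [Field k] {m : Type v} {n : Type w} [Fintype m] [Fintype n]
    (A : Matrix m n k) :
    ∃ e : Fin A.rank → m, LinearIndependent k (fun i => A (e i)) := by
  classical
  obtain ⟨κ, a, ha, hsp, hli⟩ := exists_linearIndependent' k A.row
  have hfin : Finite κ := Finite.of_injective a ha
  have := Fintype.ofFinite κ
  have hcard : Fintype.card κ = A.rank := by
    rw [rank_eq_finrank_span_row, ← hsp, finrank_span_eq_card hli]
  let eq : Fin A.rank ≃ κ := (Fintype.equivFinOfCardEq hcard).symm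
  refine ⟨a ∘ eq, ?_⟩
  have := hli.comp eq eq.injective
  exact this

/-- a matrix of rank `r` over a field has an invertible `r × r` submatrix -/
theorem exists_submatrix_det_ne_zero {k : Type u} [Field k] {m : Type v} {n : Type w} [Fintype m] [Fintype n]
    (A : Matrix m n k) :
    ∃ (e : Fin A.rank → m) (f : Fin A.rank → n), (A.submatrix e f).det ≠ 0 := by
  classical
  obtain ⟨e, he⟩ := exists_rows_linearIndependent A
  set A₁ : Matrix (Fin A.rank) n k := A.submatrix e id with hA₁
  have hr1 : A₁.rank = A.rank := by
    rw [rank_eq_finrank_span_row]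
    have : A₁.row = fun i => A (e i) := by
      ext i j; rfl
    rw [this, finrank_span_eq_card he, Fintype.card_fin]
  obtain ⟨f', hf'⟩ := exists_rows_linearIndependent A₁ᵀ
  have hr2 : A₁ᵀ.rank = A.rank := by rw [rank_transpose, hr1]
  -- transport `f'` along `hr2`
  let c : Fin A.rank ≃ Fin A₁ᵀ.rank := finCongr hr2.symm
  refine ⟨e, f' ∘ c, ?_⟩
  have hli : LinearIndependent k (fun i : Fin A.rank => A₁ᵀ (f' (c i))) := hf'.comp c c.injective
  have hsq : (A.submatrix e (f' ∘ c))ᵀ.row = fun i : Fin A.rank => A₁ᵀ (f' (c i)) := by
    ext i j; rfl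
  have hunit : IsUnit (A.submatrix e (f' ∘ c))ᵀ := by
    rw [← linearIndependent_rows_iff_isUnit, hsq]
    exact hli
  have := (Matrix.isUnit_iff_isUnit_det _).1 hunit
  rw [det_transpose] at this
  exact this.ne_zero

/-- reduction does not increase the rank -/
theorem rank_map_le {O : Type*} {K : Type*} {k : Type u} [CommRing O] [Field K] [Field k]
    (ι : O →+* K) (hι : Function.Injective ι) (φ : O →+* k)
    {m : Type v} {n : Type w} [Fintype m] [Fintype n] (Y : Matrix m n O) :
    (Y.map φ).rank ≤ (Y.map ι).rank := by
  classical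
  obtain ⟨e, f, hdet⟩ := exists_submatrix_det_ne_zero (Y.map φ)
  have h1 : ((Y.map φ).submatrix e f).det = φ ((Y.submatrix e f).det) := by
    rw [RingHom.map_det]; rfl
  have h2 : (Y.submatrix e f).det ≠ 0 := by
    intro h0; apply hdet; rw [h1, h0, map_zero]
  have h3 : (((Y.map ι).submatrix e f)).det ≠ 0 := by
    have : ((Y.map ι).submatrix e f).det = ι ((Y.submatrix e f).det) := by
      rw [RingHom.map_det]; rfl
    rw [this]
    exact fun h0 => h2 (hι (by rw [h0, map_zero]))
  have h4 : ((Y.map ι).submatrix e f).rank = (Y.map φ).rank := by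
    rw [rank_of_det_ne_zero h3, Fintype.card_fin]
  rw [← h4]
  exact rank_submatrix_le _ e f

end Cfsg.Agent.Lib.Helper16.RankRed
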