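import Cfsg.Agent.Lib.Helper16.ModRepK
import Cfsg.Agent.Lib.Helper16.RankRed
import Cfsg.Agent.Lib.Helper78.WBO
import Cfsg.Prelude.Def_BlockRank

/-!
# MODREP-[BR7M] (helper16)

`finrank_span_chiBar_le`: the span over the residue field of the reduced characters of a set `B` of
irreducible characters has dimension at most the `p`-regular rank `blockRank p B` of the Prelude.
A minor of the matrix `(χ g)` (`χ ∈ B`, `g` `p`-regular) over the local ring that survives the
reduction is nonzero over `ℂ` (`RankRed.rank_map_le`); the reduced characters are determined by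
their values on the `p`-regular elements (`chiBar_mul_pElement`).
-/

set_option autoImplicit false

namespace Cfsg.Agent.Lib.Helper16.ModRepK

open Cfsg Cfsg.Agent.Lib.Helper16 Cfsg.Agent.Lib.Helper3.ModRep

variable {G : Type*} [Group G] [Finite G] (p : ℕ) (M : Ideal AlgInt) [hMp : M.IsPrime]

/-- Every element of a finite group is a product of commuting `p`- and `p'`-elements. -/
theorem exists_pPart_mul [hp : Fact p.Prime] (g : G) :
    ∃ x y : G, x * y = g ∧ Commute x y ∧ (∃ j : ℕ, orderOf x = p ^ j) ∧ ¬ p ∣ orderOf y := by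
  by_cases hg : p ∣ orderOf g
  · obtain ⟨u, s, k, m, hus, hsu, _, huk, hsm, hpm⟩ :=
      Cfsg.Agent.Lib.Helper78.exists_pPart_decomposition p g hg
    refine ⟨u, s, hus, hsu.symm, ?_, ?_⟩
    · obtain ⟨j, _, hj⟩ := (Nat.dvd_prime_pow hp.out).mp (orderOf_dvd_of_pow_eq_one huk)
      exact ⟨j, hj⟩
    · intro hdvd
      exact hpm (hdvd.trans (orderOf_dvd_of_pow_eq_one hsm))
  · exact ⟨1, g, one_mul g, Commute.one_left g, ⟨0, by simp⟩, hg⟩

/-- MODREP-[BR7M]: the span of the reduced characters of `B` has dimension at most the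
`p`-regular rank. -/
theorem finrank_span_chiBar_le (hM : IsPModular p M) (B : Set (IrrCharacter G)) :
    Module.finrank (K M)
      (Submodule.span (K M) ((fun χ : IrrCharacter G => chiBar M (χ : G → ℂ)) '' B)) ≤
    blockRank p B := by
  classical
  have hp : Fact p.Prime := ⟨hM.1⟩
  have := Fintype.ofFinite G
  let m := {χ : IrrCharacter G // χ ∈ B}
  let n := {g : G // ¬ p ∣ orderOf g}
  let Y : Matrix m n (localSubring M) :=
    fun χ g => ⟨(χ.1 : G → ℂ) g.1, irr_memLocalRing M χ.1 g.1⟩
  let ι : localSubring M →+* ℂ := (localSubring M).subtype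
  let φ : localSubring M →+* K M := IsLocalRing.residue (localSubring M)
  have h1 : (Y.map φ).rank ≤ (Y.map ι).rank :=
    RankRed.rank_map_le ι Subtype.val_injective φ Y
  -- the complex side
  have h2 : (Y.map ι).rank ≤ blockRank p B := by
    rw [Matrix.rank_eq_finrank_span_row]
    unfold blockRank
    let R : (G → ℂ) →ₗ[ℂ] (n → ℂ) := LinearMap.funLeft ℂ ℂ (Subtype.val : n → G)
    refine le_trans (Submodule.finrank_mono (t := Submodule.map R (Submodule.span ℂ
      ((fun χ : IrrCharacter G => pRegularPart p (χ : G → ℂ)) '' B))) ?_)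
      (Submodule.finrank_map_le _ _)
    rw [Submodule.span_le]
    rintro _ ⟨χ, rfl⟩
    refine ⟨pRegularPart p (χ.1 : G → ℂ), Submodule.subset_span ⟨χ.1, χ.2, rfl⟩, ?_⟩
    funext g
    show pRegularPart p (χ.1 : G → ℂ) g.1 = (χ.1 : G → ℂ) g.1
    unfold pRegularPart
    exact if_pos (show IsPRegular p g.1 from g.2)
  -- the residue field side
  have h3 : Module.finrank (K M)
      (Submodule.span (K M) ((fun χ : IrrCharacter G => chiBar M (χ : G → ℂ)) '' B)) ≤
      (Y.map φ).rank := by
    rw [Matrix.rank_eq_finrank_span_row]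
    choose x y hxy hcomm hx hy using exists_pPart_mul (G := G) p
    let E : (n → K M) →ₗ[K M] (G → K M) :=
      LinearMap.funLeft (K M) (K M) (fun g : G => (⟨y g, hy g⟩ : n))
    refine le_trans (Submodule.finrank_mono (t := Submodule.map E (Submodule.span (K M)
      (Set.range (Y.map φ).row))) ?_) (Submodule.finrank_map_le _ _)
    rw [Submodule.span_le]
    rintro _ ⟨χ, hχ, rfl⟩
    refine ⟨(Y.map φ).row ⟨χ, hχ⟩, Submodule.subset_span ⟨⟨χ, hχ⟩, rfl⟩, ?_⟩
    funext g
    show φ (Y ⟨χ, hχ⟩ ⟨y g, hy g⟩) = chiBar M (χ : G → ℂ) g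
    have hg : chiBar M (χ : G → ℂ) g = chiBar M (χ : G → ℂ) (y g) := by
      conv_lhs => rw [← hxy g]
      exact chiBar_mul_pElement p M hM χ (x g) (y g) (hcomm g) (hx g) (hy g)
    rw [hg]
    unfold chiBar
    rw [redC_of_mem (irr_memLocalRing M χ (y g))]
  exact h3.trans (h1.trans h2)

end Cfsg.Agent.Lib.Helper16.ModRepK
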