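import Cfsg.Agent.Lib.Helper16.NilFusion
import Cfsg.Agent.Lib.Helper16.CentPair
import Cfsg.Agent.Lib.Helper16.FusionCent

/-!
# Local blocks of a nilpotent block (helper16)
-/

set_option autoImplicit false

namespace Cfsg.Agent.Lib.Helper16

open Cfsg MonoidAlgebra Cfsg.Agent.Lib.Helper77
open scoped ComplexConjugate

universe u

section GroupTheory

variable {G : Type u} [Group G]

/-- If `u⁻¹ x` centralizes `Q` then `x Q x⁻¹ = u Q u⁻¹`. -/
theorem map_conj_eq_of_mul_mem_centralizer {Q : Subgroup G} {x u : G}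
    (h : u⁻¹ * x ∈ Subgroup.centralizer (Q : Set G)) :
    Q.map (MulAut.conj x).toMonoidHom = Q.map (MulAut.conj u).toMonoidHom := by
  have key : ∀ q ∈ Q, x * q * x⁻¹ = u * q * u⁻¹ := by
    intro q hq
    have h1 := Subgroup.mem_centralizer_iff.mp h q hq
    have h2 : x * q * x⁻¹ = u * ((u⁻¹ * x) * q) * x⁻¹ := by group
    rw [h2, ← h1]
    group
  ext y
  constructor
  · rintro ⟨q, hq, rfl⟩
    exact ⟨q, hq, (key q hq).symm⟩
  · rintro ⟨q, hq, rfl⟩
    exact ⟨q, hq, key q hq⟩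

/-- `C_P(u Q u⁻¹) = u C_P(Q) u⁻¹` for `u ∈ P`. -/
theorem inf_centralizer_map_conj {P Q : Subgroup G} {u : G} (hu : u ∈ P) :
    P ⊓ Subgroup.centralizer ((Q.map (MulAut.conj u).toMonoidHom : Subgroup G) : Set G) =
      (P ⊓ Subgroup.centralizer (Q : Set G)).map (MulAut.conj u).toMonoidHom := by
  ext c
  rw [mem_map_conj_iff, Subgroup.mem_inf, Subgroup.mem_inf, mem_centralizer_map_conj_iff]
  constructor
  · rintro ⟨h1, h2⟩
    exact ⟨P.mul_mem (P.mul_mem (P.inv_mem hu) h1) hu, h2⟩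
  · rintro ⟨h1, h2⟩
    refine ⟨?_, h2⟩
    have h3 : c = u * (u⁻¹ * c * u) * u⁻¹ := by group
    rw [h3]
    exact P.mul_mem (P.mul_mem hu h1) (P.inv_mem hu)

/-- An element of `C_G(Q)` normalizing `R' ≤ C_G(Q)` normalizes `Q R'`. -/
theorem coe_mem_normalizer_supCent (Q : Subgroup G)
    (R' : Subgroup ↥(Subgroup.centralizer (Q : Set G))) {x : ↥(Subgroup.centralizer (Q : Set G))}
    (hx : x ∈ Subgroup.normalizer (R' : Set ↥(Subgroup.centralizer (Q : Set G)))) :
    (x : G) ∈ Subgroup.normalizer (supCent Q R' : Set G) := by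
  apply mem_normalizer_of_map_conj_eq
  unfold supCent
  rw [Subgroup.map_sup, map_conj_eq_of_mem_normalizer Q
    (Subgroup.centralizer_le_normalizer _ x.2)]
  congr 1
  have h1 : R'.map (MulAut.conj x).toMonoidHom = R' := map_conj_eq_of_mem_normalizer R' hx
  conv_rhs => rw [← h1]
  rw [Subgroup.map_map, Subgroup.map_map]
  rfl

/-- Transport of `StabilizesBlock` from `C_G(Q)` to `G` along `centSupEquiv`. -/
theorem stabilizesBlock_supCent (Q : Subgroup G)
    (R' : Subgroup ↥(Subgroup.centralizer (Q : Set G)))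
    (h' : Set (IrrCharacter ↥(Subgroup.centralizer
      (R' : Set ↥(Subgroup.centralizer (Q : Set G))))))
    (x : ↥(Subgroup.centralizer (Q : Set G)))
    (hx : StabilizesBlock (Subgroup.centralizer (R' : Set ↥(Subgroup.centralizer (Q : Set G))))
      h' x) :
    StabilizesBlock (Subgroup.centralizer (supCent Q R' : Set G))
      (pullBlock (centSupEquiv Q R').symm h') (x : G) := by
  obtain ⟨h1, h2⟩ := hx
  refine ⟨?_, ?_⟩
  · rw [Subgroup.mem_normalizer_iff]
    intro c
    rw [mem_centralizer_supCent_iff, mem_centralizer_supCent_iff]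
    constructor
    · rintro ⟨hc, hcR⟩
      have hc' : (x : G) * c * (x : G)⁻¹ ∈ Subgroup.centralizer (Q : Set G) :=
        Subgroup.mul_mem _ (Subgroup.mul_mem _ x.2 hc) (Subgroup.inv_mem _ x.2)
      refine ⟨hc', ?_⟩
      have := (Subgroup.mem_normalizer_iff.mp h1 ⟨c, hc⟩).mp hcR
      exact this
    · rintro ⟨hc', hcR'⟩
      have hc : c ∈ Subgroup.centralizer (Q : Set G) := by
        have h3 : c = (x : G)⁻¹ * ((x : G) * c * (x : G)⁻¹) * (x : G) := by group
        rw [h3]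
        exact Subgroup.mul_mem _ (Subgroup.mul_mem _ (Subgroup.inv_mem _ x.2) hc') x.2
      refine ⟨hc, ?_⟩
      exact (Subgroup.mem_normalizer_iff.mp h1 ⟨c, hc⟩).mpr hcR'
  · intro χ' hχ'
    obtain ⟨χ, hχ, rfl⟩ := hχ'
    obtain ⟨χ₂, hχ₂, hc⟩ := h2 χ hχ
    refine ⟨irrPull (centSupEquiv Q R').symm χ₂, irrPull_mem_pullBlock _ hχ₂, ?_⟩
    intro k k' hk
    rw [irrPull_apply, irrPull_apply]
    apply hc
    apply Subtype.ext
    exact hk

end GroupTheory

end Cfsg.Agent.Lib.Helper16
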