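import Cfsg.Agent.Lib.Helper16.BrauerIdem
import Cfsg.Agent.Lib.Helper77.NrmAct
import Cfsg.Agent.S4654

/-!
# Orbit counting on cosets and conjugates of a defect group stabilizing a covered block (helper16)
-/

set_option autoImplicit false

namespace Cfsg.Agent.Lib.Helper16

open Cfsg MonoidAlgebra Cfsg.Agent.Lib.Helper77
open scoped ComplexConjugate Pointwise

universe u

section Coset

variable {X : Type u} [Group X] [Fintype X]

open scoped Classical in
/-- Summing a right-`T`-invariant function over the group is `|T|` times summing it over the left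
cosets. -/
theorem sum_eq_card_mul_sum_quotient (T : Subgroup X) (F : X → ℂ)
    (hF : ∀ x : X, ∀ t ∈ T, F (x * t) = F x) :
    ∑ x : X, F x = (Nat.card T : ℂ) * ∑ q : X ⧸ T, Quotient.liftOn' q F (fun a b hab => by
      rw [QuotientGroup.leftRel_apply] at hab
      have := hF a _ hab
      rw [mul_inv_cancel_left] at this
      exact this.symm) := by
  rw [← Finset.sum_fiberwise Finset.univ (QuotientGroup.mk : X → X ⧸ T) F, Finset.mul_sum]
  refine Finset.sum_congr rfl fun q _ => ?_
  obtain ⟨x₀, rfl⟩ := QuotientGroup.mk_surjective q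
  have hconst : ∀ x ∈ Finset.univ.filter (fun x : X => (QuotientGroup.mk x : X ⧸ T) =
      QuotientGroup.mk x₀), F x = F x₀ := by
    intro x hx
    rw [Finset.mem_filter] at hx
    have h1 := QuotientGroup.eq.mp hx.2
    have h2 : x⁻¹ * x₀ ∈ T := h1
    have h3 := hF x _ h2
    rw [mul_inv_cancel_left] at h3
    exact h3.symm
  rw [Finset.sum_congr rfl hconst, Finset.sum_const, nsmul_eq_mul]
  have hcard : (Finset.univ.filter (fun x : X => (QuotientGroup.mk x : X ⧸ T) =
      QuotientGroup.mk x₀)).card = Nat.card T := by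
    rw [Nat.card_eq_fintype_card, ← Finset.card_univ]
    symm
    apply Finset.card_bij (fun (t : T) _ => x₀ * (t : X))
    · intro t _
      rw [Finset.mem_filter]
      refine ⟨Finset.mem_univ _, ?_⟩
      rw [QuotientGroup.eq]
      have : (x₀ * (t : X))⁻¹ * x₀ = ((t⁻¹ : T) : X) := by
        rw [mul_inv_rev, inv_mul_cancel_right]
        rfl
      rw [this]
      exact (t⁻¹).2
    · intro t₁ _ t₂ _ h
      exact Subtype.ext (mul_left_cancel h)
    · intro x hx
      rw [Finset.mem_filter] at hx
      have h1 : x⁻¹ * x₀ ∈ T := QuotientGroup.eq.mp hx.2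
      refine ⟨⟨x₀⁻¹ * x, ?_⟩, Finset.mem_univ _, ?_⟩
      · have := T.inv_mem h1
        rwa [mul_inv_rev, inv_inv] at this
      · show x₀ * (x₀⁻¹ * x) = x
        rw [mul_inv_cancel_left]
  rw [hcard]
  rfl

end Coset

section OrbitCount

variable {X : Type u} [Group X] [Fintype X] {M : Ideal AlgInt}

open scoped Classical in
/-- **Orbit counting on cosets.**  Let `F` be right-`T`-invariant, left-`D`-invariant for a
`p`-group `D`, with values in the local ring.  If `|T|⁻¹ ∑ F` is not in the local ideal then there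
is `x` with `x⁻¹ D x ≤ T` and `F x` not in the ideal. -/
theorem exists_fixed_coset_not_memLocalIdeal {p : ℕ} [Fact p.Prime] (hM : IsPModular p M)
    (T D : Subgroup X) (hD : IsPGroup p D) (F : X → ℂ)
    (hFT : ∀ x : X, ∀ t ∈ T, F (x * t) = F x) (hFD : ∀ d ∈ D, ∀ x : X, F (d * x) = F x)
    (hFR : ∀ x, MemLocalRing M (F x))
    (hsum : ¬ MemLocalIdeal M ((Nat.card T : ℂ)⁻¹ * ∑ x, F x)) :
    ∃ x : X, (∀ d ∈ D, x⁻¹ * d * x ∈ T) ∧ ¬ MemLocalIdeal M (F x) := by
  have hMp := isPModular_isPrime hM
  by_contra hcon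
  push Not at hcon
  apply hsum
  rw [sum_eq_card_mul_sum_quotient T F hFT, ← mul_assoc, inv_mul_cancel₀, one_mul]
  swap
  · exact Nat.cast_ne_zero.mpr Nat.card_pos.ne'
  set Fbar : X ⧸ T → ℂ := fun q => Quotient.liftOn' q F (fun a b hab => by
      rw [QuotientGroup.leftRel_apply] at hab
      have := hFT a _ hab
      rw [mul_inv_cancel_left] at this
      exact this.symm) with hFbar
  have hFbar_mk : ∀ x : X, Fbar (QuotientGroup.mk x) = F x := fun x => rfl
  change MemLocalIdeal M (∑ q : X ⧸ T, Fbar q)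
  -- split into fixed and non-fixed cosets
  have hsplit : ∑ q : X ⧸ T, Fbar q =
      ∑ q : X ⧸ T, (if q ∈ MulAction.fixedPoints D (X ⧸ T) then 0 else Fbar q) +
      ∑ q : X ⧸ T, (if q ∈ MulAction.fixedPoints D (X ⧸ T) then Fbar q else 0) := by
    rw [← Finset.sum_add_distrib]
    refine Finset.sum_congr rfl fun q _ => ?_
    split_ifs <;> simp
  rw [hsplit]
  apply memLocalIdeal_add
  · have hD' : IsPGroup p (D : Type _) := hD
    apply sum_memLocalIdeal_of_pGroup hM hD'
    · intro u q
      have hfix : u • q ∈ MulAction.fixedPoints D (X ⧸ T) ↔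
          q ∈ MulAction.fixedPoints D (X ⧸ T) := by
        constructor
        · intro h
          have h1 := h u⁻¹
          rw [inv_smul_smul] at h1
          rw [← h1] at h
          exact h
        · intro h
          rw [h u]
          exact h
      have hval : Fbar (u • q) = Fbar q := by
        obtain ⟨x, rfl⟩ := QuotientGroup.mk_surjective q
        have : u • (QuotientGroup.mk x : X ⧸ T) = QuotientGroup.mk ((u : X) * x) := rfl
        rw [this, hFbar_mk, hFbar_mk]
        exact hFD u u.2 x
      simp only [hfix, hval]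
    · intro q
      split_ifs
      · exact memLocalRing_zero hMp.ne_top
      · obtain ⟨x, rfl⟩ := QuotientGroup.mk_surjective q
        rw [hFbar_mk]
        exact hFR x
    · intro q hq
      rw [if_pos hq]
  · apply memLocalIdeal_sum
    intro q _
    split_ifs with hq
    · obtain ⟨x, rfl⟩ := QuotientGroup.mk_surjective q
      rw [hFbar_mk]
      apply hcon x
      intro d hd
      have h1 := hq ⟨d⁻¹, D.inv_mem hd⟩
      have h2 : (⟨d⁻¹, D.inv_mem hd⟩ : D) • (QuotientGroup.mk x : X ⧸ T) =
          QuotientGroup.mk (d⁻¹ * x) := rfl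
      rw [h2, QuotientGroup.eq] at h1
      have h3 : (d⁻¹ * x)⁻¹ * x = x⁻¹ * d * x := by
        rw [mul_inv_rev, inv_inv]
      rw [h3] at h1
      exact h1
    · exact memLocalIdeal_zero hMp.ne_top

end OrbitCount

section XLevel

variable {X : Type u} [Group X] [Fintype X] {M : Ideal AlgInt}

omit [Fintype X] in
/-- The extended idempotent coefficients of a block of a subgroup are invariant under conjugation
by an element stabilizing the block. -/
theorem subgroupBlockCoeff_conj_of_stabilizes [Finite X] (H : Subgroup X)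
    (f : Set (IrrCharacter H)) (u : X) (hu : StabilizesBlock H f u) (g : X) :
    subgroupBlockCoeff H f (u * g * u⁻¹) = subgroupBlockCoeff H f g := by
  unfold subgroupBlockCoeff
  have hmem : g ∈ H ↔ u * g * u⁻¹ ∈ H := Subgroup.mem_normalizer_iff.mp hu.1 g
  by_cases hg : g ∈ H
  · rw [dif_pos hg, dif_pos (hmem.mp hg)]
    exact blockCoeff_conj_of_stabilizes H f u hu ⟨g, hg⟩ ⟨_, hmem.mp hg⟩ rfl
  · rw [dif_neg hg, dif_neg (fun h => hg (hmem.mpr h))]

attribute [local instance] nrmMulAction

/-- Let `P` be a normal `p`-subgroup of `X`, `(P, e)` a Brauer pair of the block `b` of `X` and `D`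
a defect group of `b`.  Then some conjugate `x⁻¹ D x` stabilizes `e` and centralizes an element at
which the idempotent of `e` has a coefficient outside the ideal. -/
theorem exists_conj_defectGroup_stabilizing {p : ℕ} [Fact p.Prime] (hM : IsPModular p M)
    (P : Subgroup X) [P.Normal] (hP : IsPGroup p P) (b : Set (IrrCharacter X))
    (e : Set (IrrCharacter (Subgroup.centralizer (P : Set X))))
    (hbe : IsBrauerPairOf p M b P e) (D : Subgroup X) (hD : IsDefectGroup p M b D) :
    ∃ x n₀ : X, (∀ d ∈ D, d * n₀ = n₀ * d) ∧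
      (∀ d ∈ D, StabilizesBlock (Subgroup.centralizer (P : Set X)) e (x⁻¹ * d * x)) ∧
      ¬ MemLocalIdeal M
        (subgroupBlockCoeff (Subgroup.centralizer (P : Set X)) e (x⁻¹ * n₀ * x)) := by
  classical
  have hMp := isPModular_isPrime hM
  obtain ⟨n₀, hn₀, Q, rfl⟩ := hD
  have he : IsPBlock M e := hbe.1.2
  -- the stabilizer of `e`
  set T : Subgroup X := (MulAction.stabilizer
    (Subgroup.normalizer ((Subgroup.centralizer (P : Set X) : Subgroup X) : Set X)) e).map
      (Subgroup.subtype _) with hTdef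
  have hT : ∀ x : X, x ∈ T ↔ StabilizesBlock (Subgroup.centralizer (P : Set X)) e x := by
    intro x
    constructor
    · rintro ⟨u, hu, rfl⟩
      exact (stabilizesBlock_iff _ u e).mpr hu
    · intro h
      exact ⟨⟨x, h.1⟩, (stabilizesBlock_iff _ ⟨x, h.1⟩ e).mp h, rfl⟩
  obtain ⟨_, hformula⟩ := Cfsg.Agent.S4654.result p M hM P hP b e hbe T hT
  set D := (Q : Subgroup (Subgroup.centralizer ({n₀} : Set X))).map
    (Subgroup.centralizer ({n₀} : Set X)).subtype with hDdef
  have hDp : IsPGroup p D := Q.isPGroup'.map _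
  have hDc : ∀ d ∈ D, d * n₀ = n₀ * d := by
    rintro _ ⟨q, _, rfl⟩
    have := q.2
    rw [Subgroup.mem_centralizer_singleton_iff] at this
    exact this
  set F : X → ℂ := fun x =>
    subgroupBlockCoeff (Subgroup.centralizer (P : Set X)) e (x⁻¹ * n₀ * x) with hF
  have hFT : ∀ x : X, ∀ t ∈ T, F (x * t) = F x := by
    intro x t ht
    have h1 := subgroupBlockCoeff_conj_of_stabilizes _ e t⁻¹ ((hT _).mp (T.inv_mem ht))
      (x⁻¹ * n₀ * x)
    have h2 : (x * t)⁻¹ * n₀ * (x * t) = t⁻¹ * (x⁻¹ * n₀ * x) * t⁻¹⁻¹ := by group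
    show subgroupBlockCoeff _ e ((x * t)⁻¹ * n₀ * (x * t)) = _
    rw [h2, h1]
  have hFD : ∀ d ∈ D, ∀ x : X, F (d * x) = F x := by
    intro d hd x
    have h2 : (d * x)⁻¹ * n₀ * (d * x) = x⁻¹ * (d⁻¹ * (n₀ * d)) * x := by group
    show subgroupBlockCoeff _ e ((d * x)⁻¹ * n₀ * (d * x)) = _
    rw [h2, ← hDc d hd, inv_mul_cancel_left]
  have hFR : ∀ x, MemLocalRing M (F x) := by
    intro x
    show MemLocalRing M (subgroupBlockCoeff _ e _)
    unfold subgroupBlockCoeff
    split_ifs
    · exact blockCoeff_memLocalRing he _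
    · exact memLocalRing_zero hMp.ne_top
  have hsum : ¬ MemLocalIdeal M ((Nat.card T : ℂ)⁻¹ * ∑ x, F x) := by
    have h1 := hformula n₀
    rw [← h1]
    exact hn₀.2.1
  obtain ⟨x, hx, hxF⟩ := exists_fixed_coset_not_memLocalIdeal hM T D hDp F hFT hFD hFR hsum
  exact ⟨x, n₀, hDc, fun d hd => (hT _).mp (hx d hd), hxF⟩

end XLevel

end Cfsg.Agent.Lib.Helper16
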