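import Mathlib
import Cfsg.Agent.Lib.Helper16.PF13Defs
import Cfsg.Agent.Lib.Helper58.PFNineEleven
import Cfsg.Agent.Lib.Helper58.PFNineIdx
import Cfsg.Agent.Lib.Helper51.PFTenSubcohZ

/-!
# PF sec.13, the S1547 path: coherence of `calZ S` (helper16)

`calZ_coherent_of` : `calZ S = S(1)` (characters of `S` induced from the irreducible characters of
`S'` not trivial on `P = S_F`) is coherent as soon as the slack inequality of helper58's (9.11)
holds; `slack_of_cent_ne_bot` : it holds when `C_U(P) ≠ 1` (for abelian `U` the tight case of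
(9.11) forces `C_U(P) = 1`).

Inputs: helper58 `core_coherent` (9.11), helper51 `subcoherent_sub` ((10.2) for a sub-family),
and the conclusions of the modules [CTX] (`Ctx` with `H₀ = ⊥` + `P` minimal normal), [MUSUB],
[ZFACTS] as hypotheses.
-/

set_option autoImplicit false

namespace Cfsg.Agent.Lib.Helper16.PF13

open Cfsg Cfsg.Agent.Lib.Helper24.PFCyc Cfsg.Agent.Lib.Helper4.PF Cfsg.Agent.Lib.Helper58.PF9

universe u

variable {G : Type u} [Group G] [Fintype G] {S W₁ U W₂ : Subgroup G} [Fintype S]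
  {mu : WChar W₁ W₂ → (↥S → ℂ)} {dl : WChar W₁ W₂ → ℂ} {η : WChar W₁ W₂ → (G → ℂ)}

/-- `U` as a subgroup of `↥S` is abelian -/
theorem US_comm (h : PSide S W₁ U W₂ mu dl η) :
    ∀ x ∈ U.subgroupOf S, ∀ y ∈ U.subgroupOf S, x * y = y * x := by
  intro x hx y hy
  apply Subtype.ext
  exact h.hUcomm (x : G) (Subgroup.mem_subgroupOf.mp hx) (y : G) (Subgroup.mem_subgroupOf.mp hy)

theorem commutator_US (h : PSide S W₁ U W₂ mu dl η) (A B : Subgroup ↥S)
    (hA : A ≤ U.subgroupOf S) (hB : B ≤ U.subgroupOf S) : ⁅A, B⁆ = ⊥ := by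
  rw [Subgroup.commutator_eq_bot_iff_le_centralizer]
  intro a ha b hb
  exact US_comm h b (hB hb) a (hA ha)

/-- [SUBHYPZ]: helper51's hypotheses of (10.2)-Z from `PSide` and the conclusion of [MUSUB] -/
theorem subHypZ_of (h : PSide S W₁ U W₂ mu dl η)
    (hms : ∃ δ : ℂ, (δ = 1 ∨ δ = -1) ∧ (∀ ψ : WChar W₁ W₂, TrivOn W₁ ψ → ψ ≠ 1 → dl ψ = δ) ∧
      ∀ ψ ψ' : WChar W₁ W₂, TrivOn W₁ ψ → TrivOn W₁ ψ' → ψ ≠ 1 → ψ' ≠ 1 → ψ ≠ ψ' →
        tauM S (muSum mu ψ - muSum mu ψ') = δ • (etaSum η ψ - etaSum η ψ')) :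
    Cfsg.Agent.Lib.Helper51.PF10Z.SubHypZ S W₁ U W₂ mu dl η := by
  obtain ⟨δ, -, hδ, hsub⟩ := hms
  refine
    { hP := h.hP
      hodd := Odd.of_dvd_nat h.hodd (Subgroup.card_subgroup_dvd_card S)
      hD := h.hD
      md := h.md
      hη := h.hη
      hA0 := ?_
      musub := ?_ }
  · intro w hw hw1 hw2 m hm
    have hmem : m * w * m⁻¹ ∈ litA0 S := by
      right
      exact ⟨W₁, U, W₂, h.hP, m, hm, w, hw, hw1, hw2, rfl⟩
    exact ⟨hmem, h.hR _ hmem⟩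
  · intro ψ ψ' hψ hψ' hψ1 hψ'1 hne
    rw [hδ ψ hψ hψ1]
    exact hsub ψ ψ' hψ hψ' hψ1 hψ'1 hne

/-- [COH]: coherence of `calZ S` from (9.11) outside the tight case and (10.2)-Z. -/
theorem calZ_coherent_of (h : PSide S W₁ U W₂ mu dl η)
    (hctx : Ctx (KM S) (PS S) (U.subgroupOf S) (W₁.subgroupOf S) (W₂.subgroupOf S) ⊥
      (Nat.card W₂) (Nat.card W₁))
    (hchief : ∀ N : Subgroup ↥S, N.Normal → ⊥ ≤ N → N ≤ PS S → N = ⊥ ∨ N = PS S)
    (hms : ∃ δ : ℂ, (δ = 1 ∨ δ = -1) ∧ (∀ ψ : WChar W₁ W₂, TrivOn W₁ ψ → ψ ≠ 1 → dl ψ = δ) ∧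
      ∀ ψ ψ' : WChar W₁ W₂, TrivOn W₁ ψ → TrivOn W₁ ψ' → ψ ≠ 1 → ψ' ≠ 1 → ψ ≠ ψ' →
        tauM S (muSum mu ψ - muSum mu ψ') = δ • (etaSum η ψ - etaSum η ψ'))
    (hZsub : calZ S ⊆ calS S) (hZne : (calZ S).Nonempty)
    (hZc : ∀ χ ∈ calZ S, conjFun χ ∈ calZ S)
    (hZdom : ∀ χ ∈ calZ S, ∀ x : ↥S, x ≠ 1 → (x : G) ∉ litA S → χ x = 0)
    (hslack : ∀ H₁ : Subgroup ↥S,
      IsAxis (PS S) (U.subgroupOf S) (W₁.subgroupOf S) ⊥ H₁ (Nat.card W₂) →
      2 * (coreC (U.subgroupOf S) H₁ ⊥).relIndex (U.subgroupOf S) *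
          (coreC (U.subgroupOf S) (PS S) ⊥).relIndex (U.subgroupOf S) <
        (Nat.card W₂ - 1) * (⁅U.subgroupOf S, U.subgroupOf S⁆).relIndex (U.subgroupOf S)) :
    IsCoherent (calZ S) ({1}ᶜ : Set ↥S) (tauM S) := by
  obtain ⟨R, hR, -, -⟩ := Cfsg.Agent.Lib.Helper51.PF10Z.subcoherent_sub (subHypZ_of h hms)
    (calZ S) hZsub hZne hZc hZdom
  have hbot : (⊥ : Subgroup ↥S) ⊔ ⁅coreC (U.subgroupOf S) (PS S) ⊥,
      coreC (U.subgroupOf S) (PS S) ⊥⁆ = ⊥ := by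
    rw [commutator_US h _ _ (coreC_le _ _ _) (coreC_le _ _ _), sup_idem]
  have := core_coherent hctx hchief hslack (tauM S) R (by rw [hbot]; exact hR)
  rw [hbot] at this
  exact this

/-- [SLACK]: if `C_U(P) ≠ 1` then the slack inequality of (9.11) holds (`U` abelian). -/
theorem slack_of_cent_ne_bot (h : PSide S W₁ U W₂ mu dl η)
    (hctx : Ctx (KM S) (PS S) (U.subgroupOf S) (W₁.subgroupOf S) (W₂.subgroupOf S) ⊥
      (Nat.card W₂) (Nat.card W₁))
    (hC : U ⊓ Subgroup.centralizer ((fittingHallOf S : Subgroup G) : Set G) ≠ ⊥) :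
    ∀ H₁ : Subgroup ↥S, IsAxis (PS S) (U.subgroupOf S) (W₁.subgroupOf S) ⊥ H₁ (Nat.card W₂) →
      2 * (coreC (U.subgroupOf S) H₁ ⊥).relIndex (U.subgroupOf S) *
          (coreC (U.subgroupOf S) (PS S) ⊥).relIndex (U.subgroupOf S) <
        (Nat.card W₂ - 1) * (⁅U.subgroupOf S, U.subgroupOf S⁆).relIndex (U.subgroupOf S) := by
  intro H₁ hA
  obtain ⟨-, h2, -, -⟩ := axis_index_facts hctx hA
  have hp1 : 0 < Nat.card W₂ - 1 := Nat.sub_pos_of_lt hctx.p_prime.one_lt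
  have h5 : 2 * (coreC (U.subgroupOf S) H₁ ⊥).relIndex (U.subgroupOf S) ≤ Nat.card W₂ - 1 :=
    Nat.le_of_dvd hp1 h2
  set U' := U.subgroupOf S with hU'
  set C' := coreC U' (PS S) ⊥ with hC'
  have hCU : C' ≤ U' := coreC_le _ _ _
  rw [commutator_US h U' U' le_rfl le_rfl, Subgroup.relIndex_bot_left]
  have hcard : Nat.card ↥C' * C'.relIndex U' = Nat.card ↥U' := by
    have := Subgroup.relIndex_mul_relIndex (⊥ : Subgroup ↥S) C' U' bot_le hCU
    rwa [Subgroup.relIndex_bot_left, Subgroup.relIndex_bot_left] at this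
  have hrelpos : 0 < C'.relIndex U' := by
    rw [Subgroup.relIndex]
    exact Nat.pos_of_ne_zero Subgroup.index_ne_zero_of_finite
  -- `C'` is not trivial
  have hC2 : 2 ≤ Nat.card ↥C' := by
    obtain ⟨x, hx1⟩ := (Subgroup.ne_bot_iff_exists_ne_one).mp hC
    have hxU : (x : G) ∈ U := (Subgroup.mem_inf.mp x.2).1
    have hxc : (x : G) ∈ Subgroup.centralizer ((fittingHallOf S : Subgroup G) : Set G) :=
      (Subgroup.mem_inf.mp x.2).2
    have hUS : U ≤ S := by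
      have h1 : U ≤ ⁅S, S⁆ := h.hP.U_compl.2.1
      exact h1.trans h.hP.W₁_compl.1
    have hne : C' ≠ ⊥ := by
      intro hbot
      have hmem : (⟨(x : G), hUS hxU⟩ : ↥S) ∈ C' := by
        have := hctx.H_normal
        rw [hC', mem_coreC_of_normal]
        refine ⟨Subgroup.mem_subgroupOf.mpr hxU, ?_⟩
        intro y hy
        rw [Subgroup.mem_bot]
        apply Subtype.ext
        have hy' : (y : G) ∈ fittingHallOf S := Subgroup.mem_subgroupOf.mp hy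
        have hcomm := Subgroup.mem_centralizer_iff.mp hxc (y : G) hy'
        show (x : G) * (y : G) * (x : G)⁻¹ * (y : G)⁻¹ = 1
        rw [← hcomm]
        group
      rw [hbot, Subgroup.mem_bot] at hmem
      apply hx1
      apply Subtype.ext
      exact congrArg (fun z : ↥S => (z : G)) hmem
    have hne1 : Nat.card ↥C' ≠ 1 := fun h1 => hne (Subgroup.card_eq_one.mp h1)
    have hpos : 0 < Nat.card ↥C' := Nat.card_pos
    omega
  calc 2 * (coreC U' H₁ ⊥).relIndex U' * C'.relIndex U'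
      ≤ (Nat.card W₂ - 1) * C'.relIndex U' := Nat.mul_le_mul_right _ h5
    _ < (Nat.card W₂ - 1) * (2 * C'.relIndex U') := by
        apply Nat.mul_lt_mul_of_pos_left _ hp1
        omega
    _ ≤ (Nat.card W₂ - 1) * Nat.card ↥U' := by
        apply Nat.mul_le_mul_left
        rw [← hcard]
        exact Nat.mul_le_mul_right _ hC2

end Cfsg.Agent.Lib.Helper16.PF13
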