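import Mathlib
import Cfsg.Agent.Lib.Helper16.PF13Defs
import Cfsg.Agent.Lib.Helper16.PF13Coh
import Cfsg.Agent.Lib.Helper16.PF13Final
import Cfsg.Agent.Lib.Helper47.PF13OrthMain
import Cfsg.Agent.Lib.Helper77.PF13Ctx
import Cfsg.Agent.Lib.Helper49.PF13MuSub
import Cfsg.Agent.Lib.Helper51.PF13ZFacts
import Cfsg.Agent.Lib.Helper58.PFNineElevenMid

/-!
# PF sec.13: discharging `OrthStmt` (helper16)

* `calZ_coherent_of_slack` : coherence of `calZ S` for a side `PSide` from the slack inequality of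
  (9.11) (all other inputs discharged: [CTX] helper77, [MUSUB] helper49, [ZFACTS] helper51).
* `calZ_coherent_of_cent_ne_bot` : in particular when `C_U(P) ≠ 1`.
* `OrthTightStmt G` : the conclusion of [ORTH] for the sides whose `calZ` is NOT coherent
  (helper4's lattice argument [ORTH-TIGHT]).
* `orthStmt_of` : `OrthTightStmt G → OrthStmt G`, and `stmt1547_of_tight`.
-/

set_option autoImplicit false

namespace Cfsg.Agent.Lib.Helper16.PF13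

open Cfsg Cfsg.Agent.Lib.Helper24.PFCyc Cfsg.Agent.Lib.Helper4.PF Cfsg.Agent.Lib.Helper58.PF9

universe u

variable {G : Type u} [Group G] [Fintype G]

/-- existence of `ψ ≠ 1` trivial on `W₁` -/
theorem exists_trivOn_W₁_ne_one {W₁ W₂ : Subgroup G} (hW : IsSelfNormalizingCyclic W₁ W₂)
    (h2 : 2 ≤ Nat.card W₂) : ∃ ψ : WChar W₁ W₂, TrivOn W₁ ψ ∧ ψ ≠ 1 := by
  obtain ⟨ψT, hψT, hψT1⟩ := exists_trivOn_ne_one
    (Cfsg.Agent.Lib.Helper60.PFTenT.isSelfNormalizingCyclic_swap hW) h2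
  refine ⟨Cfsg.Agent.Lib.Helper60.PFTenT.swapChar W₁ W₂ ψT,
    Cfsg.Agent.Lib.Helper60.PFTenT.trivOn_swapChar.mpr hψT, ?_⟩
  intro h1
  apply hψT1
  apply (Cfsg.Agent.Lib.Helper60.PFTenT.swapChar W₁ W₂).injective
  rw [map_one]
  exact h1

variable {S W₁ U W₂ : Subgroup G} [Fintype S]
  {mu : WChar W₁ W₂ → (↥S → ℂ)} {dl : WChar W₁ W₂ → ℂ} {η : WChar W₁ W₂ → (G → ℂ)}

/-- coherence of `calZ S` from the slack inequality of (9.11) -/
theorem calZ_coherent_of_slack (h : PSide S W₁ U W₂ mu dl η)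
    (hslack : ∀ H₁ : Subgroup ↥S,
      IsAxis (PS S) (U.subgroupOf S) (W₁.subgroupOf S) ⊥ H₁ (Nat.card W₂) →
      2 * (coreC (U.subgroupOf S) H₁ ⊥).relIndex (U.subgroupOf S) *
          (coreC (U.subgroupOf S) (PS S) ⊥).relIndex (U.subgroupOf S) <
        (Nat.card W₂ - 1) * (⁅U.subgroupOf S, U.subgroupOf S⁆).relIndex (U.subgroupOf S)) :
    IsCoherent (calZ S) ({1}ᶜ : Set ↥S) (tauM S) := by
  obtain ⟨hctx, hchief⟩ := Cfsg.Agent.Lib.Helper77.PF13.ctx_bot_of h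
  obtain ⟨hZ1, hZ2, -, hZ4, hZ5, -⟩ := Cfsg.Agent.Lib.Helper51.PF13.calZ_facts h
  obtain ⟨ψ, hψ, hψ1⟩ := exists_trivOn_W₁_ne_one h.hP.selfNormalizing h.hp.two_le
  exact calZ_coherent_of h hctx hchief (Cfsg.Agent.Lib.Helper49.PF13.musub_pair h) hZ1
    ⟨_, hZ5 ψ hψ hψ1⟩ (fun χ hχ => (hZ2 χ hχ).2.1) hZ4 hslack

/-- coherence of `calZ S` when `C_U(P) ≠ 1` -/
theorem calZ_coherent_of_cent_ne_bot (h : PSide S W₁ U W₂ mu dl η)
    (hC : U ⊓ Subgroup.centralizer ((fittingHallOf S : Subgroup G) : Set G) ≠ ⊥) :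
    IsCoherent (calZ S) ({1}ᶜ : Set ↥S) (tauM S) :=
  calZ_coherent_of_slack h
    (slack_of_cent_ne_bot h (Cfsg.Agent.Lib.Helper77.PF13.ctx_bot_of h).1 hC)

/-- a side whose `calZ` is not coherent is in the tight configuration of (9.11): there is an axis
with `2 a u = (p - 1) |U : U'|`, and `C_U(P) = 1`. -/
theorem tight_of_not_coherent (h : PSide S W₁ U W₂ mu dl η)
    (hn : ¬ IsCoherent (calZ S) ({1}ᶜ : Set ↥S) (tauM S)) :
    (∃ H₁ : Subgroup ↥S,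
      IsAxis (PS S) (U.subgroupOf S) (W₁.subgroupOf S) ⊥ H₁ (Nat.card W₂) ∧
      2 * (coreC (U.subgroupOf S) H₁ ⊥).relIndex (U.subgroupOf S) *
          (coreC (U.subgroupOf S) (PS S) ⊥).relIndex (U.subgroupOf S) =
        (Nat.card W₂ - 1) * (⁅U.subgroupOf S, U.subgroupOf S⁆).relIndex (U.subgroupOf S)) ∧
    U ⊓ Subgroup.centralizer ((fittingHallOf S : Subgroup G) : Set G) = ⊥ := by
  have hctx := (Cfsg.Agent.Lib.Helper77.PF13.ctx_bot_of h).1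
  constructor
  · by_contra hcon
    push Not at hcon
    apply hn
    apply calZ_coherent_of_slack h
    intro H₁ hA
    exact lt_of_le_of_ne (axis_weak_slack hctx hA) (hcon H₁ hA)
  · by_contra hC
    exact hn (calZ_coherent_of_cent_ne_bot h hC)

/-- the conclusion of [ORTH] for the sides whose `calZ` is not coherent ([ORTH-TIGHT]) -/
def OrthTightStmt (G : Type u) [Group G] [Fintype G] : Prop :=
  ∀ (S W₁ U W₂ : Subgroup G) [Fintype S] (mu : WChar W₁ W₂ → (↥S → ℂ)) (dl : WChar W₁ W₂ → ℂ)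
    (η : WChar W₁ W₂ → (G → ℂ)), PSide S W₁ U W₂ mu dl η →
    ¬ IsCoherent (calZ S) ({1}ᶜ : Set ↥S) (tauM S) →
    ∀ φ ψ : WChar W₁ W₂, TrivOn W₂ φ → TrivOn W₁ ψ → φ ≠ 1 → ψ ≠ 1 →
    ∃ (ε : ℤ) (ψ' : WChar W₁ W₂), (ε = 1 ∨ ε = -1) ∧ TrivOn W₁ ψ' ∧ ψ' ≠ 1 ∧
      ∀ α ∈ zspanOn (calZ S) ({1}ᶜ : Set ↥S),
        classInner (fun s : ↥S => η (φ * ψ) (s : G) - (ε : ℂ) * mu ψ' s) α = 0

theorem orthStmt_of (hT : OrthTightStmt G) : OrthStmt G := by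
  intro S W₁ U W₂ _ mu dl η h φ ψ hφ hψ hφ1 hψ1
  by_cases hcoh : IsCoherent (calZ S) ({1}ᶜ : Set ↥S) (tauM S)
  · exact Cfsg.Agent.Lib.Helper47.PF13.orth_of_coherent h hcoh φ ψ hφ hψ hφ1 hψ1
  · exact hT S W₁ U W₂ mu dl η h hcoh φ ψ hφ hψ hφ1 hψ1

/-- **S1547** from S1543, the book data and [ORTH-TIGHT]. -/
theorem stmt1547_of_tight (hG : IsMinSimpleOddOrder G) (bg : BookBGData G) (pf8 : BookPF8Data G)
    (h1543 : Stmt1543 G) (hT : OrthTightStmt G) : Stmt1547 G :=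
  stmt1547_of hG bg pf8 h1543 (orthStmt_of hT)

end Cfsg.Agent.Lib.Helper16.PF13
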