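import Mathlib
import Cfsg.Agent.Lib.Helper16.PF13Orth
import Cfsg.Agent.Lib.Helper16.PFNineDI
import Cfsg.Agent.Lib.Helper4.PFTightCfg
import Cfsg.Agent.Lib.Helper58.PFNineGA

/-!
# PF sec.13: `OrthStmt` without any coherence hypothesis (helper16)

`TwoDegStmt G` : the conclusion of [ORTH] in helper4's two-degree configuration
(module PF13-[OT-INST] `orth_of_two_degrees`, helper23).

`orthStmt_of_twoDeg` : `TwoDegStmt G → OrthStmt G`: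
Galois case: helper58 `core_coherent_galois` + helper47 `orth_of_coherent`;
axis case: helper4 `tight_cfg` gives coherence (then `orth_of_coherent`) or the two-degree
configuration.
-/

set_option autoImplicit false

namespace Cfsg.Agent.Lib.Helper16.PF13

open Cfsg Cfsg.Agent.Lib.Helper24.PFCyc Cfsg.Agent.Lib.Helper4.PF Cfsg.Agent.Lib.Helper58.PF9

universe u

variable {G : Type u} [Group G] [Fintype G]

/-- the conclusion of [ORTH] in the two-degree configuration ([OT-INST]) -/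
def TwoDegStmt (G : Type u) [Group G] [Fintype G] : Prop :=
  ∀ (S W₁ U W₂ : Subgroup G) [Fintype S] (mu : WChar W₁ W₂ → (↥S → ℂ)) (dl : WChar W₁ W₂ → ℂ)
    (η : WChar W₁ W₂ → (G → ℂ)), PSide S W₁ U W₂ mu dl η →
    ∀ (e₁ d : ℕ), 2 ≤ d → 0 < e₁ →
    (∀ ζ ∈ calZ S, ζ 1 = (e₁ : ℂ) ∨ ζ 1 = ((d * e₁ : ℕ) : ℂ)) →
    (∀ ψ : WChar W₁ W₂, TrivOn W₁ ψ → ψ ≠ 1 → muSum mu ψ 1 = ((d * e₁ : ℕ) : ℂ)) →
    2 * d ≤ {ζ : ↥S → ℂ | ζ ∈ calZ S ∧ ζ 1 = (e₁ : ℂ)}.ncard →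
    5 ≤ Nat.card W₂ →
    ∀ φ ψ : WChar W₁ W₂, TrivOn W₂ φ → TrivOn W₁ ψ → ψ ≠ 1 →
    ∃ (ε : ℤ) (ψ' : WChar W₁ W₂), (ε = 1 ∨ ε = -1) ∧ TrivOn W₁ ψ' ∧ ψ' ≠ 1 ∧
      ∀ α ∈ zspanOn (calZ S) ({1}ᶜ : Set ↥S),
        classInner (fun s : ↥S => η (φ * ψ) (s : G) - (ε : ℂ) * mu ψ' s) α = 0

variable {S W₁ U W₂ : Subgroup G} [Fintype S]
  {mu : WChar W₁ W₂ → (↥S → ℂ)} {dl : WChar W₁ W₂ → ℂ} {η : WChar W₁ W₂ → (G → ℂ)}

/-- coherence of `calZ S` in the Galois case -/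
theorem calZ_coherent_of_galois (h : PSide S W₁ U W₂ mu dl η)
    (hGal : IsGaloisLike (PS S) (U.subgroupOf S) ⊥) :
    IsCoherent (calZ S) ({1}ᶜ : Set ↥S) (tauM S) := by
  obtain ⟨hctx, -⟩ := Cfsg.Agent.Lib.Helper77.PF13.ctx_bot_of h
  obtain ⟨hZ1, hZ2, -, hZ4, hZ5, -⟩ := Cfsg.Agent.Lib.Helper51.PF13.calZ_facts h
  obtain ⟨ψ, hψ, hψ1⟩ := exists_trivOn_W₁_ne_one h.hP.selfNormalizing h.hp.two_le
  obtain ⟨R, hR, -, -⟩ := Cfsg.Agent.Lib.Helper51.PF10Z.subcoherent_sub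
    (subHypZ_of h (Cfsg.Agent.Lib.Helper49.PF13.musub_pair h)) (calZ S) hZ1 ⟨_, hZ5 ψ hψ hψ1⟩
    (fun χ hχ => (hZ2 χ hχ).2.1) hZ4
  have hbot : (⊥ : Subgroup ↥S) ⊔ ⁅coreC (U.subgroupOf S) (PS S) ⊥,
      coreC (U.subgroupOf S) (PS S) ⊥⁆ = ⊥ := by
    rw [commutator_US h _ _ (coreC_le _ _ _) (coreC_le _ _ _), sup_idem]
  have := core_coherent_galois hctx hGal (tauM S) R (by rw [hbot]; exact hR)
  rw [hbot] at this
  exact this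

theorem orthStmt_of_twoDeg (hT : TwoDegStmt G) : OrthStmt G := by
  intro S W₁ U W₂ _ mu dl η h φ ψ hφ hψ hφ1 hψ1
  obtain ⟨hctx, hchief⟩ := Cfsg.Agent.Lib.Helper77.PF13.ctx_bot_of h
  rcases Cfsg.Agent.Lib.Helper16.PFNineDI.galois_or_axis hctx hchief with hGal | ⟨H₁, hA⟩
  · exact Cfsg.Agent.Lib.Helper47.PF13.orth_of_coherent h (calZ_coherent_of_galois h hGal) φ ψ hφ hψ
      hφ1 hψ1
  · rcases Cfsg.Agent.Lib.Helper4.PFTight.tight_cfg h hctx hA with hcoh |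
      ⟨e₁, d, hd, he₁, hdeg, hmu, hcount, hp5⟩
    · exact Cfsg.Agent.Lib.Helper47.PF13.orth_of_coherent h hcoh φ ψ hφ hψ hφ1 hψ1
    · exact hT S W₁ U W₂ mu dl η h e₁ d hd he₁ hdeg hmu hcount hp5 φ ψ hφ hψ hψ1

/-- **S1547** from S1543, the book data and [OT-INST]. -/
theorem stmt1547_of_twoDeg (hG : IsMinSimpleOddOrder G) (bg : BookBGData G) (pf8 : BookPF8Data G)
    (h1543 : Stmt1543 G) (hT : TwoDegStmt G) : Stmt1547 G :=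
  stmt1547_of hG bg pf8 h1543 (orthStmt_of_twoDeg hT)

end Cfsg.Agent.Lib.Helper16.PF13
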