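import Mathlib
import Cfsg.Agent.Lib.Helper16.PF13OrthAll
import Cfsg.Agent.Lib.Helper23.PF13OrthTight
import Cfsg.Agent.Lib.Helper24.BGBookFinalC
import Cfsg.Agent.Lib.Helper24.PFTenFinal

/-!
# PF sec.13: the closed chain `Stmt1543 G → Stmt1547 G` (helper16)

All sec.13 modules are now theorems:
* `twoDegStmt : TwoDegStmt G` (helper23 `orth_of_two_degrees` = [OT-INST]);
* `orthStmt : OrthStmt G` (= [ORTH] on every p-side, no coherence hypothesis);
* `stmt1547_of_1543 hG h1543 : Stmt1547 G` (book data of helper24 plugged in).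
-/

set_option autoImplicit false

namespace Cfsg.Agent.Lib.Helper16.PF13

open Cfsg Cfsg.Agent.Lib.Helper24.PFCyc Cfsg.Agent.Lib.Helper4.PF

universe u

variable {G : Type u} [Group G] [Fintype G]

/-- [OT-INST] (helper23) in the packaged form. -/
theorem twoDegStmt : TwoDegStmt G :=
  fun _S _W₁ _U _W₂ _ _mu _dl _η h e₁ d hd he₁ hdeg hmu hcount hp5 φ ψ hφ hψ hψ1 =>
    Cfsg.Agent.Lib.Helper23.PF13OT.orth_of_two_degrees h e₁ d hd he₁ hdeg hmu hcount hp5 φ ψ hφ hψ
      hψ1

/-- [ORTH] on every p-side, unconditionally. -/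
theorem orthStmt : OrthStmt G :=
  orthStmt_of_twoDeg twoDegStmt

/-- **S1547 from S1543**, everything else being proved. -/
theorem stmt1547_of_1543 (hG : IsMinSimpleOddOrder G) (h1543 : Stmt1543 G) : Stmt1547 G :=
  stmt1547_of_twoDeg hG (Cfsg.Agent.Lib.Helper24.BGBook.bookBGData hG)
    (Cfsg.Agent.Lib.Helper24.PFCyc.bookPF8Data hG) h1543 twoDegStmt

end Cfsg.Agent.Lib.Helper16.PF13
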