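import Mathlib
import Cfsg.Agent.Lib.Helper16.PF13Defs
import Cfsg.Agent.Lib.Helper44.PF13Grp
import Cfsg.Agent.Lib.Helper77.PF13Ctx
import Cfsg.Agent.Lib.Helper62.PFNineN7
import Cfsg.Agent.Lib.Helper47.PFNineN5

/-!
# PF sec.13, module PF13-[DICH] (helper16, hedge): Galois / axis dichotomy at the level of `G`

`side_dichotomy`: for a p-side `(S, W₁, U, W₂)` either `U` acts on `P = S_F` as a cyclic group,
semiregularly modulo `C_U(P)`, with `|U : C_U(P)| ∣ (p^q-1)/(p-1)` (helper62 `galois_case_facts`),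
or there is an axis `P₁` of order `p` normalized by `U` whose `W₁`-conjugates generate `P`
(helper47 `exists_isMinInv_card_eq`).  `P` is a chief factor of `S` by helper77 `ctx_bot_of`.
-/

set_option autoImplicit false

namespace Cfsg.Agent.Lib.Helper16.PF13

open Cfsg Cfsg.Agent.Lib.Helper24.PFCyc Cfsg.Agent.Lib.Helper4.PF
open scoped Pointwise

universe u

variable {G : Type u} [Group G] [Fintype G] {S W₁ U W₂ : Subgroup G} [Fintype S]
  {mu : WChar W₁ W₂ → (↥S → ℂ)} {dl : WChar W₁ W₂ → ℂ} {η : WChar W₁ W₂ → (G → ℂ)}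

/-- MODULE PF13-[DICH] -/
theorem side_dichotomy (h : PSide S W₁ U W₂ mu dl η) :
    ((∃ g ∈ U, ∀ x ∈ U, ∃ k : ℕ, ∀ y ∈ fittingHallOf S, x * y * x⁻¹ = g ^ k * y * (g ^ k)⁻¹) ∧
      (∀ x ∈ U, ∀ y ∈ fittingHallOf S, y ≠ 1 → x * y = y * x →
        x ∈ Subgroup.centralizer ((fittingHallOf S : Subgroup G) : Set G)) ∧
      (U ⊓ Subgroup.centralizer ((fittingHallOf S : Subgroup G) : Set G)).relIndex U ∣
        (Nat.card W₂ ^ Nat.card W₁ - 1) / (Nat.card W₂ - 1)) ∨
    ∃ P₁ : Subgroup G, P₁ ≤ fittingHallOf S ∧ U ≤ Subgroup.normalizer (P₁ : Set G) ∧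
      Nat.card P₁ = Nat.card W₂ ∧
      (⨆ w : ↥W₁, MulAut.conj (w : G) • P₁) = fittingHallOf S := by
  classical
  have hg := Cfsg.Agent.Lib.Helper44.PF13.sideGrp_of h
  obtain ⟨-, hchiefS⟩ := Cfsg.Agent.Lib.Helper77.PF13.ctx_bot_of h
  set P : Subgroup G := fittingHallOf S with hPdef
  have hT := h.hP
  have hpF : Fact (Nat.card W₂).Prime := ⟨h.hp⟩
  have hPK : P ≤ ⁅S, S⁆ := hg.P_le
  have hKS : ⁅S, S⁆ ≤ S := hg.K_le
  have hPS : P ≤ S := hPK.trans hKS
  have hUS : U ≤ S := hg.U_le.trans hKS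
  have hW₁S : W₁ ≤ S := hg.W₁_le
  have hSN : S ≤ Subgroup.normalizer (P : Set G) := by
    intro s hs
    rw [Subgroup.mem_normalizer_iff]
    intro x
    constructor
    · exact fun hx => hg.P_normal s hs x hx
    · intro hx
      have := hg.P_normal s⁻¹ (S.inv_mem hs) _ hx
      have e : s⁻¹ * (s * x * s⁻¹) * s⁻¹⁻¹ = x := by group
      rwa [e] at this
  have hUP : U ≤ Subgroup.normalizer (P : Set G) := hUS.trans hSN
  have hWP : W₁ ≤ Subgroup.normalizer (P : Set G) := hW₁S.trans hSN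
  have hWU : W₁ ≤ Subgroup.normalizer (U : Set G) := hT.U_normal
  have hPea : Cfsg.IsElementaryAbelian (Nat.card W₂) P :=
    ⟨⟨⟨fun a b => Subtype.ext (h.hPcomm a a.2 b b.2)⟩⟩, h.hPexp⟩
  have hcard : Nat.card P = Nat.card W₂ ^ Nat.card W₁ := h.hPcard
  by_cases hred : ∃ Q : Subgroup G, Q ≤ P ∧ U ≤ Subgroup.normalizer (Q : Set G) ∧ Q ≠ ⊥ ∧ Q ≠ P
  · right
    have hchief : ∀ Q : Subgroup G, Q ≤ P → U ⊔ W₁ ≤ Subgroup.normalizer (Q : Set G) →
        Q = ⊥ ∨ Q = P := by
      intro Q hQP hQN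
      have hQS : Q ≤ S := hQP.trans hPS
      -- `S` normalizes `Q`
      have hPN : P ≤ Subgroup.normalizer (Q : Set G) := by
        intro x hx
        rw [Subgroup.mem_normalizer_iff]
        intro y
        constructor
        · intro hy
          have : x * y * x⁻¹ = y := by
            rw [h.hPcomm x hx y (hQP hy)]; group
          rwa [this]
        · intro hy
          have hy' : x⁻¹ * (x * y * x⁻¹) * x = x * y * x⁻¹ := by
            have := h.hPcomm x⁻¹ (P.inv_mem hx) _ (hQP hy)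
            rw [this]; group
          have e : x⁻¹ * (x * y * x⁻¹) * x = y := by group
          rw [e] at hy'
          rw [hy']
          exact hy
      have hSQ : S ≤ Subgroup.normalizer (Q : Set G) := by
        intro s hs
        obtain ⟨k, hk, w, hw, rfl⟩ := hT.W₁_compl.2.2.2 s hs
        obtain ⟨x, hx, z, hz, rfl⟩ := hT.U_compl.2.2.2 k hk
        exact Subgroup.mul_mem _ (Subgroup.mul_mem _ (hPN hx) (hQN (Subgroup.mem_sup_left hz)))
          (hQN (Subgroup.mem_sup_right hw))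
      have hnorm : (Q.subgroupOf S).Normal := by
        refine ⟨fun n hn g => ?_⟩
        rw [Subgroup.mem_subgroupOf] at hn ⊢
        have := (Subgroup.mem_normalizer_iff.mp (hSQ g.2) (n : G)).mp hn
        simpa using this
      rcases hchiefS (Q.subgroupOf S) hnorm bot_le
        (by
          intro x hx
          rw [Subgroup.mem_subgroupOf] at hx ⊢
          exact hQP hx) with h0 | h1
      · left
        rw [eq_bot_iff]
        intro x hx
        have : (⟨x, hQS hx⟩ : ↥S) ∈ Q.subgroupOf S := by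
          rw [Subgroup.mem_subgroupOf]; exact hx
        rw [h0, Subgroup.mem_bot] at this
        rw [Subgroup.mem_bot]
        exact congrArg Subtype.val this
      · right
        apply le_antisymm hQP
        intro x hx
        have : (⟨x, hPS hx⟩ : ↥S) ∈ PS S := by
          rw [Subgroup.mem_subgroupOf]; exact hx
        rw [← h1, Subgroup.mem_subgroupOf] at this
        exact this
    obtain ⟨P₁, hP₁, hmin, hc, hsup⟩ :=
      Cfsg.Agent.Lib.Helper47.PF9N5.exists_isMinInv_card_eq (Nat.card W₂) (Nat.card W₁) h.hq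
        P U W₁ hPea hcard hWP hWU hchief hred
    exact ⟨P₁, hP₁, hmin.2.1, hc, hsup⟩
  · left
    have hirr : ∀ Q : Subgroup G, Q ≤ P → U ≤ Subgroup.normalizer (Q : Set G) →
        Q = ⊥ ∨ Q = P := by
      intro Q h1 h2
      by_contra h3
      push Not at h3
      exact hred ⟨Q, h1, h2, h3.1, h3.2⟩
    have hfpf : ∀ x ∈ W₁, x ≠ 1 → ∀ z ∈ U, x * z = z * x → z = 1 := by
      intro x hx hx1 z hz hxz
      have hzW₂ : z ∈ W₂ := by
        rw [← hg.cent x hx hx1, Subgroup.mem_inf]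
        refine ⟨hg.U_le hz, ?_⟩
        rw [Subgroup.mem_centralizer_iff]
        intro y hy
        rw [Set.mem_singleton_iff] at hy
        subst hy
        exact hxz
      have : z ∈ P ⊓ U := Subgroup.mem_inf.mpr ⟨hg.W₂_le hzW₂, hz⟩
      rw [hg.PU_inf, Subgroup.mem_bot] at this
      exact this
    obtain ⟨w₀, hw₀, hw₀1⟩ : ∃ w₀ ∈ W₂, w₀ ≠ 1 := by
      by_contra hcon
      push Not at hcon
      have : Nat.card W₂ = 1 := by
        rw [Subgroup.card_eq_one, Subgroup.eq_bot_iff_forall]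
        exact hcon
      exact h.hp.one_lt.ne' this
    have hw₀W : ∀ w ∈ W₁, w * w₀ = w₀ * w := by
      intro w hw
      by_cases hw1 : w = 1
      · subst hw1; simp
      · have : w₀ ∈ ⁅S, S⁆ ⊓ Subgroup.centralizer ({w} : Set G) := by
          rw [hg.cent w hw hw1]; exact hw₀
        exact (Subgroup.mem_centralizer_iff.mp (Subgroup.mem_inf.mp this).2 w rfl)
    obtain ⟨h1, h2, -, h4⟩ := Cfsg.Agent.Lib.Helper62.PF9.galois_case_facts (Nat.card W₂)
      (Nat.card W₁) h.hq P U W₁ hPea hcard rfl hUP hWP hWU hfpf hT.U_nilpotent hirr w₀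
      (hg.W₂_le hw₀) hw₀1 hw₀W
    exact ⟨h1, h2, h4⟩

end Cfsg.Agent.Lib.Helper16.PF13
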