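import Mathlib
import Cfsg.Agent.Lib.Helper16.PF13Defs
import Cfsg.Agent.Lib.Helper16.PF13ArithNat
import Cfsg.Agent.Lib.Helper16.PF13Final
import Cfsg.Agent.Lib.Helper45.PF13DegDvd
import Cfsg.Agent.Lib.Helper45.PF13AxQ
import Cfsg.Agent.Lib.Helper11.PF13ArCrude

/-!
# PF sec.13 RESULT: the extremal structure of both sides of the pair (helper16)

helper10 #3548 (ii), (iii): with `C_U(P) = 1` on both sides, (\*\*) forces
`|U| (p - 1) = p ^ q - 1`, `U` cyclic and semiregular on `P#`, for BOTH sides and all types.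

* `DichStmt h` : the Galois / axis dichotomy of a side (module [DICH], helper42),
* `AxbStmt h` : the axis bound for a Type II side (module [AXB2], helper42),
* `extremal_side` : one side, from the dichotomy, the bounds and (\*\*) in the form `star p q u v 1 1`,
* `extremal_of_pair_of` : both sides of a pair.
-/

set_option autoImplicit false

namespace Cfsg.Agent.Lib.Helper16.PF13

open Cfsg Cfsg.Agent.Lib.Helper24.PFCyc Cfsg.Agent.Lib.Helper4.PF Cfsg.Agent.Lib.Helper60.PFTenT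
open scoped Pointwise

universe u

variable {G : Type u} [Group G] [Fintype G]

/-- the conclusion of the module [DICH] for a side -/
def DichStmt (S W₁ U W₂ : Subgroup G) : Prop :=
    ((∃ g ∈ U, ∀ x ∈ U, ∃ k : ℕ, ∀ y ∈ fittingHallOf S, x * y * x⁻¹ = g ^ k * y * (g ^ k)⁻¹) ∧
      (∀ x ∈ U, ∀ y ∈ fittingHallOf S, y ≠ 1 → x * y = y * x →
        x ∈ Subgroup.centralizer ((fittingHallOf S : Subgroup G) : Set G)) ∧
      (U ⊓ Subgroup.centralizer ((fittingHallOf S : Subgroup G) : Set G)).relIndex U ∣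
        (Nat.card W₂ ^ Nat.card W₁ - 1) / (Nat.card W₂ - 1)) ∨
    ∃ P₁ : Subgroup G, P₁ ≤ fittingHallOf S ∧ U ≤ Subgroup.normalizer (P₁ : Set G) ∧
      Nat.card P₁ = Nat.card W₂ ∧
      (⨆ w : ↥W₁, MulAut.conj (w : G) • P₁) = fittingHallOf S

/-- the conclusion of the module [AXB2] for a side -/
def AxbStmt (S U W₂ : Subgroup G) : Prop :=
  ∀ P₁ : Subgroup G, P₁ ≤ fittingHallOf S → U ≤ Subgroup.normalizer (P₁ : Set G) →
    Nat.card P₁ = Nat.card W₂ → 4 * Nat.card U ≤ (Nat.card W₂ - 1) ^ 2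

variable {S W₁ U W₂ : Subgroup G} [Fintype S]
  {mu : WChar W₁ W₂ → (↥S → ℂ)} {dl : WChar W₁ W₂ → ℂ} {η : WChar W₁ W₂ → (G → ℂ)}

/-- ASSEMBLY [P13-EXT]: the extremal structure of one side. -/
theorem extremal_side (h : PSide S W₁ U W₂ mu dl η) (hdich : DichStmt S W₁ U W₂)
    (hC : U ⊓ Subgroup.centralizer ((fittingHallOf S : Subgroup G) : Set G) = ⊥)
    (htype : AxbStmt S U W₂ ∨ Nat.card W₂ < Nat.card W₁)
    {u v : ℕ} (hudvd : u ∣ Nat.card U)
    (hv : v * (Nat.card W₁ - 1) ≤ Nat.card W₁ ^ Nat.card W₂ - 1)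
    (hstar : star (Nat.card W₂) (Nat.card W₁) u v 1 1) :
    Nat.card U * (Nat.card W₂ - 1) = Nat.card W₂ ^ Nat.card W₁ - 1 ∧ IsCyclic U ∧
      ∀ x ∈ U, x ≠ 1 → ∀ y ∈ fittingHallOf S, x * y = y * x → y = 1 := by
  have hG := Cfsg.Agent.Lib.Helper44.PF13.sideGrp_of h
  have hule : u ≤ Nat.card U := Nat.le_of_dvd Nat.card_pos hudvd
  have hoddp : Odd (Nat.card W₂) :=
    Odd.of_dvd_nat h.hodd (Subgroup.card_subgroup_dvd_card _)
  have hoddq : Odd (Nat.card W₁) :=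
    Odd.of_dvd_nat h.hodd (Subgroup.card_subgroup_dvd_card _)
  rcases hdich with ⟨⟨g, hg, hgen⟩, hsemi, hdvd⟩ | ⟨P₁, hP₁, hUN, hcard, hsup⟩
  · -- Galois case
    rw [hC, Subgroup.relIndex_bot_left] at hdvd
    set nU := (Nat.card W₂ ^ Nat.card W₁ - 1) / (Nat.card W₂ - 1) with hnU
    have hn : nU * (Nat.card W₂ - 1) = Nat.card W₂ ^ Nat.card W₁ - 1 :=
      Nat.div_mul_cancel (Nat.sub_one_dvd_pow_sub_one _ _)
    have hu_eq : u = nU := u_eq_of_star hG.hp3 hG.hq3 hoddp hoddq hG.hpq hn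
      (hudvd.trans hdvd) hv le_rfl le_rfl hstar
    have hcardU : Nat.card U = nU := by
      apply Nat.dvd_antisymm hdvd
      rw [← hu_eq]
      exact hudvd
    have hbot : ∀ x ∈ U, x ∈ Subgroup.centralizer ((fittingHallOf S : Subgroup G) : Set G) →
        x = 1 := by
      intro x hx hxc
      have : x ∈ U ⊓ Subgroup.centralizer ((fittingHallOf S : Subgroup G) : Set G) := ⟨hx, hxc⟩
      rw [hC] at this
      exact Subgroup.mem_bot.mp this
    refine ⟨by rw [hcardU, hn], ?_, ?_⟩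
    · -- cyclic
      refine ⟨⟨⟨g, hg⟩, ?_⟩⟩
      intro x
      obtain ⟨k, hk⟩ := hgen (x : G) x.2
      refine ⟨(k : ℤ), ?_⟩
      apply Subtype.ext
      have hgk : g ^ k ∈ U := U.pow_mem hg k
      have h1 : (g ^ k)⁻¹ * (x : G) = 1 := by
        apply hbot _ (U.mul_mem (U.inv_mem hgk) x.2)
        rw [Subgroup.mem_centralizer_iff]
        intro y hy
        have := hk y hy
        have e : (g ^ k)⁻¹ * ((x : G) * y * (x : G)⁻¹) * (g ^ k) = y := by
          rw [this]; group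
        calc y * ((g ^ k)⁻¹ * (x : G)) = ((g ^ k)⁻¹ * ((x : G) * y * (x : G)⁻¹) * (g ^ k)) *
              ((g ^ k)⁻¹ * (x : G)) := by rw [e]
          _ = (g ^ k)⁻¹ * (x : G) * y := by group
      have h2 : (x : G) = g ^ k := by
        have := congrArg (fun t => g ^ k * t) h1
        simpa [mul_assoc] using this
      simp [h2]
    · intro x hx hx1 y hy hxy
      by_contra hy1
      exact hx1 (hbot x hx (hsemi x hx y hy hy1 hxy))
  · -- axis case: impossible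
    exfalso
    rcases htype with hII | hlt
    · have h4 := hII P₁ hP₁ hUN hcard
      exact not_star_of_axis hG.hp3 hG.hq3 (le_trans (Nat.mul_le_mul_left 4 hule) h4) hv le_rfl
        le_rfl hstar
    · have h4 := Cfsg.Agent.Lib.Helper45.PF13.axis_bound_crude h hC hP₁ hUN hcard hsup
      exact Cfsg.Agent.Lib.Helper11.PF13.not_star_of_crude hG.hp3 hlt hG.hq (hule.trans h4) hv hstar

/-- the extremal structure of BOTH sides of a pair, given the dichotomy and the Type II axis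
bound for every side. -/
theorem extremal_of_pair_of (hG : IsMinSimpleOddOrder G) (bg : BookBGData G) (pf8 : BookPF8Data G)
    (h1543 : Stmt1543 G) (hO : OrthStmt G)
    (hdich : ∀ (S W₁ U W₂ : Subgroup G) [Fintype S] (mu : WChar W₁ W₂ → (↥S → ℂ))
      (dl : WChar W₁ W₂ → ℂ) (η : WChar W₁ W₂ → (G → ℂ)), PSide S W₁ U W₂ mu dl η →
      DichStmt S W₁ U W₂)
    (haxb : ∀ (S W₁ U W₂ : Subgroup G) [Fintype S] (mu : WChar W₁ W₂ → (↥S → ℂ))
      (dl : WChar W₁ W₂ → ℂ) (η : WChar W₁ W₂ → (G → ℂ)), PSide S W₁ U W₂ mu dl η →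
      Group.IsSolvable ↥S → IsOfTypeII S → AxbStmt S U W₂)
    {S T W₁ W₂ U V : Subgroup G} (ph : PairHyp S T W₁ W₂ U V) :
    (Nat.card U * (Nat.card W₂ - 1) = Nat.card W₂ ^ Nat.card W₁ - 1 ∧ IsCyclic U ∧
      ∀ x ∈ U, x ≠ 1 → ∀ y ∈ fittingHallOf S, x * y = y * x → y = 1) ∧
    (Nat.card V * (Nat.card W₁ - 1) = Nat.card W₁ ^ Nat.card W₂ - 1 ∧ IsCyclic V ∧
      ∀ x ∈ V, x ≠ 1 → ∀ y ∈ fittingHallOf T, x * y = y * x → y = 1) := by
  classical
  let _ : Fintype ↥S := Fintype.ofFinite _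
  let _ : Fintype ↥T := Fintype.ofFinite _
  obtain ⟨η, mu, dl, mu', dl', u, v, hPS, hPT, -, -, -, -, hun, hvn, ⟨ψ', hψ', hψ'1, hu1⟩,
    ⟨ψ'', hψ'', hψ''1, hv1⟩, hstar⟩ := star_of_pair hG bg pf8 h1543 hO ph
  have h47 := stmt1547_of hG bg pf8 h1543 hO
  have hCS := h47 S T W₁ W₂ U V ph.hS ph.hT ph.hSP ph.hTP ph.hST ph.hII ph.hS25 ph.hT25
  have hCT := h47 T S W₂ W₁ V U ph.symm.hS ph.symm.hT ph.symm.hSP ph.symm.hTP ph.symm.hST
    ph.symm.hII ph.symm.hS25 ph.symm.hT25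
  have hudvd := Cfsg.Agent.Lib.Helper45.PF13.degree_dvd_card hPS ψ' hψ' hψ'1 u hu1
  have hvdvd := Cfsg.Agent.Lib.Helper45.PF13.degree_dvd_card hPT ψ'' hψ'' hψ''1 v hv1
  have hsolvS : Group.IsSolvable ↥S :=
    Cfsg.Agent.Lib.Helper26.PFBook.isSolvable_of_isCoatom hG ph.hS le_rfl
  have hsolvT : Group.IsSolvable ↥T :=
    Cfsg.Agent.Lib.Helper26.PFBook.isSolvable_of_isCoatom hG ph.hT le_rfl
  have hGS := Cfsg.Agent.Lib.Helper44.PF13.sideGrp_of hPS
  have hne : Nat.card W₂ ≠ Nat.card W₁ := hGS.hpq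
  -- the types
  have hS2 := (h1543 S T W₁ W₂ U V ph.hS ph.hT ph.hSP ph.hTP ph.hST ph.hII ph.hS25 ph.hT25).2.1
  have hT2 := (h1543 T S W₂ W₁ V U ph.symm.hS ph.symm.hT ph.symm.hSP ph.symm.hTP ph.symm.hST
    ph.symm.hII ph.symm.hS25 ph.symm.hT25).2.1
  have htS : AxbStmt S U W₂ ∨ Nat.card W₂ < Nat.card W₁ := by
    rcases Nat.lt_or_gt_of_ne hne with hlt | hgt
    · exact Or.inr hlt
    · exact Or.inl (haxb S W₁ U W₂ mu dl η hPS hsolvS (hS2 hgt))
  have htT : AxbStmt T V W₁ ∨ Nat.card W₁ < Nat.card W₂ := by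
    rcases Nat.lt_or_gt_of_ne hne with hlt | hgt
    · exact Or.inl (haxb T W₂ V W₁ mu' dl' (etaSwap η) hPT hsolvT (hT2 hlt))
    · exact Or.inr hgt
  exact ⟨extremal_side hPS (hdich S W₁ U W₂ mu dl η hPS) hCS htS hudvd hvn hstar,
    extremal_side hPT (hdich T W₂ V W₁ mu' dl' (etaSwap η) hPT) hCT htT hvdvd hun
      (star_symm hstar)⟩

end Cfsg.Agent.Lib.Helper16.PF13
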