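import Mathlib
import Cfsg.Agent.Lib.Helper16.PF13Ext
import Cfsg.Agent.Lib.Helper16.PF13Closed
import Cfsg.Agent.Lib.Helper16.PF13Dich
import Cfsg.Agent.Lib.Helper42.PF13AxB2

/-!
# PF sec.13 RESULT, closed form (helper16)

`extremal_of_pair hG h1543 ph`: for a pair `(S, T)` as in `PairHyp`, both sides are extremal:
`|U| (p-1) = p^q - 1`, `U` cyclic, `U` acts semiregularly on `S_F`; same for `(T, V)`.
Only hypothesis besides `IsMinSimpleOddOrder G`: `Stmt1543 G` (sec.10–12).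
-/

set_option autoImplicit false

namespace Cfsg.Agent.Lib.Helper16.PF13

open Cfsg Cfsg.Agent.Lib.Helper24.PFCyc Cfsg.Agent.Lib.Helper4.PF

universe u

variable {G : Type u} [Group G] [Fintype G]

/-- **sec.13 RESULT**: the extremal structure of both sides of a pair. -/
theorem extremal_of_pair (hG : IsMinSimpleOddOrder G) (h1543 : Stmt1543 G)
    {S T W₁ W₂ U V : Subgroup G} (ph : PairHyp S T W₁ W₂ U V) :
    (Nat.card U * (Nat.card W₂ - 1) = Nat.card W₂ ^ Nat.card W₁ - 1 ∧ IsCyclic U ∧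
      ∀ x ∈ U, x ≠ 1 → ∀ y ∈ fittingHallOf S, x * y = y * x → y = 1) ∧
    (Nat.card V * (Nat.card W₁ - 1) = Nat.card W₁ ^ Nat.card W₂ - 1 ∧ IsCyclic V ∧
      ∀ x ∈ V, x ≠ 1 → ∀ y ∈ fittingHallOf T, x * y = y * x → y = 1) :=
  extremal_of_pair_of hG (Cfsg.Agent.Lib.Helper24.BGBook.bookBGData hG)
    (Cfsg.Agent.Lib.Helper24.PFCyc.bookPF8Data hG) h1543 orthStmt
    (fun _S _W₁ _U _W₂ _ _mu _dl _η h => side_dichotomy h)
    (fun _S _W₁ _U _W₂ _ _mu _dl _η h hsolv hII _P₁ hP₁ hU hcard =>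
      Cfsg.Agent.Lib.Helper42.PF13.axis_bound_typeII h hsolv hII hP₁ hU hcard)
    ph

end Cfsg.Agent.Lib.Helper16.PF13
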