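import Mathlib
import Cfsg.Agent.Lib.Helper16.PF13ExtClosed

/-!
# PF sec.13: the results in `[Finite G]` form (helper16)

Same statements as `stmt1547_of_1543`, `extremal_of_pair`, with `[Finite G]` instead of
`[Fintype G]`, and `hcard_of_1543` in the exact shape of the hypothesis `hcard` of
helper26 `stmt1544Core_of_sec14_final` / helper52 `stmt1544Core_of_hna`.
-/

set_option autoImplicit false

namespace Cfsg.Agent.Lib.Helper16.PF13

open Cfsg Cfsg.Agent.Lib.Helper4.PF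

universe u

variable {G : Type u} [Group G] [Finite G]

/-- `Stmt1543 G → Stmt1547 G`, `[Finite G]` form. -/
theorem stmt1547_fin (hG : IsMinSimpleOddOrder G) (h1543 : Stmt1543 G) : Stmt1547 G := by
  classical
  let _ : Fintype G := Fintype.ofFinite G
  exact stmt1547_of_1543 hG h1543

/-- sec.13 RESULT, `[Finite G]` form. -/
theorem extremal_fin (hG : IsMinSimpleOddOrder G) (h1543 : Stmt1543 G)
    {S T W₁ W₂ U V : Subgroup G} (ph : PairHyp S T W₁ W₂ U V) :
    (Nat.card U * (Nat.card W₂ - 1) = Nat.card W₂ ^ Nat.card W₁ - 1 ∧ IsCyclic U ∧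
      ∀ x ∈ U, x ≠ 1 → ∀ y ∈ fittingHallOf S, x * y = y * x → y = 1) ∧
    (Nat.card V * (Nat.card W₁ - 1) = Nat.card W₁ ^ Nat.card W₂ - 1 ∧ IsCyclic V ∧
      ∀ x ∈ V, x ≠ 1 → ∀ y ∈ fittingHallOf T, x * y = y * x → y = 1) := by
  classical
  let _ : Fintype G := Fintype.ofFinite G
  exact extremal_of_pair hG h1543 ph

/-- `hcard` in the exact shape used by `stmt1544Core_of_sec14_final` / `stmt1544Core_of_hna`. -/
theorem hcard_of_1543 (hG : IsMinSimpleOddOrder G) (h1543 : Stmt1543 G) :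
    ∀ {S T W₁ W₂ U V : Subgroup G}, PairHyp S T W₁ W₂ U V → Nat.card W₁ < Nat.card W₂ →
      Nat.card U * (Nat.card W₂ - 1) = Nat.card W₂ ^ Nat.card W₁ - 1 ∧
        Nat.card V * (Nat.card W₁ - 1) = Nat.card W₁ ^ Nat.card W₂ - 1 :=
  fun ph _ => ⟨(extremal_fin hG h1543 ph).1.1, (extremal_fin hG h1543 ph).2.1⟩

end Cfsg.Agent.Lib.Helper16.PF13
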