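import Cfsg.Agent.Lib.Helper16.PIndex
import Cfsg.Agent.Lib.Helper16.StabGroup
import Cfsg.Agent.Lib.Helper16.NilCentralizer

/-!
# Brauer pairs of a stable block of a normal subgroup of `p`-power index (helper16)

Conjugation of characters of `C_G(R)` and of `C_N(R) = C_G(R) ∩ N` by elements of `N_G(R)`, the
stabilizer conditions in these terms, and the link between the Brauer pair conditions of a block
`c` of `N` and of the block of `G` with the same idempotent.
-/

set_option autoImplicit false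

namespace Cfsg.Agent.Lib.Helper16

open Cfsg MonoidAlgebra Cfsg.Agent.Lib.Helper77
open scoped ComplexConjugate

universe u

section Aut

variable {K : Type u} [Group K] (K₀ : Subgroup K)

/-- The restriction to `K₀` of an automorphism of `K` preserving `K₀`. -/
noncomputable def resAut (α : K ≃* K) (hα : ∀ k : K, k ∈ K₀ ↔ α k ∈ K₀) : ↥K₀ ≃* ↥K₀ where
  toFun n := ⟨α (n : K), (hα n).mp n.2⟩
  invFun n := ⟨α.symm (n : K), (hα _).mpr (by rw [MulEquiv.apply_symm_apply]; exact n.2)⟩
  left_inv n := Subtype.ext (α.symm_apply_apply (n : K))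
  right_inv n := Subtype.ext (α.apply_symm_apply (n : K))
  map_mul' a b := Subtype.ext (map_mul α (a : K) (b : K))

theorem resAut_coe (α : K ≃* K) (hα : ∀ k : K, k ∈ K₀ ↔ α k ∈ K₀) (n : ↥K₀) :
    ((resAut K₀ α hα n : ↥K₀) : K) = α n := rfl

variable [Fintype K₀]

/-- "Lying over" is preserved by automorphisms. -/
theorem classInner_res_irrPull (α : K ≃* K) (hα : ∀ k : K, k ∈ K₀ ↔ α k ∈ K₀)
    (ξ : IrrCharacter K) (θ : IrrCharacter K₀) :
    classInner (fun n : K₀ => (irrPull α ξ : K → ℂ) n) (irrPull (resAut K₀ α hα) θ : K₀ → ℂ) =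
      classInner (fun n : K₀ => (ξ : K → ℂ) n) (θ : K₀ → ℂ) := by
  unfold classInner
  congr 1
  exact Fintype.sum_equiv (resAut K₀ α hα).toEquiv _ _ (fun n => rfl)

end Aut

section Stab

variable {G : Type u} [Group G]

/-- Conjugation `k ↦ g⁻¹ k g` on `C_G(R)` for `g ∈ N_G(R)`. -/
noncomputable def cjAut (R : Subgroup G) (g : G) (hg : g ∈ Subgroup.normalizer (R : Set G)) :
    ↥(Subgroup.centralizer (R : Set G)) ≃* ↥(Subgroup.centralizer (R : Set G)) :=
  normAut R g⁻¹ (Subgroup.inv_mem _ hg)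

theorem cjAut_coe (R : Subgroup G) (g : G) (hg : g ∈ Subgroup.normalizer (R : Set G))
    (c : ↥(Subgroup.centralizer (R : Set G))) :
    ((cjAut R g hg c : ↥(Subgroup.centralizer (R : Set G))) : G) = g⁻¹ * (c : G) * g := by
  unfold cjAut
  rw [normAut_coe, inv_inv]

theorem cjAut_symm_coe (R : Subgroup G) (g : G) (hg : g ∈ Subgroup.normalizer (R : Set G))
    (c : ↥(Subgroup.centralizer (R : Set G))) :
    (((cjAut R g hg).symm c : ↥(Subgroup.centralizer (R : Set G))) : G) = g * (c : G) * g⁻¹ := by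
  have h1 : cjAut R g hg ((cjAut R g hg).symm c) = c := MulEquiv.apply_symm_apply _ _
  have h2 := congrArg (Subtype.val : ↥(Subgroup.centralizer (R : Set G)) → G) h1
  rw [cjAut_coe] at h2
  rw [← h2]
  group

/-- `g ∈ N_G(R)` stabilizes the block `f` of `C_G(R)` iff `f` is closed under conjugation by
`g`. -/
theorem stabilizesBlock_iff_cjAut (R : Subgroup G) (g : G)
    (hg : g ∈ Subgroup.normalizer (R : Set G))
    (f : Set (IrrCharacter ↥(Subgroup.centralizer (R : Set G)))) :
    StabilizesBlock (Subgroup.centralizer (R : Set G)) f g ↔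
      ∀ ξ ∈ f, irrPull (cjAut R g hg) ξ ∈ f := by
  constructor
  · rintro ⟨_, h⟩ ξ hξ
    obtain ⟨χ', hχ', hc⟩ := h ξ hξ
    have : χ' = irrPull (cjAut R g hg) ξ := by
      apply Subtype.ext
      funext k'
      rw [irrPull_apply]
      apply hc
      rw [cjAut_coe]
      group
    rw [← this]
    exact hχ'
  · intro h
    refine ⟨normalizer_le_normalizer_centralizer' R hg, ?_⟩
    intro ξ hξ
    refine ⟨irrPull (cjAut R g hg) ξ, h ξ hξ, ?_⟩
    intro k k' hk
    rw [irrPull_apply]
    refine congrArg _ (Subtype.ext ?_)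
    rw [cjAut_coe, hk]
    group

theorem irrPull_cjAut_mul (R : Subgroup G) (g h : G)
    (hg : g ∈ Subgroup.normalizer (R : Set G)) (hh : h ∈ Subgroup.normalizer (R : Set G))
    (ξ : IrrCharacter ↥(Subgroup.centralizer (R : Set G))) :
    irrPull (cjAut R (g * h) (Subgroup.mul_mem _ hg hh)) ξ =
      irrPull (cjAut R g hg) (irrPull (cjAut R h hh) ξ) := by
  apply Subtype.ext
  funext k
  rw [irrPull_apply, irrPull_apply, irrPull_apply]
  refine congrArg _ (Subtype.ext ?_)
  rw [cjAut_coe, cjAut_coe, cjAut_coe]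
  group

/-- Conjugation by an element of `C_G(R)` fixes the characters of `C_G(R)`. -/
theorem irrPull_cjAut_of_mem_centralizer (R : Subgroup G)
    (k : ↥(Subgroup.centralizer (R : Set G)))
    (ξ : IrrCharacter ↥(Subgroup.centralizer (R : Set G))) :
    irrPull (cjAut R (k : G) (Subgroup.centralizer_le_normalizer _ k.2)) ξ = ξ := by
  apply Subtype.ext
  funext c
  rw [irrPull_apply]
  have h1 : cjAut R (k : G) (Subgroup.centralizer_le_normalizer _ k.2) c = k⁻¹ * c * k⁻¹⁻¹ := by
    apply Subtype.ext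
    rw [cjAut_coe]
    simp
  rw [h1]
  exact irr_conj ξ c k⁻¹

end Stab

section Normal

variable {G : Type u} [Group G] (N : Subgroup G) [hN : N.Normal]

theorem cjAut_mem_subgroupOf_iff (R : Subgroup G) (g : G)
    (hg : g ∈ Subgroup.normalizer (R : Set G)) (k : ↥(Subgroup.centralizer (R : Set G))) :
    k ∈ N.subgroupOf (Subgroup.centralizer (R : Set G)) ↔
      cjAut R g hg k ∈ N.subgroupOf (Subgroup.centralizer (R : Set G)) := by
  rw [Subgroup.mem_subgroupOf, Subgroup.mem_subgroupOf, cjAut_coe]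
  constructor
  · intro h
    have := hN.conj_mem _ h g⁻¹
    rwa [inv_inv] at this
  · intro h
    have := hN.conj_mem _ h g
    have h2 : g * (g⁻¹ * (k : G) * g) * g⁻¹ = (k : G) := by group
    rwa [h2] at this

/-- Conjugation `k ↦ g⁻¹ k g` on `C_N(R) = C_G(R) ∩ N` for `g ∈ N_G(R)`. -/
noncomputable def cjAut₀ (R : Subgroup G) (g : G) (hg : g ∈ Subgroup.normalizer (R : Set G)) :
    ↥(N.subgroupOf (Subgroup.centralizer (R : Set G))) ≃*
      ↥(N.subgroupOf (Subgroup.centralizer (R : Set G))) :=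
  resAut _ (cjAut R g hg) (cjAut_mem_subgroupOf_iff N R g hg)

theorem cjAut₀_coe (R : Subgroup G) (g : G) (hg : g ∈ Subgroup.normalizer (R : Set G))
    (n : ↥(N.subgroupOf (Subgroup.centralizer (R : Set G)))) :
    (((cjAut₀ N R g hg n : ↥(N.subgroupOf (Subgroup.centralizer (R : Set G)))) :
      ↥(Subgroup.centralizer (R : Set G))) : G) =
      g⁻¹ * ((n : ↥(Subgroup.centralizer (R : Set G))) : G) * g := by
  unfold cjAut₀
  rw [resAut_coe, cjAut_coe]

theorem irrPull_cjAut₀_mul (R : Subgroup G) (g h : G)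
    (hg : g ∈ Subgroup.normalizer (R : Set G)) (hh : h ∈ Subgroup.normalizer (R : Set G))
    (θ : IrrCharacter ↥(N.subgroupOf (Subgroup.centralizer (R : Set G)))) :
    irrPull (cjAut₀ N R (g * h) (Subgroup.mul_mem _ hg hh)) θ =
      irrPull (cjAut₀ N R g hg) (irrPull (cjAut₀ N R h hh) θ) := by
  apply Subtype.ext
  funext k
  rw [irrPull_apply, irrPull_apply, irrPull_apply]
  refine congrArg _ (Subtype.ext (Subtype.ext ?_))
  rw [cjAut₀_coe, cjAut₀_coe, cjAut₀_coe]
  group

/-- `conjIrrN` by `k ∈ C_G(R)` on the characters of `C_N(R)` is `cjAut₀` by `k⁻¹`. -/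
theorem conjIrrN_eq_irrPull_cjAut₀ (R : Subgroup G) (k : ↥(Subgroup.centralizer (R : Set G)))
    (θ : IrrCharacter ↥(N.subgroupOf (Subgroup.centralizer (R : Set G)))) :
    conjIrrN (N.subgroupOf (Subgroup.centralizer (R : Set G))) k θ =
      irrPull (cjAut₀ N R ((k : G)⁻¹)
        (Subgroup.inv_mem _ (Subgroup.centralizer_le_normalizer _ k.2))) θ := by
  apply Subtype.ext
  funext n
  rw [conjIrrN_apply, irrPull_apply]
  refine congrArg _ (Subtype.ext (Subtype.ext ?_))
  rw [cjAut₀_coe, inv_inv]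
  rfl

/-- The centralizer of `R ≤ N` computed in `N` is `C_G(R) ∩ N`. -/
noncomputable def centNEquiv (R : Subgroup G) (hRN : R ≤ N) :
    ↥(Subgroup.centralizer ((R.subgroupOf N : Subgroup ↥N) : Set ↥N)) ≃*
      ↥(N.subgroupOf (Subgroup.centralizer (R : Set G))) where
  toFun c := ⟨⟨((c : ↥N) : G), coe_mem_centralizer_of_subgroupOf N R hRN c.2⟩,
    Subgroup.mem_subgroupOf.mpr (c : ↥N).2⟩
  invFun k := ⟨⟨((k : ↥(Subgroup.centralizer (R : Set G))) : G), Subgroup.mem_subgroupOf.mp k.2⟩,
    mk_mem_centralizer_of_subgroupOf N R _ (k : ↥(Subgroup.centralizer (R : Set G))).2⟩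
  left_inv _ := rfl
  right_inv _ := rfl
  map_mul' _ _ := rfl

omit hN in
theorem centNEquiv_coe (R : Subgroup G) (hRN : R ≤ N)
    (c : ↥(Subgroup.centralizer ((R.subgroupOf N : Subgroup ↥N) : Set ↥N))) :
    (((centNEquiv N R hRN c : ↥(N.subgroupOf (Subgroup.centralizer (R : Set G)))) :
      ↥(Subgroup.centralizer (R : Set G))) : G) = ((c : ↥N) : G) := rfl

/-- The stabilizer condition for a block of `C_N(R)` seen in the group `N`. -/
theorem stabilizesBlock_subgroupOf_iff (R : Subgroup G) (hRN : R ≤ N) (g : ↥N)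
    (hg : (g : G) ∈ Subgroup.normalizer (R : Set G))
    (f₀ : Set (IrrCharacter ↥(N.subgroupOf (Subgroup.centralizer (R : Set G))))) :
    StabilizesBlock (Subgroup.centralizer ((R.subgroupOf N : Subgroup ↥N) : Set ↥N))
      (pullBlock (centNEquiv N R hRN) f₀) g ↔
      ∀ θ ∈ f₀, irrPull (cjAut₀ N R (g : G) hg) θ ∈ f₀ := by
  have hg' : g ∈ Subgroup.normalizer ((R.subgroupOf N : Subgroup ↥N) : Set ↥N) :=
    (coe_mem_normalizer_iff_subgroupOf hRN g).mpr hg
  rw [stabilizesBlock_iff_cjAut (R.subgroupOf N) g hg']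
  have key : ∀ θ : IrrCharacter ↥(N.subgroupOf (Subgroup.centralizer (R : Set G))),
      irrPull (cjAut (R.subgroupOf N) g hg') (irrPull (centNEquiv N R hRN) θ) =
        irrPull (centNEquiv N R hRN) (irrPull (cjAut₀ N R (g : G) hg) θ) := by
    intro θ
    apply Subtype.ext
    funext c
    rw [irrPull_apply, irrPull_apply, irrPull_apply, irrPull_apply]
    refine congrArg _ (Subtype.ext (Subtype.ext ?_))
    rw [cjAut₀_coe, centNEquiv_coe, centNEquiv_coe, cjAut_coe]
    rfl
  constructor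
  · intro h θ hθ
    have h1 := h _ (irrPull_mem_pullBlock (centNEquiv N R hRN) hθ)
    rw [key, mem_pullBlock_iff, irrPull_symm_irrPull] at h1
    exact h1
  · intro h ξ hξ
    obtain ⟨θ, hθ, rfl⟩ := hξ
    rw [key]
    exact irrPull_mem_pullBlock _ (h θ hθ)

end Normal

section Link

variable {G : Type u} [Group G] [Fintype G] (N : Subgroup G) [hN : N.Normal]

/-- The Brauer pair condition at `R ≤ N` for the block `B` of `G` with the idempotent of the block
`c` of `N`, evaluated at a character `ξ` of `C_G(R)`, is the condition for `c` in the group `N`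
at any constituent of `ξ` on `C_N(R)`. -/
theorem brauerOmega_eq_of_over {c : Set (IrrCharacter N)} {B : Set (IrrCharacter G)}
    (hBc : ∀ g : G, blockCoeff B g = subgroupBlockCoeff N c g) (R : Subgroup G) (hRN : R ≤ N)
    [Fintype ↥(Subgroup.centralizer (R : Set G))]
    [Fintype ↥(N.subgroupOf (Subgroup.centralizer (R : Set G)))]
    (ξ : IrrCharacter ↥(Subgroup.centralizer (R : Set G)))
    (θ : IrrCharacter ↥(N.subgroupOf (Subgroup.centralizer (R : Set G))))
    (hθ : classInner (fun n : ↥(N.subgroupOf (Subgroup.centralizer (R : Set G))) =>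
      (ξ : ↥(Subgroup.centralizer (R : Set G)) → ℂ) n)
      (θ : ↥(N.subgroupOf (Subgroup.centralizer (R : Set G))) → ℂ) ≠ 0) :
    brauerOmega R (blockCoeff B) (ξ : ↥(Subgroup.centralizer (R : Set G)) → ℂ) =
      brauerOmega (R.subgroupOf N) (blockCoeff c)
        (irrPull (centNEquiv N R hRN) θ : _ → ℂ) := by
  classical
  have : Fintype ↥(Subgroup.centralizer ((R.subgroupOf N : Subgroup ↥N) : Set ↥N)) :=
    Fintype.ofFinite _
  set z : MonoidAlgebra ℂ ↥(Subgroup.centralizer (R : Set G)) :=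
    ofFun (fun x : ↥(Subgroup.centralizer (R : Set G)) => blockCoeff B (x : G)) with hzdef
  have hz : z ∈ Subalgebra.center ℂ (MonoidAlgebra ℂ ↥(Subgroup.centralizer (R : Set G))) := by
    apply mem_center_of_coeff_conj
    intro g h
    rw [hzdef, coeff_ofFun, coeff_ofFun]
    push_cast
    exact blockCoeff_conj B _ _
  have hsupp : ∀ x : ↥(Subgroup.centralizer (R : Set G)),
      x ∉ N.subgroupOf (Subgroup.centralizer (R : Set G)) → z.coeff x = 0 := by
    intro x hx
    rw [hzdef, coeff_ofFun, hBc]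
    unfold subgroupBlockCoeff
    rw [dif_neg]
    intro h
    exact hx (Subgroup.mem_subgroupOf.mpr h)
  have h1 := omega_eq_omega_resAlg_of_support
    (N.subgroupOf (Subgroup.centralizer (R : Set G))) hz hsupp ξ θ hθ
  have h2 : brauerOmega R (blockCoeff B) (ξ : ↥(Subgroup.centralizer (R : Set G)) → ℂ) =
      omega (ξ : ↥(Subgroup.centralizer (R : Set G)) → ℂ) z := by
    rw [hzdef, omega_ofFun]
    unfold brauerOmega
    rw [finsum_eq_sum_of_fintype, Finset.sum_div]
  rw [h2, h1]
  unfold omega brauerOmega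
  rw [finsum_eq_sum_of_fintype, Finset.sum_div]
  symm
  refine Fintype.sum_equiv (centNEquiv N R hRN).toEquiv _ _ ?_
  intro x
  rw [irrPull_apply, irrPull_apply, map_one, coeff_resAlg, hzdef, coeff_ofFun, hBc]
  have h3 : subgroupBlockCoeff N c
      ((((centNEquiv N R hRN).toEquiv x : ↥(N.subgroupOf (Subgroup.centralizer (R : Set G)))) :
        ↥(Subgroup.centralizer (R : Set G))) : G) = blockCoeff c (x : ↥N) := by
    unfold subgroupBlockCoeff
    have hx : ((x : ↥N) : G) ∈ N := (x : ↥N).2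
    show (if h : ((x : ↥N) : G) ∈ N then blockCoeff c ⟨((x : ↥N) : G), h⟩ else 0) = _
    rw [dif_pos hx]
  rw [h3]
  rfl

end Link

end Cfsg.Agent.Lib.Helper16
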