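import Cfsg.Agent.Lib.Helper16.PPowExt
import Cfsg.Agent.Lib.Helper16.NilFusion
import Cfsg.Agent.S4656

/-!
# Nilpotency of a stable block of a normal subgroup of `p`-power index (helper16)
-/

set_option autoImplicit false

namespace Cfsg.Agent.Lib.Helper16

open Cfsg MonoidAlgebra Cfsg.Agent.Lib.Helper77
open scoped ComplexConjugate

universe u

section GroupTheory

variable {G : Type u} [Group G]

/-- A `p`-regular element normalizing the `p`-group `Q`, centralizing `Q₀ ≤ Q` and acting trivially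
on `Q` modulo `Q₀`, centralizes `Q`. -/
theorem mem_centralizer_of_coprime_action {p : ℕ} [Fact p.Prime] {Q Q₀ : Subgroup G}
    (hQ : IsPGroup p Q) {x : G} (hx₀ : x ∈ Subgroup.centralizer (Q₀ : Set G))
    (hcomm : ∀ q ∈ Q, x * q * x⁻¹ * q⁻¹ ∈ Q₀) (hQ₀Q : Q₀ ≤ Q) (hreg : IsPRegular p x) :
    x ∈ Subgroup.centralizer (Q : Set G) := by
  rw [Subgroup.mem_centralizer_iff]
  intro q hq
  set z := x * q * x⁻¹ * q⁻¹ with hz
  have hzQ₀ : z ∈ Q₀ := hcomm q hq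
  have hxz : z * x = x * z := Subgroup.mem_centralizer_iff.mp hx₀ z hzQ₀
  have hxq : x * q * x⁻¹ = z * q := by rw [hz]; group
  have hpow : ∀ n : ℕ, x ^ n * q * (x ^ n)⁻¹ = z ^ n * q := by
    intro n
    induction n with
    | zero => simp
    | succ n ih =>
      have hc : Commute x z := hxz.symm
      have h1 : x ^ (n + 1) * q * (x ^ (n + 1))⁻¹ = x * (x ^ n * q * (x ^ n)⁻¹) * x⁻¹ := by
        rw [pow_succ']; group
      rw [h1, ih]
      have h2 : x * (z ^ n * q) * x⁻¹ = (x * z ^ n * x⁻¹) * (x * q * x⁻¹) := by group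
      rw [h2, hxq]
      have h3 : x * z ^ n * x⁻¹ = z ^ n := by
        have : Commute x (z ^ n) := hc.pow_right n
        rw [this.eq]; group
      rw [h3, pow_succ]
      group
  have h4 := hpow (orderOf x)
  rw [pow_orderOf_eq_one, one_mul, inv_one, mul_one] at h4
  have hz1 : z ^ orderOf x = 1 := by
    have : z ^ orderOf x * q = 1 * q := by rw [one_mul]; exact h4.symm
    exact mul_right_cancel this
  obtain ⟨j, hj⟩ := hQ ⟨z, hQ₀Q hzQ₀⟩
  have hzj : z ^ (p ^ j) = 1 := by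
    have := congrArg Subtype.val hj
    simpa using this
  have hcop : (orderOf x).Coprime (p ^ j) :=
    Nat.Coprime.pow_right j ((Nat.Prime.coprime_iff_not_dvd Fact.out).mpr hreg).symm
  have hz' : z = 1 := by
    have h5 : orderOf z ∣ orderOf x := orderOf_dvd_of_pow_eq_one hz1
    have h6 : orderOf z ∣ p ^ j := orderOf_dvd_of_pow_eq_one hzj
    exact orderOf_eq_one_iff.mp (Nat.eq_one_of_dvd_coprimes hcop h5 h6)
  have h7 : x * q * x⁻¹ = q := by rw [hxq, hz', one_mul]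
  calc q * x = (x * q * x⁻¹)⁻¹⁻¹ * x := by rw [h7, inv_inv]
    _ = x * q := by rw [inv_inv]; group

/-- If `x` and `u` in `N_G(Q)` act on `Q` in the same way, `u ^ (p ^ a)` centralizes `Q` and `x` is
`p`-regular, then `x` centralizes `Q`. -/
theorem mem_centralizer_of_isPRegular_of_pow_mem {p : ℕ} [Fact p.Prime] {Q : Subgroup G}
    {x u : G} (huN : u ∈ Subgroup.normalizer (Q : Set G))
    (huc : u⁻¹ * x ∈ Subgroup.centralizer (Q : Set G)) {a : ℕ}
    (hua : u ^ (p ^ a) ∈ Subgroup.centralizer (Q : Set G)) (hreg : IsPRegular p x) :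
    x ∈ Subgroup.centralizer (Q : Set G) := by
  have hpow : ∀ n : ℕ, (u ^ n)⁻¹ * x ^ n ∈ Subgroup.centralizer (Q : Set G) := by
    intro n
    induction n with
    | zero => simp
    | succ n ih =>
      have h1 : (u ^ (n + 1))⁻¹ * x ^ (n + 1) =
          (u⁻¹ * ((u ^ n)⁻¹ * x ^ n) * u⁻¹⁻¹) * (u⁻¹ * x) := by
        rw [pow_succ, pow_succ]; group
      rw [h1]
      exact Subgroup.mul_mem _
        (conj_mem_centralizer_of_mem_normalizer (Subgroup.inv_mem _ huN) ih) huc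
  have h2 : x ^ (p ^ a) ∈ Subgroup.centralizer (Q : Set G) := by
    have h3 : x ^ (p ^ a) = u ^ (p ^ a) * ((u ^ (p ^ a))⁻¹ * x ^ (p ^ a)) := by group
    rw [h3]
    exact Subgroup.mul_mem _ hua (hpow _)
  have hcop : (p ^ a).Coprime (orderOf x) := by
    apply Nat.Coprime.pow_left
    exact (Nat.Prime.coprime_iff_not_dvd Fact.out).mpr hreg
  obtain ⟨m, hm⟩ := exists_pow_eq_self_of_coprime hcop
  rw [← hm]
  exact Subgroup.pow_mem _ h2 _

/-- The `p'`-part `s ^ (p ^ a)` of an element. -/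
theorem exists_pow_isPRegular [Finite G] {p : ℕ} [Fact p.Prime] (s : G) :
    ∃ a : ℕ, IsPRegular p (s ^ (p ^ a)) := by
  have hp : p.Prime := Fact.out
  have hn0 : orderOf s ≠ 0 := (orderOf_pos s).ne'
  obtain ⟨a, m, hm, hn⟩ := Nat.exists_eq_pow_mul_and_not_dvd hn0 p hp.ne_one
  refine ⟨a, ?_⟩
  have hpa : p ^ a ≠ 0 := pow_ne_zero _ hp.ne_zero
  have hord : orderOf (s ^ (p ^ a)) = m := by
    have hg : (p ^ a * m).gcd (p ^ a) = p ^ a := Nat.gcd_eq_right (Dvd.intro _ rfl)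
    rw [orderOf_pow' _ hpa, hn, hg, Nat.mul_div_cancel_left _ (pow_pos hp.pos a)]
  unfold IsPRegular
  rw [hord]
  exact hm

end GroupTheory

section Transport

theorem sameBlock_irrPull {K₁ K₂ : Type u} [Group K₁] [Group K₂] {M : Ideal AlgInt}
    (φ : K₁ ≃* K₂) {χ ψ : IrrCharacter K₂}
    (h : SameBlock M (χ : K₂ → ℂ) (ψ : K₂ → ℂ)) :
    SameBlock M (irrPull φ χ : K₁ → ℂ) (irrPull φ ψ : K₁ → ℂ) := by
  have h1 : (irrPull φ χ : K₁ → ℂ) = (χ : K₂ → ℂ) ∘ φ := rfl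
  have h2 : (irrPull φ ψ : K₁ → ℂ) = (ψ : K₂ → ℂ) ∘ φ := rfl
  rw [h1, h2, sameBlock_comp_mulEquiv_iff]
  exact h

end Transport

section Main

variable {G : Type u} [Group G] [Fintype G] {M : Ideal AlgInt} (N : Subgroup G) [hN : N.Normal]

omit [Fintype G] in
theorem index_subgroupOf_centralizer_eq_pow [Finite G] {p : ℕ} [Fact p.Prime] {k : ℕ}
    (hidx : N.index = p ^ k) (R : Subgroup G) :
    ∃ j : ℕ, (N.subgroupOf (Subgroup.centralizer (R : Set G))).index = p ^ j := by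
  have h1 : (N.subgroupOf (Subgroup.centralizer (R : Set G))).index ∣ p ^ k := by
    rw [← hidx]
    exact Subgroup.relIndex_dvd_index_of_normal N _
  obtain ⟨j, _, hj⟩ := (Nat.dvd_prime_pow Fact.out).mp h1
  exact ⟨j, hj⟩

/-- If the block `B` of `G` with the idempotent of the stable block `c` of `N` (of `p`-power index)
is nilpotent, so is `c`. -/
theorem isNilpotentBlock_normal_of_isNilpotentBlock {p : ℕ} [Fact p.Prime] (hM : IsPModular p M)
    {k : ℕ} (hidx : N.index = p ^ k) {c : Set (IrrCharacter N)} (hc : IsPBlock M c)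
    {B : Set (IrrCharacter G)} (hB : IsPBlock M B)
    (hBc : ∀ g : G, blockCoeff B g = subgroupBlockCoeff N c g)
    (hnil : IsNilpotentBlock p M B) : IsNilpotentBlock p M c := by
  classical
  have hMp := isPModular_isPrime hM
  refine ⟨hc, ?_⟩
  intro Q' f' hQf' x' hxN' hxS' hxreg'
  obtain ⟨R, hRN, rfl⟩ : ∃ R : Subgroup G, R ≤ N ∧ Q' = R.subgroupOf N := by
    refine ⟨Q'.map N.subtype, ?_, ?_⟩
    · rintro _ ⟨t, _, rfl⟩
      exact t.2
    · exact (Subgroup.comap_map_eq_self_of_injective (Subgroup.subtype_injective N) Q').symm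
  have : Fintype ↥(Subgroup.centralizer (R : Set G)) := Fintype.ofFinite _
  have : Fintype ↥(N.subgroupOf (Subgroup.centralizer (R : Set G))) := Fintype.ofFinite _
  obtain ⟨j, hidx₀⟩ := index_subgroupOf_centralizer_eq_pow N hidx R
  -- the block of `C_N(R)`
  set f₀ := pullBlock (centNEquiv N R hRN).symm f' with hf₀def
  have hf'eq : f' = pullBlock (centNEquiv N R hRN) f₀ := by
    rw [hf₀def, pullBlock_pullBlock_symm]
  have hf₀ : IsPBlock M f₀ := isPBlock_pullBlock _ hQf'.1.2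
  have hxN : (x' : G) ∈ Subgroup.normalizer (R : Set G) :=
    (coe_mem_normalizer_iff_subgroupOf hRN x').mp hxN'
  have hst₀ : ∀ θ ∈ f₀, irrPull (cjAut₀ N R (x' : G) hxN) θ ∈ f₀ := by
    rw [hf'eq] at hxS'
    exact (stabilizesBlock_subgroupOf_iff N R hRN x' hxN f₀).mp hxS'
  obtain ⟨θ, hθ⟩ := IsPBlock_nonempty hMp.ne_top hf₀
  obtain ⟨ξ, hξ⟩ := exists_irr_over (N.subgroupOf (Subgroup.centralizer (R : Set G))) θ
  -- `(R, f̃)` is a `B`-pair
  have hRp : IsPGroup p R :=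
    hQf'.1.1.of_equiv (Subgroup.subgroupOfEquivOfLe hRN)
  have hpairB : IsBrauerPairOf p M B R
      (blockOf M (ξ : ↥(Subgroup.centralizer (R : Set G)) → ℂ)) := by
    refine ⟨⟨hRp, isPBlock_blockOf ξ⟩, hB, ?_⟩
    intro ξ₁ hξ₁
    obtain ⟨θ₁, hθ₁⟩ := exists_constituent (N.subgroupOf (Subgroup.centralizer (R : Set G))) ξ₁
    obtain ⟨k₁, hk₁⟩ := mem_conjClosure_of_sameBlock
      (N.subgroupOf (Subgroup.centralizer (R : Set G))) hf₀ hξ₁ hθ hξ θ₁ hθ₁
    have hθ₂ : classInner (fun n : ↥(N.subgroupOf (Subgroup.centralizer (R : Set G))) =>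
        (ξ₁ : ↥(Subgroup.centralizer (R : Set G)) → ℂ) n)
        (conjIrrN (N.subgroupOf (Subgroup.centralizer (R : Set G))) k₁ θ₁ : _ → ℂ) ≠ 0 := by
      rw [classInner_res_conjIrrN]
      exact hθ₁
    rw [brauerOmega_eq_of_over N hBc R hRN ξ₁ _ hθ₂]
    apply hQf'.2.2
    have h1 := (mem_pullBlock_iff (centNEquiv N R hRN).symm).mp hk₁
    rwa [MulEquiv.symm_symm] at h1
  -- `x` stabilizes `f̃`
  have hxS : StabilizesBlock (Subgroup.centralizer (R : Set G))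
      (blockOf M (ξ : ↥(Subgroup.centralizer (R : Set G)) → ℂ)) (x' : G) := by
    rw [stabilizesBlock_iff_cjAut R (x' : G) hxN]
    intro ξ₁ hξ₁
    have hξ₁' : SameBlock M (ξ : ↥(Subgroup.centralizer (R : Set G)) → ℂ)
        (ξ₁ : ↥(Subgroup.centralizer (R : Set G)) → ℂ) := mem_blockOf_iff.mp hξ₁
    have h1 := sameBlock_irrPull (cjAut R (x' : G) hxN) hξ₁'
    have h2 : classInner (fun n : ↥(N.subgroupOf (Subgroup.centralizer (R : Set G))) =>
        (irrPull (cjAut R (x' : G) hxN) ξ : ↥(Subgroup.centralizer (R : Set G)) → ℂ) n)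
        (irrPull (cjAut₀ N R (x' : G) hxN) θ :
          ↥(N.subgroupOf (Subgroup.centralizer (R : Set G))) → ℂ) ≠ 0 := by
      have := classInner_res_irrPull (N.subgroupOf (Subgroup.centralizer (R : Set G)))
        (cjAut R (x' : G) hxN) (cjAut_mem_subgroupOf_iff N R (x' : G) hxN) ξ θ
      unfold cjAut₀
      rw [this]
      exact hξ
    have h3 := sameBlock_of_constituents_sameBlock _ hM hidx₀ hξ h2
      (sameBlock_of_mem hf₀ hθ (hst₀ θ hθ))
    exact mem_blockOf_iff.mpr (sameBlock_trans h3 h1)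
  have hreg : IsPRegular p (x' : G) := by
    unfold IsPRegular
    rw [Subgroup.orderOf_coe]
    exact hxreg'
  have h4 := hnil.2 R _ hpairB (x' : G) hxN hxS hreg
  exact mk_mem_centralizer_of_subgroupOf N R x'.2 h4

omit [Fintype G] in
theorem irrPull_cjAut₀_congr (R : Subgroup G) {g g' : G} (h : g = g')
    (hg : g ∈ Subgroup.normalizer (R : Set G)) (hg' : g' ∈ Subgroup.normalizer (R : Set G))
    (θ : IrrCharacter ↥(N.subgroupOf (Subgroup.centralizer (R : Set G)))) :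
    irrPull (cjAut₀ N R g hg) θ = irrPull (cjAut₀ N R g' hg') θ := by
  subst h
  rfl

omit [Fintype G] in
theorem irrPull_cjAut₀_one (R : Subgroup G)
    (θ : IrrCharacter ↥(N.subgroupOf (Subgroup.centralizer (R : Set G)))) :
    irrPull (cjAut₀ N R 1 (Subgroup.one_mem _)) θ = θ := by
  apply Subtype.ext
  funext n
  rw [irrPull_apply]
  refine congrArg _ (Subtype.ext (Subtype.ext ?_))
  rw [cjAut₀_coe]
  simp

omit [Fintype G] in
/-- The elements of `N_G(R)` preserving a set of characters of `C_N(R)` are closed under powers. -/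
theorem irrPull_cjAut₀_pow_mem (R : Subgroup G) {s : G}
    (hs : s ∈ Subgroup.normalizer (R : Set G))
    {f₀ : Set (IrrCharacter ↥(N.subgroupOf (Subgroup.centralizer (R : Set G))))}
    (h : ∀ φ ∈ f₀, irrPull (cjAut₀ N R s hs) φ ∈ f₀) :
    ∀ (n : ℕ), ∀ φ ∈ f₀, irrPull (cjAut₀ N R (s ^ n) (Subgroup.pow_mem _ hs n)) φ ∈ f₀ := by
  intro n
  induction n with
  | zero =>
    intro φ hφ
    rw [irrPull_cjAut₀_congr N R (pow_zero s) _ (Subgroup.one_mem _), irrPull_cjAut₀_one]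
    exact hφ
  | succ n ih =>
    intro φ hφ
    rw [irrPull_cjAut₀_congr N R (pow_succ s n) _
      (Subgroup.mul_mem _ (Subgroup.pow_mem _ hs n) hs),
      irrPull_cjAut₀_mul N R (s ^ n) s (Subgroup.pow_mem _ hs n) hs φ]
    exact ih _ (h φ hφ)

/-- If the stable block `c` of `N` (of `p`-power index) is nilpotent, so is the block `B` of `G`
with the idempotent of `c`. -/
theorem isNilpotentBlock_of_isNilpotentBlock_normal {p : ℕ} [Fact p.Prime] (hM : IsPModular p M)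
    {k : ℕ} (hidx : N.index = p ^ k) {c : Set (IrrCharacter N)} (hc : IsPBlock M c)
    {B : Set (IrrCharacter G)} (hB : IsPBlock M B)
    (hBc : ∀ g : G, blockCoeff B g = subgroupBlockCoeff N c g)
    (hnil : IsNilpotentBlock p M c) : IsNilpotentBlock p M B := by
  classical
  have hMp := isPModular_isPrime hM
  refine ⟨hB, ?_⟩
  intro Q f hQf x hxN hxS hxreg
  have hxNn : x ∈ N := mem_of_not_dvd_orderOf_of_index N hidx hxreg
  -- the subpair at `Q ∩ N`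
  have hQ₀Q : Q ⊓ N ≤ Q := inf_le_left
  have hRN : Q ⊓ N ≤ N := inf_le_right
  have hQN₀ : Q ≤ Subgroup.normalizer ((Q ⊓ N : Subgroup G) : Set G) := by
    intro q hq
    rw [Subgroup.mem_normalizer_iff]
    intro y
    constructor
    · rintro ⟨h1, h2⟩
      exact ⟨Q.mul_mem (Q.mul_mem hq h1) (Q.inv_mem hq), hN.conj_mem y h2 q⟩
    · rintro ⟨h1, h2⟩
      refine ⟨?_, ?_⟩
      · have h3 : y = q⁻¹ * (q * y * q⁻¹) * q := by group
        rw [h3]
        exact Q.mul_mem (Q.mul_mem (Q.inv_mem hq) h1) hq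
      · have h3 := hN.conj_mem _ h2 q⁻¹
        have h4 : q⁻¹ * (q * y * q⁻¹) * q⁻¹⁻¹ = y := by group
        rwa [h4] at h3
  obtain ⟨f₁, hN₀, _⟩ := Cfsg.Agent.S4656.result p M hM Q (Q ⊓ N) f hQf.1 hQ₀Q hQN₀
  have hB₀ : IsBrauerPairOf p M B (Q ⊓ N) f₁ :=
    (Cfsg.Agent.S4658.chain_iff p M hM B ⟨Q ⊓ N, f₁⟩ ⟨Q, f⟩
      (Relation.ReflTransGen.single hN₀)).mp hQf
  -- `x` stabilizes the subpair
  have hxN₀' : x ∈ Subgroup.normalizer ((Q ⊓ N : Subgroup G) : Set G) := by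
    rw [Subgroup.mem_normalizer_iff]
    intro y
    have h1 := Subgroup.mem_normalizer_iff.mp hxN y
    constructor
    · rintro ⟨h2, h3⟩
      exact ⟨h1.mp h2, hN.conj_mem y h3 x⟩
    · rintro ⟨h2, h3⟩
      refine ⟨h1.mpr h2, ?_⟩
      have h4 := hN.conj_mem _ h3 x⁻¹
      have h5 : x⁻¹ * (x * y * x⁻¹) * x⁻¹⁻¹ = y := by group
      rwa [h5] at h4
  have hfix : conjPair x (⟨Q ⊓ N, f₁⟩ : BrauerPairIdx G) = ⟨Q ⊓ N, f₁⟩ := by
    have h1 : NormalSubpairRel p M (conjPair x ⟨Q ⊓ N, f₁⟩) (conjPair x ⟨Q, f⟩) :=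
      isNormalSubpair_conj hN₀ x
    rw [conjPair_eq_self_of_stabilizes hxN hxS] at h1
    exact subpair_unique hM (c := ⟨Q, f⟩) hQf.1 (Relation.ReflTransGen.single h1)
      (Relation.ReflTransGen.single hN₀) (map_conj_eq_of_mem_normalizer (Q ⊓ N) hxN₀')
  obtain ⟨hxN₀, hxS₀⟩ := stabilizes_of_conjPair_eq_self hfix
  -- it suffices to centralize `Q ∩ N`
  suffices hx₀ : x ∈ Subgroup.centralizer ((Q ⊓ N : Subgroup G) : Set G) by
    apply mem_centralizer_of_coprime_action hQf.1.1 hx₀ _ hQ₀Q hxreg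
    intro q hq
    refine ⟨?_, ?_⟩
    · have h1 := (Subgroup.mem_normalizer_iff.mp hxN q).mp hq
      exact Q.mul_mem h1 (Q.inv_mem hq)
    · have h1 : x * q * x⁻¹ * q⁻¹ = x * (q * x⁻¹ * q⁻¹) := by group
      rw [h1]
      exact N.mul_mem hxNn (hN.conj_mem _ (N.inv_mem hxNn) q)
  -- local analysis at `R = Q ∩ N`
  have : Fintype ↥(Subgroup.centralizer ((Q ⊓ N : Subgroup G) : Set G)) := Fintype.ofFinite _
  have : Fintype ↥(N.subgroupOf (Subgroup.centralizer ((Q ⊓ N : Subgroup G) : Set G))) :=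
    Fintype.ofFinite _
  obtain ⟨j, hidx₀⟩ := index_subgroupOf_centralizer_eq_pow N hidx (Q ⊓ N)
  obtain ⟨ξ, hξ⟩ := IsPBlock_nonempty hMp.ne_top hB₀.1.2
  obtain ⟨θ, hθ⟩ := exists_constituent
    (N.subgroupOf (Subgroup.centralizer ((Q ⊓ N : Subgroup G) : Set G))) ξ
  have hf₀ : IsPBlock M (blockOf M
      (θ : ↥(N.subgroupOf (Subgroup.centralizer ((Q ⊓ N : Subgroup G) : Set G))) → ℂ)) :=
    isPBlock_blockOf θ
  have hθmem : θ ∈ blockOf M
      (θ : ↥(N.subgroupOf (Subgroup.centralizer ((Q ⊓ N : Subgroup G) : Set G))) → ℂ) :=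
    self_mem_blockOf hMp.ne_top θ
  -- the pair of `c`
  have hpairc : IsBrauerPairOf p M c ((Q ⊓ N).subgroupOf N)
      (pullBlock (centNEquiv N (Q ⊓ N) hRN) (blockOf M
        (θ : ↥(N.subgroupOf (Subgroup.centralizer ((Q ⊓ N : Subgroup G) : Set G))) → ℂ))) := by
    refine ⟨⟨hB₀.1.1.comap_subtype, isPBlock_pullBlock _ hf₀⟩, hc, ?_⟩
    intro θ' hθ'
    obtain ⟨φ, hφ, rfl⟩ := hθ'
    obtain ⟨ξφ, hξφ⟩ := exists_irr_over
      (N.subgroupOf (Subgroup.centralizer ((Q ⊓ N : Subgroup G) : Set G))) φ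
    have hsb := sameBlock_of_constituents_sameBlock _ hM hidx₀ hθ hξφ (mem_blockOf_iff.mp hφ)
    have hξφmem : ξφ ∈ f₁ := by
      rw [IsPBlock_eq_blockOf hB₀.1.2 hξ]
      exact mem_blockOf_iff.mpr hsb
    rw [← brauerOmega_eq_of_over N hBc (Q ⊓ N) hRN ξφ φ hξφ]
    exact hB₀.2.2 ξφ hξφmem
  -- Frattini argument
  have hξ' : irrPull (cjAut (Q ⊓ N) x hxN₀) ξ ∈ f₁ :=
    (stabilizesBlock_iff_cjAut (Q ⊓ N) x hxN₀ f₁).mp hxS₀ ξ hξ
  have hθ' : classInner
      (fun n : ↥(N.subgroupOf (Subgroup.centralizer ((Q ⊓ N : Subgroup G) : Set G))) =>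
        (irrPull (cjAut (Q ⊓ N) x hxN₀) ξ :
          ↥(Subgroup.centralizer ((Q ⊓ N : Subgroup G) : Set G)) → ℂ) n)
      (irrPull (cjAut₀ N (Q ⊓ N) x hxN₀) θ :
        ↥(N.subgroupOf (Subgroup.centralizer ((Q ⊓ N : Subgroup G) : Set G))) → ℂ) ≠ 0 := by
    have := classInner_res_irrPull
      (N.subgroupOf (Subgroup.centralizer ((Q ⊓ N : Subgroup G) : Set G)))
      (cjAut (Q ⊓ N) x hxN₀) (cjAut_mem_subgroupOf_iff N (Q ⊓ N) x hxN₀) ξ θ
    unfold cjAut₀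
    rw [this]
    exact hθ
  have hsb' := sameBlock_of_mem hB₀.1.2 hξ hξ'
  obtain ⟨k₁, hk₁⟩ := mem_conjClosure_of_sameBlock
    (N.subgroupOf (Subgroup.centralizer ((Q ⊓ N : Subgroup G) : Set G))) hf₀ hsb' hθmem hθ _ hθ'
  rw [conjIrrN_eq_irrPull_cjAut₀, ← irrPull_cjAut₀_mul] at hk₁
  have hk₁N : (k₁ : G)⁻¹ ∈ Subgroup.normalizer ((Q ⊓ N : Subgroup G) : Set G) :=
    Subgroup.inv_mem _ (Subgroup.centralizer_le_normalizer _ k₁.2)
  have hsN : (k₁ : G)⁻¹ * x ∈ Subgroup.normalizer ((Q ⊓ N : Subgroup G) : Set G) :=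
    Subgroup.mul_mem _ hk₁N hxN₀
  -- `s = k₁⁻¹ x` stabilizes the block of `θ`
  have hsst : ∀ φ ∈ blockOf M
      (θ : ↥(N.subgroupOf (Subgroup.centralizer ((Q ⊓ N : Subgroup G) : Set G))) → ℂ),
      irrPull (cjAut₀ N (Q ⊓ N) ((k₁ : G)⁻¹ * x) hsN) φ ∈ blockOf M
        (θ : ↥(N.subgroupOf (Subgroup.centralizer ((Q ⊓ N : Subgroup G) : Set G))) → ℂ) := by
    intro φ hφ
    have h1 := sameBlock_irrPull (cjAut₀ N (Q ⊓ N) ((k₁ : G)⁻¹ * x) hsN) (mem_blockOf_iff.mp hφ)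
    exact mem_blockOf_iff.mpr (sameBlock_trans (mem_blockOf_iff.mp hk₁) h1)
  obtain ⟨a, ha⟩ := exists_pow_isPRegular (p := p) ((k₁ : G)⁻¹ * x)
  have hs₁N : ((k₁ : G)⁻¹ * x) ^ (p ^ a) ∈ N := mem_of_not_dvd_orderOf_of_index N hidx ha
  have hs₁n : ((k₁ : G)⁻¹ * x) ^ (p ^ a) ∈
      Subgroup.normalizer ((Q ⊓ N : Subgroup G) : Set G) := Subgroup.pow_mem _ hsN _
  have hpow := irrPull_cjAut₀_pow_mem N (Q ⊓ N) hsN hsst (p ^ a)
  -- nilpotency of `c`
  have hreg₁ : IsPRegular p (⟨((k₁ : G)⁻¹ * x) ^ (p ^ a), hs₁N⟩ : ↥N) := by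
    unfold IsPRegular
    rw [← Subgroup.orderOf_coe]
    exact ha
  have h5 := hnil.2 ((Q ⊓ N).subgroupOf N) _ hpairc ⟨((k₁ : G)⁻¹ * x) ^ (p ^ a), hs₁N⟩
    ((coe_mem_normalizer_iff_subgroupOf hRN _).mpr hs₁n)
    ((stabilizesBlock_subgroupOf_iff N (Q ⊓ N) hRN ⟨((k₁ : G)⁻¹ * x) ^ (p ^ a), hs₁N⟩ hs₁n _).mpr
      hpow) hreg₁
  have h6 : ((k₁ : G)⁻¹ * x) ^ (p ^ a) ∈ Subgroup.centralizer ((Q ⊓ N : Subgroup G) : Set G) :=
    coe_mem_centralizer_of_subgroupOf N (Q ⊓ N) hRN h5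
  -- conclusion
  apply mem_centralizer_of_isPRegular_of_pow_mem hsN _ h6 hxreg
  have h7 : ((k₁ : G)⁻¹ * x)⁻¹ * x = x⁻¹ * (k₁ : G) * x⁻¹⁻¹ := by group
  rw [h7]
  exact conj_mem_centralizer_of_mem_normalizer (Subgroup.inv_mem _ hxN₀) k₁.2

end Main

end Cfsg.Agent.Lib.Helper16
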