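import Mathlib
import Cfsg.Agent.Lib.Helper16.Osima
import Cfsg.Agent.Lib.Helper16.BlockTransport
import Cfsg.Agent.Lib.Helper16.BlockBasic
import Cfsg.Agent.Lib.Helper16.LocalRing
import Cfsg.Agent.Lib.Helper79.Schur
import Cfsg.Agent.Lib.Helper82.PullRank
import Cfsg.Agent.S4655

/-!
# Subpairs with the same centralizer have the same block (helper16)

If `(Q₁, f₁) ≤ (Q₂, f₂)` and `C_K(Q₁) = C_K(Q₂)` then `f₁` is `f₂` (transported along the equality
of the centralizers).
-/

set_option autoImplicit false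
set_option linter.unusedSectionVars false
set_option linter.style.haveILetI false

namespace Cfsg.Agent.Lib.Helper16

open Cfsg Cfsg.Agent.Lib.Helper82

universe u

variable {K : Type u} [Group K]

theorem subgroupCongr_rfl (H : Subgroup K) :
    MulEquiv.subgroupCongr (rfl : H = H) = MulEquiv.refl H := by
  ext x
  rfl

theorem pullBlock_subgroupCongr_trans {H₁ H₂ H₃ : Subgroup K} (h₁ : H₁ = H₂) (h₂ : H₂ = H₃)
    (β : Set (IrrCharacter H₃)) :
    pullBlock (MulEquiv.subgroupCongr h₁) (pullBlock (MulEquiv.subgroupCongr h₂) β) =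
      pullBlock (MulEquiv.subgroupCongr (h₁.trans h₂)) β := by
  subst h₁
  subst h₂
  rw [subgroupCongr_rfl, pullBlock_refl]

theorem pullBlock_subgroupCongr_self {H : Subgroup K} (h : H = H) (β : Set (IrrCharacter H)) :
    pullBlock (MulEquiv.subgroupCongr h) β = β := by
  rw [subgroupCongr_rfl, pullBlock_refl]

open scoped Classical in
/-- The central character of `ξ` at the idempotent of `f`, across an equality of subgroups. -/
theorem finsum_subgroupBlockCoeff_of_eq [Finite K] {H₁ H₂ : Subgroup K} (h : H₂ = H₁)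
    (f : Set (IrrCharacter H₁)) (ξ : IrrCharacter H₂) :
    ∑ᶠ x : H₂, subgroupBlockCoeff H₁ f (x : K) * (ξ : H₂ → ℂ) x / (ξ : H₂ → ℂ) 1 =
      if ξ ∈ pullBlock (MulEquiv.subgroupCongr h) f then 1 else 0 := by
  subst h
  haveI : Fintype H₂ := Fintype.ofFinite _
  rw [pullBlock_subgroupCongr_self]
  have hξ1 : (ξ : H₂ → ℂ) 1 ≠ 0 := Cfsg.Agent.Lib.Helper79.irr_apply_one_ne_zero ξ
  rw [finsum_eq_sum_of_fintype, ← Finset.sum_div]
  have h1 : ∀ x : H₂, subgroupBlockCoeff H₂ f (x : K) = blockCoeff f x := by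
    intro x
    unfold subgroupBlockCoeff
    rw [dif_pos x.2]
  simp_rw [h1]
  rw [sum_blockCoeff_mul]
  split_ifs with hm
  · exact div_self hξ1
  · exact zero_div _

variable [Fintype K] {M : Ideal AlgInt} {p : ℕ}

/-- A normal step between pairs with the same centralizer. -/
theorem isNormalSubpair_eq_of_centralizer_eq (hM : IsPModular p M) {Q₁ Q₂ : Subgroup K}
    {f₁ : Set (IrrCharacter (Subgroup.centralizer (Q₁ : Set K)))}
    {f₂ : Set (IrrCharacter (Subgroup.centralizer (Q₂ : Set K)))}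
    (h : IsNormalSubpair p M Q₁ f₁ Q₂ f₂)
    (hC : Subgroup.centralizer (Q₂ : Set K) = Subgroup.centralizer (Q₁ : Set K)) :
    f₂ = pullBlock (MulEquiv.subgroupCongr hC) f₁ := by
  haveI hMp : M.IsPrime := isPModular_isPrime hM
  obtain ⟨hQf, hPe, -, -, -, hω⟩ := h
  obtain ⟨ε₀, hε₀⟩ := IsPBlock_nonempty hMp.ne_top hPe.2
  have h1 := hω ε₀ hε₀
  unfold brauerOmega at h1
  rw [finsum_subgroupBlockCoeff_of_eq hC f₁ ε₀] at h1
  have hmem : ε₀ ∈ pullBlock (MulEquiv.subgroupCongr hC) f₁ := by
    by_contra hcon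
    rw [if_neg hcon, zero_sub] at h1
    apply one_not_memLocalIdeal (M := M)
    have := memLocalIdeal_neg h1
    rwa [neg_neg] at this
  exact IsPBlock_eq_of_mem hPe.2 (isPBlock_pullBlock _ hQf.2) hε₀ hmem

/-- **Subpairs with the same centralizer have the same block.** -/
theorem subpairLE_eq_of_centralizer_eq (hM : IsPModular p M) {a b : BrauerPairIdx K}
    (h : Relation.ReflTransGen (NormalSubpairRel p M) a b) :
    ∀ hC : Subgroup.centralizer (b.1 : Set K) = Subgroup.centralizer (a.1 : Set K),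
      b.2 = pullBlock (MulEquiv.subgroupCongr hC) a.2 := by
  induction h with
  | refl =>
    intro hC
    rw [pullBlock_subgroupCongr_self]
  | @tail b' c hab hbc ih =>
    intro hC
    have h1 : a.1 ≤ b'.1 := Cfsg.Agent.S4655.le_le hab
    have h2 : b'.1 ≤ c.1 := Cfsg.Agent.S4655.rel_le hbc
    have hC1 : Subgroup.centralizer (b'.1 : Set K) = Subgroup.centralizer (a.1 : Set K) :=
      le_antisymm (Subgroup.centralizer_le h1) (hC ▸ Subgroup.centralizer_le h2)
    have hC2 : Subgroup.centralizer (c.1 : Set K) = Subgroup.centralizer (b'.1 : Set K) :=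
      hC.trans hC1.symm
    rw [isNormalSubpair_eq_of_centralizer_eq hM hbc hC2, ih hC1, pullBlock_subgroupCongr_trans]

end Cfsg.Agent.Lib.Helper16
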