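import Cfsg.Agent.Lib.Helper16.BrauerIdem
import Cfsg.Agent.Lib.Helper77.BrauerPairs

/-!
# Existence of a normal superpair (helper16)

If `(P, e)` is a Brauer pair, `R` a `p`-subgroup with `P ≤ R ≤ N_G(P)` stabilizing `e`, and the
idempotent of `e` has a coefficient outside the ideal at an element centralizing `R`, then there is
a block `g` of `C_G(R)` with `(P, e) ⊴ (R, g)`.
-/

set_option autoImplicit false

namespace Cfsg.Agent.Lib.Helper16

open Cfsg MonoidAlgebra Cfsg.Agent.Lib.Helper77
open scoped ComplexConjugate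

universe u

variable {G : Type u} [Group G] [Fintype G] {M : Ideal AlgInt}

theorem exists_isNormalSubpair_above {p : ℕ} [Fact p.Prime] (hM : IsPModular p M)
    {P R : Subgroup G} {e : Set (IrrCharacter (Subgroup.centralizer (P : Set G)))}
    (hPe : IsBrauerPair p M P e) (hR : IsPGroup p R) (hPR : P ≤ R)
    (hRN : R ≤ Subgroup.normalizer (P : Set G))
    (hstab : ∀ x ∈ R, StabilizesBlock (Subgroup.centralizer (P : Set G)) e x)
    (y : G) (hyR : y ∈ Subgroup.centralizer (R : Set G))
    (hy : ¬ MemLocalIdeal M (subgroupBlockCoeff (Subgroup.centralizer (P : Set G)) e y)) :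
    ∃ g : Set (IrrCharacter (Subgroup.centralizer (R : Set G))), IsNormalSubpair p M P e R g := by
  classical
  have hMp := isPModular_isPrime hM
  have : Fintype (Subgroup.centralizer (P : Set G)) := Fintype.ofFinite _
  have : Fintype (Subgroup.centralizer (R : Set G)) := Fintype.ofFinite _
  set a := extend (Subgroup.centralizer (P : Set G)) (idemOf e) with ha
  have hadm : BrAdm M R a := brAdm_extend_idemOf hPR hRN hPe.2 hstab
  have haa : a * a = a := by
    rw [ha, ← extend_mul]
    congr 1
    exact congrArg Subtype.val (idemC_mul_self e)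
  set t : Subalgebra.center ℂ (MonoidAlgebra ℂ (Subgroup.centralizer (R : Set G))) :=
    truncC R a hadm.invC with ht
  have htmem : t ∈ centerOrder (Subgroup.centralizer (R : Set G)) M := truncC_mem_centerOrder hadm
  have hidem : CoeffsInIdeal M (((t * t - t :
      Subalgebra.center ℂ (MonoidAlgebra ℂ (Subgroup.centralizer (R : Set G))))) :
      MonoidAlgebra ℂ (Subgroup.centralizer (R : Set G))) := by
    have h1 := coeffsInIdeal_trunc_mul hM R hR hadm.ring hadm.ring hadm.invP hadm.invP
    rw [haa] at h1
    have h2 := h1.neg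
    rw [neg_sub] at h2
    exact h2
  -- `t` is not in the ideal
  have htne : ¬ CoeffsInIdeal M (t : MonoidAlgebra ℂ (Subgroup.centralizer (R : Set G))) := by
    intro hcon
    apply hy
    have := hcon ⟨y, hyR⟩
    rw [subgroupBlockCoeff_eq]
    change MemLocalIdeal M ((trunc (Subgroup.centralizer (R : Set G)) a).coeff ⟨y, hyR⟩) at this
    rw [coeff_trunc] at this
    exact this
  -- so some central character does not kill it
  have hex : ∃ ζ : IrrCharacter (Subgroup.centralizer (R : Set G)),
      ¬ MemLocalIdeal M (omegaHom ζ t) := by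
    by_contra hcon
    push Not at hcon
    exact htne (coeffsInIdeal_of_idem htmem hidem hcon)
  obtain ⟨ζ, hζ⟩ := hex
  have hζR : MemLocalRing M (omegaHom ζ t) := omegaHom_memLocalRing ζ htmem
  have hζ1 : MemLocalIdeal M (omegaHom ζ t - 1) := by
    have h1 : MemLocalIdeal M (omegaHom ζ (t * t - t)) := by
      rw [omegaHom_apply]
      exact omega_memLocalIdeal_of_coeffsInIdeal ζ (t * t - t).2 hidem
    rw [map_sub, map_mul, ← mul_sub_one] at h1
    rcases (memLocalIdeal_mul_iff hζR (memLocalRing_sub hζR (memLocalRing_one hMp.ne_top))).mp h1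
      with h | h
    · exact absurd h hζ
    · exact h
  refine ⟨blockOf M (ζ : Subgroup.centralizer (R : Set G) → ℂ), hPe, ⟨hR, isPBlock_blockOf ζ⟩,
    hPR, hRN, hstab, ?_⟩
  intro ξ hξ
  rw [subgroupBlockCoeff_eq, brauerOmega_eq_omega]
  have h1 := brOmega_congr (M := M) (P := R) hξ hadm
  rw [omegaHom_apply] at hζ1
  change MemLocalIdeal M (omega (ζ : Subgroup.centralizer (R : Set G) → ℂ)
    (trunc (Subgroup.centralizer (R : Set G)) a) - 1) at hζ1
  exact memLocalIdeal_sub_trans (memLocalIdeal_sub_comm.mp h1) hζ1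

end Cfsg.Agent.Lib.Helper16
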