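import Cfsg.Agent.Lib.Helper16.BrauerOver
import Cfsg.Agent.Lib.Helper16.OrbitCount
import Cfsg.Agent.Lib.Helper16.PairUp
import Cfsg.Agent.S4657
import Cfsg.Agent.S4654

/-!
# Brauer pairs `(P, e)` of `G` seen inside `N_G(P)` (helper16)

`centEquiv P : C_{N_G(P)}(P) ≃* C_G(P)`; transport of the block `e`, of its extended idempotent
coefficients, of stabilizers and of `brauerOmega`; a `B`-pair `(P, e)` gives a block `b` of
`N_G(P)` inducing `B` for which `(P, e)` is a Brauer pair.
-/

set_option autoImplicit false

namespace Cfsg.Agent.Lib.Helper16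

open Cfsg MonoidAlgebra Cfsg.Agent.Lib.Helper77
open scoped ComplexConjugate

universe u

section Transport

variable {G : Type u} [Group G]

theorem mk_mem_centralizer_subgroupOf (P : Subgroup G) {c : G}
    (hc : c ∈ Subgroup.centralizer (P : Set G)) :
    (⟨c, Subgroup.centralizer_le_normalizer _ hc⟩ : ↥(Subgroup.normalizer (P : Set G))) ∈
      Subgroup.centralizer ((P.subgroupOf (Subgroup.normalizer (P : Set G)) :
        Subgroup ↥(Subgroup.normalizer (P : Set G))) : Set ↥(Subgroup.normalizer (P : Set G))) := by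
  rw [Subgroup.mem_centralizer_iff] at hc ⊢
  intro h hh
  rw [SetLike.mem_coe, Subgroup.mem_subgroupOf] at hh
  exact Subtype.ext (hc (h : G) hh)

/-- The centralizer of `P` computed inside `N_G(P)` is isomorphic to `C_G(P)`. -/
noncomputable def centEquiv (P : Subgroup G) :
    ↥(Subgroup.centralizer ((P.subgroupOf (Subgroup.normalizer (P : Set G)) :
      Subgroup ↥(Subgroup.normalizer (P : Set G))) : Set ↥(Subgroup.normalizer (P : Set G)))) ≃*
      ↥(Subgroup.centralizer (P : Set G)) where
  toFun c := ⟨((c : ↥(Subgroup.normalizer (P : Set G))) : G),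
    coe_mem_centralizer_of_mem_centralizer_subgroupOf P c.1 c.2⟩
  invFun c := ⟨⟨(c : G), Subgroup.centralizer_le_normalizer _ c.2⟩,
    mk_mem_centralizer_subgroupOf P c.2⟩
  left_inv _ := rfl
  right_inv _ := rfl
  map_mul' _ _ := rfl

theorem centEquiv_coe (P : Subgroup G)
    (c : ↥(Subgroup.centralizer ((P.subgroupOf (Subgroup.normalizer (P : Set G)) :
      Subgroup ↥(Subgroup.normalizer (P : Set G))) : Set ↥(Subgroup.normalizer (P : Set G))))) :
    ((centEquiv P c : ↥(Subgroup.centralizer (P : Set G))) : G) =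
      ((c : ↥(Subgroup.normalizer (P : Set G))) : G) := rfl

theorem centEquiv_symm_coe (P : Subgroup G) (c : ↥(Subgroup.centralizer (P : Set G))) :
    ((((centEquiv P).symm c : ↥(Subgroup.centralizer ((P.subgroupOf
      (Subgroup.normalizer (P : Set G)) : Subgroup ↥(Subgroup.normalizer (P : Set G))) :
      Set ↥(Subgroup.normalizer (P : Set G))))) : ↥(Subgroup.normalizer (P : Set G))) : G) =
      (c : G) := rfl

/-- Extended idempotent coefficients under `centEquiv`. -/
theorem subgroupBlockCoeff_pullBlock_centEquiv [Finite G] (P : Subgroup G)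
    (e : Set (IrrCharacter (Subgroup.centralizer (P : Set G))))
    (y : ↥(Subgroup.normalizer (P : Set G))) :
    subgroupBlockCoeff (Subgroup.centralizer ((P.subgroupOf (Subgroup.normalizer (P : Set G)) :
      Subgroup ↥(Subgroup.normalizer (P : Set G))) : Set ↥(Subgroup.normalizer (P : Set G))))
      (pullBlock (centEquiv P) e) y =
    subgroupBlockCoeff (Subgroup.centralizer (P : Set G)) e (y : G) := by
  unfold subgroupBlockCoeff
  by_cases hy : y ∈ Subgroup.centralizer ((P.subgroupOf (Subgroup.normalizer (P : Set G)) :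
      Subgroup ↥(Subgroup.normalizer (P : Set G))) : Set ↥(Subgroup.normalizer (P : Set G)))
  · have hy' : (y : G) ∈ Subgroup.centralizer (P : Set G) :=
      coe_mem_centralizer_of_mem_centralizer_subgroupOf P y hy
    rw [dif_pos hy, dif_pos hy', blockCoeff_pullBlock]
    rfl
  · have hy' : (y : G) ∉ Subgroup.centralizer (P : Set G) := by
      intro h
      exact hy (mk_mem_centralizer_subgroupOf P h)
    rw [dif_neg hy, dif_neg hy']

/-- Stabilizers under `centEquiv`. -/
theorem stabilizesBlock_of_pullBlock_centEquiv (P : Subgroup G)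
    (e : Set (IrrCharacter (Subgroup.centralizer (P : Set G))))
    (r : ↥(Subgroup.normalizer (P : Set G)))
    (h : StabilizesBlock (Subgroup.centralizer ((P.subgroupOf (Subgroup.normalizer (P : Set G)) :
      Subgroup ↥(Subgroup.normalizer (P : Set G))) : Set ↥(Subgroup.normalizer (P : Set G))))
      (pullBlock (centEquiv P) e) r) :
    StabilizesBlock (Subgroup.centralizer (P : Set G)) e (r : G) := by
  obtain ⟨_, h2⟩ := h
  refine ⟨normalizer_le_normalizer_centralizer' P r.2, ?_⟩
  intro χ hχ
  obtain ⟨χ'', hχ'', hc⟩ := h2 (irrPull (centEquiv P) χ) (irrPull_mem_pullBlock _ hχ)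
  rw [mem_pullBlock_iff] at hχ''
  refine ⟨irrPull (centEquiv P).symm χ'', hχ'', ?_⟩
  intro k k' hk
  have := hc ((centEquiv P).symm k) ((centEquiv P).symm k') (by
    apply Subtype.ext
    exact hk)
  rw [irrPull_apply, MulEquiv.apply_symm_apply] at this
  rw [irrPull_apply]
  exact this

/-- `brauerOmega` under `centEquiv`. -/
theorem brauerOmega_centEquiv (P : Subgroup G) (β : G → ℂ)
    (ξ : IrrCharacter (Subgroup.centralizer (P : Set G))) :
    brauerOmega (P.subgroupOf (Subgroup.normalizer (P : Set G)))
      (fun n : ↥(Subgroup.normalizer (P : Set G)) => β (n : G))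
      (irrPull (centEquiv P) ξ : _ → ℂ) =
    brauerOmega P β (ξ : Subgroup.centralizer (P : Set G) → ℂ) := by
  unfold brauerOmega
  rw [← finsum_comp_equiv (centEquiv P).toEquiv]
  apply finsum_congr
  intro x
  rw [irrPull_apply, irrPull_apply, map_one]
  rfl

end Transport

section Local

variable {G : Type u} [Group G] [Fintype G] {M : Ideal AlgInt}

/-- A `B`-pair `(P, e)` gives a block `b` of `N_G(P)` inducing `B` such that (the transport of)
`(P, e)` is a Brauer pair of `b`. -/
theorem exists_local_block_of_isBrauerPairOf {p : ℕ} [Fact p.Prime] (hM : IsPModular p M)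
    (B : Set (IrrCharacter G)) (P : Subgroup G)
    (e : Set (IrrCharacter (Subgroup.centralizer (P : Set G))))
    (hBe : IsBrauerPairOf p M B P e) :
    ∃ b : Set (IrrCharacter ↥(Subgroup.normalizer (P : Set G))),
      IsBrauerPairOf p M b (P.subgroupOf (Subgroup.normalizer (P : Set G)))
        (pullBlock (centEquiv P) e) ∧
      IsInducedBlock M (Subgroup.normalizer (P : Set G)) b B := by
  classical
  have hMp := isPModular_isPrime hM
  obtain ⟨⟨hP, he⟩, hB, hbr⟩ := hBe
  have : Fintype ↥(Subgroup.normalizer (P : Set G)) := Fintype.ofFinite _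
  have hPN : P ≤ Subgroup.normalizer (P : Set G) := Subgroup.le_normalizer
  have hCN : Subgroup.centralizer (P : Set G) ≤ Subgroup.normalizer (P : Set G) :=
    Subgroup.centralizer_le_normalizer _
  have hP'n : (P.subgroupOf (Subgroup.normalizer (P : Set G))).Normal :=
    Subgroup.normal_subgroupOf_of_le_normalizer le_rfl
  have hP'p : IsPGroup p (P.subgroupOf (Subgroup.normalizer (P : Set G))) := hP.comap_subtype
  have hCn : (Subgroup.centralizer ((P.subgroupOf (Subgroup.normalizer (P : Set G)) :
      Subgroup ↥(Subgroup.normalizer (P : Set G))) :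
      Set ↥(Subgroup.normalizer (P : Set G)))).Normal :=
    Cfsg.Agent.S4653.centralizer_normal_of_normal _
  have : Fintype ↥(Subgroup.centralizer ((P.subgroupOf (Subgroup.normalizer (P : Set G)) :
      Subgroup ↥(Subgroup.normalizer (P : Set G))) :
      Set ↥(Subgroup.normalizer (P : Set G)))) := Fintype.ofFinite _
  obtain ⟨ξ, hξ⟩ := IsPBlock_nonempty hMp.ne_top he
  have hpair' : IsBrauerPair p M (P.subgroupOf (Subgroup.normalizer (P : Set G)))
      (pullBlock (centEquiv P) e) := ⟨hP'p, isPBlock_pullBlock _ he⟩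
  obtain ⟨b, hb, _⟩ := Cfsg.Agent.S4657.result p M hM _ _ hpair'
  refine ⟨b, hb, ?_⟩
  -- a character of `N_G(P)` over the transport of `ξ`
  obtain ⟨ζ, hover⟩ := exists_irr_over (Subgroup.centralizer ((P.subgroupOf
      (Subgroup.normalizer (P : Set G)) : Subgroup ↥(Subgroup.normalizer (P : Set G))) :
      Set ↥(Subgroup.normalizer (P : Set G)))) (irrPull (centEquiv P) ξ)
  have hζb : ζ ∈ b := Cfsg.Agent.S4654.mem_of_over hM _ hP'p hb.2.1
    (hb.2.2 _ (irrPull_mem_pullBlock _ hξ)) hover
  rw [IsPBlock_eq_blockOf hb.2.1 hζb]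
  obtain ⟨χ₀, hχ₀⟩ := exists_irr_brauerLam hM P (Subgroup.normalizer (P : Set G)) hP hCN le_rfl ζ
  have hind : IsInducedBlock M (Subgroup.normalizer (P : Set G))
      (blockOf M (ζ : ↥(Subgroup.normalizer (P : Set G)) → ℂ)) (blockOf M (χ₀ : G → ℂ)) := by
    apply isInducedBlock_of_brauerCentralChar hM P _ hP hPN le_rfl ζ χ₀
    intro x
    have := hχ₀ (classSumC x) (classSumC_mem_centerOrder x)
    rw [omegaHom_classSumC] at this
    change MemLocalIdeal M (brauerLam P _ (ζ : ↥(Subgroup.normalizer (P : Set G)) → ℂ)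
      (classSum x) - _) at this
    rwa [brauerLam_classSum] at this
  have hχ₀B : χ₀ ∈ B := by
    by_contra hcon
    have h1 := hχ₀ (idemC B) (idemC_mem_centerOrder hB)
    rw [omegaHom_idemC, if_neg hcon, sub_zero] at h1
    -- compute the Brauer functional through the constituent
    have hwc : brP P (Subgroup.normalizer (P : Set G)) (idemOf B) ∈
        Subalgebra.center ℂ (MonoidAlgebra ℂ ↥(Subgroup.normalizer (P : Set G))) :=
      brP_mem_center P _ le_rfl (idemOf_mem_center B)
    have hsupp : ∀ g : ↥(Subgroup.normalizer (P : Set G)),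
        g ∉ Subgroup.centralizer ((P.subgroupOf (Subgroup.normalizer (P : Set G)) :
          Subgroup ↥(Subgroup.normalizer (P : Set G))) :
          Set ↥(Subgroup.normalizer (P : Set G))) →
        (brP P (Subgroup.normalizer (P : Set G)) (idemOf B)).coeff g = 0 := by
      intro g hg
      rw [coeff_brP, if_neg]
      intro h
      exact hg (mk_mem_centralizer_subgroupOf P h)
    have h2 := omega_eq_omega_resAlg_of_support _ hwc hsupp ζ (irrPull (centEquiv P) ξ) hover
    have h3 : omega (irrPull (centEquiv P) ξ).1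
        (resAlg _ (brP P (Subgroup.normalizer (P : Set G)) (idemOf B))) =
        brauerOmega (P.subgroupOf (Subgroup.normalizer (P : Set G)))
          (fun n : ↥(Subgroup.normalizer (P : Set G)) => blockCoeff B (n : G))
          (irrPull (centEquiv P) ξ : _ → ℂ) := by
      unfold brauerOmega omega
      rw [finsum_eq_sum_of_fintype, Finset.sum_div]
      refine Finset.sum_congr rfl fun x _ => ?_
      rw [coeff_resAlg, coeff_brP, if_pos
        (coe_mem_centralizer_of_mem_centralizer_subgroupOf P x.1 x.2), coeff_idemOf]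
    have h4 : brauerLam P (Subgroup.normalizer (P : Set G))
        (ζ : ↥(Subgroup.normalizer (P : Set G)) → ℂ)
        ((idemC B : Subalgebra.center ℂ (MonoidAlgebra ℂ G)) : MonoidAlgebra ℂ G) =
        brauerOmega P (blockCoeff B) (ξ : Subgroup.centralizer (P : Set G) → ℂ) := by
      rw [brauerLam_apply]
      show omega _ (brP P _ (idemOf B)) = _
      rw [h2, h3, brauerOmega_centEquiv]
    rw [h4] at h1
    have h5 := memLocalIdeal_sub (hbr ξ hξ) h1
    have h6 : brauerOmega P (blockCoeff B) (ξ : Subgroup.centralizer (P : Set G) → ℂ) - 1 -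
        brauerOmega P (blockCoeff B) (ξ : Subgroup.centralizer (P : Set G) → ℂ) = -1 := by ring
    rw [h6, memLocalIdeal_neg_iff] at h5
    exact one_not_memLocalIdeal h5
  rw [IsPBlock_eq_blockOf hB hχ₀B]
  exact hind

end Local

end Cfsg.Agent.Lib.Helper16
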