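import Mathlib
import Cfsg.Prelude.Def_Local
import Cfsg.Prelude.Def_Transfer
import Cfsg.Agent.Lib.Helper41.PGV.Defs
import Cfsg.Agent.Lib.Helper41.PGV.Defs2

/-!
# Project PGV (S3086), sheet RED part 2, leaf **[RED-5]** (hedge by helper16), `_of` form

Hypotheses: the conclusion of [T4-REP] (`timmesfeld_rep`) for `A`, and the statement of [RED-3-COR].
-/

set_option autoImplicit false

universe v

namespace Cfsg.Agent.Lib.Helper16.PgvRed5

open Cfsg Cfsg.Agent.Lib.Helper41.PGV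

variable {p : ℕ} [Fact p.Prime] {G V : Type v} [Group G] [Finite G] [AddCommGroup V] [Finite V]
  [Module (ZMod p) V] {ρ : Representation (ZMod p) G V} {A K1 : Subgroup G} {a : G}

omit [Finite G] [Finite V] in
theorem fix_bot_eq_top : fix ρ (((⊥ : Subgroup G) : Subgroup G) : Set G) = ⊤ := by
  ext v
  simp only [mem_fix, Submodule.mem_top, iff_true]
  intro x hx
  have : x = 1 := by simpa using hx
  rw [this, map_one]; rfl

omit [Finite G] in
theorem card_fix_mono {X Y : Set G} (hXY : X ⊆ Y) :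
    Nat.card (fix ρ Y) ≤ Nat.card (fix ρ X) := by
  have hle : fix ρ Y ≤ fix ρ X := fun v hv x hx => hv x (hXY hx)
  exact Nat.card_le_card_of_injective (Submodule.inclusion hle) (Submodule.inclusion_injective hle)

/-- **[RED-5]**, `_of` form. `hT` = [T4-REP] applied to `h.inj h.el h.off`; `h3` = [RED-3-COR]. -/
theorem red_5_of
    (hT : A ≠ ⊥ → ∃ Q : Subgroup G, (∀ q, q ∈ Q ↔ q ∈ A ∧ QuadOn ρ A q) ∧ Q ≠ ⊥ ∧ BestOffender ρ Q)
    (h3 : (∀ b ∈ A, b ∈ NA A K1 ∨ a * b ∈ NA A K1) ∧ Nat.card A = 2 * Nat.card (NA A K1))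
    (h : CE ρ A K1 a) :
    (∃ Q : Subgroup G, Q ≤ NA A K1 ∧ Q ≠ ⊥ ∧ ∀ q ∈ Q, (ρ q - 1) * (ρ a - 1) = 0) ∨
    (NA A K1 = ⊥ ∧ Nat.card V ≤ 2 * Nat.card (fix ρ ({a} : Set G))) := by
  classical
  have ha1 : a ≠ 1 := by
    rintro rfl
    apply h.move
    ext y
    simp [Subgroup.mem_map]
  have hA : A ≠ ⊥ := by
    intro hA
    have := h.mem
    rw [hA, Subgroup.mem_bot] at this
    exact ha1 this
  obtain ⟨Q0, hQ0, hQ0ne, hQ0off⟩ := hT hA
  have hQ0A : Q0 ≤ A := fun q hq => ((hQ0 q).1 hq).1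
  have hquadA : ∀ q ∈ Q0, (ρ q - 1) * (ρ a - 1) = 0 := fun q hq => ((hQ0 q).1 hq).2 a h.mem
  by_cases hne : Q0 = A
  · -- every element of `A` is `A`-quadratic
    by_cases hB : NA A K1 = ⊥
    · right
      refine ⟨hB, ?_⟩
      have hcardA : Nat.card A = 2 := by rw [h3.2, hB, Subgroup.card_bot]
      have hoff := h.off ⊥ bot_le
      unfold jj at hoff
      rw [Subgroup.card_bot, one_mul, fix_bot_eq_top, hcardA] at hoff
      have h1 : Nat.card (⊤ : Submodule (ZMod p) V) = Nat.card V :=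
        Nat.card_congr (Submodule.topEquiv (R := ZMod p) (M := V)).toEquiv
      rw [h1] at hoff
      have h2 : Nat.card (fix ρ (A : Set G)) ≤ Nat.card (fix ρ ({a} : Set G)) :=
        card_fix_mono (by intro x hx; rw [Set.mem_singleton_iff] at hx; rw [hx]; exact h.mem)
      calc Nat.card V ≤ 2 * Nat.card (fix ρ (A : Set G)) := hoff
        _ ≤ 2 * Nat.card (fix ρ ({a} : Set G)) := Nat.mul_le_mul_left _ h2
    · left
      refine ⟨NA A K1, le_rfl, hB, ?_⟩
      intro q hq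
      have hqA : q ∈ A := (Subgroup.mem_inf.1 hq).1
      exact hquadA q (hne ▸ hqA)
  · -- `Q0 < A`: minimality
    left
    have hlt : Nat.card Q0 < Nat.card A := by
      have hle : Nat.card Q0 ≤ Nat.card A := Subgroup.card_le_of_le hQ0A
      rcases Nat.lt_or_ge (Nat.card Q0) (Nat.card A) with h1 | h1
      · exact h1
      · exfalso
        apply hne
        exact Subgroup.eq_of_le_of_card_ge hQ0A h1
    have hel : IsElementaryAbelian p Q0 := by
      refine ⟨⟨⟨fun x y => ?_⟩⟩, fun q hq => h.el.2 q (hQ0A hq)⟩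
      have := h.el.1.is_comm.comm (⟨x.1, hQ0A x.2⟩ : A) ⟨y.1, hQ0A y.2⟩
      apply Subtype.ext
      simpa using congrArg Subtype.val this
    have hN := h.ih G V ρ h.inj Q0 hQ0ne hel hQ0off (by omega) K1 h.comp
    refine ⟨Q0, ?_, hQ0ne, hquadA⟩
    intro q hq
    exact Subgroup.mem_inf.2 ⟨hQ0A hq, hN hq⟩

end Cfsg.Agent.Lib.Helper16.PgvRed5
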