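import Mathlib
import Cfsg.Prelude.Def_Local
import Cfsg.Prelude.Def_Transfer
import Cfsg.Agent.Lib.Helper41.PGV.Defs
import Cfsg.Agent.Lib.Helper22.Components

/-!
# Project PGV (S3086), sheet RED part 1, leaf **[RED-Q]** (hedge by helper16), `_of` form

`p` odd: in a minimal counterexample every `A`-quadratic `q ∈ A` normalizes the component `K1`.
The three cited leaves ([QUAD2-REP], [T5-DISTINCT], [T5-PGROUP]) are taken as hypotheses, in the exact
form of the sheet stubs.
-/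

set_option autoImplicit false

universe v

namespace Cfsg.Agent.Lib.Helper16.PgvRedQ

open Cfsg Cfsg.Agent.Lib.Helper41.PGV

section aux

variable {G : Type*} [Group G]

/-- the conjugate `K^g` in the notation of the sheet -/
abbrev cjm (K : Subgroup G) (g : G) : Subgroup G := K.map (MulAut.conj g).toMonoidHom

theorem mem_cjm {K : Subgroup G} {g y : G} : y ∈ cjm K g ↔ ∃ x ∈ K, g * x * g⁻¹ = y := by
  simp [cjm, Subgroup.mem_map]

theorem conj_mem_cjm {K : Subgroup G} (g : G) {x : G} (hx : x ∈ K) : g * x * g⁻¹ ∈ cjm K g :=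
  mem_cjm.2 ⟨x, hx, rfl⟩

/-- equal conjugates: the quotient normalizes -/
theorem mem_normalizer_of_cjm_eq {K : Subgroup G} {g g' : G} (h : cjm K g = cjm K g') :
    g'⁻¹ * g ∈ Subgroup.normalizer (K : Set G) := by
  rw [Subgroup.mem_normalizer_iff]
  intro k
  constructor
  · intro hk
    have h1 : g * k * g⁻¹ ∈ cjm K g' := h ▸ conj_mem_cjm g hk
    obtain ⟨k', hk', he⟩ := mem_cjm.1 h1
    have : g'⁻¹ * g * k * (g'⁻¹ * g)⁻¹ = k' := by
      have : g'⁻¹ * g * k * (g'⁻¹ * g)⁻¹ = g'⁻¹ * (g * k * g⁻¹) * g' := by group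
      rw [this, ← he]; group
    rw [this]; exact hk'
  · intro hk
    have h1 : g' * (g'⁻¹ * g * k * (g'⁻¹ * g)⁻¹) * g'⁻¹ ∈ cjm K g := h ▸ conj_mem_cjm g' hk
    obtain ⟨k', hk', he⟩ := mem_cjm.1 h1
    have : k = k' := by
      have e2 : g' * (g'⁻¹ * g * k * (g'⁻¹ * g)⁻¹) * g'⁻¹ = g * k * g⁻¹ := by group
      rw [e2] at he
      have := congrArg (fun z => g⁻¹ * z * g) he
      beta_reduce at this
      have e3 : g⁻¹ * (g * k' * g⁻¹) * g = k' := by group
      have e4 : g⁻¹ * (g * k * g⁻¹) * g = k := by group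
      rw [e3, e4] at this
      exact this.symm
    rw [this]; exact hk'

end aux

variable {p : ℕ} [Fact p.Prime] {G V : Type v} [Group G] [Finite G] [AddCommGroup V] [Finite V]
  [Module (ZMod p) V] {ρ : Representation (ZMod p) G V} {A K1 : Subgroup G} {a : G}

omit [Finite G] [Finite V] in
/-- conjugates of quadratic elements are quadratic -/
theorem quad_conj (x q : G) (hq : (ρ q - 1) * (ρ q - 1) = 0) :
    (ρ (x * q * x⁻¹) - 1) * (ρ (x * q * x⁻¹) - 1) = 0 := by
  have h1 : ρ x * ρ x⁻¹ = 1 := by rw [← map_mul, mul_inv_cancel, map_one]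
  have h2 : ρ x⁻¹ * ρ x = 1 := by rw [← map_mul, inv_mul_cancel, map_one]
  have e : ρ (x * q * x⁻¹) - 1 = ρ x * (ρ q - 1) * ρ x⁻¹ := by
    rw [map_mul, map_mul, mul_sub, sub_mul, mul_one, h1]
  rw [e]
  calc ρ x * (ρ q - 1) * ρ x⁻¹ * (ρ x * (ρ q - 1) * ρ x⁻¹)
      = ρ x * (ρ q - 1) * (ρ x⁻¹ * ρ x) * (ρ q - 1) * ρ x⁻¹ := by noncomm_ring
    _ = ρ x * ((ρ q - 1) * (ρ q - 1)) * ρ x⁻¹ := by rw [h2]; noncomm_ring
    _ = 0 := by rw [hq]; simp

omit [Finite G] [Finite V] in
/-- **[RED-Q]**, `_of` form: hypotheses `hquad2` = [QUAD2-REP], `hcc` = [T5-DISTINCT], `hpg` = [T5-PGROUP]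
(verbatim the sheet statements). -/
theorem red_Q_of
    (hquad2 : ∀ (x y : G), (ρ x - 1) * (ρ x - 1) = 0 → (ρ y - 1) * (ρ y - 1) = 0 →
      (∀ T : Sylow 2 (Subgroup.closure ({x, y} : Set G)), IsMulCommutative T) →
      IsPGroup p (Subgroup.closure ({x, y} : Set G)))
    (hcc : ∀ {L M : Subgroup G}, IsComponent L → IsComponent M → L ≠ M →
      ∀ x ∈ L, ∀ y ∈ M, x * y = y * x)
    (hpg : ∀ {L : Subgroup G}, IsComponent L →
      (∀ x ∈ L, ∃ k : ℕ, ∀ y ∈ L, x ^ (p ^ k) * y = y * x ^ (p ^ k)) → False)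
    (hp : p ≠ 2) (h : CE ρ A K1 a) (q : G) (hqA : q ∈ A) (hquad : QuadOn ρ A q) :
    q ∈ Subgroup.normalizer (K1 : Set G) := by
  classical
  by_contra hqN
  have hpp : p.Prime := Fact.out
  have hq2 : (ρ q - 1) * (ρ q - 1) = 0 := hquad q hqA
  have hqp : q ^ p = 1 := h.el.2 q hqA
  have hq1 : q ≠ 1 := by
    rintro rfl; exact hqN (Subgroup.one_mem _)
  have hord : orderOf q = p := orderOf_eq_prime hqp hq1
  -- the cyclic group `Z = ⟨q⟩` of order `p` meets `N(K1)` trivially
  have hZcard : Nat.card (Subgroup.zpowers q) = p := by rw [Nat.card_zpowers, hord]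
  have : Fact (Nat.card (Subgroup.zpowers q)).Prime := ⟨by rw [hZcard]; exact hpp⟩
  have hZN : ∀ g ∈ Subgroup.zpowers q, g ∈ Subgroup.normalizer (K1 : Set G) → g = 1 := by
    intro g hgZ hgN
    rcases ((Subgroup.normalizer (K1 : Set G)).subgroupOf (Subgroup.zpowers q)).eq_bot_or_eq_top_of_prime_card
      with hb | ht
    · have : (⟨g, hgZ⟩ : Subgroup.zpowers q) ∈
          (Subgroup.normalizer (K1 : Set G)).subgroupOf (Subgroup.zpowers q) := by
        rw [Subgroup.mem_subgroupOf]; exact hgN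
      rw [hb, Subgroup.mem_bot] at this
      exact congrArg Subtype.val this
    · exfalso
      have : (⟨q, Subgroup.mem_zpowers q⟩ : Subgroup.zpowers q) ∈
          (Subgroup.normalizer (K1 : Set G)).subgroupOf (Subgroup.zpowers q) := by
        rw [ht]; exact Subgroup.mem_top _
      rw [Subgroup.mem_subgroupOf] at this
      exact hqN this
  -- distinct elements of `Z` give commuting conjugates of `K1`
  have hcommZ : ∀ g ∈ Subgroup.zpowers q, ∀ g' ∈ Subgroup.zpowers q, g ≠ g' →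
      ∀ x ∈ cjm K1 g, ∀ y ∈ cjm K1 g', x * y = y * x := by
    intro g hg g' hg' hne
    have hne' : cjm K1 g ≠ cjm K1 g' := by
      intro he
      have h1 := hZN (g'⁻¹ * g) (Subgroup.mul_mem _ (Subgroup.inv_mem _ hg') hg)
        (mem_normalizer_of_cjm_eq he)
      apply hne
      have : g = g' * (g'⁻¹ * g) := by group
      rw [this, h1, mul_one]
    exact hcc (Cfsg.Agent.Lib.Helper22.component_conj h.comp g)
      (Cfsg.Agent.Lib.Helper22.component_conj h.comp g') hne'
  have hK1 : cjm K1 1 = K1 := by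
    ext y; rw [mem_cjm]; constructor
    · rintro ⟨x, hx, rfl⟩; simpa using hx
    · intro hy; exact ⟨y, hy, by simp⟩
  apply hpg h.comp
  intro x hx
  -- the abelian group `X` generated by the `Z`-conjugates of `x`
  set S : Set G := {u | ∃ g ∈ Subgroup.zpowers q, u = g * x * g⁻¹} with hS
  set X : Subgroup G := Subgroup.closure S with hX
  have hScomm : ∀ u ∈ S, ∀ w ∈ S, u * w = w * u := by
    rintro u ⟨g, hg, rfl⟩ w ⟨g', hg', rfl⟩
    by_cases he : g = g'
    · rw [he]
    · exact hcommZ g hg g' hg' he _ (conj_mem_cjm g hx) _ (conj_mem_cjm g' hx)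
  have hXc : IsMulCommutative X := Subgroup.isMulCommutative_closure hScomm
  have hXcomm : ∀ u ∈ X, ∀ w ∈ X, u * w = w * u := by
    intro u hu w hw
    have := hXc.is_comm.comm (⟨u, hu⟩ : X) ⟨w, hw⟩
    simpa using congrArg Subtype.val this
  have hgenX : ∀ g ∈ Subgroup.zpowers q, g * x * g⁻¹ ∈ X := fun g hg =>
    Subgroup.subset_closure ⟨g, hg, rfl⟩
  have hxX : x ∈ X := by simpa using hgenX 1 (Subgroup.one_mem _)
  -- `Z` normalizes `X`
  have hZX : ∀ z ∈ Subgroup.zpowers q, ∀ u ∈ X, z * u * z⁻¹ ∈ X := by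
    intro z hz u hu
    have : X ≤ X.comap (MulAut.conj z).toMonoidHom := by
      rw [hX, Subgroup.closure_le]
      rintro u ⟨g, hg, rfl⟩
      show (MulAut.conj z).toMonoidHom (g * x * g⁻¹) ∈ Subgroup.closure S
      have : (MulAut.conj z).toMonoidHom (g * x * g⁻¹) = (z * g) * x * (z * g)⁻¹ := by
        simp [MulAut.conj_apply]; group
      rw [this]
      exact hgenX _ (Subgroup.mul_mem _ hz hg)
    have := this hu
    simpa [Subgroup.mem_comap, MulAut.conj_apply] using this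
  have hqX : q ∈ Subgroup.normalizer (X : Set G) := by
    rw [Subgroup.mem_normalizer_iff]
    intro u
    constructor
    · exact hZX q (Subgroup.mem_zpowers q) u
    · intro hu
      have := hZX q⁻¹ (Subgroup.inv_mem _ (Subgroup.mem_zpowers q)) _ hu
      have e : q⁻¹ * (q * u * q⁻¹) * q⁻¹⁻¹ = u := by group
      rwa [e] at this
  set y : G := x * q * x⁻¹ with hy
  have hqyX : q⁻¹ * y ∈ X := by
    have e : q⁻¹ * y = (q⁻¹ * x * q⁻¹⁻¹) * x⁻¹ := by rw [hy]; group
    rw [e]
    exact Subgroup.mul_mem _ (hgenX q⁻¹ (Subgroup.inv_mem _ (Subgroup.mem_zpowers q)))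
      (Subgroup.inv_mem _ hxX)
  have hXN : X ≤ Subgroup.normalizer (X : Set G) := Subgroup.le_normalizer
  have hyN : y ∈ Subgroup.normalizer (X : Set G) := by
    have : y = q * (q⁻¹ * y) := by group
    rw [this]; exact Subgroup.mul_mem _ hqX (hXN hqyX)
  -- the quotient `N(X) / X`
  set N : Subgroup G := Subgroup.normalizer (X : Set G) with hN
  let π := QuotientGroup.mk' (X.subgroupOf N)
  set q' : N := ⟨q, hqX⟩ with hq'
  set y' : N := ⟨y, hyN⟩ with hy'
  have hπy : π y' = π q' := by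
    symm
    rw [QuotientGroup.mk'_apply, QuotientGroup.mk'_apply, QuotientGroup.eq, Subgroup.mem_subgroupOf]
    exact hqyX
  have hπqp : (π q') ^ p = 1 := by
    rw [← map_pow]
    have : q' ^ p = 1 := by
      apply Subtype.ext; simp [hq', hqp]
    rw [this, map_one]
  set H : Subgroup G := Subgroup.closure ({q, y} : Set G) with hH
  have hHN : H ≤ N := by
    rw [hH, Subgroup.closure_le]
    rintro g (rfl | rfl)
    · exact hqX
    · exact hyN
  have hHπ : ∀ g (hg : g ∈ H), π ⟨g, hHN hg⟩ ∈ Subgroup.zpowers (π q') := by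
    have : H ≤ ((Subgroup.zpowers (π q')).comap π).map N.subtype := by
      rw [hH, Subgroup.closure_le]
      rintro g (rfl | rfl)
      · exact ⟨q', Subgroup.mem_zpowers _, rfl⟩
      · exact ⟨y', by
          show π y' ∈ Subgroup.zpowers (π q')
          rw [hπy]; exact Subgroup.mem_zpowers _, rfl⟩
    intro g hg
    obtain ⟨n, hn, hng⟩ := this hg
    have : n = ⟨g, hHN hg⟩ := Subtype.ext hng
    rw [← this]; exact hn
  have hHp : ∀ g ∈ H, g ^ p ∈ X := by
    intro g hg
    obtain ⟨i, hi⟩ := Subgroup.mem_zpowers_iff.1 (hHπ g hg)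
    have h1 : (π ⟨g, hHN hg⟩) ^ p = 1 := by
      rw [← hi, ← zpow_natCast, ← zpow_mul, mul_comm, zpow_mul, zpow_natCast, hπqp, one_zpow]
    rw [← map_pow, QuotientGroup.mk'_apply, QuotientGroup.eq_one_iff, Subgroup.mem_subgroupOf] at h1
    simpa using h1
  -- Sylow 2-subgroups of `H` are abelian
  have hSyl : ∀ T : Sylow 2 H, IsMulCommutative T := by
    intro T
    have hTX : ∀ t : T, ((t : H) : G) ∈ X := by
      intro t
      obtain ⟨k, hk⟩ := T.isPGroup' t
      have hk' : ((t : H) : G) ^ 2 ^ k = 1 := by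
        have := congrArg (fun z : T => ((z : H) : G)) hk
        simpa using this
      have hod : orderOf ((t : H) : G) ∣ 2 ^ k := orderOf_dvd_of_pow_eq_one hk'
      have hcop : Nat.Coprime p (orderOf ((t : H) : G)) := by
        apply Nat.Coprime.coprime_dvd_right hod
        apply Nat.Coprime.pow_right
        rw [Nat.coprime_primes hpp Nat.prime_two]; exact hp
      obtain ⟨m, hm⟩ := exists_pow_eq_self_of_coprime hcop
      rw [← hm]
      exact Subgroup.pow_mem _ (hHp _ (t : H).2) m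
    refine ⟨⟨fun s t => ?_⟩⟩
    apply Subtype.ext; apply Subtype.ext
    exact hXcomm _ (hTX s) _ (hTX t)
  have hHpg : IsPGroup p H := hquad2 q y hq2 (quad_conj x q hq2) hSyl
  -- the `p`-element `q⁻¹ y = (q⁻¹ x q) x⁻¹`
  have hwH : q⁻¹ * y ∈ H :=
    Subgroup.mul_mem _ (Subgroup.inv_mem _ (Subgroup.subset_closure (by simp)))
      (Subgroup.subset_closure (by simp))
  obtain ⟨k, hk⟩ := hHpg ⟨q⁻¹ * y, hwH⟩
  have hk' : (q⁻¹ * y) ^ p ^ k = 1 := by
    have := congrArg Subtype.val hk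
    simpa using this
  refine ⟨k, ?_⟩
  set c : G := q⁻¹ * x * q⁻¹⁻¹ with hc
  have hcmem : c ∈ cjm K1 q⁻¹ := conj_mem_cjm q⁻¹ hx
  have hqinv1 : q⁻¹ ≠ 1 := by simpa using hq1
  have hcK : ∀ z ∈ K1, c * z = z * c := by
    intro z hz
    have := hcommZ q⁻¹ (Subgroup.inv_mem _ (Subgroup.mem_zpowers q)) 1 (Subgroup.one_mem _) hqinv1
      c hcmem z (by rw [hK1]; exact hz)
    exact this
  have hcx : Commute c x⁻¹ := hcK _ (Subgroup.inv_mem _ hx)
  have e : q⁻¹ * y = c * x⁻¹ := by rw [hy, hc]; group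
  rw [e, hcx.mul_pow, inv_pow, mul_inv_eq_one] at hk'
  intro z hz
  rw [← hk']
  exact (show Commute c z from hcK z hz).pow_left _

end Cfsg.Agent.Lib.Helper16.PgvRedQ
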