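import Cfsg.Agent.Lib.Helper16.FusionCent
import Cfsg.Agent.S4691

/-!
# Principal blocks under transport, and pairs below a principal pair (helper16)
-/

set_option autoImplicit false

namespace Cfsg.Agent.Lib.Helper16

open Cfsg MonoidAlgebra Cfsg.Agent.Lib.Helper77

universe u

theorem pullBlock_principalBlock {K₁ K₂ : Type u} [Group K₁] [Group K₂] {M : Ideal AlgInt}
    (φ : K₁ ≃* K₂) : pullBlock φ (principalBlock M K₂) = principalBlock M K₁ :=
  pullBlock_blockOf (M := M) φ (Cfsg.Agent.S4691.oneIrr K₂)

variable {G : Type u} [Group G] [Fintype G] {M : Ideal AlgInt}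

omit [Fintype G] in
theorem conjBlock_principalBlock (Q : Subgroup G) (x : G) :
    conjBlock Q x (principalBlock M (Subgroup.centralizer (Q : Set G))) =
      principalBlock M (Subgroup.centralizer
        ((Q.map (MulAut.conj x).toMonoidHom : Subgroup G) : Set G)) := by
  rw [conjBlock_eq_pullBlock, pullBlock_principalBlock]

/-- Below a principal pair `(P, B₀(C_G(P)))`, on every subgroup `Q ≤ P` sits the principal pair. -/
theorem subpairLE_principal {p : ℕ} [Fact p.Prime] (hM : IsPModular p M) {P Q : Subgroup G}
    (hP : IsPGroup p P) (hQP : Q ≤ P) :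
    SubpairLE p M Q (principalBlock M (Subgroup.centralizer (Q : Set G))) P
      (principalBlock M (Subgroup.centralizer (P : Set G))) := by
  have hPe : IsBrauerPair p M P (principalBlock M (Subgroup.centralizer (P : Set G))) :=
    ⟨hP, Cfsg.Agent.S4691.isPBlock_principalBlock⟩
  obtain ⟨f, _, hf⟩ := Cfsg.Agent.S4655.exists_le hM (Nat.card P - Nat.card Q)
    (⟨P, principalBlock M (Subgroup.centralizer (P : Set G))⟩ : BrauerPairIdx G) hPe Q hQP le_rfl
  have := eq_principal_of_subpairLE_principal hM (a := ⟨Q, f⟩)
    (b := ⟨P, principalBlock M (Subgroup.centralizer (P : Set G))⟩) hf rfl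
  simp only at this
  rw [← this]
  exact hf

end Cfsg.Agent.Lib.Helper16
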