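import Mathlib
import Cfsg.Agent.Lib.Helper77.WAT.Defs
import Cfsg.Agent.Lib.Helper16.BPTrace
import Cfsg.Agent.Lib.Helper16.WATCtrl

/-!
# PROJECT WAT (S4644): modules [TR], [ORTHO1], [ORTHO0], [FUST] in the form of helper77's skeleton
(helper16)
-/

set_option autoImplicit false
set_option linter.unusedSectionVars false
set_option linter.style.haveILetI false

namespace Cfsg.Agent.Lib.Helper16.WAT

open Cfsg Cfsg.Agent.Lib.Helper16 Cfsg.Agent.Lib.Helper16.BP Cfsg.Agent.Lib.Helper78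
  Cfsg.Agent.Lib.Helper77.WAT
open scoped ComplexConjugate

universe u

variable {G : Type u} [Group G] [Fintype G] {M : Ideal AlgInt} {p : ℕ} [Fact p.Prime]
  {B : Set (IrrCharacter G)} {P : Subgroup G}
  {e : Set (IrrCharacter (Subgroup.centralizer (P : Set G)))}

/-- WAT-[TR] : the trace identity `Σ_χ m_v(χ, χ) = l(f_v)` -/
theorem sum_mv_self (hM : IsPModular p M) (hmax : IsMaximalBrauerPair p M B P e) {v : G}
    (hv : v ∈ P) :
    ∑ᶠ χ : IrrCharacter G, mv p M P e v (χ : G → ℂ) (χ : G → ℂ) =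
      (blockRank p (subF p M P e v) : ℂ) := by
  classical
  rw [finsum_eq_sum_of_fintype]
  exact Cfsg.Agent.Lib.Helper16.BP.sum_mv_self hM hmax.1.1 hv

/-- WAT-[ORTHO1] : Brauer's formula `k(B) = Σ_v |[v]|⁻¹ l(f_v)` -/
theorem sum_fusW_rank (hM : IsPModular p M) (hmax : IsMaximalBrauerPair p M B P e) :
    ∑ᶠ v : P, fusW p M P e v * (blockRank p (subF p M P e (v : G)) : ℂ) = (Nat.card B : ℂ) := by
  classical
  rw [finsum_eq_sum_of_fintype, card_block_eq_sum hM hmax]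
  rfl

/-- WAT-[ORTHO0] : `Σ_v |[v]|⁻¹ η(v) l(f_v) = 0` for a nontrivial fusion-stable unimodular `η`
(`P` abelian: the `*`-action of `η` on `Irr(B)` has no fixed point) -/
theorem sum_fusW_eta_rank_eq_zero (hM : IsPModular p M) (hmax : IsMaximalBrauerPair p M B P e)
    (hPab : ∀ x ∈ P, ∀ y ∈ P, x * y = y * x) (hBP : BPFull p M B P e) {η : P → ℂ}
    (hηg : IsGeneralizedCharacter P η) (hηs : IsFusionStable p M P e η)
    (hη1 : ∀ v : P, η v * conj (η v) = 1) (hη0 : η 1 = 1) (hne : ∃ v : P, η v ≠ 1) :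
    ∑ᶠ v : P, fusW p M P e v * η v * (blockRank p (subF p M P e (v : G)) : ℂ) = 0 := by
  classical
  -- the `*`-action of `η`
  have hex : ∀ χ : IrrCharacter G, ∃ ψ : IrrCharacter G, χ ∈ B →
      (ψ ∈ B ∧ IsStarOf p M P e η (χ : G → ℂ) (ψ : G → ℂ)) := by
    intro χ
    by_cases hχ : χ ∈ B
    · obtain ⟨θ, hZ, hS⟩ := hBP η hηg hηs χ hχ
      obtain ⟨ψ, hψB, hθψ, -⟩ := star_irr hM hmax hη1 hη0 hχ hZ hS
      exact ⟨ψ, fun _ => ⟨hψB, hθψ ▸ hS⟩⟩
    · exact ⟨χ, fun h => absurd h hχ⟩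
  choose σ hσ using hex
  have h := card_fixed_eq_sum hM hmax σ (fun χ hχ => (hσ χ hχ).1) (fun χ hχ => (hσ χ hχ).2)
  -- no fixed points
  have hempty : Finset.univ.filter (fun χ : IrrCharacter G => χ ∈ B ∧ σ χ = χ) = ∅ := by
    rw [Finset.filter_eq_empty_iff]
    rintro χ - ⟨hχ, hfix⟩
    obtain ⟨v, hv⟩ := hne
    apply hv
    have hS := (hσ χ hχ).2
    rw [hfix] at hS
    apply eq_one_of_isStarOf_self_of_central hM hmax hχ hS v
    rw [Subgroup.mem_centralizer_iff]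
    intro y hy
    exact hPab y hy v v.2
  rw [hempty, Finset.card_empty, Nat.cast_zero] at h
  rw [finsum_eq_sum_of_fintype]
  exact h.symm

/-- `N_G(P, e)` in the two forms -/
theorem conjPair_eq_self_iff (t : G) :
    conjPair t (⟨P, e⟩ : BrauerPairIdx G) = ⟨P, e⟩ ↔
      (t ∈ Subgroup.normalizer (P : Set G) ∧
        StabilizesBlock (Subgroup.centralizer (P : Set G)) e t) :=
  ⟨stabilizes_of_conjPair_eq_self, fun h => conjPair_eq_self_of_stabilizes h.1 h.2⟩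

/-- WAT-[FUST] : for abelian `P`, fusion of subsections is controlled by `T = N_G(P, e)` -/
theorem fus_iff_inertial (hM : IsPModular p M) (hmax : IsMaximalBrauerPair p M B P e)
    (hPab : ∀ x ∈ P, ∀ y ∈ P, x * y = y * x) {T : Subgroup G} (hT : IsInertial T P e) {v v' : G}
    (hv : v ∈ P) (hv' : v' ∈ P) :
    Fus p M P e v v' ↔ ∃ t ∈ T, t * v * t⁻¹ = v' := by
  rw [fus_iff_exists_stab hM hmax hPab hv hv']
  constructor
  · rintro ⟨t, ht, htv⟩
    exact ⟨t, (hT t).mpr ((conjPair_eq_self_iff t).mpr ht), htv⟩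
  · rintro ⟨t, ht, htv⟩
    exact ⟨t, (conjPair_eq_self_iff t).mp ((hT t).mp ht), htv⟩

end Cfsg.Agent.Lib.Helper16.WAT
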