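import Mathlib
import Cfsg.Agent.Lib.Helper77.WAT.Defs
import Cfsg.Agent.Lib.Helper77.WatLoc
import Cfsg.Agent.Lib.Helper16.WatOrtho
import Cfsg.Agent.Lib.Helper16.MaxPair
import Cfsg.Agent.Lib.Helper16.InducedPair
import Cfsg.Agent.Lib.Helper16.NilFusion
import Cfsg.Agent.Lib.Helper82.PullRank

/-!
# Project WAT (helper77): WAT-[FRONT] in `_of` form (hedge by helper16)

S4644 from WAT-[IND] at `Q = ⊥` : the induction statement `rk ⊥ = rk ⟨u⟩`, `kk ⊥ = kk ⟨u⟩` is a
hypothesis `hIND` here (so this file does not depend on the KEY/IND modules).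
-/

set_option autoImplicit false
set_option linter.style.haveILetI false
set_option linter.unusedSectionVars false

namespace Cfsg.Agent.Lib.Helper16.WAT

open Cfsg Cfsg.Agent.Lib Cfsg.Agent.Lib.Helper16 Cfsg.Agent.Lib.Helper16.BP
  Cfsg.Agent.Lib.Helper77 Cfsg.Agent.Lib.Helper77.WAT Cfsg.Agent.Lib.Helper82

universe u

section General

variable {G : Type u} [Group G] {M : Ideal AlgInt}

/-- For `L = ⊤`, a block induced to `G` is induced inside `L`. -/
theorem isInducedBlockIn_of_eq_top [Fintype G] {L K : Subgroup G} (hL : L = ⊤) {c : Set (IrrCharacter K)}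
    {B : Set (IrrCharacter G)} (hc : IsInducedBlock M K c B) :
    IsInducedBlockIn M L K c (pullBlock (topEquivOf hL) B) := by
  refine ⟨hc.1, isPBlock_pullBlock _ hc.2.1, ?_⟩
  rintro ξ hξ _ ⟨χ, hχ, rfl⟩ h
  have h1 : (irrPull (topEquivOf hL) χ : L → ℂ) = (χ : G → ℂ) ∘ (topEquivOf hL) := rfl
  rw [h1, centralChar_comp_mulEquiv, topEquivOf_apply]
  have h2 : inducedCentralCharIn L K (ξ : K → ℂ) (h : G) =
      inducedCentralChar K (ξ : K → ℂ) (h : G) := by
    unfold inducedCentralCharIn inducedCentralChar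
    have hset : {k : K | ∃ x : L, (x : G) * (k : G) * (x : G)⁻¹ = (h : G)} =
        {k : K | IsConj (h : G) (k : G)} := by
      ext k
      simp only [Set.mem_ofPred_eq]
      constructor
      · rintro ⟨x, hx⟩
        rw [isConj_iff]
        refine ⟨(x : G)⁻¹, ?_⟩
        rw [← hx]; group
      · intro hk
        rw [isConj_iff] at hk
        obtain ⟨y, hy⟩ := hk
        refine ⟨⟨y⁻¹, by rw [hL]; exact Subgroup.mem_top _⟩, ?_⟩
        show y⁻¹ * (k : G) * y⁻¹⁻¹ = (h : G)
        rw [← hy]; group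
    rw [hset]
  rw [h2]
  exact hc.2.2 ξ hξ χ hχ (h : G)

/-- Two blocks induced from the same block inside equal subgroups have the same invariants. -/
theorem blockRank_card_eq_of_isInducedBlockIn [hMp : M.IsPrime] (p : ℕ) {H₁ H₂ K : Subgroup G}
    (h : H₁ = H₂) {c : Set (IrrCharacter K)} {f₁ : Set (IrrCharacter H₁)}
    {f₂ : Set (IrrCharacter H₂)} (h1 : IsInducedBlockIn M H₁ K c f₁)
    (h2 : IsInducedBlockIn M H₂ K c f₂) :
    blockRank p f₁ = blockRank p f₂ ∧ Nat.card f₁ = Nat.card f₂ := by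
  subst h
  rw [isInducedBlockIn_unique h1 h2]
  exact ⟨rfl, rfl⟩

theorem card_pullBlock {K₁ K₂ : Type u} [Group K₁] [Group K₂] (φ : K₁ ≃* K₂)
    (β : Set (IrrCharacter K₂)) : Nat.card (pullBlock φ β) = Nat.card β := by
  unfold pullBlock
  exact Nat.card_image_of_injective (irrPull_injective φ) β

end General

/-- WAT-[FRONT] in `_of` form: S4644 from WAT-[IND] at `Q = ⊥` -/
theorem stmt4644_of_IND {G : Type u} [Group G] [Finite G] (p : ℕ) [Fact p.Prime]
    (M : Ideal Cfsg.AlgInt) (hM : Cfsg.IsPModular p M)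
    (B : Set (Cfsg.IrrCharacter G)) (hB : Cfsg.IsPBlock M B) (P : Subgroup G)
    (hPD : Cfsg.IsDefectGroup p M B P) (hPab : ∀ x ∈ P, ∀ y ∈ P, x * y = y * x)
    (c : Set (Cfsg.IrrCharacter (Subgroup.centralizer (P : Set G))))
    (hc : Cfsg.IsInducedBlock M (Subgroup.centralizer (P : Set G)) c B) (T : Subgroup G)
    (hT : ∀ g : G, g ∈ T ↔ (g ∈ Subgroup.normalizer (P : Set G) ∧
      Cfsg.StabilizesBlock (Subgroup.centralizer (P : Set G)) c g)) (u : G) (hu : u ∈ P)
    (H : Subgroup G)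
    (hH : H = Subgroup.centralizer ({u} : Set G)) (f : Set (Cfsg.IrrCharacter H))
    (hf : Cfsg.IsInducedBlockIn M H (Subgroup.centralizer (P : Set G)) c f)
    (hIND : IsMaximalBrauerPair p M B P c → IsInertial T P c →
      rk p M P c ⊥ = rk p M P c (⊥ ⊔ Subgroup.zpowers u) ∧
        kk p M P c ⊥ = kk p M P c (⊥ ⊔ Subgroup.zpowers u)) :
    Cfsg.blockRank p B = Cfsg.blockRank p f ∧ Nat.card B = Nat.card f := by
  classical
  haveI : Fintype G := Fintype.ofFinite G
  haveI hMp := isPModular_isPrime hM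
  have hPp : IsPGroup p P := isPGroup_of_isDefectGroup hPD
  have hpair : IsBrauerPairOf p M B P c := isBrauerPairOf_of_isInducedBlock hM hPp hc
  have hmax : IsMaximalBrauerPair p M B P c := isMaximalBrauerPair_of_isDefectGroup hM hpair hPD
  have hTin : IsInertial T P c := by
    intro t
    rw [hT t, conjPair_eq_self_iff]
  obtain ⟨h1, h2⟩ := hIND hmax hTin
  -- `Q = ⊥`
  have hbot : Subgroup.centralizer (((⊥ : Subgroup G) : Subgroup G) : Set G) = ⊤ := by
    ext x
    simp [Subgroup.mem_centralizer_iff]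
  have hin0 := isInducedBlockIn_subFQ hM hmax hPab (Q := ⊥) bot_le
  have heq0 : subFQ p M P c ⊥ = pullBlock (topEquivOf hbot) B :=
    isInducedBlockIn_unique hin0 (isInducedBlockIn_of_eq_top hbot hc)
  have hr0 : rk p M P c ⊥ = blockRank p B := by
    unfold rk
    rw [heq0, blockRank_pullBlock]
  have hk0 : kk p M P c ⊥ = Nat.card B := by
    unfold kk
    rw [heq0, card_pullBlock]
  -- `Q = ⟨u⟩`
  have hsup : Subgroup.centralizer (((⊥ ⊔ Subgroup.zpowers u : Subgroup G) : Subgroup G) : Set G)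
      = H := by
    rw [hH, bot_sup_eq]
    ext x
    rw [Subgroup.mem_centralizer_iff, Subgroup.mem_centralizer_iff]
    constructor
    · intro hx y hy
      rw [Set.mem_singleton_iff] at hy
      rw [hy]
      exact hx u (Subgroup.mem_zpowers u)
    · intro hx y hy
      obtain ⟨k, rfl⟩ := Subgroup.mem_zpowers_iff.mp hy
      have hcomm : Commute u x := hx u (Set.mem_singleton u)
      exact (hcomm.zpow_left k)
  have hQP : (⊥ ⊔ Subgroup.zpowers u : Subgroup G) ≤ P := by
    rw [bot_sup_eq, Subgroup.zpowers_le]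
    exact hu
  have hin1 := isInducedBlockIn_subFQ hM hmax hPab hQP
  obtain ⟨hr1, hk1⟩ := blockRank_card_eq_of_isInducedBlockIn p hsup hin1 hf
  refine ⟨?_, ?_⟩
  · rw [← hr0, h1]
    exact hr1
  · rw [← hk0, h2]
    exact hk1

end Cfsg.Agent.Lib.Helper16.WAT
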