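import Mathlib
import Cfsg.Agent.Lib.Helper77.WAT.Defs
import Cfsg.Agent.Lib.Helper16.WatOrtho
import Cfsg.Agent.Lib.Helper16.MaxPair
import Cfsg.Agent.Lib.Helper16.InducedPair
import Cfsg.Agent.S4437
import Cfsg.Agent.S0917
import Cfsg.Agent.Lib.Helper77.CyclicAutomizer
import Cfsg.Agent.Lib.Helper77.BrauerStab
import Cfsg.Agent.Lib.Helper77.NrmAct

/-!
# Project WAT (helper77): WAT-[INERT] (hedge by helper16)

The inertial index `|T : C_G(P)|` of a maximal Brauer pair `(P, e)` with `P` abelian is prime to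
`p` (S4437, as in S4633).
-/

set_option autoImplicit false
set_option linter.style.haveILetI false

namespace Cfsg.Agent.Lib.Helper16.WAT

open Cfsg Cfsg.Agent.Lib Cfsg.Agent.Lib.Helper16 Cfsg.Agent.Lib.Helper16.BP
  Cfsg.Agent.Lib.Helper77 Cfsg.Agent.Lib.Helper78 Cfsg.Agent.Lib.Helper77.WAT

attribute [local instance] Cfsg.Agent.Lib.Helper77.nrmMulAction

universe u

variable {G : Type u} [Group G] [Fintype G] {M : Ideal AlgInt} {p : ℕ} [Fact p.Prime]
  {B : Set (IrrCharacter G)} {P : Subgroup G}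
  {e : Set (IrrCharacter (Subgroup.centralizer (P : Set G)))}

/-- WAT-[INERT] : the inertial index is prime to `p` (S4437) -/
theorem not_dvd_relIndex_inertial (hM : IsPModular p M) (hmax : IsMaximalBrauerPair p M B P e)
    (hPab : ∀ x ∈ P, ∀ y ∈ P, x * y = y * x) {T : Subgroup G} (hT : IsInertial T P e) :
    T ≤ Subgroup.normalizer (P : Set G) ∧ Subgroup.centralizer (P : Set G) ≤ T ∧
      ¬ p ∣ (Subgroup.centralizer (P : Set G)).relIndex T := by
  classical
  haveI : Fintype ↥(Subgroup.centralizer (P : Set G)) := Fintype.ofFinite _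
  haveI hMp := isPModular_isPrime hM
  have hpp : p.Prime := Fact.out
  have hPD : IsDefectGroup p M B P := isDefectGroup_of_isMaximalBrauerPair hM B P e hmax
  have hB : IsPBlock M B := hmax.1.2.1
  have hPp : IsPGroup p P := IsPGroup.of_card (card_defectGroup hM hB hPD)
  have hPC : P ≤ Subgroup.centralizer (P : Set G) := by
    intro a ha b hb
    exact hPab b hb a ha
  have hc : IsInducedBlock M (Subgroup.centralizer (P : Set G)) e B :=
    isInducedBlock_of_isBrauerPairOf hM hPC hmax.1
  have hT0 : ∀ g : G, g ∈ T ↔ (g ∈ Subgroup.normalizer (P : Set G) ∧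
      Cfsg.StabilizesBlock (Subgroup.centralizer (P : Set G)) e g) := by
    intro g
    rw [hT g, conjPair_eq_self_iff]
  have hH : Subgroup.centralizer (P : Set G) = P ⊔ Subgroup.centralizer (P : Set G) :=
    (sup_eq_right.mpr hPC).symm
  haveI hPn : (P.subgroupOf (Subgroup.centralizer (P : Set G))).Normal := by
    constructor
    intro n hn g
    rw [Subgroup.mem_subgroupOf] at hn ⊢
    have hg := g.2 (n : G) hn
    show (g : G) * (n : G) * (g : G)⁻¹ ∈ P
    rw [← hg, mul_inv_cancel_right]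
    exact hn
  have hbP : IsDefectGroup p M e (P.subgroupOf (Subgroup.centralizer (P : Set G))) := by
    obtain ⟨Db, hDb⟩ := exists_isDefectGroup p hc.1
    have h1 : P.subgroupOf (Subgroup.centralizer (P : Set G)) ≤ Db :=
      normal_pGroup_le_defectGroup hM (P.subgroupOf (Subgroup.centralizer (P : Set G)))
        hPp.comap_subtype hc.1 hDb
    obtain ⟨E, hE, hle⟩ := Cfsg.Agent.S0917.result p M hM _ e hc.1 B hB hc Db hDb
    have h2 : Nat.card E = Nat.card P := by
      rw [card_defectGroup hM hB hE, card_defectGroup hM hB hPD]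
    have h3 : Nat.card Db ≤ Nat.card E := by
      rw [← Subgroup.card_subtype (Subgroup.centralizer (P : Set G)) Db]
      exact Nat.le_of_dvd Nat.card_pos (Subgroup.card_dvd_of_le hle)
    have h4 : Nat.card (P.subgroupOf (Subgroup.centralizer (P : Set G))) = Nat.card P :=
      Nat.card_congr (Subgroup.subgroupOfEquivOfLe hPC).toEquiv
    have hEQ : P.subgroupOf (Subgroup.centralizer (P : Set G)) = Db :=
      Subgroup.eq_of_le_of_card_ge h1 (by rw [h4, ← h2]; exact h3)
    rw [hEQ]
    exact hDb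
  have hT' : ∀ g : G, g ∈ T ↔ (g ∈ Subgroup.normalizer (P : Set G) ∧ ∀ θ ∈ e,
      ∀ θ' : IrrCharacter (Subgroup.centralizer (P : Set G)),
      (∀ h h' : Subgroup.centralizer (P : Set G), (h' : G) = g * h * g⁻¹ →
        (θ' : _ → ℂ) h' = (θ : _ → ℂ) h) → θ' ∈ e) := by
    intro g
    rw [hT0]
    apply and_congr_right
    intro hg
    have hu := normalizer_le_normalizer_centralizer' P hg
    rw [stabilizesBlock_iff (Subgroup.centralizer (P : Set G)) ⟨g, hu⟩ e]
    constructor
    · intro h θ hθ θ' hθ'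
      have := eq_smul_of_isConjCharOf (Subgroup.centralizer (P : Set G)) ⟨g, hu⟩ θ θ' hθ'
      rw [this, ← h]
      exact Set.smul_mem_smul_set hθ
    · intro h
      rw [← stabilizesBlock_iff]
      refine ⟨hu, fun χ hχ => ⟨(⟨g, hu⟩ : Subgroup.normalizer
        ((Subgroup.centralizer (P : Set G) : Subgroup G) : Set G)) • χ, ?_, ?_⟩⟩
      · exact h χ hχ _ (isConjCharOf_smul (Subgroup.centralizer (P : Set G)) ⟨g, hu⟩ χ)
      · exact isConjCharOf_smul (Subgroup.centralizer (P : Set G)) ⟨g, hu⟩ χ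
  have hidx : ¬ p ∣ (Subgroup.centralizer (P : Set G)).relIndex T :=
    (Cfsg.Agent.S4437.result p M hM P hPp (Subgroup.centralizer (P : Set G)) hH e hc.1 hbP B hc
      T hT').mp hPD
  have hTN : T ≤ Subgroup.normalizer (P : Set G) := fun g hg => ((hT0 g).mp hg).1
  refine ⟨hTN, ?_, hidx⟩
  -- `C_G(P) ≤ T`
  intro g hg
  rw [hT' g]
  have hgN : g ∈ Subgroup.normalizer (P : Set G) := by
    rw [Subgroup.mem_normalizer_iff]
    intro x
    constructor
    · intro hx
      have := hg x hx
      rw [← this, mul_inv_cancel_right]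
      exact hx
    · intro hx
      have h1 : g⁻¹ * (g * x * g⁻¹) * g = x := by group
      have h2 := hg (g * x * g⁻¹) hx
      -- g * x * g⁻¹ commutes with g
      have h3 : g * x * g⁻¹ = x := by
        have : g * (g * x * g⁻¹) = g * x := by
          rw [← h2]; group
        exact mul_left_cancel this
      rw [← h3]; exact hx
  refine ⟨hgN, ?_⟩
  intro θ hθ θ' hθ'
  -- conjugation by `g ∈ C_G(P)` is inner in `C_G(P)`: `θ' = θ`
  have : θ' = θ := by
    apply Subtype.ext
    funext h'
    have hcl : IsClassFunction (Subgroup.centralizer (P : Set G)) (θ : _ → ℂ) :=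
      isClassFunction_irr θ
    have hmem : g⁻¹ * (h' : G) * g ∈ Subgroup.centralizer (P : Set G) :=
      Subgroup.mul_mem _ (Subgroup.mul_mem _ (Subgroup.inv_mem _ hg) h'.2) hg
    have h1 := hθ' ⟨g⁻¹ * (h' : G) * g, hmem⟩ h' (by simp [mul_assoc])
    rw [h1]
    have h2 : (⟨g⁻¹ * (h' : G) * g, hmem⟩ : Subgroup.centralizer (P : Set G)) =
        (⟨g, hg⟩ : Subgroup.centralizer (P : Set G))⁻¹ * h' * ⟨g, hg⟩ := by
      apply Subtype.ext; simp
    rw [h2]
    have := hcl h' (⟨g, hg⟩ : Subgroup.centralizer (P : Set G))⁻¹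
    simpa using this
  rw [this]; exact hθ

end Cfsg.Agent.Lib.Helper16.WAT
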