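import Mathlib
import Cfsg.Agent.Lib.Helper77.WAT.Defs
import Cfsg.Agent.Lib.Helper16.PairRestrict

/-!
# PROJECT WAT (S4644), module [INERTQ] (helper16, hedge): the inertial group of the restricted pair
-/

set_option autoImplicit false
set_option linter.unusedSectionVars false

namespace Cfsg.Agent.Lib.Helper16.WAT

open Cfsg Cfsg.Agent.Lib.Helper16 Cfsg.Agent.Lib.Helper77.WAT

universe u

variable {G : Type u} [Group G] {P : Subgroup G}
  {e : Set (IrrCharacter (Subgroup.centralizer (P : Set G)))}

theorem restrictPair_congr {L : Subgroup G} {a b : BrauerPairIdx G} (h : a = b) (ha : a.1 ≤ L)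
    (hCa : Subgroup.centralizer (a.1 : Set G) ≤ L) (hb : b.1 ≤ L)
    (hCb : Subgroup.centralizer (b.1 : Set G) ≤ L) :
    restrictPair L a ha hCa = restrictPair L b hb hCb := by
  subst h
  rfl

/-- WAT-[INERTQ] : the inertial group of the restricted pair is `T ∩ C_G(Q)` -/
theorem isInertial_restrict {T : Subgroup G} (hT : IsInertial T P e) {Q : Subgroup G}
    (hPL : P ≤ Subgroup.centralizer (Q : Set G))
    (hCP : Subgroup.centralizer (P : Set G) ≤ Subgroup.centralizer (Q : Set G)) :
    IsInertial (T.subgroupOf (Subgroup.centralizer (Q : Set G)))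
      (P.subgroupOf (Subgroup.centralizer (Q : Set G)))
      (pullBlock (centEquivIn (Subgroup.centralizer (Q : Set G)) P hPL hCP) e) := by
  intro t
  rw [Subgroup.mem_subgroupOf, hT (t : G)]
  have ha' : P.map (MulAut.conj (t : G)).toMonoidHom ≤ Subgroup.centralizer (Q : Set G) :=
    map_conj_le_of_mem hPL t.2
  have hC' : Subgroup.centralizer ((P.map (MulAut.conj (t : G)).toMonoidHom : Subgroup G) :
      Set G) ≤ Subgroup.centralizer (Q : Set G) := centralizer_map_conj_le hCP t.2
  have hkey := restrictPair_conjPair (Subgroup.centralizer (Q : Set G)) P e hPL hCP t ha' hC'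
  have hdef : (⟨P.subgroupOf (Subgroup.centralizer (Q : Set G)),
      pullBlock (centEquivIn (Subgroup.centralizer (Q : Set G)) P hPL hCP) e⟩ :
      BrauerPairIdx ↥(Subgroup.centralizer (Q : Set G))) =
      restrictPair (Subgroup.centralizer (Q : Set G)) ⟨P, e⟩ hPL hCP := rfl
  rw [hdef, ← hkey]
  constructor
  · intro h
    exact restrictPair_congr (a := conjPair (t : G) ⟨P, e⟩) (b := ⟨P, e⟩) h ha' hC' hPL hCP
  · intro h
    exact restrictPair_injective (a := conjPair (t : G) ⟨P, e⟩) (b := ⟨P, e⟩) ha' hC' hPL hCP h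

end Cfsg.Agent.Lib.Helper16.WAT
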