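import Mathlib
import Cfsg.Agent.Lib.Helper77.WAT.Defs
import Cfsg.Agent.Lib.Helper16.PairEqCent
import Cfsg.Agent.Lib.Helper16.PairRestrict
import Cfsg.Agent.Lib.Helper16.BPNorm

/-!
# PROJECT WAT (S4644), module [LOC] (helper16): the local block at `v` of `f_Q`, computed in the
type `↥C_G(Q)`, has the rank of `f_{Q⟨v⟩}`
-/

set_option autoImplicit false
set_option linter.unusedSectionVars false
set_option linter.style.haveILetI false

namespace Cfsg.Agent.Lib.Helper16.WAT

open Cfsg Cfsg.Agent.Lib.Helper16 Cfsg.Agent.Lib.Helper16.BP Cfsg.Agent.Lib.Helper78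
  Cfsg.Agent.Lib.Helper77.WAT Cfsg.Agent.Lib.Helper82

universe u

variable {G : Type u} [Group G] [Fintype G] {M : Ideal AlgInt} {p : ℕ} [Fact p.Prime]
  {B : Set (IrrCharacter G)} {P : Subgroup G}
  {e : Set (IrrCharacter (Subgroup.centralizer (P : Set G)))}

theorem subFQ_spec (hM : IsPModular p M) (hPe : IsBrauerPair p M P e) {R : Subgroup G}
    (hR : R ≤ P) : IsPBlock M (subFQ p M P e R) ∧ SubpairLE p M R (subFQ p M P e R) P e := by
  have hex : ∃ f : Set (IrrCharacter (Subgroup.centralizer (R : Set G))),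
      IsPBlock M f ∧ SubpairLE p M R f P e :=
    (Cfsg.Agent.S4655.result p M hM P R e hPe hR).exists
  unfold subFQ
  rw [dif_pos hex]
  exact hex.choose_spec

theorem eq_subFQ (hM : IsPModular p M) (hPe : IsBrauerPair p M P e) {R : Subgroup G}
    (hR : R ≤ P) {f : Set (IrrCharacter (Subgroup.centralizer (R : Set G)))}
    (hf : SubpairLE p M R f P e) : f = subFQ p M P e R := by
  have hblock : IsPBlock M f := (Cfsg.Agent.S4655.le_pair_left hf hPe).2
  exact (Cfsg.Agent.S4655.result p M hM P R e hPe hR).unique ⟨hblock, hf⟩ (subFQ_spec hM hPe hR)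

/-- WAT-[LOC], general form: `R` any subgroup with `⟨v⟩ ≤ R ≤ P`, `R ≤ L`, `C_G(R) ≤ L`, and
`C_L(v) = C_L(R ∩ L)`. -/
theorem blockRank_subF_restrict_gen (hM : IsPModular p M) (hPe : IsBrauerPair p M P e)
    {L : Subgroup G} [Fintype ↥L] (hPL : P ≤ L)
    (hCP : Subgroup.centralizer (P : Set G) ≤ L) {R : Subgroup G} (hRP : R ≤ P)
    (hCR : Subgroup.centralizer (R : Set G) ≤ L) {v : G} (hvR : v ∈ R) (hvL : v ∈ L)
    (hcent : Subgroup.centralizer ((R.subgroupOf L : Subgroup ↥L) : Set ↥L) =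
      Subgroup.centralizer ((Subgroup.zpowers (⟨v, hvL⟩ : ↥L) : Subgroup ↥L) : Set ↥L)) :
    blockRank p (subF p M (P.subgroupOf L) (pullBlock (centEquivIn L P hPL hCP) e)
        (⟨v, hvL⟩ : ↥L)) = blockRank p (subFQ p M P e R) := by
  haveI hMp := isPModular_isPrime hM
  -- the restricted pair is a Brauer pair of `L`
  have hPeL : IsBrauerPair p M (P.subgroupOf L) (pullBlock (centEquivIn L P hPL hCP) e) := by
    refine ⟨?_, isPBlock_pullBlock _ hPe.2⟩
    exact hPe.1.comap_of_injective L.subtype L.subtype_injective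
  obtain ⟨hgb, hgle⟩ := subFQ_spec hM hPe hRP
  have hRL : R ≤ L := hRP.trans hPL
  -- restriction of the chain
  have hleL : Relation.ReflTransGen (NormalSubpairRel p M)
      (restrictPair L ⟨R, subFQ p M P e R⟩ hRL hCR) (restrictPair L ⟨P, e⟩ hPL hCP) :=
    restrictPair_subpairLE (M := M) (L := L) (a := ⟨R, subFQ p M P e R⟩) hCR hgle hPL
  have hRpair : IsBrauerPair p M (restrictPair L ⟨R, subFQ p M P e R⟩ hRL hCR).1
      (restrictPair L ⟨R, subFQ p M P e R⟩ hRL hCR).2 :=
    Cfsg.Agent.S4655.le_pair_left hleL hPeL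
  -- the block of `C_L(v)` below the restricted `(R, g)`
  have hvRL : Subgroup.zpowers (⟨v, hvL⟩ : ↥L) ≤
      (restrictPair L ⟨R, subFQ p M P e R⟩ hRL hCR).1 := by
    rw [Subgroup.zpowers_le]
    show (⟨v, hvL⟩ : ↥L) ∈ R.subgroupOf L
    rw [Subgroup.mem_subgroupOf]
    exact hvR
  obtain ⟨f', ⟨hf'b, hf'le⟩, -⟩ := Cfsg.Agent.S4655.result p M hM
    (restrictPair L ⟨R, subFQ p M P e R⟩ hRL hCR).1 (Subgroup.zpowers (⟨v, hvL⟩ : ↥L))
    (restrictPair L ⟨R, subFQ p M P e R⟩ hRL hCR).2 hRpair hvRL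
  have hf'P : SubpairLE p M (Subgroup.zpowers (⟨v, hvL⟩ : ↥L)) f' (P.subgroupOf L)
      (pullBlock (centEquivIn L P hPL hCP) e) := Relation.ReflTransGen.trans hf'le hleL
  have hvPL : (⟨v, hvL⟩ : ↥L) ∈ P.subgroupOf L := by
    rw [Subgroup.mem_subgroupOf]
    exact hRP hvR
  have hf'eq : f' = subF p M (P.subgroupOf L) (pullBlock (centEquivIn L P hPL hCP) e)
      (⟨v, hvL⟩ : ↥L) := eq_subF hM hPeL hvPL hf'P
  -- equal centralizers
  have hEQ := subpairLE_eq_of_centralizer_eq hM hf'le hcent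
  have h4 : blockRank p (pullBlock (centEquivIn L R hRL hCR) (subFQ p M P e R)) =
      blockRank p f' := by
    have h5 : pullBlock (centEquivIn L R hRL hCR) (subFQ p M P e R) =
        pullBlock (MulEquiv.subgroupCongr hcent) f' := hEQ
    rw [h5, blockRank_pullBlock]
  rw [← hf'eq, ← h4, blockRank_pullBlock]

/-- WAT-[LOC] : the local block at `v` of the block `f_Q` of `L = C_G(Q)`, computed inside the type
`↥L` with the restricted pair, has the same rank as `f_{Q⟨v⟩}` computed in `G` -/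
theorem blockRank_subF_restrict (hM : IsPModular p M) (hmax : IsMaximalBrauerPair p M B P e)
    (hPab : ∀ x ∈ P, ∀ y ∈ P, x * y = y * x) {Q : Subgroup G} (hQP : Q ≤ P)
    (hPL : P ≤ Subgroup.centralizer (Q : Set G))
    (hCP : Subgroup.centralizer (P : Set G) ≤ Subgroup.centralizer (Q : Set G))
    [Fintype ↥(Subgroup.centralizer (Q : Set G))] {v : G} (hv : v ∈ P)
    (hvL : v ∈ Subgroup.centralizer (Q : Set G)) :
    blockRank p (subF p M (P.subgroupOf (Subgroup.centralizer (Q : Set G)))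
        (pullBlock (centEquivIn (Subgroup.centralizer (Q : Set G)) P hPL hCP) e)
        (⟨v, hvL⟩ : ↥(Subgroup.centralizer (Q : Set G)))) =
      rk p M P e (Q ⊔ Subgroup.zpowers v) := by
  have hPe : IsBrauerPair p M P e := hmax.1.1
  have hRP : Q ⊔ Subgroup.zpowers v ≤ P := sup_le hQP ((Subgroup.zpowers_le).mpr hv)
  have hCR : Subgroup.centralizer ((Q ⊔ Subgroup.zpowers v : Subgroup G) : Set G) ≤
      Subgroup.centralizer (Q : Set G) :=
    Subgroup.centralizer_le (le_sup_left : Q ≤ Q ⊔ Subgroup.zpowers v)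
  have hvR : v ∈ Q ⊔ Subgroup.zpowers v := (le_sup_right : Subgroup.zpowers v ≤ _)
    (Subgroup.mem_zpowers v)
  unfold rk
  apply blockRank_subF_restrict_gen hM hPe hPL hCP hRP hCR hvR hvL
  -- the two centralizers inside `L` coincide
  ext x
  rw [Subgroup.mem_centralizer_iff, Subgroup.mem_centralizer_iff]
  constructor
  · intro h y hy
    apply h y
    have h1 : ((Subgroup.zpowers (⟨v, hvL⟩ : ↥(Subgroup.centralizer (Q : Set G))) :
        Subgroup ↥(Subgroup.centralizer (Q : Set G)))) ≤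
        (Q ⊔ Subgroup.zpowers v).subgroupOf (Subgroup.centralizer (Q : Set G)) := by
      rw [Subgroup.zpowers_le, Subgroup.mem_subgroupOf]
      exact hvR
    exact h1 hy
  · intro h y hy
    replace hy : (y : G) ∈ Q ⊔ Subgroup.zpowers v := Subgroup.mem_subgroupOf.mp hy
    -- `x` commutes with `v` and centralizes `Q`
    have hxv : (⟨v, hvL⟩ : ↥(Subgroup.centralizer (Q : Set G))) * x =
        x * ⟨v, hvL⟩ := h _ (Subgroup.mem_zpowers _)
    have hxv' : v * (x : G) = (x : G) * v := congrArg Subtype.val hxv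
    have hxQ : ∀ q ∈ Q, q * (x : G) = (x : G) * q := by
      have := x.2
      rw [Subgroup.mem_centralizer_iff] at this
      exact this
    have hle : Q ⊔ Subgroup.zpowers v ≤ Subgroup.centralizer ({(x : G)} : Set G) := by
      apply sup_le
      · intro q hq
        rw [Subgroup.mem_centralizer_iff]
        intro z hz
        rw [Set.mem_singleton_iff] at hz
        subst hz
        exact (hxQ q hq).symm
      · rw [Subgroup.zpowers_le, Subgroup.mem_centralizer_iff]
        intro z hz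
        rw [Set.mem_singleton_iff] at hz
        subst hz
        exact hxv'.symm
    have h3 := hle hy
    rw [Subgroup.mem_centralizer_iff] at h3
    apply Subtype.ext
    exact (h3 (x : G) (Set.mem_singleton _)).symm

end Cfsg.Agent.Lib.Helper16.WAT
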